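import Cfsg.Agent.Lib.U6Three.Coord
import Cfsg.Agent.Lib.Components
import Cfsg.Prelude.Def_Transfer
import Mathlib.GroupTheory.Sylow

/-!
The data before coordinates from a centraliser of an element of order three with an extraspecial generalised
Fitting subgroup of order 243 and a normal product of two quaternion groups on top.
-/

set_option autoImplicit false
set_option linter.style.haveILetI false
set_option synthInstance.maxSize 1024

namespace CfsgLib.U6Three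

universe u

theorem card_qq : Nat.card QQ = 64 := by rw [Nat.card_eq_fintype_card]; rfl

theorem pre_of_hyp {G : Type u} [Group G] [Finite G] (Z : Subgroup G) (hZ3 : Nat.card ↥Z = 3) (H : Subgroup G)
    (hH : H = Subgroup.centralizer (Z : Set G))
    (hQ : Cfsg.IsExtraspecial 3 ↥(Cfsg.generalizedFittingSubgroup ↥H))
    (hQord : Nat.card ↥(Cfsg.generalizedFittingSubgroup ↥H) = 3 ^ 5)
    (hN : ∃ _ : (Cfsg.generalizedFittingSubgroup ↥H).Normal,
      ∃ N : Subgroup (↥H ⧸ Cfsg.generalizedFittingSubgroup ↥H), N.Normal ∧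
        Nonempty (↥N ≃* QuaternionGroup 2 × QuaternionGroup 2))
    (hwc : Cfsg.IsWeaklyClosed Z ((Cfsg.generalizedFittingSubgroup ↥H).map H.subtype))
    (hnwc : ¬ Cfsg.IsWeaklyClosed Z H) : Nonempty (Pre G) := by
  classical
  haveI : Fact (Nat.Prime 3) := ⟨Nat.prime_three⟩
  haveI : Fact (Nat.Prime 2) := ⟨Nat.prime_two⟩
  obtain ⟨hFn, N, hNn, ⟨eI⟩⟩ := hN
  set F0 := Cfsg.generalizedFittingSubgroup ↥H with hF0
  -- a generator
  have hne : Z ≠ ⊥ := fun h => by rw [h, Subgroup.card_bot] at hZ3; norm_num at hZ3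
  obtain ⟨⟨z, hzZ⟩, hz1⟩ : ∃ x : Z, x ≠ 1 := by
    haveI := (Subgroup.nontrivial_iff_ne_bot Z).mpr hne
    exact exists_ne 1
  have hzne : z ≠ 1 := fun h => hz1 (Subtype.ext h)
  have hz3 : z ^ 3 = 1 := by
    have : (⟨z, hzZ⟩ : Z) ^ Nat.card Z = 1 := pow_card_eq_one'
    rw [hZ3] at this
    exact congrArg Subtype.val this
  have hgen : Subgroup.zpowers z = Z :=
    Subgroup.eq_of_le_of_card_ge (Subgroup.zpowers_le.mpr hzZ)
      (by rw [hZ3, Nat.card_zpowers, orderOf_eq_prime hz3 hzne])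
  set Q := F0.map H.subtype with hQdef
  have hzQ : z ∈ Q := hwc.1 hzZ
  have hzH : z ∈ H := by obtain ⟨a, -, e⟩ := hzQ; exact e ▸ a.2
  have hHz : ∀ {g : G}, g ∈ H ↔ Commute g z := fun {g} => by
    rw [hH, ← hgen]
    refine ⟨fun h => (Subgroup.mem_centralizer_iff.mp h z (Subgroup.mem_zpowers z)).symm, fun h => ?_⟩
    refine Subgroup.mem_centralizer_iff.mpr fun x hx => ?_
    obtain ⟨n, rfl⟩ := Subgroup.mem_zpowers_iff.mp hx
    exact (h.zpow_right n).eq.symm
  have hQz : ∀ x ∈ Q, Commute x z := fun x hx => by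
    obtain ⟨a, -, rfl⟩ := hx
    exact hHz.mp a.2
  have hQmem : ∀ {x : H}, (x : G) ∈ Q → x ∈ F0 := fun {x} hx => by
    obtain ⟨a, ha, e⟩ := hx
    rwa [Subtype.ext e] at ha
  -- the centre of the core
  set z0 : F0 := ⟨⟨z, hzH⟩, hQmem hzQ⟩ with hz0
  have hz0c : z0 ∈ Subgroup.center F0 := Subgroup.mem_center_iff.mpr fun a =>
    Subtype.ext (Subtype.ext (hHz.mp (a : H).2).eq)
  have hcen : ∀ {a : F0}, a ∈ Subgroup.center F0 → ((a : H) : G) ∈ Subgroup.zpowers z := fun {a} ha => by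
    have h : Subgroup.zpowers z0 = Subgroup.center F0 :=
      Subgroup.eq_of_le_of_card_ge (Subgroup.zpowers_le.mpr hz0c) (by
        rw [hQ.2, Nat.card_zpowers, orderOf_eq_prime (Subtype.ext (Subtype.ext hz3))
          (fun h => hzne (congrArg (fun t : F0 => ((t : H) : G)) h))])
    rw [← h] at ha
    obtain ⟨n, rfl⟩ := Subgroup.mem_zpowers_iff.mp ha
    exact ⟨n, by simp [hz0]⟩
  -- the quaternion groups
  let π : H →* H ⧸ F0 := QuotientGroup.mk' F0
  let P := N.comap π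
  have hπP : ∀ x : P, π (x : H) ∈ N := fun x => x.2
  let g : P →* N := MonoidHom.mk' (fun x => ⟨π (x : H), hπP x⟩) fun a b => Subtype.ext (map_mul π _ _)
  have hgs : Function.Surjective g := fun n => by
    obtain ⟨x, hx⟩ := QuotientGroup.mk'_surjective F0 (n : H ⧸ F0)
    exact ⟨⟨x, show π x ∈ N from hx ▸ n.2⟩, Subtype.ext hx⟩
  have hNcard : Nat.card N = 64 := by rw [Nat.card_congr eI.toEquiv, card_qq]
  have hker : Nat.card g.ker = 243 := by
    rw [← show Nat.card F0 = 243 from hQord]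
    exact Nat.card_congr
      { toFun := fun k => ⟨(k : P), (QuotientGroup.eq_one_iff _).mp
          (congrArg Subtype.val (MonoidHom.mem_ker.mp k.2))⟩
        invFun := fun a => ⟨⟨a, show π (a : H) ∈ N by
            rw [show π (a : H) = 1 from (QuotientGroup.eq_one_iff _).mpr a.2]; exact one_mem _⟩,
          MonoidHom.mem_ker.mpr (Subtype.ext ((QuotientGroup.eq_one_iff _).mpr a.2))⟩
        left_inv := fun k => rfl
        right_inv := fun a => rfl }
  have hPcard : Nat.card P = 243 * 64 := by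
    rw [Subgroup.card_eq_card_quotient_mul_card_subgroup g.ker, hker,
      Nat.card_congr (QuotientGroup.quotientKerEquivOfSurjective g hgs).toEquiv, hNcard]
  obtain ⟨T, hT⟩ := Sylow.exists_subgroup_card_pow_prime (G := P) 2 (n := 6) (by rw [hPcard]; norm_num)
  have hTinj : Function.Injective (g.comp T.subtype) := by
    rw [injective_iff_map_eq_one]
    intro x hx
    refine Subtype.ext (orderOf_eq_one_iff.mp (Nat.eq_one_of_dvd_coprimes (by norm_num : Nat.Coprime (2 ^ 6) 243) ?_ ?_))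
    · rw [← hT]; exact Subgroup.orderOf_dvd_natCard _ x.2
    · rw [← hker]; exact Subgroup.orderOf_dvd_natCard _ (MonoidHom.mem_ker.mpr hx)
  have hTbij : Function.Bijective (g.comp T.subtype) :=
    (Nat.bijective_iff_injective_and_card _).mpr ⟨hTinj, by rw [hT, hNcard]; norm_num⟩
  let ψ : QuaternionGroup 2 × QuaternionGroup 2 →* H :=
    (P.subtype.comp T.subtype).comp ((MulEquiv.ofBijective _ hTbij).symm.toMonoidHom.comp eI.symm.toMonoidHom)
  have hψ : ∀ y, π (ψ y) = (eI.symm y : H ⧸ F0) := fun y =>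
    congrArg Subtype.val ((MulEquiv.ofBijective _ hTbij).apply_symm_apply (eI.symm y))
  obtain ⟨gw, hgw⟩ : ∃ g, Z.map (MulAut.conj g).toMonoidHom ≤ H ∧ Z.map (MulAut.conj g).toMonoidHom ≠ Z := by
    by_contra h
    push Not at h
    exact hnwc ⟨by rw [← hgen]; exact Subgroup.zpowers_le.mpr hzH, h⟩
  have hmap : ∀ {g : G} {K : Subgroup G}, g * z * g⁻¹ ∈ K → Z.map (MulAut.conj g).toMonoidHom ≤ K := fun {g K} h => by
    rw [← hgen, MonoidHom.map_zpowers]
    exact Subgroup.zpowers_le.mpr h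
  refine ⟨{
    z := z
    Q := Q
    φ := H.subtype.comp ψ
    z_cube := hz3
    z_ne := hzne
    card_Q := by rw [hQdef, Subgroup.card_map_of_injective H.subtype_injective, hQord]; norm_num
    z_Q := hzQ
    Q_z := hQz
    comm := ?_
    self := ?_
    conj_Q := ?_
    φ_z := fun y => hHz.mp (ψ y).2
    φ_Q := ?_
    aut := ?_
    wc := ?_
    nwc := ?_ }⟩
  · rintro _ ⟨a, ha, rfl⟩ _ ⟨b, hb, rfl⟩
    have hc : (⟨a, ha⟩ : F0) * ⟨b, hb⟩ * (⟨a, ha⟩ : F0)⁻¹ * (⟨b, hb⟩ : F0)⁻¹ ∈ Subgroup.center F0 := by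
      rw [← hQ.1.2.2, _root_.commutator_def]
      exact Subgroup.commutator_mem_commutator (Subgroup.mem_top (⟨a, ha⟩ : F0)) (Subgroup.mem_top (⟨b, hb⟩ : F0))
    simpa using hcen hc
  · intro x hx
    have hxH : x ∈ H := hHz.mpr (hx z hzQ)
    have hxF : (⟨x, hxH⟩ : H) ∈ F0 := CfsgLib.centralizer_generalizedFitting_le
      (Subgroup.mem_centralizer_iff.mpr fun a ha => Subtype.ext (hx _ ⟨a, ha, rfl⟩).eq.symm)
    exact hcen (a := ⟨⟨x, hxH⟩, hxF⟩) (Subgroup.mem_center_iff.mpr fun a =>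
      Subtype.ext (Subtype.ext (hx _ ⟨a, a.2, rfl⟩).eq.symm))
  · rintro h hh _ ⟨a, ha, rfl⟩
    exact ⟨⟨h, hHz.mpr hh⟩ * a * ⟨h, hHz.mpr hh⟩⁻¹, hFn.conj_mem _ ha _, rfl⟩
  · intro y hy
    have h1 : π (ψ y) = 1 := (QuotientGroup.eq_one_iff _).mpr (hQmem hy)
    rw [hψ, OneMemClass.coe_eq_one] at h1
    exact (MulEquiv.map_eq_one_iff _).mp h1
  · intro h hh
    haveI := hNn
    refine ⟨(eI.symm.trans (MulAut.conjNormal (π ⟨h, hHz.mpr hh⟩))).trans eI, fun y => ?_⟩
    refine ⟨⟨h, hHz.mpr hh⟩ * ψ y * ⟨h, hHz.mpr hh⟩⁻¹ *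
      (ψ ((eI.symm.trans (MulAut.conjNormal (π ⟨h, hHz.mpr hh⟩))).trans eI y))⁻¹, ?_, rfl⟩
    refine (QuotientGroup.eq_one_iff _).mp ?_
    show π _ = 1
    rw [map_mul, map_mul, map_mul, map_inv, map_inv, hψ, hψ, MulEquiv.trans_apply, MulEquiv.trans_apply,
      MulEquiv.symm_apply_apply, MulAut.conjNormal_apply, mul_inv_cancel]
  · intro g hg
    rw [hgen, ← hwc.2 g (hmap hg)]
    exact ⟨z, hzZ, rfl⟩
  · refine ⟨gw, hHz.mp (hgw.1 ⟨z, hzZ, rfl⟩), fun hg => hgw.2 (hwc.2 gw (hmap hg))⟩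

end CfsgLib.U6Three
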