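import Cfsg.Agent.Lib.U6Three.NormU
import Cfsg.Agent.Lib.TransferOrbit
import Cfsg.Agent.S4215

/-!
In the large case without an inverting element the pure element lies outside the subgroup generated by the elements
of order prime to three.
-/

set_option autoImplicit false
set_option linter.style.haveILetI false
set_option synthInstance.maxSize 1024

namespace CfsgLib.U6Three

universe u

theorem card_sing : Nat.card {v : V4 // qJ v = 0 ∧ v ≠ 0} = 20 := by
  rw [Nat.card_eq_fintype_card]; decide +kernel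

theorem chi_shift : ∀ j : ZMod 3, chiPr (((mU, mU) : Pr) ^ j.val * (mU, 1)) = 1 := by decide +kernel

theorem twenty_ne : (Multiplicative.ofAdd (1 : ZMod 3)) ^ 20 ≠ 1 := by decide +kernel

theorem sl_three_order {A : SL23} {k : ℕ} (h : A ^ (3 ^ k) = 1) : A ^ 3 = 1 := by
  refine orderOf_dvd_iff_pow_eq_one.mp ?_
  have h1 := orderOf_dvd_of_pow_eq_one h
  have h2 := orderOf_dvd_of_pow_eq_one (sl_twenty_four A)
  have h3 : (orderOf A).Coprime 8 := (Nat.Coprime.pow_left k (by norm_num : Nat.Coprime 3 8)).coprime_dvd_left h1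
  exact h3.dvd_of_dvd_mul_left (show orderOf A ∣ 8 * 3 from h2)

theorem card_nine : Nat.card {p : Pr // Nine p} ≤ 9 := by
  classical
  refine le_of_le_of_eq (Nat.card_le_card_of_surjective
    (fun ab : ZMod 3 × ZMod 3 => (⟨(mU ^ ab.1.val, mU ^ ab.2.val), by
      exact ⟨(by decide +kernel : ∀ a : ZMod 3, mU ^ a.val = 1 ∨ mU ^ a.val = mU ∨ mU ^ a.val = mU * mU) ab.1,
        (by decide +kernel : ∀ a : ZMod 3, mU ^ a.val = 1 ∨ mU ^ a.val = mU ∨ mU ^ a.val = mU * mU) ab.2⟩⟩ :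
      {p : Pr // Nine p})) ?_) (by rw [Nat.card_prod, Nat.card_zmod])
  rintro ⟨p, hp⟩
  obtain ⟨a, ha⟩ := nine_pow _ hp.1
  obtain ⟨b, hb⟩ := nine_pow _ hp.2
  exact ⟨(a, b), Subtype.ext (Prod.ext ha.symm hb.symm)⟩

/-- Totally isotropic sets have at most nine elements. -/
theorem isotropic_bound (V : AddSubgroup W4) (h : ∀ v ∈ V, ∀ w ∈ V, om v w = 0) : Nat.card V ≤ 9 := by
  classical
  have h9 : Nat.card V2 = 9 := by rw [Nat.card_prod, Nat.card_zmod]
  by_cases hA : ∃ a : V2, a ≠ 0 ∧ ((0 : V2), a) ∈ V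
  swap
  · refine le_of_le_of_eq (Nat.card_le_card_of_injective (fun v : V => (v : W4).1) ?_) h9
    intro v w e
    simp only at e
    by_contra hne
    refine hA ⟨(v : W4).2 - (w : W4).2, fun h => hne (Subtype.ext (Prod.ext e (sub_eq_zero.mp h))), ?_⟩
    have := V.sub_mem v.2 w.2
    rwa [show (v : W4) - (w : W4) = ((0 : V2), (v : W4).2 - (w : W4).2) from Prod.ext (sub_eq_zero.mpr e) rfl] at this
  obtain ⟨a, ha, haV⟩ := hA
  have key : ∀ v ∈ V, ∃ c : ZMod 3, v.2 = c • a := fun v hv => by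
    have := h _ haV v hv
    simp only [om, show det2 (0 : V2) v.1 = 0 by simp [det2], zero_add] at this
    exact (by decide +kernel : ∀ a : V2, a ≠ 0 → ∀ w : V2, det2 a w = 0 → ∃ c : ZMod 3, w = c • a) a ha v.2 this
  by_contra hlt
  -- every vector of the first plane appears up to the second component
  have hinj : Function.Injective (fun v : V => ((v : W4).1, (key v v.2).choose)) := fun v w e => by
    have e1 := congrArg Prod.fst e
    have e2 := congrArg Prod.snd e
    simp only at e1 e2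
    exact Subtype.ext (Prod.ext e1 (by rw [(key v v.2).choose_spec, (key w w.2).choose_spec, e2]))
  have hc : Nat.card V ≤ 27 := le_of_le_of_eq (Nat.card_le_card_of_injective _ hinj)
    (by rw [Nat.card_prod, h9, Nat.card_zmod])
  have hd := (AddSubgroup.card_addSubgroup_dvd_card V)
  rw [Nat.card_prod, h9] at hd
  have h27 : Nat.card V = 27 := by
    obtain ⟨i, hi, e⟩ := (Nat.dvd_prime_pow Nat.prime_three (m := 4)).mp hd
    interval_cases i <;> omega
  have hb : Function.Bijective (fun v : V => ((v : W4).1, (key v v.2).choose)) :=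
    (Nat.bijective_iff_injective_and_card _).mpr ⟨hinj, by rw [h27, Nat.card_prod, h9, Nat.card_zmod]⟩
  obtain ⟨v, hv⟩ := hb.2 ((1, 0), 0)
  obtain ⟨w, hw⟩ := hb.2 ((0, 1), 0)
  have v1 := congrArg Prod.fst hv
  have v2 := congrArg Prod.snd hv
  have w1 := congrArg Prod.fst hw
  have w2 := congrArg Prod.snd hw
  simp only at v1 v2 w1 w2
  have := h _ v.2 _ w.2
  rw [show (v : W4) = ((1, 0), (0 : V2)) from Prod.ext v1 (by rw [(key v v.2).choose_spec, v2, zero_smul]),
    show (w : W4) = ((0, 1), (0 : V2)) from Prod.ext w1 (by rw [(key w w.2).choose_spec, w2, zero_smul])] at this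
  exact absurd this (by decide)

namespace Setting.Base

variable {G : Type u} [Group G] {D : Setting G} (F : D.Base) [Finite G]

/-- The centraliser of the central element inside the normaliser. -/
noncomputable def WZ : Subgroup F.W := (Subgroup.centralizer {D.z}).subgroupOf F.W

theorem mem_WZ {x : F.W} : x ∈ F.WZ ↔ Commute (x : G) D.z := by
  simp [WZ, Subgroup.mem_subgroupOf, Subgroup.mem_centralizer_singleton_iff, Commute, SemiconjBy]

theorem U_le_W : F.U ≤ F.W := Subgroup.le_normalizer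

/-- Twenty cosets. -/
theorem index_WZ : F.WZ.index = 20 := by
  classical
  have hpt : ∀ x : F.W, ∃ v, (qJ v = 0 ∧ v ≠ 0) ∧ (x : G) * D.z * (x : G)⁻¹ = F.jel v := fun x => by
    obtain ⟨v, hq, hne, e⟩ := (F.pt_iff ((x.2 _).mp F.z_mem_U)).mp ⟨x, Or.inl rfl⟩
    exact ⟨v, ⟨hq, hne⟩, e⟩
  choose f hf hfe using hpt
  have hwd : ∀ x x' : F.W, (x : F.W ⧸ F.WZ) = x' ↔ f x = f x' := fun x x' => by
    rw [QuotientGroup.eq, F.mem_WZ]
    refine ⟨fun h => F.jel_inj ?_, fun h => ?_⟩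
    · rw [← hfe, ← hfe]
      calc (x : G) * D.z * (x : G)⁻¹
          = (x : G) * (((x⁻¹ * x' : F.W) : G) * D.z * ((x⁻¹ * x' : F.W) : G)⁻¹) * (x : G)⁻¹ := by
            rw [h.eq, mul_inv_cancel_right]
        _ = _ := by simp only [Subgroup.coe_mul, InvMemClass.coe_inv]; group
    · refine mul_inv_eq_iff_eq_mul.mp ?_
      have e : (x : G) * D.z * (x : G)⁻¹ = (x' : G) * D.z * (x' : G)⁻¹ := by rw [hfe, hfe, h]
      calc ((x⁻¹ * x' : F.W) : G) * D.z * ((x⁻¹ * x' : F.W) : G)⁻¹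
          = (x : G)⁻¹ * ((x' : G) * D.z * (x' : G)⁻¹) * x := by simp only [Subgroup.coe_mul, InvMemClass.coe_inv]; group
        _ = D.z := by rw [← e]; group
  let g : F.W ⧸ F.WZ → {v : V4 // qJ v = 0 ∧ v ≠ 0} := fun q => ⟨f q.out, hf _⟩
  rw [← card_sing]
  show Nat.card (F.W ⧸ F.WZ) = _
  refine Nat.card_eq_of_bijective g ⟨fun q q' e => ?_, fun ⟨v, hq, hne⟩ => ?_⟩
  · rw [← q.out_eq, ← q'.out_eq]
    exact (hwd _ _).mpr (congrArg Subtype.val e)
  · obtain ⟨a, b, c, d, e⟩ := reach_pt v hq hne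
    let w : F.W := ⟨(F.word a b c d)⁻¹, inv_mem (F.word_mem_W a b c d)⟩
    refine ⟨(w : F.W ⧸ F.WZ), Subtype.ext ?_⟩
    show f (Quotient.out (w : F.W ⧸ F.WZ)) = v
    rw [(hwd _ w).mp (QuotientGroup.out_eq' _)]
    refine F.jel_inj ?_
    rw [← hfe, ← F.jel_z, ← e, ← F.word_act]
    show (F.word a b c d)⁻¹ * _ * (F.word a b c d)⁻¹⁻¹ = _
    group

theorem U_ge (hB : D.caseB) : 243 ≤ Nat.card F.U := (F.card_U_eq hB).ge

/-- Elementary abelian conjugates of order 243 in the centraliser generating a three-group with the group. -/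
theorem into_U (hB : D.caseB) (E : Subgroup G) (hE : 243 ≤ Nat.card E) (hab : ∀ a ∈ E, ∀ b ∈ E, Commute a b)
    (h3 : ∀ a ∈ E, a ^ 3 = 1) (hp : IsPGroup 3 (E ⊔ F.U : Subgroup G)) (hz : ∀ a ∈ E, Commute a D.z) : E ≤ F.U := by
  classical
  have hcomm : ∀ {x w : G} {p q : Pr}, x ∈ E ⊔ F.U → w ∈ E ⊔ F.U → D.MA x p → D.MA w q →
      (p * q * p⁻¹ * q⁻¹) ^ 3 = 1 := by
    intro x w p q hx hw hm hn
    obtain ⟨k, hk⟩ := hp ⟨x * w * x⁻¹ * w⁻¹, mul_mem (mul_mem (mul_mem hx hw) (inv_mem hx)) (inv_mem hw)⟩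
    have h1 : x * w * x⁻¹ * w⁻¹ = _ := rfl
    have hm2 := (((hm.mul hn).mul hm.inv).mul hn.inv).pow (3 ^ k)
    rw [show (x * w * x⁻¹ * w⁻¹) ^ 3 ^ k = 1 from congrArg Subtype.val hk] at hm2
    have h2 := hm2.unique ma_one
    exact Prod.ext (sl_three_order (k := k) (by rw [← Prod.pow_fst, h2]; rfl))
      (sl_three_order (k := k) (by rw [← Prod.pow_snd, h2]; rfl))
  have hform : ∀ x : E, ∃ p, D.MA (x : G) p ∧ Nine p := fun x => by
    obtain ⟨p, hm, hp3⟩ := D.ma_three (hz _ x.2) (h3 _ x.2)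
    have hxR : (x : G) ∈ E ⊔ F.U := Subgroup.mem_sup_left x.2
    have e1 := congrArg Prod.fst (hcomm hxR (Subgroup.mem_sup_right (F.mem_P.mp F.s0_mem_P).1) hm (F.s0_acts hB).ma)
    have e2 := congrArg Prod.snd (hcomm hxR (Subgroup.mem_sup_right (F.jel_y ▸ F.jel_mem_U _ : F.y ∈ F.U)) hm F.acts.ma)
    simp only [Prod.pow_fst, Prod.pow_snd, Prod.fst_mul, Prod.snd_mul, Prod.fst_inv, Prod.snd_inv, Prod.fst_one,
      Prod.snd_one, pow_three'] at e1 e2
    have hU : mU * mU * mU = 1 := by rw [mul_assoc]; exact mU_cube.1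
    have q1 := congrArg Prod.fst hp3
    have q2 := congrArg Prod.snd hp3
    exact ⟨p, hm, sl_cent_three _ (sl_comm_three _ _ q1 hU e1) q1, sl_cent_three _ (sl_comm_three _ _ q2 hU e2) q2⟩
  choose π hπ hπn using hform
  let φ : E →* Pr := MonoidHom.mk' π fun a b => (hπ (a * b)).unique ((hπ a).mul (hπ b))
  have hrange : Nat.card φ.range ≤ 9 := by
    refine le_trans (Nat.card_le_card_of_injective (fun r : φ.range => (⟨r, by
      obtain ⟨x, hx⟩ := r.2; exact hx ▸ hπn x⟩ : {p : Pr // Nine p})) ?_) card_nine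
    exact fun r r' e => Subtype.ext (congrArg (fun t : {p : Pr // Nine p} => t.1) e)
  have hker : ∀ x : φ.ker, ∃ kv : ZMod 3 × W4, ((x : E) : G) = D.zz kv.1 * D.q kv.2 := fun x => by
    obtain ⟨k, v, e⟩ := D.mem_Q.mp (MA.mem_Q (D := D) ((MonoidHom.mem_ker.mp x.2) ▸ hπ x : D.MA ((x : E) : G) 1))
    exact ⟨(k, v), e⟩
  choose kv hkv using hker
  let ψ : Additive φ.ker →+ W4 := AddMonoidHom.mk' (fun x => (kv (Additive.toMul x)).2) fun a b => by
    have h1 := hkv (Additive.toMul (a + b))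
    have h2 : ((Additive.toMul a * Additive.toMul b : φ.ker) : E).1 = _ :=
      congrArg₂ (· * ·) (hkv (Additive.toMul a)) (hkv (Additive.toMul b))
    rw [show Additive.toMul (a + b) = Additive.toMul a * Additive.toMul b from rfl] at h1
    simp only [Subgroup.coe_mul] at h1 h2
    rw [h2, mul_assoc, ← mul_assoc (D.q _), ← (D.zz_q _ _).eq, mul_assoc, ← mul_assoc, ← D.zz_add, D.q_mul',
      ← mul_assoc, ← D.zz_add] at h1
    exact (D.el_inj h1).2.symm
  have horth : ∀ v ∈ ψ.range, ∀ w ∈ ψ.range, om v w = 0 := by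
    rintro _ ⟨a, rfl⟩ _ ⟨b, rfl⟩
    refine D.q_comm.mp ?_
    have hc := hab _ (Additive.toMul a : φ.ker).1.2 _ (Additive.toMul b : φ.ker).1.2
    rw [hkv, hkv] at hc
    have hz' : ∀ k : ZMod 3, ∀ v, Commute (D.q v) (D.zz k) := fun k v => (D.zz_q k v).symm
    have h1 : Commute ((D.zz (kv (Additive.toMul a)).1)⁻¹ * (D.zz (kv (Additive.toMul a)).1 * D.q (ψ a)))
        ((D.zz (kv (Additive.toMul b)).1)⁻¹ * (D.zz (kv (Additive.toMul b)).1 * D.q (ψ b))) := by
      refine Commute.mul_left (Commute.mul_right ?_ ?_) (Commute.mul_right ?_ hc)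
      · exact (((Commute.refl D.z).pow_pow _ _).inv_inv)
      · exact ((((Commute.refl D.z).pow_pow _ _)).mul_right (hz' _ _).symm).inv_left
      · exact ((((Commute.refl D.z).pow_pow _ _)).mul_left (hz' _ _)).inv_right
    simpa using h1
  have hle : Nat.card φ.ker ≤ 3 * Nat.card ψ.range := by
    have := Nat.card_le_card_of_injective (fun x : φ.ker => ((kv x).1, (⟨(kv x).2, ⟨Additive.ofMul x, rfl⟩⟩ : ψ.range)))
      (fun x x' e => by
        have e1 := congrArg Prod.fst e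
        have e2 := congrArg (fun t => (t.2 : W4)) e
        simp only at e1 e2
        exact Subtype.ext (Subtype.ext (by rw [hkv, hkv, e1, e2])))
    rwa [Nat.card_prod, Nat.card_zmod] at this
  have hV := isotropic_bound _ horth
  have hprod := φ.ker.card_mul_index
  rw [Subgroup.index_ker] at hprod
  have hk27 : Nat.card φ.ker = 27 ∧ Nat.card φ.range = 9 := by
    have h1 := Nat.mul_le_mul_left (Nat.card φ.ker) hrange
    have h2 := Nat.mul_le_mul_right (Nat.card φ.range) (hle.trans (Nat.mul_le_mul_left 3 hV))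
    rw [hprod] at h1 h2
    constructor <;> omega
  -- the whole of the diagonal group appears
  have hall : ∀ p, Nine p → ∃ x : E, π x = p := by
    have hb := (Nat.bijective_iff_injective_and_card (fun r : φ.range => (⟨r, by
      obtain ⟨x, hx⟩ := r.2; exact hx ▸ hπn x⟩ : {p : Pr // Nine p}))).mpr
      ⟨fun r r' e => Subtype.ext (congrArg (fun t : {p : Pr // Nine p} => t.1) e),
        le_antisymm (Nat.card_le_card_of_injective (fun r : φ.range => (⟨r, by
          obtain ⟨x, hx⟩ := r.2; exact hx ▸ hπn x⟩ : {p : Pr // Nine p}))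
          fun r r' e => Subtype.ext (congrArg (fun t : {p : Pr // Nine p} => t.1) e))
          (card_nine.trans hk27.2.ge)⟩
    intro p hp'
    obtain ⟨⟨_, x, rfl⟩, hr⟩ := hb.2 ⟨p, hp'⟩
    exact ⟨x, congrArg Subtype.val hr⟩
  have hfix : ∀ x : φ.ker, InA (kv x).2 := by
    intro x
    have key : ∀ p, Nine p → appP p (kv x).2 = (kv x).2 := fun p hp' => by
      obtain ⟨a, ha⟩ := hall p hp'
      obtain ⟨u, s, e, hs⟩ := hπ a
      have hc : Commute ((x : E) : G) (a : G) := hab _ x.1.2 _ a.2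
      rw [hkv] at hc
      have hc' : Commute (a : G) (D.q (kv x).2) := by
        have h1 := (((hz _ a.2).pow_right (kv x).1.val).inv_right).mul_right hc.symm
        rwa [show (D.z ^ (kv x).1.val)⁻¹ * (D.zz (kv x).1 * D.q (kv x).2) = D.q (kv x).2 by rw [zz, inv_mul_cancel_left]] at h1
      have := ((D.comm_q_iff (k := 0) (u := u) hs (kv x).2).mp (by rw [D.zz_zero, one_mul, ← e]; exact hc')).1
      rwa [ha] at this
    have k1 := key (mU, 1) ⟨Or.inr (Or.inl rfl), Or.inl rfl⟩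
    have k2 := key (1, mU) ⟨Or.inl rfl, Or.inr (Or.inl rfl)⟩
    exact (by decide +kernel : ∀ v : W4, appP ((mU, 1) : Pr) v = v → appP ((1, mU) : Pr) v = v → InA v) _ k1 k2
  have hsurj : ∀ k i l, ∃ x : φ.ker, ((x : E) : G) = D.zz k * D.q (av i l) := by
    have hA : ∀ x : φ.ker, ∃ kil : ZMod 3 × ZMod 3 × ZMod 3,
        ((x : E) : G) = D.zz kil.1 * D.q (av kil.2.1 kil.2.2) := fun x => by
      obtain ⟨i, l, e⟩ := inA_av _ (hfix x)
      exact ⟨((kv x).1, i, l), by rw [hkv, e]⟩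
    choose f hf using hA
    have hb := (Nat.bijective_iff_injective_and_card f).mpr ⟨fun x x' e => Subtype.ext (Subtype.ext (by rw [hf, hf, e])),
      by rw [hk27.1, Nat.card_prod, Nat.card_prod, Nat.card_zmod]⟩
    intro k i l
    obtain ⟨x, hx⟩ := hb.2 (k, i, l)
    exact ⟨x, by rw [hf, hx]⟩
  intro x hx
  refine F.cent_ZA (hz x hx) fun a ha => ?_
  obtain ⟨i, l, rfl⟩ := inA_av a ha
  obtain ⟨e, he⟩ := hsurj 0 i l
  rw [D.zz_zero, one_mul] at he
  exact he ▸ hab _ hx _ e.1.2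

/-- The abelian group is weakly closed. -/
theorem weakly_closed (hB : D.caseB) (P : Sylow 3 G) (hUP : F.U ≤ (P : Subgroup G)) :
    Cfsg.IsWeaklyClosed F.U (P : Subgroup G) := by
  classical
  haveI : Fact (Nat.Prime 3) := ⟨Nat.prime_three⟩
  set S : Subgroup G := (P : Subgroup G) with hS
  have core : ∀ g : G, F.U.map (MulAut.conj g).toMonoidHom ≤ S → F.U.map (MulAut.conj g).toMonoidHom ≤ F.W →
      F.U.map (MulAut.conj g).toMonoidHom = F.U := by
    intro g hgP hgW
    set E := F.U.map (MulAut.conj g).toMonoidHom with hE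
    have hR : IsPGroup 3 (E ⊔ F.U : Subgroup G) := P.2.to_le (sup_le hgP hUP)
    have hRW : E ⊔ F.U ≤ F.W := sup_le hgW F.U_le_W
    let R : Subgroup F.W := (E ⊔ F.U).subgroupOf F.W
    have hRp : IsPGroup 3 R := hR.of_equiv (Subgroup.subgroupOfEquivOfLe hRW).symm
    have hmod := hRp.card_modEq_card_fixedPoints (F.W ⧸ F.WZ)
    obtain ⟨q, hq⟩ : (MulAction.fixedPoints R (F.W ⧸ F.WZ)).Nonempty := by
      rw [Set.nonempty_iff_ne_empty]
      intro h
      rw [show Nat.card (F.W ⧸ F.WZ) = 20 from F.index_WZ, h] at hmod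
      simp [Nat.ModEq] at hmod
    obtain ⟨w, rfl⟩ := QuotientGroup.mk_surjective q
    have hcz : ∀ r ∈ E ⊔ F.U, Commute ((w : G)⁻¹ * r * w) D.z := by
      intro r hr
      have h1 : ((⟨r, hRW hr⟩ * w : F.W) : F.W ⧸ F.WZ) = w := hq ⟨⟨r, hRW hr⟩, hr⟩
      have h2 := F.mem_WZ.mp (QuotientGroup.eq.mp h1.symm)
      simpa [mul_assoc] using h2
    have hUw : F.U.map (MulAut.conj (w : G)⁻¹).toMonoidHom = F.U := by
      refine le_antisymm ?_ fun x hx => ⟨(w : G) * x * (w : G)⁻¹, (w.2 x).mp hx, by simp [mul_assoc]⟩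
      rintro _ ⟨x, hx, rfl⟩
      have := ((inv_mem w.2 : (w : G)⁻¹ ∈ F.W) x).mp hx
      simpa using this
    set E' := E.map (MulAut.conj (w : G)⁻¹).toMonoidHom with hE'
    have hcard : Nat.card E' = Nat.card F.U := by
      rw [hE', hE, Subgroup.card_map_of_injective (MulEquiv.injective _),
        Subgroup.card_map_of_injective (MulEquiv.injective _)]
    have hEU : E' ≤ F.U := by
      refine F.into_U hB E' (hcard ▸ F.U_ge hB) ?_ ?_ ?_ ?_
      · rintro _ ⟨_, ⟨a, ha, rfl⟩, rfl⟩ _ ⟨_, ⟨b, hb, rfl⟩, rfl⟩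
        exact ((F.U_comm ha hb).map _).map _
      · rintro _ ⟨_, ⟨a, ha, rfl⟩, rfl⟩
        rw [← map_pow, ← map_pow, F.U_cube ha, map_one, map_one]
      · rw [show E' ⊔ F.U = (E ⊔ F.U).map (MulAut.conj (w : G)⁻¹).toMonoidHom by rw [Subgroup.map_sup, hUw, hE']]
        exact hR.map _
      · rintro _ ⟨a, ha, rfl⟩
        simpa using hcz a (Subgroup.mem_sup_left ha)
    have hEU' : E ≤ F.U := fun x hx => by
      have h1 := (w.2 _).mp (hEU ⟨x, hx, rfl⟩)
      simpa [mul_assoc] using h1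
    exact Subgroup.eq_of_le_of_card_ge hEU' (by rw [hE, Subgroup.card_map_of_injective (MulEquiv.injective _)])
  set T := S ⊓ F.W with hT
  have hTS : T = S := by
    by_contra hne
    have hlt : T.subgroupOf S < ⊤ :=
      lt_of_le_of_ne le_top fun h => hne (le_antisymm inf_le_left (Subgroup.subgroupOf_eq_top.mp h))
    haveI : Group.IsNilpotent S := P.2.isNilpotent
    obtain ⟨⟨h, hhS⟩, hhN, hhT⟩ := SetLike.exists_of_lt (Group.normalizerCondition_of_isNilpotent _ hlt)
    have hle : F.U.map (MulAut.conj h).toMonoidHom ≤ T := by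
      rintro _ ⟨x, hx, rfl⟩
      exact ((hhN ⟨x, hUP hx⟩).mp (show x ∈ T from ⟨hUP hx, F.U_le_W hx⟩))
    have heq := core h (hle.trans inf_le_left) (hle.trans inf_le_right)
    refine hhT (show h ∈ T from ⟨hhS, fun x => ⟨fun hx => heq ▸ ⟨x, hx, rfl⟩, fun hx => ?_⟩⟩)
    obtain ⟨u, hu, e⟩ := (heq.symm ▸ hx : h * x * h⁻¹ ∈ F.U.map (MulAut.conj h).toMonoidHom)
    obtain rfl : u = x := by simpa using e
    exact hu
  exact ⟨hUP, fun g hg => core g hg (hg.trans (hTS.ge.trans inf_le_right))⟩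

/-- The pure element lies outside the subgroup generated by the elements of order prime to three. -/
theorem s0_not_residual (hB : D.caseB) (hI : ¬ D.Inv) : F.s0 ∉ Cfsg.pResidual 3 G := by
  classical
  haveI : Fact (Nat.Prime 3) := ⟨Nat.prime_three⟩
  have hsU : F.s0 ∈ F.U := (F.mem_P.mp F.s0_mem_P).1
  have hU3 : IsPGroup 3 F.U := fun x => ⟨1, Subtype.ext (by simpa using F.U_cube x.2)⟩
  obtain ⟨P, hUP⟩ := hU3.exists_le_sylow
  have hwc := F.weakly_closed hB P hUP
  have hPW : (P : Subgroup G) ≤ F.W := fun u hu => by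
    have he := hwc.2 u (by
      rintro _ ⟨x, hx, rfl⟩
      exact mul_mem (mul_mem hu (hUP hx)) (inv_mem hu))
    refine fun x => ⟨fun hx => he ▸ ⟨x, hx, rfl⟩, fun hx => ?_⟩
    obtain ⟨w, hw, e⟩ := (he.symm ▸ hx : u * x * u⁻¹ ∈ F.U.map (MulAut.conj u).toMonoidHom)
    obtain rfl : w = x := by simpa using e
    exact hw
  have hres := Cfsg.Agent.S4215.result P F.U hwc fun u hu z hz => by
    show (fun y : G => y⁻¹ * z⁻¹ * y * z)^[2] u = 1
    rw [Function.iterate_succ_apply', Function.iterate_one]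
    have hc : u⁻¹ * z⁻¹ * u * z ∈ F.U := by
      refine mul_mem ?_ hz
      have := ((inv_mem (hPW hu) : u⁻¹ ∈ F.W) z⁻¹).mp (inv_mem hz)
      simpa using this
    rw [mul_assoc _ (u⁻¹ * z⁻¹ * u * z) z, (F.U_comm hc hz).eq]; group
  have hma : ∀ h : F.WZ, ∃ p, D.MA ((h : F.W) : G) p := fun h => F.W_cent_ma hB hI h.1.2 (F.mem_WZ.mp h.2)
  choose π hπ using hma
  let χ : F.WZ →* Multiplicative (ZMod 3) := MonoidHom.mk' (fun h => Multiplicative.ofAdd (chiPr (π h))) fun a b => by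
    rw [(hπ (a * b)).unique ((hπ a).mul (hπ b)), chiPr_mul, ofAdd_add]
  let sW : F.W := ⟨F.s0, F.U_le_W hsU⟩
  haveI : Fintype (F.W ⧸ F.WZ) := Fintype.ofFinite _
  have hval : ∀ q, CfsgLib.TransferOrbit.cval χ sW q = Multiplicative.ofAdd 1 := by
    intro q
    obtain ⟨x, rfl⟩ := QuotientGroup.mk_surjective q
    have hx' : (x : G)⁻¹ * F.s0 * x ∈ F.U := by
      have := ((inv_mem x.2 : (x : G)⁻¹ ∈ F.W) F.s0).mp hsU
      simpa using this
    have hm : x⁻¹ * sW * x ∈ F.WZ := F.mem_WZ.mpr (F.U_z hx')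
    have hfix : sW • (x : F.W ⧸ F.WZ) = x := (QuotientGroup.eq.mpr (by simp only [smul_eq_mul]; rw [← mul_assoc]; exact hm)).symm
    rw [CfsgLib.TransferOrbit.cval_eq χ (g := sW) (x := x) hfix hm]
    show Multiplicative.ofAdd (chiPr (π _)) = _
    obtain ⟨⟨k, i, l, j⟩, hv⟩ := F.all_triv hI (inv_mem x.2) _ hsU
    rw [inv_inv] at hv
    have h3 : D.MA (F.jel (k, i, l, j)) (((mU, mU) : Pr) ^ j.val) := by
      have := (ma_of_Q (D := D) (mul_mem (D.zz_mem k) (D.q_mem (av i l)))).mul (F.y_ma j)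
      rwa [one_mul] at this
    have h4 := h3.mul (F.s0_acts hB).ma
    rw [← hv, inv_mul_cancel_right] at h4
    rw [(hπ ⟨_, hm⟩).unique h4]
    exact congrArg _ (chi_shift j)
  have hT : MonoidHom.transfer χ sW ≠ 1 := by
    rw [CfsgLib.TransferOrbit.transfer_eq_prod, Finset.prod_congr rfl fun q _ => hval q, Finset.prod_const,
      Finset.card_univ, ← Nat.card_eq_fintype_card, show Nat.card (F.W ⧸ F.WZ) = 20 from F.index_WZ]
    exact twenty_ne
  intro hs
  have hmem : F.s0 ∈ Cfsg.pResidualOf 3 (Subgroup.normalizer (F.U : Set G)) := by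
    rw [hres]; exact ⟨hs, F.U_le_W hsU⟩
  obtain ⟨s, hs', e⟩ := hmem
  obtain rfl : s = sW := Subtype.ext e
  have hker : Cfsg.pResidual 3 F.W ≤ (MonoidHom.transfer χ).ker := by
    rw [Cfsg.pResidual, Subgroup.closure_le]
    intro g hg
    refine MonoidHom.mem_ker.mpr (orderOf_eq_one_iff.mp (Nat.eq_one_of_dvd_coprimes hg (orderOf_map_dvd _ g) ?_))
    have := orderOf_dvd_natCard (MonoidHom.transfer χ g)
    simpa using this
  exact hT (hker hs')

end Setting.Base

end CfsgLib.U6Three
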