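import Cfsg.Agent.Lib.U6Three.Sub
import Cfsg.Agent.Lib.U6Three.ResThree
import Cfsg.Agent.S3230
import Cfsg.Agent.S3231
import Cfsg.Agent.S0283
import Cfsg.Agent.Lib.PResidual
import Mathlib.FieldTheory.Finite.GaloisField

/-!
A normal subgroup isomorphic to the unitary group with trivial centraliser.
-/

set_option autoImplicit false
set_option linter.style.haveILetI false
set_option synthInstance.maxSize 1024

namespace CfsgLib.U6Three

universe u

/-- The field with four elements. -/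
abbrev F4 : Type := GaloisField 2 2

theorem anti_fix_zero : ∀ w : Vec, zA w = sg w → w = 0 := by decide +kernel

/-- The conclusion. -/
def Concl (G : Type u) [Group G] : Prop :=
  ∃ G0 : Subgroup G, G0.Normal ∧ Nonempty (G0 ≃* Cfsg.PSU 6 F4 2) ∧ Subgroup.centralizer (G0 : Set G) = ⊥

theorem psu_simple : IsSimpleGroup (Cfsg.PSU 6 F4 2) := by
  haveI : Fintype F4 := Fintype.ofFinite _
  exact Cfsg.Agent.S0283.result (F := F4) (q := 2)
    (by rw [Fintype.card_eq_nat_card]; exact GaloisField.card 2 2 (by norm_num)) 6 (by norm_num) (by norm_num)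

/-- A normal subgroup inherits the conclusion upwards. -/
theorem concl_up {G : Type u} [Group G] [Finite G] (D : Setting G) (H : Subgroup G) [H.Normal]
    (hq : ∀ v, D.q v ∈ H) (h : Concl H) : Concl G := by
  classical
  obtain ⟨M, hM, ⟨e⟩, hc⟩ := h
  haveI := psu_simple
  haveI : IsSimpleGroup M := simple_of_equiv e
  have hMne : M ≠ ⊥ := fun hb => by
    obtain ⟨a, ha⟩ := exists_ne (1 : M)
    exact ha (Subtype.ext (Subgroup.mem_bot.mp (hb ▸ a.2)))
  have hfix : ∀ g : G, M.map (MulAut.conjNormal g : H ≃* H).toMonoidHom = M := by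
    intro g
    set M' := M.map (MulAut.conjNormal g : H ≃* H).toMonoidHom with hM'
    haveI : M'.Normal := Subgroup.Normal.map hM _ (MulEquiv.surjective _)
    have hcard : Nat.card M' = Nat.card M := Subgroup.card_map_of_injective (MulEquiv.injective _)
    have hnd : ¬ Disjoint M M' := fun hd => by
      have hle : M' ≤ Subgroup.centralizer (M : Set H) := fun y hy => Subgroup.mem_centralizer_iff.mpr fun x hx =>
        Subgroup.commute_of_normal_of_disjoint M M' hM inferInstance hd x y hx hy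
      rw [hc, le_bot_iff] at hle
      rw [hle] at hcard
      exact hMne (Subgroup.eq_bot_of_card_eq M (by rw [← hcard, Subgroup.card_bot]))
    haveI : (M'.subgroupOf M).Normal := Subgroup.normal_subgroupOf
    rcases IsSimpleGroup.eq_bot_or_eq_top_of_normal (M'.subgroupOf M) inferInstance with hb | ht
    · exact absurd (disjoint_comm.mp (Subgroup.subgroupOf_eq_bot.mp hb)) hnd
    · exact (Subgroup.eq_of_le_of_card_ge (Subgroup.subgroupOf_eq_top.mp ht) hcard.le).symm
  have hn : (M.map H.subtype).Normal := ⟨by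
    rintro _ ⟨m, hm, rfl⟩ g
    exact ⟨MulAut.conjNormal g m, (hfix g) ▸ ⟨m, hm, rfl⟩, MulAut.conjNormal_apply g m⟩⟩
  haveI := hn
  refine ⟨M.map H.subtype, hn, ⟨(M.equivMapOfInjective H.subtype H.subtype_injective).symm.trans e⟩, ?_⟩
  set C := Subgroup.centralizer ((M.map H.subtype : Subgroup G) : Set G) with hC
  haveI : C.Normal := hC ▸ inferInstance
  have hmeet : ∀ c ∈ C, c ∈ H → c = 1 := fun c hcc hcH => by
    have h1 : (⟨c, hcH⟩ : H) ∈ Subgroup.centralizer (M : Set H) := Subgroup.mem_centralizer_iff.mpr fun x hx =>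
      Subtype.ext (Subgroup.mem_centralizer_iff.mp hcc _ ⟨x, hx, rfl⟩)
    rw [hc, Subgroup.mem_bot] at h1
    exact congrArg Subtype.val h1
  rw [Subgroup.eq_bot_iff_forall]
  intro c hcC
  refine hmeet c hcC ?_
  obtain ⟨k, rfl⟩ := D.self c fun v => mul_inv_eq_iff_eq_mul.mp (mul_inv_eq_one.mp (hmeet _
    (by
      have h1 : c * (D.q v * c⁻¹ * (D.q v)⁻¹) ∈ C := mul_mem hcC (Subgroup.Normal.conj_mem inferInstance _ (inv_mem hcC) _)
      simpa [mul_assoc] using h1)
    (mul_mem (Subgroup.Normal.conj_mem inferInstance _ (hq v) c) (inv_mem (hq v)))))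
  refine pow_mem ?_ _
  have hh := mul_mem (mul_mem (mul_mem (hq ((1, 0), (0, 0))) (hq ((0, 1), (0, 0))))
    (inv_mem (hq ((1, 0), (0, 0))))) (inv_mem (hq ((0, 1), (0, 0))))
  rw [D.q_conj, mul_inv_cancel_right] at hh
  rcases (by decide : om (((1, 0), (0, 0)) : W4) ((0, 1), (0, 0)) = 1 ∨
      om (((1, 0), (0, 0)) : W4) ((0, 1), (0, 0)) + om (((1, 0), (0, 0)) : W4) ((0, 1), (0, 0)) = 1) with e' | e'
  · rwa [e', D.zz_one] at hh
  · have := mul_mem hh hh
    rwa [← D.zz_add, e', D.zz_one] at this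

namespace Setting

variable {G : Type u} [Group G] [Finite G] (D : Setting G)

/-- The centraliser of the block involution does not cover the group modulo the odd core. -/
theorem not_core_cover (F : D.Base) : Base.Mi (D := D) ⊔ Cfsg.oddCore G ≠ ⊤ := by
  intro h
  set O := Cfsg.oddCore G with hO
  haveI : O.Normal := inferInstanceAs (Cfsg.pPrimeCore 2 G).Normal
  have hbase : ∀ v : W4, v.2 = 0 → D.q v ∈ O := by
    intro v hv
    have hg : D.q v ∈ ((O ⊔ Base.Mi (D := D) : Subgroup G) : Set G) := by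
      rw [sup_comm, h]; trivial
    rw [Subgroup.normal_mul] at hg
    obtain ⟨o, ho, m, hm, e⟩ := hg
    have h1 : D.q v * D.i1 * (D.q v)⁻¹ * D.i1⁻¹ ∈ O := by
      have e1 : D.q v * D.i1 * (D.q v)⁻¹ * D.i1⁻¹ = o * (D.i1 * o⁻¹ * D.i1⁻¹) := by
        rw [← e]
        calc o * m * D.i1 * (o * m)⁻¹ * D.i1⁻¹ = o * (m * D.i1 * m⁻¹) * o⁻¹ * D.i1⁻¹ := by group
          _ = o * D.i1 * o⁻¹ * D.i1⁻¹ := by rw [(Base.mem_Mi.mp hm).eq, mul_inv_cancel_right]
          _ = _ := by group
      rw [e1]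
      exact mul_mem ho (Subgroup.Normal.conj_mem inferInstance _ (inv_mem ho) _)
    rw [mul_assoc (D.q v), mul_assoc (D.q v), D.q_inv, D.i1_block.neg (v := -v) (by rw [Prod.snd_neg, hv, neg_zero]),
      neg_neg, q_mul', om_self, neg_zero, zz_zero, one_mul,
      (by decide +kernel : ∀ w : W4, w + w = -w) v, ← q_inv] at h1
    exact inv_mem_iff.mp h1
  set a : W4 := ((1, 0), (0, 0)) with ha
  set b : W4 := ((0, 1), (0, 0)) with hb
  have hab : D.zz (om a b) ∈ O := by
    have hh := mul_mem (mul_mem (mul_mem (hbase a rfl) (hbase b rfl)) (inv_mem (hbase a rfl))) (inv_mem (hbase b rfl))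
    rwa [D.q_conj, mul_inv_cancel_right] at hh
  have hz : D.z ∈ O := by
    rcases (by rw [ha, hb]; decide : om a b = 1 ∨ om a b + om a b = 1) with e | e
    · rwa [e, zz_one] at hab
    · have := mul_mem hab hab
      rwa [← zz_add, e, zz_one] at this
  have hzN : D.z ∈ F.N := F.cent_z_le_N (Base.mem_Mi.mpr (F.L_i1 F.z_mem_L)) (Commute.refl _)
  have hcop : Nat.Coprime (2 ^ 9) (Nat.card O) :=
    ((CfsgLib.card_pPrimeCore_coprime (G := G) 2).symm).pow_left 9
  have hcomm : ∀ x ∈ F.K, Commute x D.z := fun x hx => by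
    have h1 : D.z * x * D.z⁻¹ * x⁻¹ ∈ O := by
      rw [show D.z * x * D.z⁻¹ * x⁻¹ = D.z * (x * D.z⁻¹ * x⁻¹) by group]
      exact mul_mem hz (Subgroup.Normal.conj_mem inferInstance _ (inv_mem hz) _)
    have h2 : D.z * x * D.z⁻¹ * x⁻¹ ∈ F.K := mul_mem (F.N_conj_K hzN hx) (inv_mem hx)
    have h3 : D.z * x * D.z⁻¹ * x⁻¹ = 1 := orderOf_eq_one_iff.mp (Nat.eq_one_of_dvd_coprimes hcop
      (by rw [show (2 : ℕ) ^ 9 = Nat.card F.K by rw [F.card_K]]; exact Subgroup.orderOf_dvd_natCard _ h2)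
      (Subgroup.orderOf_dvd_natCard _ h1))
    exact (mul_inv_eq_iff_eq_mul.mp (mul_inv_eq_one.mp h3)).symm
  have h4 := F.K_cent_z (F.sec_mem (emb (some 0) (1, 0))) (hcomm _ (F.sec_mem _))
  have h5 := F.R1_emb h4
  rw [F.kap_sec] at h5
  exact (by decide +kernel : ∀ a : K4, emb (some 0) (1, 0) ≠ emb none a) _ h5

/-- The small case. -/
theorem concl_base (hB : ¬ D.caseB) : Concl G := by
  classical
  obtain ⟨F⟩ := D.exists_base
  haveI : Fintype F4 := Fintype.ofFinite _
  have hF4 : Fintype.card F4 = 4 := by rw [Fintype.card_eq_nat_card]; exact GaloisField.card 2 2 (by norm_num)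
  have hMN : Base.Mi (D := D) = F.N := F.Mi_eq_N
  have hXL : F.XL = F.LK := F.XL_eq_LK hB
  haveI := U42Act.psp_simple (F := CfsgLib.Heis43.K3) (ZMod.card 3)
  have hpsp := U42Act.card_psp (F := CfsgLib.Heis43.K3) (ZMod.card 3)
  haveI : Finite (Cfsg.PSp 2 CfsgLib.Heis43.K3) := Nat.finite_of_card_ne_zero (by rw [hpsp]; norm_num)
  set M := Base.Mi (D := D) with hM
  let P : Subgroup M := F.K.subgroupOf M
  haveI hPn : P.Normal := ⟨fun k hk g => F.N_conj_K (hMN ▸ g.2) hk⟩
  let π : M →* M ⧸ P := QuotientGroup.mk' P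
  have hπ : ∀ m : M, π m = 1 ↔ (m : G) ∈ F.K := fun m => (QuotientGroup.eq_one_iff m).trans Iff.rfl
  have hLM : F.L ≤ M := hMN ▸ F.L_le_N
  let f : F.L →* M ⧸ P := π.comp (Subgroup.inclusion hLM)
  have hf : Function.Injective f := (injective_iff_map_eq_one _).mpr fun l hl =>
    Subtype.ext (F.L_inf_K l.2 ((hπ _).mp hl))
  set R := f.range with hR
  obtain ⟨eP⟩ := F.derived_iso
  let eR : R ≃* Cfsg.PSp 2 CfsgLib.Heis43.K3 := ((MonoidHom.ofInjective hf).symm.trans F.LEquiv).trans eP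
  haveI : IsSimpleGroup R := simple_of_equiv eR
  haveI := F.simple_L
  have hmemR : ∀ m : M, π m ∈ R ↔ (m : G) ∈ F.LK := by
    intro m
    constructor
    · rintro ⟨l, e⟩
      have h1 : ((l : G))⁻¹ * m ∈ F.K := (hπ ((Subgroup.inclusion hLM l)⁻¹ * m)).mp (by
        rw [map_mul, map_inv]; exact inv_mul_eq_one.mpr e)
      have := mul_mem (F.L_le_LK l.2) (F.K_le_LK h1)
      rwa [mul_inv_cancel_left] at this
    · intro hm
      obtain ⟨l, hl, k, hk, e⟩ := F.LK_mem hm
      refine ⟨⟨l, hl⟩, inv_mul_eq_one.mp ?_⟩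
      show (π (Subgroup.inclusion hLM ⟨l, hl⟩))⁻¹ * π m = 1
      rw [← map_inv, ← map_mul, hπ]
      show l⁻¹ * (m : G) ∈ F.K
      rwa [← e, inv_mul_cancel_left]
  haveI hRn : R.Normal := ⟨fun r hr q => by
    obtain ⟨m, rfl⟩ := QuotientGroup.mk'_surjective P r
    obtain ⟨g, rfl⟩ := QuotientGroup.mk'_surjective P q
    show π g * π m * (π g)⁻¹ ∈ R
    rw [← map_inv, ← map_mul, ← map_mul, hmemR]
    exact F.LK_conj (hMN ▸ g.2) ((hmemR m).mp hr)⟩
  let Φ : M ⧸ P →* MulAut R := MulAut.conjNormal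
  have hfaith : ∀ q : M ⧸ P, (∀ r ∈ R, Commute q r) → q = 1 := by
    intro q hq
    obtain ⟨m, rfl⟩ := QuotientGroup.mk'_surjective P q
    have hmN : (m : G) ∈ F.N := hMN ▸ m.2
    by_cases hm : (m : G) ∈ F.LK
    · obtain ⟨l, e⟩ := (hmemR m).mpr hm
      have hc : l ∈ Subgroup.center F.L := Subgroup.mem_center_iff.mpr fun x => hf (by
        rw [map_mul, map_mul, e]
        exact (hq _ ⟨x, rfl⟩).symm.eq)
      rcases IsSimpleGroup.eq_bot_or_eq_top_of_normal (Subgroup.center F.L) (inferInstance) with hb | ht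
      · rw [hb, Subgroup.mem_bot] at hc
        rw [show π m = f l from e.symm, hc, map_one]
      · exfalso
        letI : CommGroup F.L := { (inferInstance : Group F.L) with
          mul_comm := fun a b => (Subgroup.mem_center_iff.mp (ht ▸ Subgroup.mem_top b) a) }
        have := IsSimpleGroup.prime_card (α := F.L)
        rw [F.card_L] at this
        norm_num at this
    · exfalso
      have hanti : F.Anti (m : G) := F.anti_of hmN (hXL ▸ hm)
      have hzN : D.z ∈ F.N := hMN ▸ hLM F.z_mem_L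
      have hk : (m : G) * D.z * (m : G)⁻¹ * D.z⁻¹ ∈ F.K := (hπ (m * ⟨D.z, hLM F.z_mem_L⟩ * m⁻¹ * ⟨D.z, hLM F.z_mem_L⟩⁻¹)).mp (by
        rw [map_mul, map_mul, map_mul, map_inv, map_inv]
        rw [(hq (π ⟨D.z, hLM F.z_mem_L⟩) ⟨⟨D.z, F.z_mem_L⟩, rfl⟩).eq, mul_inv_cancel_right, mul_inv_cancel])
      have hzA : ∀ v, F.na (m : G) (zA v) = zA (F.na (m : G) v) := fun v => by
        have e1 : (m : G) * D.z = ((m : G) * D.z * (m : G)⁻¹ * D.z⁻¹) * (D.z * (m : G)) := by group
        rw [← F.na_z, ← F.na_mul hmN hzN, e1, F.na_mul (F.K_le_N hk) (mul_mem hzN hmN), F.na_K hk,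
          F.na_mul hzN hmN, F.na_z]
      set w := emb (some 0) (1, 0) with hw
      have hw1 : zA w = sg (sg w) := by rw [hw]; decide +kernel
      have h2 : zA (F.na (m : G) w) = sg (F.na (m : G) w) := by
        rw [← hzA, hw1, hanti, hanti]
        exact (by decide +kernel : ∀ v : Vec, sg (sg (sg (sg v))) = sg v) _
      have h3 := F.na_inj hmN ((anti_fix_zero _ h2).trans (F.na_zero hmN).symm)
      exact (by decide +kernel : emb (some 0) (1, 0) ≠ (0 : Vec)) (hw ▸ h3)
  have hΦ : Function.Injective Φ := (injective_iff_map_eq_one _).mpr fun q hq => hfaith q fun r hr => by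
    have := congrArg (fun e : MulAut R => ((e ⟨r, hr⟩ : R) : M ⧸ P)) hq
    simp only [Φ, MulAut.conjNormal_apply, MulAut.one_apply] at this
    exact mul_inv_eq_iff_eq_mul.mp this
  have hP2 : IsPGroup 2 P := (IsPGroup.of_card (n := 9) (by rw [F.card_K]) :
    IsPGroup 2 F.K).comap_of_injective M.subtype M.subtype_injective
  have hcore : Cfsg.pCore 2 M = P := by
    haveI : Fact (Nat.Prime 2) := ⟨Nat.prime_two⟩
    refine le_antisymm (fun x hx => ?_) (CfsgLib.le_pCore hP2)
    set X := (Cfsg.pCore 2 M).map π with hX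
    haveI : X.Normal := Subgroup.Normal.map inferInstance π (QuotientGroup.mk'_surjective P)
    have hXp : IsPGroup 2 X := (CfsgLib.isPGroup_pCore 2 : IsPGroup 2 (Cfsg.pCore 2 M)).map π
    haveI : (X.subgroupOf R).Normal := Subgroup.normal_subgroupOf
    have hd : Disjoint X R := by
      rcases IsSimpleGroup.eq_bot_or_eq_top_of_normal (X.subgroupOf R) inferInstance with hb | ht
      · exact Subgroup.subgroupOf_eq_bot.mp hb
      · exfalso
        obtain ⟨n, hn⟩ := IsPGroup.iff_card.mp (hXp.to_le (Subgroup.subgroupOf_eq_top.mp ht))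
        rw [Nat.card_congr eR.toEquiv, hpsp] at hn
        have h5 : 5 ∣ 2 ^ n := ⟨5184, by omega⟩
        have := (Nat.prime_dvd_prime_iff_eq Nat.prime_five Nat.prime_two).mp (Nat.prime_five.dvd_of_dvd_pow h5)
        omega
    exact (hπ x).mp (hfaith _ fun r hr => Subgroup.commute_of_normal_of_disjoint X R inferInstance hRn hd _ r
      ⟨x, hx, rfl⟩ hr)
  have hi2 : orderOf D.i1 = 2 := orderOf_eq_prime (by rw [pow_two, D.i1_block.sq]) (Base.i1_ne (D := D))
  have hJ : Cfsg.IsExtraspecial 2 (Cfsg.pCore 2 M) := by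
    rw [hcore]
    exact Cfsg.Agent.S3231.extraspecial_equiv (Subgroup.subgroupOfEquivOfLe F.K_le_Mi).symm F.extraspecial_K
  have hJc : Nat.card (Cfsg.pCore 2 M) = 2 ^ 9 := by
    rw [hcore, Nat.card_congr (Subgroup.subgroupOfEquivOfLe F.K_le_Mi).toEquiv, F.card_K]
  have hCJ : Subgroup.centralizer ((Cfsg.pCore 2 M) : Set M) ≤ Cfsg.pCore 2 M := by
    rw [hcore]
    exact fun c hc => F.CK_le_K ⟨c.2, Subgroup.mem_centralizer_iff.mpr fun k hk =>
      congrArg Subtype.val (Subgroup.mem_centralizer_iff.mp hc ⟨k, F.K_le_Mi hk⟩ hk)⟩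
  by_cases hI : D.Inv
  · have hinj : Function.Injective Φ := hΦ
    have hcardQ : Nat.card (M ⧸ P) = 2 * 25920 := by
      have h1 := (F.XL.subgroupOf F.N).card_mul_index
      rw [F.XL_index_two hI, Nat.card_congr (Subgroup.subgroupOfEquivOfLe F.XL_le_N).toEquiv, hXL, F.card_LK] at h1
      have h2 := Subgroup.card_eq_card_quotient_mul_card_subgroup P
      rw [Nat.card_congr (Subgroup.subgroupOfEquivOfLe F.K_le_Mi).toEquiv, F.card_K,
        show Nat.card M = Nat.card F.N by rw [hMN], ← h1] at h2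
      omega
    have hAut : Nat.card (MulAut R) = 2 * 25920 := by
      haveI : Fact (Nat.Prime 3) := ⟨Nat.prime_three⟩
      rw [Nat.card_congr (MulAut.congr eR).toEquiv,
        Cfsg.Agent.S0814.result 3 1 le_rfl (ZMod.card 3) 2 le_rfl (fun _ => by norm_num), hpsp]
      norm_num
    haveI : Finite (MulAut R) := Nat.finite_of_card_ne_zero (by rw [hAut]; norm_num)
    have hbij : Function.Bijective Φ :=
      (Nat.bijective_iff_injective_and_card Φ).mpr ⟨hinj, by rw [hcardQ, hAut]⟩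
    haveI : (Cfsg.pCore 2 M).Normal := inferInstance
    rcases Cfsg.Agent.S3231.result D.i1 hi2 (F := CfsgLib.Heis43.K3) (ZMod.card 3) (K := F4) hF4 hJ hJc hCJ
      (((QuotientGroup.quotientMulEquivOfEq hcore).trans (MulEquiv.ofBijective Φ hbij)).trans (MulAut.congr eR))
      with ⟨G0, h1, h2, h3⟩ | h
    · exact ⟨G0, Subgroup.normal_of_index_eq_two h1, h2, h3⟩
    · exact absurd h (D.not_core_cover F)
  · have hN : F.N = F.LK := F.N_eq_LK hB hI
    have htop : R = ⊤ := eq_top_iff.mpr fun q _ => by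
      obtain ⟨m, rfl⟩ := QuotientGroup.mk'_surjective P q
      exact (hmemR m).mpr (hN ▸ hMN ▸ m.2)
    haveI : (Cfsg.pCore 2 M).Normal := inferInstance
    rcases Cfsg.Agent.S3230.result D.i1 hi2 (F := CfsgLib.Heis43.K3) (ZMod.card 3) (K := F4) hF4 hJ hJc hCJ
      (((QuotientGroup.quotientMulEquivOfEq hcore).trans
        (Subgroup.topEquiv.symm.trans (MulEquiv.subgroupCongr htop.symm))).trans eR) with ⟨⟨e⟩⟩ | h
    · refine ⟨⊤, inferInstance, ⟨Subgroup.topEquiv.trans e⟩, ?_⟩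
      haveI := psu_simple
      haveI : IsSimpleGroup G := simple_of_equiv e
      rw [Subgroup.coe_top, Subgroup.centralizer_univ]
      refine (IsSimpleGroup.eq_bot_or_eq_top_of_normal (Subgroup.center G) inferInstance).resolve_right fun ht => ?_
      have h0 : om (((1, 0), (0, 0)) : W4) ((0, 1), (0, 0)) = 0 := D.q_comm.mp
        (Subgroup.mem_center_iff.mp (ht ▸ Subgroup.mem_top (D.q ((0, 1), (0, 0)))) _)
      exact absurd h0 (by decide)
    · exact absurd h (D.not_core_cover F)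

omit [Finite G] in
theorem four_nine (g : Pr) (h1 : g.1 * g.1 * (g.1 * g.1) = 1) (h2 : g.2 * g.2 * (g.2 * g.2) = 1) :
    g ^ 4 = 1 ∧ g ^ 9 = g := by
  have h4 : g ^ 4 = 1 := by
    rw [show (4 : ℕ) = 2 + 2 from rfl, pow_add, pow_two]
    exact Prod.ext h1 h2
  exact ⟨h4, by rw [show (9 : ℕ) = 4 * 2 + 1 from rfl, pow_succ, pow_mul, h4, one_pow, one_mul]⟩

omit [Finite G] in
theorem acts_pow {s : G} {g : Pr} (h : D.Acts s g) : ∀ n : ℕ, D.Acts (s ^ n) (g ^ n)
  | 0 => by rw [pow_zero, pow_zero]; exact acts_one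
  | n + 1 => by rw [pow_succ, pow_succ]; exact (acts_pow h n).mul h

/-- No element of the centraliser inverts. -/
theorem concl_no_inv (hI : ¬ D.Inv) : Concl G := by
  classical
  by_cases hB : D.caseB
  swap
  · exact D.concl_base hB
  obtain ⟨F⟩ := D.exists_base
  haveI : Fact (Nat.Prime 3) := ⟨Nat.prime_three⟩
  set H := Cfsg.pResidual 3 G with hH
  haveI : H.Normal := CfsgLib.PResidual.pResidual_normal
  have hinv : ∀ {x : G}, x * x = 1 → x ∈ H := fun {x} hx => Subgroup.subset_closure (by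
    show Nat.Coprime (orderOf x) 3
    exact Nat.Coprime.coprime_dvd_left (orderOf_dvd_of_pow_eq_one (by rw [pow_two]; exact hx)) (by norm_num))
  have hl : ∀ g : Pr, g.1 * g.1 * (g.1 * g.1) = 1 → g.2 * g.2 * (g.2 * g.2) = 1 → ∃ s ∈ H, D.Acts s g := by
    intro g h1 h2
    obtain ⟨s, hs⟩ := D.acts_lift g h1 h2
    obtain ⟨h4, h9⟩ := four_nine g h1 h2
    refine ⟨s ^ 9, Subgroup.subset_closure ?_, h9 ▸ D.acts_pow hs 9⟩
    obtain ⟨k, hk⟩ := (h4 ▸ D.acts_pow hs 4 : D.Acts (s ^ 4) 1).trivial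
    show Nat.Coprime (orderOf (s ^ 9)) 3
    refine Nat.Coprime.coprime_dvd_left (orderOf_dvd_of_pow_eq_one (n := 4) ?_) (by norm_num)
    rw [← pow_mul, show 9 * 4 = 4 * 3 * 3 from rfl, pow_mul, pow_mul, hk, zz, ← pow_mul D.z,
      mul_comm k.val, pow_mul, D.z_cube, one_pow, one_pow]
  have ht : D.t ∈ H := hinv D.t_sq
  have h := concl_base (D.sub F H ht (hinv F.τ3_facts.1) hl)
    (sub_not_caseB F H ht _ hl (F.s0_not_residual hB hI))
  exact concl_up D H (D.q_mem_normal ht) h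

theorem recognise (D : Setting G) : Concl G := by
  classical
  by_cases hI : D.Inv
  swap
  · exact D.concl_no_inv hI
  by_cases hB : D.caseB
  swap
  · exact D.concl_base hB
  obtain ⟨F⟩ := D.exists_base
  obtain ⟨G0, hidx, hG0⟩ := F.exists_index_two hB hI
  haveI := Subgroup.normal_of_index_eq_two hidx
  have hlevi : ∀ {s : G} {g : Pr}, D.Acts s g → s ∈ G0 := fun {s g} hs => by
    have hM : s ∈ Base.Mi (D := D) := Base.mem_Mi.mpr (nine_block_comm hs).symm
    exact (hG0 s hM).mpr ⟨F.cent_z_le_N hM hs.1.cz, F.lin_cent_z hM hs.1.cz⟩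
  have hτ : F.τ3 ∈ G0 := by
    have hl : F.Lin F.τ := F.τ_XS.2.resolve_right fun ha => by
      have h1 := ha (emb none (1, 0))
      rw [sg_emb, F.τ_R1_emb, F.τ_R1_emb, sg_emb, sg_emb] at h1
      revert h1
      decide +kernel
    have hτG : F.τ ∈ G0 := (hG0 _ (F.N_le_Mi F.τ_le_N)).mpr ⟨F.τ_le_N, hl⟩
    exact mul_mem hτG (mul_mem hτG hτG)
  have ht : D.t ∈ G0 := hlevi D.t_acts
  have hl : ∀ g : Pr, g.1 * g.1 * (g.1 * g.1) = 1 → g.2 * g.2 * (g.2 * g.2) = 1 → ∃ s ∈ G0, D.Acts s g :=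
    fun g h1 h2 => by
      obtain ⟨s, hs⟩ := D.acts_lift g h1 h2
      exact ⟨s, hlevi hs, hs⟩
  have hI' : ¬ (D.sub F G0 ht hτ hl).Inv := fun h => by
    obtain ⟨g, hg, hM, e⟩ := sub_inv F G0 ht hτ hl h
    exact F.inv_not_XL hM e ((hG0 g hM).mp hg)
  exact concl_up D G0 (D.q_mem_normal ht) (concl_no_inv _ hI')

end Setting

end CfsgLib.U6Three
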