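import Cfsg.Agent.Lib.U6Three.Small
import Cfsg.Agent.Lib.Sym9Three.Quot

/-!
Centralisers of subgroups meeting the group of order eighty-one in a line without points.
-/

set_option autoImplicit false
set_option linter.style.haveILetI false

namespace CfsgLib.U6Three

universe u

/-- The non-zero isotropic vectors. -/
def ptList : List V4 := (List.product (List.product [0, 1, 2] [0, 1, 2]) (List.product [0, 1, 2] [0, 1, 2])).filterMap
  fun x => let v : V4 := (x.1.1, x.1.2, x.2.1, x.2.2); if qJ v = 0 ∧ v ≠ 0 then some v else none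

/-- Linear maps fixing a line and given on a completing pair, preserving the isotropic vectors. -/
def KeepPts (a b u v p q : V4) : Prop :=
  ∀ α β γ δ : ZMod 3, qJ (α • u + β • v + γ • a + δ • b) = 0 → qJ (α • p + β • q + γ • a + δ • b) = 0

/-- A line without isotropic vectors whose stabiliser is elementary of order at most four. -/
structure FreeLine (a b u v : V4) : Prop where
  span : ∀ w : V4, ∃ α β γ δ : ZMod 3, w = α • u + β • v + γ • a + δ • b
  indep : ∀ α β γ δ : ZMod 3, α • u + β • v + γ • a + δ • b = 0 → α = 0 ∧ β = 0 ∧ γ = 0 ∧ δ = 0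
  pts : qJ u = 0 ∧ qJ v = 0
  free : ∀ γ δ : ZMod 3, qJ (γ • a + δ • b) = 0 → γ = 0 ∧ δ = 0
  hyp : ∀ α β : ZMod 3, (α, β) ≠ (0, 0) → ∃ γ δ : ZMod 3, qJ (α • u + β • v + γ • a + δ • b) = 0
  image : ∀ p ∈ ptList, ∀ q ∈ ptList, KeepPts a b u v p q →
    ∀ α β γ δ : ZMod 3, α • u + β • v + γ • a + δ • b = p → α • p + β • q + γ • a + δ • b = u
  image' : ∀ p ∈ ptList, ∀ q ∈ ptList, KeepPts a b u v p q →
    ∀ α β γ δ : ZMod 3, α • u + β • v + γ • a + δ • b = q → α • p + β • q + γ • a + δ • b = v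
  four : ∃ L : List (V4 × V4), L.length ≤ 4 ∧ ∀ p ∈ ptList, ∀ q ∈ ptList, KeepPts a b u v p q → (p, q) ∈ L

theorem mem_ptList : ∀ v : V4, qJ v = 0 → v ≠ 0 → v ∈ ptList := by decide +kernel

namespace Setting.Base

variable {G : Type u} [Group G] {D : Setting G} (F : D.Base)

theorem exists_lin_fix {h : G} (hh : h ∈ Subgroup.normalizer (F.J : Set G)) {a b u v : V4}
    (hfl : FreeLine a b u v) (ha : Commute h (F.jel a)) (hb : Commute h (F.jel b)) :
    ∃ φ : V4 →+ V4, (∀ w, h * F.jel w * h⁻¹ = F.jel (φ w)) ∧ (φ u, φ v) ∈ ptList.product ptList ∧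
      KeepPts a b u v (φ u) (φ v) ∧
      ∀ α β γ δ : ZMod 3, φ (α • u + β • v + γ • a + δ • b) = α • φ u + β • φ v + γ • a + δ • b := by
  obtain ⟨φ, hi, hφ⟩ := F.exists_lin hh
  have fa : φ a = a := F.jel_inj (by rw [← hφ, ha.eq, mul_inv_cancel_right])
  have fb : φ b = b := F.jel_inj (by rw [← hφ, hb.eq, mul_inv_cancel_right])
  have lin : ∀ α β γ δ : ZMod 3, φ (α • u + β • v + γ • a + δ • b) = α • φ u + β • φ v + γ • a + δ • b := by
    intro α β γ δ
    rw [map_add, map_add, map_add, ZMod.map_smul, ZMod.map_smul, ZMod.map_smul, ZMod.map_smul, fa, fb]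
  have pq : ∀ w, qJ w = 0 → qJ (φ w) = 0 := by
    intro w hw
    by_cases h0 : w = 0
    · rw [h0, map_zero]; rfl
    · have := ((F.isPt_jel w).mpr ⟨hw, h0⟩).conj h
      rw [hφ] at this
      exact ((F.isPt_jel _).mp this).1
  have nz : ∀ w, w ≠ 0 → φ w ≠ 0 := fun w hw h0 => hw (hi (h0.trans φ.map_zero.symm))
  have hu0 : u ≠ 0 := fun e => by
    obtain ⟨h1, -⟩ := hfl.indep 1 0 0 0 (by simp [e])
    exact (by decide : (1 : ZMod 3) ≠ 0) h1
  have hv0 : v ≠ 0 := fun e => by
    obtain ⟨-, h1, -⟩ := hfl.indep 0 1 0 0 (by simp [e])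
    exact (by decide : (1 : ZMod 3) ≠ 0) h1
  exact ⟨φ, hφ, List.mem_product.mpr ⟨mem_ptList _ (pq u hfl.pts.1) (nz u hu0),
    mem_ptList _ (pq v hfl.pts.2) (nz v hv0)⟩, fun α β γ δ hz => lin α β γ δ ▸ pq _ hz, lin⟩

theorem fix_J_mem_U {h : G} (hh : ∀ w, Commute h (F.jel w)) : h ∈ F.U :=
  Subgroup.mem_centralizer_iff.mpr (by rintro _ ⟨w, rfl⟩; exact (hh w).symm.eq)

/-- Centralisers of subgroups of index nine without points. -/
theorem free_le [Finite G] {a b u v : V4} (hfl : FreeLine a b u v) (S : Subgroup G) (hSU : S ≤ F.U)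
    (ha : F.jel a ∈ S) (hb : F.jel b ∈ S) (hS : ∀ x ∈ F.U, ∃ s ∈ S, ∃ w, x = s * F.jel w)
    (hcard : Nat.card F.U = 9 * Nat.card S) :
    Subgroup.centralizer (S : Set G) ≤ Subgroup.normalizer (F.U : Set G) := by
  classical
  set H := Subgroup.centralizer (S : Set G) with hH
  have hc : ∀ h ∈ H, ∀ s ∈ S, Commute h s := fun h hh s hs => (Subgroup.mem_centralizer_iff.mp hh s hs).symm
  have hUH : F.U ≤ H := fun x hx => Subgroup.mem_centralizer_iff.mpr fun s hs => (F.U_comm (hSU hs) hx).eq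
  have act2 : ∀ h ∈ H, h ∈ Subgroup.normalizer (F.U : Set G) → h * h ∈ F.U := by
    intro h hh hn
    obtain ⟨φ, hφ, hmem, hkp, hlin⟩ := F.exists_lin_fix (F.NU_le_NJ hn) hfl (hc h hh _ ha) (hc h hh _ hb)
    obtain ⟨hp, hq⟩ := List.mem_product.mp hmem
    refine F.fix_J_mem_U fun w => ?_
    have hsq : ∀ w, φ (φ w) = w := by
      obtain ⟨α, β, γ, δ, e1⟩ := hfl.span (φ u)
      obtain ⟨α', β', γ', δ', e2⟩ := hfl.span (φ v)
      have hu : φ (φ u) = u := by
        conv_lhs => rw [e1]
        rw [hlin, hfl.image _ hp _ hq hkp α β γ δ e1.symm]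
      have hv : φ (φ v) = v := by
        conv_lhs => rw [e2]
        rw [hlin, hfl.image' _ hp _ hq hkp α' β' γ' δ' e2.symm]
      intro w
      obtain ⟨x, y, z, r, rfl⟩ := hfl.span w
      rw [hlin, map_add, map_add, map_add, ZMod.map_smul, ZMod.map_smul, hu, hv, ZMod.map_smul, ZMod.map_smul]
      have fa : φ a = a := by simpa using hlin 0 0 1 0
      have fb : φ b = b := by simpa using hlin 0 0 0 1
      rw [fa, fb]
    have e : h * h * F.jel w * (h * h)⁻¹ = F.jel w := by
      calc h * h * F.jel w * (h * h)⁻¹ = h * (h * F.jel w * h⁻¹) * h⁻¹ := by group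
        _ = _ := by rw [hφ, hφ, hsq]
    exact mul_inv_eq_iff_eq_mul.mp e
  refine CfsgLib.Sym9Three.le_normalizer_of_quotient H S F.U hSU hUH (fun s hs h hh => (hc h hh s hs).eq) hcard
    (fun x hx => by rw [F.U_cube hx]; exact one_mem _)
    (fun x hx x' hx' => by rw [(F.U_comm hx hx').eq, mul_inv_cancel_right, mul_inv_cancel]; exact one_mem _)
    (fun h hh hA => ?_) (fun h hh x hx hxS hcm => ?_) act2 ?_
  · -- self-centralising
    have hn : h ∈ Subgroup.normalizer (F.U : Set G) := by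
      intro x
      have key : ∀ x ∈ F.U, h * x * h⁻¹ ∈ F.U := fun x hx => by
        have := mul_mem (hSU (hA x hx)) hx
        rwa [show h * x * h⁻¹ * x⁻¹ * x = h * x * h⁻¹ by group] at this
      refine ⟨key x, fun hx => ?_⟩
      let f : F.U → F.U := fun a => ⟨h * a * h⁻¹, key a a.2⟩
      obtain ⟨a, ha⟩ := ((Finite.injective_iff_surjective (f := f)).1 fun a b e => Subtype.ext (by
        have := congrArg Subtype.val e
        simpa [f] using this)) ⟨_, hx⟩
      have h2 : h * (a : G) * h⁻¹ = h * x * h⁻¹ := congrArg Subtype.val ha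
      have : (a : G) = x := by simpa using h2
      exact this ▸ a.2
    have h3 : h * h * h ∈ F.U := by
      refine F.fix_J_mem_U fun w => ?_
      obtain ⟨s, hs, e⟩ : ∃ s ∈ S, h * F.jel w * h⁻¹ = s * F.jel w :=
        ⟨_, hA _ (F.jel_mem_U w), by group⟩
      have hsh : h * s * h⁻¹ = s := by rw [(hc h hh s hs).eq, mul_inv_cancel_right]
      have e3 : h * h * h * F.jel w * (h * h * h)⁻¹ = F.jel w := by
        calc h * h * h * F.jel w * (h * h * h)⁻¹ = h * (h * (h * F.jel w * h⁻¹) * h⁻¹) * h⁻¹ := by group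
          _ = h * (h * (s * F.jel w) * h⁻¹) * h⁻¹ := by rw [e]
          _ = h * ((h * s * h⁻¹) * (h * F.jel w * h⁻¹)) * h⁻¹ := by group
          _ = h * (s * (s * F.jel w)) * h⁻¹ := by rw [hsh, e]
          _ = (h * s * h⁻¹) * ((h * s * h⁻¹) * (h * F.jel w * h⁻¹)) := by group
          _ = s * (s * (s * F.jel w)) := by rw [hsh, e]
          _ = s ^ 3 * F.jel w := by rw [pow_three', mul_assoc, mul_assoc]
          _ = _ := by rw [F.U_cube (hSU hs), one_mul]
      exact mul_inv_eq_iff_eq_mul.mp e3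
    have h2 := act2 h hh hn
    have : h = (h * h)⁻¹ * (h * h * h) := by group
    rw [this]; exact mul_mem (inv_mem h2) h3
  · -- centralisers of hyperplanes
    obtain ⟨s, hs, w, rfl⟩ := hS x hx
    obtain ⟨α, β, γ, δ, hw⟩ := hfl.span w
    have hαβ : (α, β) ≠ (0, 0) := fun e => hxS (by
      obtain ⟨rfl, rfl⟩ := Prod.mk.inj e
      rw [hw, zero_smul, zero_smul, zero_add, zero_add, F.jel_add]
      refine mul_mem hs (mul_mem ?_ ?_)
      · rcases (by decide : ∀ c : ZMod 3, c = 0 ∨ c = 1 ∨ c = -1) γ with rfl | rfl | rfl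
        · rw [zero_smul, F.jel_zero]; exact one_mem _
        · rwa [one_smul]
        · rw [neg_smul, one_smul, F.jel_neg]; exact inv_mem ha
      · rcases (by decide : ∀ c : ZMod 3, c = 0 ∨ c = 1 ∨ c = -1) δ with rfl | rfl | rfl
        · rw [zero_smul, F.jel_zero]; exact one_mem _
        · rwa [one_smul]
        · rw [neg_smul, one_smul, F.jel_neg]; exact inv_mem hb)
    obtain ⟨γ', δ', hq⟩ := hfl.hyp α β hαβ
    set p := α • u + β • v + γ' • a + δ' • b with hp
    have hp0 : p ≠ 0 := fun e => hαβ (by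
      obtain ⟨a1, a2, -⟩ := hfl.indep α β γ' δ' (hp ▸ e)
      rw [a1, a2])
    have hdiff : ∃ σ ∈ S, F.jel p = (s * F.jel w) * σ := by
      have e : F.jel p = F.jel w * F.jel ((γ' - γ) • a + (δ' - δ) • b) := by
        rw [← F.jel_add]; congr 1; rw [hp, hw, sub_smul, sub_smul]; abel
      refine ⟨s⁻¹ * F.jel ((γ' - γ) • a + (δ' - δ) • b), mul_mem (inv_mem hs) ?_, ?_⟩
      · rw [F.jel_add]
        have sm : ∀ (c : ZMod 3) {x : V4}, F.jel x ∈ S → F.jel (c • x) ∈ S := fun c x hx => by
          rcases (by decide : ∀ c : ZMod 3, c = 0 ∨ c = 1 ∨ c = -1) c with rfl | rfl | rfl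
          · rw [zero_smul, F.jel_zero]; exact one_mem _
          · rwa [one_smul]
          · rw [neg_smul, one_smul, F.jel_neg]; exact inv_mem hx
        exact mul_mem (sm _ ha) (sm _ hb)
      · have hsc : Commute (F.jel w) s⁻¹ := (F.U_comm (F.jel_mem_U w) (hSU hs)).inv_right
        rw [e, show s * F.jel w * (s⁻¹ * F.jel ((γ' - γ) • a + (δ' - δ) • b)) =
          s * (F.jel w * s⁻¹) * F.jel ((γ' - γ) • a + (δ' - δ) • b) by group, hsc.eq]
        group
    obtain ⟨σ, hσ, eσ⟩ := hdiff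
    have hp' : h * F.jel p * h⁻¹ ∈ F.U := by
      rw [eσ, show h * (s * F.jel w * σ) * h⁻¹ = (h * (s * F.jel w) * h⁻¹ * (s * F.jel w)⁻¹) * (s * F.jel w) *
        (h * σ * h⁻¹) by group, (hc h hh σ hσ).eq, mul_inv_cancel_right]
      exact mul_mem (mul_mem (hSU hcm) hx) (hSU hσ)
    obtain ⟨p', hp'q, hp'0, ep'⟩ :=
      (F.pt_iff hp').mp (((F.isPt_jel p).mpr ⟨hq, hp0⟩).conj h)
    have hind : Ind3 p' a b := by
      intro x y z hxyz
      by_cases hx0 : x = 0
      · subst hx0
        rw [zero_smul, zero_add] at hxyz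
        exact ⟨rfl, hfl.free y z (by rw [hxyz]; rfl)⟩
      · exfalso
        have hpe : p' = (-(x * y)) • a + (-(x * z)) • b := by
          have h1 := congrArg (fun t => x • t) hxyz
          simp only [smul_add, smul_smul, smul_zero, (by decide : ∀ x : ZMod 3, x ≠ 0 → x * x = 1) x hx0,
            one_smul] at h1
          rw [neg_smul, neg_smul, eq_comm, ← sub_eq_zero, ← neg_eq_zero, ← h1]
          abel
        obtain ⟨e1, e2⟩ := hfl.free _ _ (hpe ▸ hp'q)
        exact hp'0 (by rw [hpe, e1, e2, zero_smul, zero_smul, add_zero])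
    have key : ∀ x ∈ F.U, h * x * h⁻¹ ∈ F.U := by
      intro x hx
      have h3 : (h * x * h⁻¹) ^ 3 = 1 := by rw [conj_pow, F.U_cube hx]; group
      have cS : ∀ t, F.jel t ∈ S → Commute (h * x * h⁻¹) (F.jel t) := fun t ht => by
        have := conj_comm h (F.U_comm hx (hSU ht))
        rwa [(hc h hh _ ht).eq, mul_inv_cancel_right] at this
      exact (F.point_plane hp'q hp'0 hind (ep' ▸ conj_comm h (F.U_comm hx (F.jel_mem_U p))) (cS a ha) (cS b hb)).2 h3
    intro x
    refine ⟨key x, fun hx => ?_⟩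
    let f : F.U → F.U := fun a => ⟨h * a * h⁻¹, key a a.2⟩
    obtain ⟨c, hc'⟩ := ((Finite.injective_iff_surjective (f := f)).1 fun a b e => Subtype.ext (by
      have := congrArg Subtype.val e
      simpa [f] using this)) ⟨_, hx⟩
    have h2 : h * (c : G) * h⁻¹ = h * x * h⁻¹ := congrArg Subtype.val hc'
    have : (c : G) = x := by simpa using h2
    exact this ▸ c.2
  · -- the order of the normaliser
    set K := H ⊓ Subgroup.normalizer (F.U : Set G) with hK
    have hUK : F.U ≤ K := le_inf hUH Subgroup.le_normalizer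
    haveI : (F.U.subgroupOf K).Normal := by
      refine ⟨fun n hn k => ?_⟩
      exact ((Subgroup.mem_inf.mp k.2).2 _).mp hn
    set Q := K ⧸ F.U.subgroupOf K
    have hex : ∀ x : Q, x ^ 2 = 1 := by
      intro x
      obtain ⟨k, rfl⟩ := QuotientGroup.mk_surjective x
      rw [pow_two, ← QuotientGroup.mk_mul, QuotientGroup.eq_one_iff]
      exact act2 _ (Subgroup.mem_inf.mp k.2).1 (Subgroup.mem_inf.mp k.2).2
    have hle : Nat.card Q ≤ 4 := by
      obtain ⟨L, hL, hmem⟩ := hfl.four
      have key : ∀ x : Q, ∃ i : Fin L.length, ∀ w, (x.out : G) * F.jel w * (x.out : G)⁻¹ =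
          F.jel (Classical.choose (hfl.span w) • (L.get i).1 +
            Classical.choose (Classical.choose_spec (hfl.span w)) • (L.get i).2 +
            Classical.choose (Classical.choose_spec (Classical.choose_spec (hfl.span w))) • a +
            Classical.choose (Classical.choose_spec (Classical.choose_spec (Classical.choose_spec (hfl.span w)))) • b) := by
        intro x
        have hk := Subgroup.mem_inf.mp x.out.2
        obtain ⟨φ, hφ, hpq, hkp, hlin⟩ := F.exists_lin_fix (F.NU_le_NJ hk.2) hfl (hc _ hk.1 _ ha) (hc _ hk.1 _ hb)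
        obtain ⟨i, hi⟩ := List.get_of_mem (hmem _ (List.mem_product.mp hpq).1 _ (List.mem_product.mp hpq).2 hkp)
        refine ⟨i, fun w => ?_⟩
        rw [hi, hφ, ← hlin,
          ← Classical.choose_spec (Classical.choose_spec (Classical.choose_spec (Classical.choose_spec (hfl.span w))))]
      choose f hf using key
      refine le_trans ?_ hL
      rw [← Nat.card_fin L.length]
      refine Nat.card_le_card_of_injective f fun x x' e => ?_
      have hxx : (x.out : G)⁻¹ * (x'.out : G) ∈ F.U := by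
        refine F.fix_J_mem_U fun w => ?_
        have h1 := hf x' w
        rw [← e, ← hf x w] at h1
        refine mul_inv_eq_iff_eq_mul.mp ?_
        calc (x.out : G)⁻¹ * (x'.out : G) * F.jel w * ((x.out : G)⁻¹ * (x'.out : G))⁻¹
            = (x.out : G)⁻¹ * ((x'.out : G) * F.jel w * (x'.out : G)⁻¹) * (x.out : G) := by group
          _ = _ := by rw [h1]; group
      rw [← QuotientGroup.out_eq' x, ← QuotientGroup.out_eq' x', QuotientGroup.eq]
      exact hxx
    obtain ⟨n, hn⟩ := (IsPGroup.iff_card (p := 2)).mp (fun x => ⟨1, by rw [pow_one]; exact hex x⟩ : IsPGroup 2 Q)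
    have hQ4 : Nat.card Q ∣ 4 := by
      rw [hn]
      have : n ≤ 2 := by
        by_contra hcon
        have := Nat.pow_le_pow_right (show 0 < 2 by norm_num) (not_le.mp hcon)
        rw [hn] at hle
        omega
      exact pow_dvd_pow 2 this
    have := Subgroup.card_eq_card_quotient_mul_card_subgroup (F.U.subgroupOf K)
    rw [Nat.card_congr (Subgroup.subgroupOfEquivOfLe hUK).toEquiv, hcard] at this
    rw [this, show 36 * Nat.card S = 4 * (9 * Nat.card S) by ring]
    exact Nat.mul_dvd_mul_right hQ4 _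

end Setting.Base

end CfsgLib.U6Three
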