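import Cfsg.Agent.Lib.U6Three.Small
import Cfsg.Agent.Lib.CoprimeGen

/-!
The centraliser of the group of order eighty-one normalises no non-trivial subgroup of order prime to three.
-/

set_option autoImplicit false
set_option linter.style.haveILetI false

namespace CfsgLib.U6Three

universe u

theorem sig_plane : ∀ e k k' : ZMod 3, e ≠ 0 → ∃ α β γ : ZMod 3,
    qJ (α • ((1, 0, 0, e) : V4) + β • ((k, 1, 0, 0) : V4) + γ • ((k', 0, 1, 0) : V4)) = 0 ∧
      α • ((1, 0, 0, e) : V4) + β • ((k, 1, 0, 0) : V4) + γ • ((k', 0, 1, 0) : V4) ≠ 0 := by decide +kernel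

/-- Generation by centralisers for a pair of commuting elements of order three. -/
theorem gen_pair {G : Type u} [Group G] [Finite G] {a b : G} (ha : a ^ 3 = 1) (hb : b ^ 3 = 1) (hab : Commute a b)
    (ha1 : a ≠ 1) (hba : b ∉ Subgroup.zpowers a) (K : Subgroup G) (hK : (Nat.card K).Coprime 3)
    (hKa : a ∈ Subgroup.normalizer (K : Set G)) (hKb : b ∈ Subgroup.normalizer (K : Set G)) :
    K = ⨆ c ∈ {c : G | c ∈ Subgroup.closure ({a, b} : Set G) ∧ c ≠ 1}, K ⊓ Subgroup.centralizer {c} := by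
  set A := Subgroup.closure ({a, b} : Set G) with hA
  have hgen : ∀ x ∈ ({a, b} : Set G), ∀ y ∈ ({a, b} : Set G), x * y = y * x := by
    intro x hx y hy
    simp only [Set.mem_insert_iff, Set.mem_singleton_iff] at hx hy
    rcases hx with rfl | rfl <;> rcases hy with rfl | rfl
    exacts [rfl, hab.eq, hab.eq.symm, rfl]
  haveI : IsMulCommutative A := Subgroup.isMulCommutative_closure hgen
  have hexp : ∀ x ∈ A, x ^ 3 = 1 := by
    intro x hx
    induction hx using Subgroup.closure_induction with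
    | mem x hx => rcases hx with rfl | rfl <;> assumption
    | one => exact one_pow 3
    | mul x y hx hy ihx ihy =>
      have hc : Commute x y := congrArg Subtype.val ((this : IsMulCommutative A).is_comm.comm ⟨x, hx⟩ ⟨y, hy⟩)
      rw [hc.mul_pow, ihx, ihy, one_mul]
    | inv x hx ih => rw [inv_pow, ih, inv_one]
  have haA : a ∈ A := Subgroup.subset_closure (by simp)
  have hbA : b ∈ A := Subgroup.subset_closure (by simp)
  have hncyc : ¬ IsCyclic A := by
    intro hc
    obtain ⟨⟨g, hg⟩, hgen⟩ := hc.exists_generator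
    have h1 : ∀ x ∈ A, x ∈ Subgroup.zpowers g := fun x hx => by
      obtain ⟨n, hn⟩ := Subgroup.mem_zpowers_iff.mp (hgen ⟨x, hx⟩)
      exact Subgroup.mem_zpowers_iff.mpr ⟨n, congrArg Subtype.val hn⟩
    have hg3 : Nat.card (Subgroup.zpowers g) ≤ 3 := by
      rw [Nat.card_zpowers]; exact Nat.le_of_dvd (by norm_num) (orderOf_dvd_of_pow_eq_one (hexp g hg))
    have heq : Subgroup.zpowers a = Subgroup.zpowers g := by
      refine Subgroup.eq_of_le_of_card_ge (Subgroup.zpowers_le.mpr (h1 a haA)) ?_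
      rw [Nat.card_zpowers a, orderOf_eq_prime (p := 3) ha ha1]
      exact hg3
    exact hba (heq ▸ h1 b hbA)
  have hcard : (Nat.card A).Coprime (Nat.card K) := by
    haveI : Fact (Nat.Prime 3) := ⟨Nat.prime_three⟩
    have hp : IsPGroup 3 A := fun x => ⟨1, by
      rw [pow_one]; exact Subtype.ext (hexp x x.2)⟩
    obtain ⟨n, hn⟩ := IsPGroup.iff_card.mp hp
    rw [hn]
    exact Nat.Coprime.pow_left _ hK.symm
  have hAK : A ≤ Subgroup.normalizer (K : Set G) := (Subgroup.closure_le _).mpr (by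
    intro x hx; rcases hx with rfl | rfl <;> assumption)
  exact (CfsgLib.coprime_generated_by_centralizers hncyc hAK hcard).symm

theorem mem_pair {G : Type u} [Group G] {a b c : G} (ha : a ^ 3 = 1) (hb : b ^ 3 = 1) (hab : Commute a b)
    (hc : c ∈ Subgroup.closure ({a, b} : Set G)) : ∃ α β : ZMod 3, c = a ^ α.val * b ^ β.val := by
  have red : ∀ (x : G), x ^ 3 = 1 → ∀ n : ℕ, x ^ n = x ^ (n : ZMod 3).val := fun x hx n => by
    rw [ZMod.val_natCast, ← pow_eq_pow_mod _ hx]
  induction hc using Subgroup.closure_induction with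
  | mem x hx =>
    rcases hx with rfl | rfl
    · exact ⟨1, 0, by rw [show (1 : ZMod 3).val = 1 from rfl, ZMod.val_zero, pow_one, pow_zero, mul_one]⟩
    · exact ⟨0, 1, by rw [show (1 : ZMod 3).val = 1 from rfl, ZMod.val_zero, pow_one, pow_zero, one_mul]⟩
  | one => exact ⟨0, 0, by rw [ZMod.val_zero, pow_zero, pow_zero, one_mul]⟩
  | mul x y _ _ ihx ihy =>
    obtain ⟨α, β, rfl⟩ := ihx
    obtain ⟨α', β', rfl⟩ := ihy
    refine ⟨(α.val + α'.val : ℕ), (β.val + β'.val : ℕ), ?_⟩
    rw [← red a ha, ← red b hb, pow_add, pow_add]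
    have hc : Commute (b ^ β.val) (a ^ α'.val) := (hab.symm.pow_left _).pow_right _
    rw [show a ^ α.val * b ^ β.val * (a ^ α'.val * b ^ β'.val) = a ^ α.val * (b ^ β.val * a ^ α'.val) * b ^ β'.val by
      group, hc.eq]
    group
  | inv x _ ih =>
    obtain ⟨α, β, rfl⟩ := ih
    refine ⟨(2 * α.val : ℕ), (2 * β.val : ℕ), ?_⟩
    rw [← red a ha, ← red b hb, mul_inv_rev]
    have inv2 : ∀ x : G, x ^ 3 = 1 → ∀ n : ℕ, (x ^ n)⁻¹ = x ^ (2 * n) := fun x hx n => by
      refine inv_eq_of_mul_eq_one_right ?_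
      rw [← pow_add, show n + 2 * n = 3 * n by ring, pow_mul, hx, one_pow]
    rw [inv2 a ha, inv2 b hb]
    exact ((hab.symm.pow_left _).pow_right _).eq

namespace Setting.Base

variable {G : Type u} [Group G] {D : Setting G} (F : D.Base)

theorem jel_smul (c : ZMod 3) (v : V4) : F.jel (c • v) = F.jel v ^ c.val := by
  rcases (by decide : ∀ c : ZMod 3, c = 0 ∨ c = 1 ∨ c = 2) c with rfl | rfl | rfl
  · rw [zero_smul, F.jel_zero, ZMod.val_zero, pow_zero]
  · rw [one_smul, show (1 : ZMod 3).val = 1 from rfl, pow_one]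
  · rw [show (2 : ZMod 3).val = 2 from rfl, pow_two, ← F.jel_add, show (2 : ZMod 3) • v = v + v from two_smul _ _]

/-- Descent through the centralisers of a pair of coordinates. -/
theorem bot_of_pair [Finite G] (K : Subgroup G) (hK : (Nat.card K).Coprime 3) {a b : V4}
    (hab : ∀ α β : ZMod 3, α • a + β • b = 0 → α = 0 ∧ β = 0)
    (hn : ∀ x ∈ F.U, x ∈ Subgroup.normalizer (K : Set G))
    (h : ∀ α β : ZMod 3, (α, β) ≠ (0, 0) → K ⊓ Subgroup.centralizer {F.jel (α • a + β • b)} = ⊥) : K = ⊥ := by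
  have c3 : ∀ v, F.jel v ^ 3 = 1 := fun v => F.U_cube (F.jel_mem_U v)
  have hne : F.jel a ≠ 1 := fun e => by
    have : (1 : ZMod 3) • a + (0 : ZMod 3) • b = 0 := by
      rw [one_smul, zero_smul, add_zero]; exact F.jel_inj (e.trans F.jel_zero.symm)
    exact (by decide : (1 : ZMod 3) ≠ 0) (hab _ _ this).1
  have hba : F.jel b ∉ Subgroup.zpowers (F.jel a) := fun hmem => by
    rw [← (mem_powers_iff_mem_zpowers : F.jel b ∈ Submonoid.powers (F.jel a) ↔ _)] at hmem
    obtain ⟨n, hn'⟩ := hmem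
    have e : F.jel b = F.jel ((n : ZMod 3) • a) := by
      rw [F.jel_smul, ZMod.val_natCast, ← pow_eq_pow_mod _ (c3 a)]; exact hn'.symm
    have : (-(n : ZMod 3)) • a + (1 : ZMod 3) • b = 0 := by rw [one_smul, F.jel_inj e, neg_smul, neg_add_cancel]
    exact (by decide : (1 : ZMod 3) ≠ 0) (hab _ _ this).2
  refine le_antisymm ?_ bot_le
  rw [gen_pair (c3 a) (c3 b) (F.jel_comm a b) hne hba K hK (hn _ (F.jel_mem_U a)) (hn _ (F.jel_mem_U b))]
  refine iSup₂_le fun c hc => ?_
  obtain ⟨α, β, e⟩ := mem_pair (c3 a) (c3 b) (F.jel_comm a b) hc.1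
  rw [← F.jel_smul, ← F.jel_smul, ← F.jel_add] at e
  by_cases h0 : (α, β) = (0, 0)
  · obtain ⟨rfl, rfl⟩ := Prod.mk.inj h0
    exact absurd (by rw [e, zero_smul, zero_smul, add_zero, F.jel_zero]) hc.2
  rw [e, h α β h0]

/-- The signaliser property. -/
theorem signal [Finite G] (K : Subgroup G) (hK : (Nat.card K).Coprime 3)
    (hn : ∀ x ∈ F.U, x ∈ Subgroup.normalizer (K : Set G)) : K = ⊥ := by
  have hb : ∀ {K : Subgroup G}, (Nat.card K).Coprime 3 → (∀ x ∈ F.U, x ∈ Subgroup.normalizer (K : Set G)) →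
      (∀ x ∈ K, Commute x D.z) → K = ⊥ := by
    intro K hK hn hz
    refine le_antisymm (fun k hk => ?_) bot_le
    have hqa : ∀ a, InA a → Commute k (D.q a) := by
      intro a ha
      obtain ⟨i, l, rfl⟩ := inA_av a ha
      have h1 : D.q (av i l) ∈ Subgroup.normalizer (K : Set G) := hn _ (F.jel_q i l ▸ F.jel_mem_U _)
      have h2 : k * D.q (av i l) * k⁻¹ * (D.q (av i l))⁻¹ ∈ K := by
        rw [show k * D.q (av i l) * k⁻¹ * (D.q (av i l))⁻¹ = k * (D.q (av i l) * k⁻¹ * (D.q (av i l))⁻¹) by group]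
        exact mul_mem hk ((h1 _).mp (inv_mem hk))
      have h3 : k * D.q (av i l) * k⁻¹ * (D.q (av i l))⁻¹ ∈ D.Q :=
        mul_mem (D.conj_Q (hz k hk) (D.q_mem _)) (D.Q.inv_mem (D.q_mem _))
      have h4 := orderOf_dvd_of_pow_eq_one (D.Q_cube h3)
      have h5 := Subgroup.orderOf_dvd_natCard K h2
      have h6 : orderOf (k * D.q (av i l) * k⁻¹ * (D.q (av i l))⁻¹) = 1 :=
        Nat.eq_one_of_dvd_coprimes hK h5 h4
      rw [orderOf_eq_one_iff, mul_inv_eq_one, mul_inv_eq_iff_eq_mul] at h6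
      exact h6
    have hU := F.cent_ZA (hz k hk) hqa
    have h6 : orderOf k = 1 := Nat.eq_one_of_dvd_coprimes hK (Subgroup.orderOf_dvd_natCard K hk)
      (orderOf_dvd_of_pow_eq_one (F.U_cube hU))
    exact Subgroup.mem_bot.mpr (orderOf_eq_one_iff.mp h6)
  have pt : ∀ {K : Subgroup G}, (Nat.card K).Coprime 3 → (∀ x ∈ F.U, x ∈ Subgroup.normalizer (K : Set G)) →
      ∀ v, qJ v = 0 → v ≠ 0 → K ⊓ Subgroup.centralizer {F.jel v} = ⊥ := by
    intro K hK hn v hv hne
    obtain ⟨h, hh, k, hk, e⟩ := F.move_point hv hne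
    set L := K ⊓ Subgroup.centralizer {F.jel v} with hL
    have hLn : ∀ x ∈ F.U, x ∈ Subgroup.normalizer (L : Set G) := by
      intro x hx y
      have hc : Commute x (F.jel v) := F.commute_jel hx v
      simp only [hL, Subgroup.coe_inf, Set.mem_inter_iff, SetLike.mem_coe, Subgroup.mem_centralizer_singleton_iff]
      refine and_congr ((hn x hx) y) ⟨fun h => ?_, fun h => ?_⟩
      · exact (((hc.mul_left (show Commute y (F.jel v) from h)).mul_left hc.inv_left)).eq
      · have := (hc.inv_left.mul_left (show Commute (x * y * x⁻¹) (F.jel v) from h)).mul_left hc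
        exact (by simpa [mul_assoc] using this.eq)
    have hL3 : (Nat.card L).Coprime 3 := hK.coprime_dvd_left (Subgroup.card_dvd_of_le inf_le_left)
    set L' := L.map (MulAut.conj h).toMonoidHom with hL'
    have hbot : L' = ⊥ := by
      refine hb ?_ (fun x hx => ?_) (fun x hx => ?_)
      · rwa [hL', Subgroup.card_map_of_injective (MulAut.conj h).injective]
      · have hx' : h⁻¹ * x * h ∈ F.U := by
          have := ((F.NJ_le_NU (inv_mem hh)) x).mp hx
          simpa using this
        intro y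
        simp only [hL', Subgroup.coe_map, Set.mem_image, SetLike.mem_coe, MulEquiv.coe_toMonoidHom, MulAut.conj_apply]
        constructor
        · rintro ⟨l, hl, rfl⟩
          exact ⟨_, ((hLn _ hx') l).mp hl, by group⟩
        · rintro ⟨l, hl, e⟩
          refine ⟨_, ((hLn _ (inv_mem hx')) l).mp hl, ?_⟩
          calc _ = x⁻¹ * (h * l * h⁻¹) * x := by group
            _ = y := by rw [e]; group
      · obtain ⟨l, hl, rfl⟩ := hx
        refine commute_zk hk ?_
        rw [← e]
        exact conj_comm h (Subgroup.mem_centralizer_singleton_iff.mp (Subgroup.mem_inf.mp hl).2)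
    exact (Subgroup.map_eq_bot_iff_of_injective L (MulAut.conj h).injective).mp hbot
  have sub : ∀ {K : Subgroup G} (v : V4), (Nat.card K).Coprime 3 → (∀ x ∈ F.U, x ∈ Subgroup.normalizer (K : Set G)) →
      (Nat.card ↥(K ⊓ Subgroup.centralizer {F.jel v})).Coprime 3 ∧
      ∀ x ∈ F.U, x ∈ Subgroup.normalizer ((K ⊓ Subgroup.centralizer {F.jel v} : Subgroup G) : Set G) := by
    intro K v hK hn
    refine ⟨hK.coprime_dvd_left (Subgroup.card_dvd_of_le inf_le_left), fun x hx y => ?_⟩
    have hc : Commute x (F.jel v) := F.commute_jel hx v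
    simp only [Subgroup.coe_inf, Set.mem_inter_iff, SetLike.mem_coe, Subgroup.mem_centralizer_singleton_iff]
    refine and_congr ((hn x hx) y) ⟨fun h => ?_, fun h => ?_⟩
    · exact (((hc.mul_left (show Commute y (F.jel v) from h)).mul_left hc.inv_left)).eq
    · have := (hc.inv_left.mul_left (show Commute (x * y * x⁻¹) (F.jel v) from h)).mul_left hc
      exact (by simpa [mul_assoc] using this.eq)
  have third : ∀ (e k : ZMod 3), e ≠ 0 →
      K ⊓ Subgroup.centralizer {F.jel (1, 0, 0, e)} ⊓ Subgroup.centralizer {F.jel (k, 1, 0, 0)} = ⊥ := by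
    intro e k he
    obtain ⟨a1, a2⟩ := sub (1, 0, 0, e) hK hn
    obtain ⟨b1, b2⟩ := sub (k, 1, 0, 0) a1 a2
    refine F.bot_of_pair _ b1 (a := (1, 0, 0, 0)) (b := (0, 0, 1, 0)) (by decide) b2 fun α β h0 => ?_
    by_cases hβ : β = 0
    · subst hβ
      refine pt b1 b2 _ ?_ ?_
      · simp [qJ]
      · intro h; exact h0 (by simpa using congrArg (fun v : V4 => v.1) h)
    · set k' := β * α
      obtain ⟨x, y, w, hq, hne⟩ := sig_plane e k k' he
      refine le_antisymm ?_ bot_le
      rw [← pt hK hn _ hq hne]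
      intro g hg
      simp only [Subgroup.mem_inf, Subgroup.mem_centralizer_singleton_iff] at hg ⊢
      obtain ⟨⟨⟨g1, g2⟩, g3⟩, g4⟩ := hg
      refine ⟨g1, ?_⟩
      have h5 : Commute g (F.jel ((k', 0, 1, 0) : V4)) := by
        have := F.commute_smul (x := g) (show Commute g _ from g4) β
        rwa [show β • (α • ((1, 0, 0, 0) : V4) + β • (0, 0, 1, 0)) = (k', 0, 1, 0) by
          simp [k', (by decide : ∀ b : ZMod 3, b ≠ 0 → b * b = 1) β hβ]] at this
      rw [F.jel_add, F.jel_add]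
      exact (((F.commute_smul (show Commute g _ from g2) x).mul_right (F.commute_smul (show Commute g _ from g3) y)).mul_right
        (F.commute_smul h5 w)).eq
  have second : ∀ e : ZMod 3, e ≠ 0 → K ⊓ Subgroup.centralizer {F.jel (1, 0, 0, e)} = ⊥ := by
    intro e he
    obtain ⟨a1, a2⟩ := sub (1, 0, 0, e) hK hn
    refine F.bot_of_pair _ a1 (a := (1, 0, 0, 0)) (b := (0, 1, 0, 0)) (by decide) a2 fun α β h0 => ?_
    by_cases hβ : β = 0
    · subst hβ
      refine pt a1 a2 _ ?_ ?_
      · simp [qJ]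
      · intro h; exact h0 (by simpa using congrArg (fun v : V4 => v.1) h)
    · refine le_antisymm ?_ bot_le
      rw [← third e (β * α) he]
      intro g hg
      simp only [Subgroup.mem_inf, Subgroup.mem_centralizer_singleton_iff] at hg ⊢
      refine ⟨hg.1, ?_⟩
      have := F.commute_smul (x := g) (show Commute g _ from hg.2) β
      rw [show β • (α • ((1, 0, 0, 0) : V4) + β • (0, 1, 0, 0)) = (β * α, 1, 0, 0) by
        simp [(by decide : ∀ b : ZMod 3, b ≠ 0 → b * b = 1) β hβ]] at this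
      exact this.eq
  refine F.bot_of_pair K hK (a := (1, 0, 0, 0)) (b := (0, 0, 0, 1)) (by decide) hn fun α β h0 => ?_
  by_cases hαβ : α = 0 ∨ β = 0
  · refine pt hK hn _ ?_ ?_
    · rcases hαβ with rfl | rfl <;> simp [qJ]
    · intro h
      exact h0 (Prod.ext (by simpa using congrArg (fun v : V4 => v.1) h) (by simpa using congrArg (fun v : V4 => v.2.2.2) h))
  · push Not at hαβ
    refine le_antisymm ?_ bot_le
    rw [← second (α * β) (mul_ne_zero hαβ.1 hαβ.2)]
    intro g hg
    simp only [Subgroup.mem_inf, Subgroup.mem_centralizer_singleton_iff] at hg ⊢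
    refine ⟨hg.1, ?_⟩
    have := F.commute_smul (x := g) (show Commute g _ from hg.2) α
    rw [show α • (α • ((1, 0, 0, 0) : V4) + β • (0, 0, 0, 1)) = (1, 0, 0, α * β) by
      simp [(by decide : ∀ b : ZMod 3, b ≠ 0 → b * b = 1) α hαβ.1]] at this
    exact this.eq

end Setting.Base

end CfsgLib.U6Three
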