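import Cfsg.Agent.Lib.U6Three.Flip
import Cfsg.Agent.Lib.U6Three.Signal
import Cfsg.Agent.Lib.U6Three.Free

/-!
The axis: the subgroup of the centraliser of the coordinates fixed by the flip and by a translation of the second
block, and the centraliser it has in the centraliser of the central element.
-/

set_option autoImplicit false
set_option linter.style.haveILetI false

namespace CfsgLib.U6Three

universe u

theorem sl_Q8U : ∀ g : SL23, ∃ R : SL23, R * R * (R * R) = 1 ∧ ∃ b : ZMod 3, g = R * mU ^ b.val := by decide +kernel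

theorem nine_second : ∀ A : SL23, (A = 1 ∨ A = mU ∨ A = mU * mU) → app2 A (0, 1) = (0, 1) → A = 1 := by decide +kernel

/-- The translation of the second block. -/
def wb2 : W4 := ((0, 0), (0, 1))

theorem om_b2 : ∀ c : W4, InA c → om c wb2 = 0 → c = av c.1.1 0 := by decide +kernel

theorem pow_pred : ∀ a : ZMod 3, (mU ^ a.val = 1 → a = 0) ∧ ((mU ^ a.val) * mU * (mU ^ a.val)⁻¹ = mU) := by
  decide +kernel

theorem pure_fix_iff : ∀ v : W4, appP ((mU, 1) : Pr) v = v ↔ v.1.2 = 0 := by decide +kernel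

theorem nine_fix_second : ∀ m : ZMod 3, ∀ v : V2, app2 (1 : SL23) v = v ∧ app2 (mU ^ m.val) (0, 0) = (0, 0) := by
  decide +kernel

namespace Setting

variable {G : Type u} [Group G] (D : Setting G)

/-- Some element acts as a transvection on one block alone. -/
def caseB : Prop := ∃ s, D.Acts s (mU, 1)

variable {D}

/-- Elements centralising the first coordinate vector. -/
def InC (D : Setting G) (x : G) : Prop :=
  ∃ u s p, x = D.q u * s ∧ D.Acts s p ∧ (p.1 = 1 ∨ p.1 = mU ∨ p.1 = mU * mU) ∧ u.1.2 = 0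

theorem inC_of {x : G} (hz : Commute x D.z) (ha : Commute x (D.q (av 1 0))) : D.InC x := by
  obtain ⟨u, s, p, e, hs | hs⟩ := D.cases_H hz
  · have e' : x = D.zz 0 * (D.q u * s) := by rw [D.zz_zero, one_mul, e]
    obtain ⟨h1, h2⟩ := (D.comm_q_iff hs _).mp (e' ▸ ha)
    exact ⟨u, s, p, e, hs, sl_fix_vec p.1 (congrArg Prod.fst h1),
      (by decide +kernel : ∀ u : W4, om u (av 1 0) = 0 → u.1.2 = 0) u h2⟩
  · exfalso
    have h1 : D.zz 0 * D.q (av 1 0) = D.zz (om u (appP p (swapW (av 1 0)))) * D.q (appP p (swapW (av 1 0))) := by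
      rw [D.zz_zero, one_mul, ← D.q_conj, ← hs.2]
      calc D.q (av 1 0) = x * D.q (av 1 0) * x⁻¹ := by rw [ha.eq]; group
        _ = _ := by rw [e]; group
    exact (by decide +kernel : ∀ A : SL23, app2 A (0, 0) ≠ (1, 0)) p.1 (congrArg Prod.fst (D.el_inj h1).2).symm

variable (D) in
theorem conj_zz_symm {h : G} (hh : Commute h D.z) (k : ZMod 3) : D.zz k * h * (D.zz k)⁻¹ = h := by
  rw [← (D.zz_comm hh k).eq, mul_inv_cancel_right]

namespace Base

variable (F : D.Base) [Finite G]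

/-- The chosen flip. -/
noncomputable def τ : G := F.exists_flip.choose

theorem τ_flip : F.IsFlip F.τ := F.exists_flip.choose_spec

/-- The axis. -/
noncomputable def P : Subgroup G := F.U ⊓ Subgroup.centralizer ({F.τ, D.q wb2} : Set G)

theorem mem_P {x : G} : x ∈ F.P ↔ x ∈ F.U ∧ Commute x F.τ ∧ Commute x (D.q wb2) := by
  simp only [P, Subgroup.mem_inf, Subgroup.mem_centralizer_iff]
  refine and_congr_right fun _ => ⟨fun h => ⟨(h _ (by simp)).symm, (h _ (by simp)).symm⟩, ?_⟩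
  rintro ⟨h1, h2⟩ y (rfl | rfl)
  exacts [h1.symm, h2.symm]

theorem τ_q (i : ZMod 3) : Commute F.τ (D.q (av i 0)) := by
  have := F.τ_flip.act (0, i, 0, 0)
  simp only [neg_zero] at this
  rw [F.jel_q] at this
  exact mul_inv_eq_iff_eq_mul.mp this

theorem a_mem_P (i : ZMod 3) : D.q (av i 0) ∈ F.P :=
  F.mem_P.mpr ⟨F.jel_q i 0 ▸ F.jel_mem_U _, (F.τ_q i).symm,
    D.q_comm.mpr ((by decide +kernel : ∀ i, om (av i 0) wb2 = 0) i)⟩

theorem acts_mem_U {s : G} {p : Pr} (hs : D.Acts s p) (hp : Nine p) : s ∈ F.U :=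
  F.mem_U_iff.mpr ⟨0, s, p, by decide, hs, hp, by rw [D.q_zero, one_mul]⟩

theorem exists_fixed_lift (h : D.caseB) : ∃ s, D.Acts s (mU, 1) ∧ Commute s F.τ := by
  obtain ⟨s, hs⟩ := h
  have hT := F.τ_flip
  have hsU : s ∈ F.U := F.acts_mem_U hs ⟨Or.inr (Or.inl rfl), Or.inl rfl⟩
  obtain ⟨⟨k, i, l, j⟩, hδ⟩ := hT.triv s hsU
  have hi1 : Commute D.i1 s := by
    have h := hs.conj D.i1_block.acts
    rw [show ((-1, 1) : Pr) * (mU, 1) * ((-1, 1) : Pr)⁻¹ = (mU, 1) from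
      Prod.ext (pm_central mU).1 (pm_central 1).2.1] at h
    have h2 := hs.inv.mul h
    rw [inv_mul_cancel] at h2
    obtain ⟨m, hm⟩ := h2.trivial
    have e : D.i1 * s * D.i1⁻¹ = s * D.zz m := by rw [← hm]; group
    have e2 : s = s * D.zz (m + m) := by
      calc s = D.i1 * D.i1 * s * (D.i1 * D.i1)⁻¹ := by rw [D.i1_block.sq]; group
        _ = D.i1 * (D.i1 * s * D.i1⁻¹) * D.i1⁻¹ := by group
        _ = D.i1 * (s * D.zz m) * D.i1⁻¹ := by rw [e]
        _ = D.i1 * s * D.i1⁻¹ * (D.i1 * D.zz m * D.i1⁻¹) := by group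
        _ = _ := by rw [e, D.conj_zz D.i1_block.acts.1.cz, mul_assoc, ← D.zz_add]
    have hm0 : m = 0 := (by decide : ∀ m : ZMod 3, m + m = 0 → m = 0) m (D.zz_inj (by
      rw [D.zz_zero]; exact mul_eq_left.mp e2.symm))
    rw [hm0, D.zz_zero, mul_one, mul_inv_eq_iff_eq_mul] at e
    exact e
  have hδi : Commute D.i1 (F.jel (k, i, l, j)) :=
    hδ ▸ ((hT.ci.symm.mul_right hi1).mul_right hT.ci.symm.inv_right).mul_right hi1.inv_right
  have hδt : Commute D.t (F.jel (k, i, l, j)) :=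
    hδ ▸ ((hT.ct.symm.mul_right hs.1.ct.symm).mul_right hT.ct.symm.inv_right).mul_right hs.1.ct.symm.inv_right
  have hi : i = 0 := by
    have h1 := F.conj_jel_i1 (k, i, l, j)
    rw [hδi.eq, mul_inv_cancel_right] at h1
    have := congrArg (fun v : V4 => v.2.1) (F.jel_inj h1)
    exact (by decide : ∀ i : ZMod 3, i = -i → i = 0) i this
  subst hi
  have hl : l = 0 := by
    have h2 : F.jel (k, 0, l, j) = D.zz k * (D.q (av 0 l) * F.y ^ j.val) := mul_assoc _ _ _
    have := D.t_fix (k := k) (u := av 0 l) (s := F.y ^ j.val) ⟨F.y_z.pow_left _, F.y_t.pow_left _⟩ (h2 ▸ hδt.symm)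
    exact (av_inj 0 l 0 0 (this.trans rfl)).2
  subst hl
  have eT : F.τ * s * F.τ⁻¹ = F.jel (k, 0, 0, j) * s := by rw [← hδ]; group
  have hTT : F.τ * F.τ ∈ F.U := F.fix_J_mem_U fun w => by
    refine mul_inv_eq_iff_eq_mul.mp ?_
    calc F.τ * F.τ * F.jel w * (F.τ * F.τ)⁻¹ = F.τ * (F.τ * F.jel w * F.τ⁻¹) * F.τ⁻¹ := by group
      _ = _ := by rw [hT.act, hT.act]; simp
  have e2 : F.jel (k + -j, 0, 0, j + -k) * s = s := by
    calc F.jel (k + -j, 0, 0, j + -k) * s = F.τ * (F.τ * s * F.τ⁻¹) * F.τ⁻¹ := by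
          rw [eT, show F.τ * (F.jel (k, 0, 0, j) * s) * F.τ⁻¹ = (F.τ * F.jel (k, 0, 0, j) * F.τ⁻¹) * (F.τ * s * F.τ⁻¹) by group,
            hT.act, eT, ← mul_assoc, ← F.jel_add]
          simp [add_comm]
      _ = F.τ * F.τ * s * (F.τ * F.τ)⁻¹ := by group
      _ = s := by rw [(F.U_comm hTT hsU).eq, mul_inv_cancel_right]
  have hkj : k = j := by
    have h3 : F.jel (k + -j, 0, 0, j + -k) = F.jel 0 := by
      rw [F.jel_zero]; exact mul_eq_right.mp e2
    have := congrArg Prod.fst (F.jel_inj h3)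
    exact add_neg_eq_zero.mp this
  subst hkj
  refine ⟨s * D.zz k, ?_, ?_⟩
  · have := hs.mul (acts_zz (D := D) k)
    rwa [mul_one] at this
  · refine Eq.symm ?_
    refine mul_inv_eq_iff_eq_mul.mp ?_
    rw [show F.τ * (s * D.zz k) * F.τ⁻¹ = (F.τ * s * F.τ⁻¹) * (F.τ * D.zz k * F.τ⁻¹) by group, eT, ← F.jel_zpow k, hT.act,
      (F.U_comm (F.jel_mem_U (k, 0, 0, k)) hsU).eq, mul_assoc, ← F.jel_add]
    simp

open Classical in
/-- The chosen lift. -/
noncomputable def s0 : G := if h : D.caseB then (F.exists_fixed_lift h).choose else 1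

theorem s0_acts (h : D.caseB) : D.Acts F.s0 (mU, 1) := by
  rw [s0, dif_pos h]; exact (F.exists_fixed_lift h).choose_spec.1

theorem s0_one (h : ¬ D.caseB) : F.s0 = 1 := by rw [s0, dif_neg h]

theorem s0_nine : ∃ p, D.Acts F.s0 p ∧ Nine p ∧ p.2 = 1 := by
  by_cases h : D.caseB
  · exact ⟨_, F.s0_acts h, ⟨Or.inr (Or.inl rfl), Or.inl rfl⟩, rfl⟩
  · exact ⟨1, F.s0_one h ▸ acts_one, ⟨Or.inl rfl, Or.inl rfl⟩, rfl⟩

theorem s0_mem_P : F.s0 ∈ F.P := by
  obtain ⟨p, hp, hn, h2⟩ := F.s0_nine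
  refine F.mem_P.mpr ⟨F.acts_mem_U hp hn, ?_, hp.comm_q ?_⟩
  · by_cases h : D.caseB
    · rw [s0, dif_pos h]; exact (F.exists_fixed_lift h).choose_spec.2
    · rw [F.s0_one h]; exact Commute.one_left _
  · refine Prod.ext ?_ (by show app2 p.2 _ = _; rw [h2, app2_one])
    obtain ⟨a, ha⟩ := nine_pow _ hn.1
    show app2 p.1 (0, 0) = (0, 0)
    rw [ha]; exact ((nine_fix_second a) (0, 0)).2

/-- A power of the lift with prescribed action. -/
theorem s0_pow {s : G} {a : ZMod 3} (hs : D.Acts s (mU ^ a.val, 1)) : ∃ k m : ZMod 3, s = D.zz k * F.s0 ^ m.val := by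
  by_cases h : D.caseB
  · obtain ⟨r, hr, -⟩ := Acts.of_three (D := D) (a := F.s0 ^ a.val)
      ⟨(F.s0_acts h).1.cz.pow_left _, (F.s0_acts h).1.ct.pow_left _⟩
      (by rw [← pow_mul, mul_comm, pow_mul, F.U_cube (F.mem_P.mp F.s0_mem_P).1, one_pow])
    obtain rfl := hr.ma.unique ((F.s0_acts h).ma.pow a.val)
    have h1 := hs.mul hr.inv
    rw [show ((mU ^ a.val, 1) : Pr) * (((mU, 1) : Pr) ^ a.val)⁻¹ = 1 from Prod.ext (by simp) (by simp)] at h1
    obtain ⟨k, hk⟩ := h1.trivial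
    exact ⟨k, a, mul_inv_eq_iff_eq_mul.mp hk⟩
  · have : a = 0 := by
      by_contra ha
      have h2 := hs.mul hs
      rcases (by decide : ∀ a : ZMod 3, a ≠ 0 → a = 1 ∨ a = 2) a ha with rfl | rfl
      · exact h ⟨s, by rwa [show (1 : ZMod 3).val = 1 from rfl, pow_one] at hs⟩
      · refine h ⟨s * s, ?_⟩
        rwa [show ((mU ^ (2 : ZMod 3).val, 1) : Pr) * (mU ^ (2 : ZMod 3).val, 1) = (mU, 1) by decide +kernel] at h2
    subst this
    rw [ZMod.val_zero, pow_zero] at hs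
    obtain ⟨k, hk⟩ := Acts.trivial (D := D) (s := s) hs
    exact ⟨k, 0, by rw [hk, ZMod.val_zero, pow_zero, mul_one]⟩

/-- The elements of the axis. -/
theorem P_cases {x : G} (hx : x ∈ F.P) : ∃ i m : ZMod 3, x = D.q (av i 0) * F.s0 ^ m.val := by
  obtain ⟨hU, hτ, hb⟩ := F.mem_P.mp hx
  obtain ⟨c, s, p, hc, hs, hn, e⟩ := F.mem_U_iff.mp hU
  have e' : x = D.zz 0 * (D.q c * s) := by rw [D.zz_zero, one_mul, e]
  obtain ⟨h1, h2⟩ := (D.comm_q_iff hs _).mp (e' ▸ hb)
  have hc' := om_b2 c hc h2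
  have hp2 := nine_second p.2 hn.2 (congrArg Prod.snd h1)
  obtain ⟨a, ha⟩ := nine_pow _ hn.1
  rw [show p = (mU ^ a.val, 1) from Prod.ext ha hp2] at hs
  obtain ⟨k, m, hk⟩ := F.s0_pow hs
  refine ⟨c.1.1, m, ?_⟩
  have hk0 : k = 0 := by
    have hd : Commute (D.zz k) F.τ := by
      have h3 : D.zz k = (D.q (av c.1.1 0))⁻¹ * x * (F.s0 ^ m.val)⁻¹ := by
        rw [e, hk, ← hc']; group
      rw [h3]
      exact (((F.τ_q _).symm.inv_left).mul_left hτ).mul_left ((F.mem_P.mp F.s0_mem_P).2.1.pow_left _).inv_left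
    have h4 := F.τ_flip.act (k, 0, 0, 0)
    rw [F.jel_zpow, hd.symm.eq, mul_inv_cancel_right, ← F.jel_zpow] at h4
    simpa using congrArg Prod.fst (F.jel_inj h4)
  rw [e, hk, hk0, D.zz_zero, one_mul, ← hc']

/-- The axis has no points. -/
theorem P_no_pt {x : G} (hx : x ∈ F.P) : ¬ D.IsPt x := by
  intro hp
  obtain ⟨i, m, e⟩ := F.P_cases hx
  obtain ⟨⟨k, i', l', j⟩, hq, hne, ev⟩ := (F.pt_iff (F.mem_P.mp hx).1).mp hp
  obtain ⟨p, hp0, -, hp2⟩ := F.s0_nine
  have h1 := (ma_of_Q (D := D) (D.q_mem (av i 0))).mul (hp0.ma.pow m.val)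
  rw [← e, one_mul, ev] at h1
  have h2 : D.MA (F.jel (k, i', l', j)) (((mU, mU) : Pr) ^ j.val) := by
    have := (ma_of_Q (D := D) (mul_mem (D.zz_mem k) (D.q_mem (av i' l')))).mul (F.y_ma j)
    rwa [one_mul] at this
  have hj : j = 0 := (pow_pred j).1 (by simpa [hp2] using congrArg Prod.snd (h2.unique h1))
  subst hj
  obtain ⟨rfl, rfl, hk⟩ := qJ_Q (k, i', l', 0) rfl hq hne
  have h4 := F.τ_flip.act (k, 0, 0, 0)
  rw [← ev, (F.mem_P.mp hx).2.1.symm.eq, mul_inv_cancel_right, ev] at h4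
  exact hk (by simpa using congrArg Prod.fst (F.jel_inj h4))

theorem inC_comm_P {x : G} (hx : D.InC x) {π : G} (hπ : π ∈ F.P) : Commute x π := by
  obtain ⟨u, s, p, e, hs, hp1, hu⟩ := hx
  obtain ⟨a, ha⟩ := nine_pow _ hp1
  have hfix : ∀ i : ZMod 3, appP p (av i 0) = av i 0 := fun i => by
    refine Prod.ext ?_ ((by decide +kernel : ∀ A : SL23, app2 A (0, 0) = (0, 0)) p.2)
    show app2 p.1 (i, 0) = (i, 0)
    exact (by decide +kernel : ∀ A : SL23, (A = 1 ∨ A = mU ∨ A = mU * mU) → ∀ i : ZMod 3, app2 A (i, 0) = (i, 0)) _ hp1 i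
  have hq : ∀ i : ZMod 3, Commute x (D.q (av i 0)) := fun i => by
    rw [e]
    refine (D.q_comm.mpr ?_).mul_left (hs.comm_q (hfix i))
    exact (by decide +kernel : ∀ u : W4, u.1.2 = 0 → ∀ i, om u (av i 0) = 0) u hu i
  have hs0 : Commute x F.s0 := by
    by_cases h : D.caseB
    swap
    · rw [F.s0_one h]; exact Commute.one_right _
    have h0 := F.s0_acts h
    obtain ⟨R, hR, b, hb⟩ := sl_Q8U p.2
    obtain ⟨r, hr⟩ := D.acts_lift (1, R) (by simp) hR
    have hrs : Commute r F.s0 := by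
      have h1 := (h0.conj hr).mul h0.inv
      rw [show ((1, R) : Pr) * (mU, 1) * ((1, R) : Pr)⁻¹ = (mU, 1) from Prod.ext (by simp) (by simp),
        mul_inv_cancel] at h1
      obtain ⟨m, hm⟩ := h1.trivial
      have e1 : r * F.s0 * r⁻¹ = D.zz m * F.s0 := mul_inv_eq_iff_eq_mul.mp hm
      have h4 : ∀ n : ℕ, r ^ n * F.s0 * (r ^ n)⁻¹ = D.zz ((n : ZMod 3) * m) * F.s0 := by
        intro n
        induction n with
        | zero => simp [D.zz_zero]
        | succ n ih =>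
          rw [pow_succ', show r * r ^ n * F.s0 * (r * r ^ n)⁻¹ = r * (r ^ n * F.s0 * (r ^ n)⁻¹) * r⁻¹ by group, ih,
            show r * (D.zz ((n : ZMod 3) * m) * F.s0) * r⁻¹ = (r * D.zz ((n : ZMod 3) * m) * r⁻¹) * (r * F.s0 * r⁻¹) by
              group, D.conj_zz hr.1.cz, e1, ← mul_assoc, ← D.zz_add]
          congr 2
          push_cast; ring
      have h5 : D.Acts (r * r * (r * r)) 1 := by
        have := (hr.mul hr).mul (hr.mul hr)
        rwa [show ((1, R) : Pr) * (1, R) * ((1, R) * (1, R)) = 1 from Prod.ext (by simp) (by simpa using hR)] at this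
      obtain ⟨n, hn⟩ := h5.trivial
      have h6 := h4 4
      rw [show r ^ 4 = r * r * (r * r) by rw [show 4 = 2 + 2 from rfl, pow_add, pow_two], hn,
        D.conj_zz_symm h0.1.cz] at h6
      have hm0 : m = 0 := by
        have h7 : D.zz (((4 : ℕ) : ZMod 3) * m) = 1 := mul_eq_right.mp h6.symm
        have := D.zz_inj (h7.trans D.zz_zero.symm)
        exact (by decide : ∀ m : ZMod 3, ((4 : ℕ) : ZMod 3) * m = 0 → m = 0) m this
      rw [hm0, D.zz_zero, one_mul, mul_inv_eq_iff_eq_mul] at e1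
      exact e1
    have hrest : Commute (r⁻¹ * s) F.s0 := by
      have h1 := hr.inv.mul hs
      refine F.nine_comm h1 ?_ h0 ⟨Or.inr (Or.inl rfl), Or.inl rfl⟩
      refine ⟨?_, ?_⟩
      · simpa using hp1
      · simp only [Prod.snd_mul, Prod.snd_inv, hb, inv_mul_cancel_left]
        exact (by decide +kernel : ∀ b : ZMod 3, mU ^ b.val = 1 ∨ mU ^ b.val = mU ∨ mU ^ b.val = mU * mU) b
    have hsc : Commute s F.s0 := by simpa using hrs.mul_left hrest
    rw [e]
    exact (h0.comm_q ((pure_fix_iff u).mpr hu)).symm.mul_left hsc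
  obtain ⟨i, m, rfl⟩ := F.P_cases hπ
  exact (hq i).mul_right (hs0.pow_right _)

theorem P_comm_z {π : G} (hπ : π ∈ F.P) : Commute π D.z := F.U_z (F.mem_P.mp hπ).1

end Base

end Setting

end CfsgLib.U6Three
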