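import Cfsg.Agent.Lib.TransferOrbit

/-!
The transfer of an involution is the product over the fixed cosets.
-/

set_option autoImplicit false

namespace CfsgLib.U6Three

open CfsgLib.TransferOrbit

variable {G : Type*} [Group G] [Finite G] {C : Subgroup G} {A : Type*} [CommGroup A] (χ : C →* A)

theorem cval_one (q : G ⧸ C) : cval χ 1 q = 1 := by
  have := cval_mul χ 1 1 q
  rw [one_smul, mul_one, left_eq_mul] at this
  exact this

open Classical in
theorem transfer_invol [Fintype (G ⧸ C)] {x : G} (hx : x * x = 1) :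
    MonoidHom.transfer χ x = ∏ q ∈ Finset.univ.filter (fun q : G ⧸ C => x • q = q), cval χ x q := by
  rw [transfer_eq_prod, ← Finset.prod_filter_mul_prod_filter_not Finset.univ (fun q : G ⧸ C => x • q = q)]
  refine mul_eq_left.mpr (Finset.prod_involution (fun q _ => x • q) ?_ ?_ ?_ ?_)
  · intro q _
    rw [mul_comm, ← cval_mul, hx, cval_one]
  · intro q hq _
    exact (Finset.mem_filter.mp hq).2
  · intro q hq
    refine Finset.mem_filter.mpr ⟨Finset.mem_univ _, fun h => (Finset.mem_filter.mp hq).2 ?_⟩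
    have := congrArg (x • ·) h
    simpa [smul_smul, hx] using this
  · intro q _
    rw [smul_smul, hx, one_smul]

/-- The fixed cosets of the element give conjugates in the subgroup. -/
theorem cval_fixed {x : G} {q : G ⧸ C} (h : x • q = q) :
    ∃ hm : q.out⁻¹ * x * q.out ∈ C, cval χ x q = χ ⟨_, hm⟩ := by
  have hm : q.out⁻¹ * x * q.out ∈ C := by
    rw [mul_assoc, ← QuotientGroup.eq, QuotientGroup.out_eq']
    conv_lhs => rw [← h, ← QuotientGroup.out_eq' q]
    rfl
  refine ⟨hm, ?_⟩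
  have := cval_eq χ (g := x) (x := q.out) (by rw [QuotientGroup.out_eq']; exact h) hm
  rwa [QuotientGroup.out_eq'] at this

/-- Trivial at every conjugate in the subgroup. -/
theorem transfer_invol_one [Fintype (G ⧸ C)] {x : G} (hx : x * x = 1)
    (h : ∀ g : G, ∀ hm : g⁻¹ * x * g ∈ C, χ ⟨_, hm⟩ = 1) : MonoidHom.transfer χ x = 1 := by
  classical
  rw [transfer_invol χ hx]
  refine Finset.prod_eq_one fun q hq => ?_
  obtain ⟨hm, e⟩ := cval_fixed χ (Finset.mem_filter.mp hq).2
  rw [e, h _ hm]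

/-- Two rules agreeing at every conjugate in the subgroup. -/
theorem transfer_invol_congr [Fintype (G ⧸ C)] (χ' : C →* A) {x : G} (hx : x * x = 1)
    (h : ∀ g : G, ∀ hm : g⁻¹ * x * g ∈ C, χ ⟨_, hm⟩ = χ' ⟨_, hm⟩) :
    MonoidHom.transfer χ x = MonoidHom.transfer χ' x := by
  classical
  rw [transfer_invol χ hx, transfer_invol χ' hx]
  refine Finset.prod_congr rfl fun q hq => ?_
  obtain ⟨hm, e⟩ := cval_fixed χ (Finset.mem_filter.mp hq).2
  obtain ⟨_, e'⟩ := cval_fixed χ' (Finset.mem_filter.mp hq).2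
  rw [e, e', h _ hm]

/-- Nontrivial at one coset only. -/
theorem transfer_invol_single [Fintype (G ⧸ C)] {x : G} (hx : x * x = 1) (hxC : x ∈ C)
    (h : ∀ g : G, ∀ hm : g⁻¹ * x * g ∈ C, g ∉ C → χ ⟨_, hm⟩ = 1) : MonoidHom.transfer χ x = χ ⟨x, hxC⟩ := by
  classical
  have h1 : x • ((1 : G) : G ⧸ C) = ((1 : G) : G ⧸ C) := by
    rw [MulAction.Quotient.smul_coe, smul_eq_mul, mul_one, QuotientGroup.eq]
    simpa using hxC
  rw [transfer_invol χ hx, Finset.prod_eq_single ((1 : G) : G ⧸ C)]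
  · rw [cval_eq χ h1 (by simpa using hxC)]
    exact congrArg χ (Subtype.ext (by simp))
  · intro q hq hne
    obtain ⟨hm, e⟩ := cval_fixed χ (Finset.mem_filter.mp hq).2
    rw [e, h _ hm fun hC => hne ?_]
    rw [← QuotientGroup.out_eq' q, QuotientGroup.eq]
    simpa using hC
  · intro hn
    exact (hn (Finset.mem_filter.mpr ⟨Finset.mem_univ _, h1⟩)).elim

end CfsgLib.U6Three
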