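import Cfsg.Agent.Lib.U6Three.CentA2Inv
import Cfsg.Agent.Lib.U6Three.InvolTransfer

/-!
The centraliser of the second vector and the block involution normalises the product of the two quaternion groups.
-/

set_option autoImplicit false
set_option linter.style.haveILetI false

namespace CfsgLib.U6Three

universe u

open CfsgLib.TransferOrbit in
theorem transfer_invol_const {G : Type*} [Group G] [Finite G] {C : Subgroup G} {A : Type*} [CommGroup A]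
    (χ : C →* A) [Fintype (G ⧸ C)] {x : G} (hx : x * x = 1) {a : A} (ha : a * a = 1) (hodd : Odd C.index)
    (h : ∀ g : G, ∀ hm : g⁻¹ * x * g ∈ C, χ ⟨_, hm⟩ = a) : MonoidHom.transfer χ x = a := by
  classical
  rw [transfer_invol χ hx, Finset.prod_congr rfl (g := fun _ => a) (fun q hq => by
    obtain ⟨hm, e⟩ := cval_fixed χ (Finset.mem_filter.mp hq).2
    rw [e, h _ hm])]
  have h1 := Finset.prod_filter_mul_prod_filter_not (M := A) Finset.univ (fun q : G ⧸ C => x • q = q) (fun _ => a)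
  have h2 : ∏ _q ∈ Finset.univ.filter (fun q : G ⧸ C => ¬ x • q = q), a = 1 := by
    refine Finset.prod_involution (fun q _ => x • q) (fun _ _ => ha) (fun q hq _ => (Finset.mem_filter.mp hq).2) ?_ ?_
    · intro q hq
      refine Finset.mem_filter.mpr ⟨Finset.mem_univ _, fun h => (Finset.mem_filter.mp hq).2 ?_⟩
      have := congrArg (x • ·) h
      simpa [smul_smul, hx] using this
    · intro q _
      rw [smul_smul, hx, one_smul]
  rw [h2, mul_one] at h1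
  rw [h1, Finset.prod_const, Finset.card_univ, ← Nat.card_eq_fintype_card]
  obtain ⟨k, hk⟩ := hodd
  rw [show Nat.card (G ⧸ C) = 2 * k + 1 from hk, pow_succ, pow_mul, pow_two, ha, one_pow, one_mul]

theorem sign_two : ∀ a : Multiplicative (ZMod 2), a * a = 1 := by decide

namespace Setting.Base

variable {G : Type u} [Group G] {D : Setting G} (F : D.Base) [Finite G]

theorem norm_of_conj {H : Subgroup G} {x : G} (h : ∀ w ∈ H, x * w * x⁻¹ ∈ H) :
    x ∈ Subgroup.normalizer (H : Set G) := by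
  intro w
  refine ⟨h w, fun hw => ?_⟩
  let f : H → H := fun a => ⟨x * a * x⁻¹, h a a.2⟩
  obtain ⟨a, ha⟩ := ((Finite.injective_iff_surjective (f := f)).1 fun a b e => Subtype.ext (by
    have := congrArg Subtype.val e
    simpa [f] using this)) ⟨_, hw⟩
  have h2 : x * (a : G) * x⁻¹ = x * w * x⁻¹ := congrArg Subtype.val ha
  have : (a : G) = w := mul_left_cancel (mul_right_cancel h2)
  exact this ▸ a.2

theorem conj_mem_N0_of_invol (hB : D.caseB) {x : G} (hx : x ∈ Mc (D := D))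
    (h : ∀ w ∈ F.N0, w * w = 1 → x * w * x⁻¹ ∈ F.G0) : x ∈ F.G0 := by
  refine F.norm_N0 hB hx (norm_of_conj ?_)
  have : F.N0 ≤ F.N0.comap (MulAut.conj x).toMonoidHom :=
    F.N0_le_of_invol fun w hw hw2 => F.fundamental hB hw hw2 hx (h w hw hw2)
  exact fun w hw => this hw

theorem index_odd (hB : D.caseB) : Odd (F.G0.subgroupOf (Mc (D := D))).index := by
  classical
  haveI : Fact (Nat.Prime 2) := ⟨Nat.prime_two⟩
  obtain ⟨Q⟩ : Nonempty (Sylow 2 F.G0) := inferInstance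
  set S := (Q : Subgroup F.G0).map F.G0.subtype with hS
  have hN0S : F.N0 ≤ S := by
    haveI hn : (F.N0.subgroupOf F.G0).Normal := ⟨fun w hw g => ((F.G0_norm_N0 g.2) _).mp hw⟩
    have hp : IsPGroup 2 (F.N0.subgroupOf F.G0) := fun w =>
      ⟨2, Subtype.ext (Subtype.ext (by simpa using F.N0_four w.2))⟩
    have h1 := Q.3 (Q.2.to_sup_of_normal_right hp) le_sup_left
    intro w hw
    exact ⟨⟨w, F.N0_le_G0 hw⟩, h1.le (Subgroup.mem_sup_right hw), rfl⟩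
  have hSM : S ≤ Mc (D := D) := (Subgroup.map_subtype_le _).trans F.G0_le_Mc
  obtain ⟨Q2, hQ2⟩ := ((Q.2.map F.G0.subtype).comap_of_injective (Mc (D := D)).subtype
    (Mc (D := D)).subtype_injective).exists_le_sylow
  set P := (Q2 : Subgroup (Mc (D := D))).map (Mc (D := D)).subtype with hP
  have hSP : S ≤ P := fun w hw => ⟨⟨w, hSM hw⟩, hQ2 hw, rfl⟩
  have hPG : P ≤ S := by
    refine le_of_grow (Q2.2.map _) hSP fun x hx hn => ?_
    have hxM : x ∈ Mc (D := D) := Subgroup.map_subtype_le _ hx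
    have hxG : x ∈ F.G0 := F.conj_mem_N0_of_invol hB hxM fun w hw _ =>
      Subgroup.map_subtype_le _ (hn w (hN0S hw))
    have h1 := Q.3 (Q := P.subgroupOf F.G0) ((Q2.2.map _).comap_of_injective F.G0.subtype F.G0.subtype_injective)
      (fun w hw => hSP ⟨w, hw, rfl⟩)
    exact ⟨⟨x, hxG⟩, h1.le (show ((⟨x, hxG⟩ : F.G0) : G) ∈ P from hx), rfl⟩
  have hdvd : (F.G0.subgroupOf (Mc (D := D))).index ∣ (Q2 : Subgroup (Mc (D := D))).index :=
    Subgroup.index_dvd_of_le fun w hw => (Subgroup.map_subtype_le (Q : Subgroup F.G0) (hPG ⟨w, hw, rfl⟩) : (w : G) ∈ F.G0)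
  rw [← Nat.not_even_iff_odd, even_iff_two_dvd]
  exact fun h => Q2.not_dvd_index (h.trans hdvd)

/-- The extended product inside the centraliser. -/
noncomputable def G0sub : Subgroup (Mc (D := D)) := F.G0.subgroupOf (Mc (D := D))

/-- The sign of a class. -/
noncomputable def gchi (l : Cls →+ ZMod 2) : F.G0sub →* Multiplicative (ZMod 2) :=
  MonoidHom.mk' (fun x => Multiplicative.ofAdd (l (F.gcls ⟨((x : Mc (D := D)) : G), x.2⟩))) fun a b => by
    rw [← ofAdd_add, ← map_add, ← F.gcls_mul]; rfl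

/-- The transferred sign. -/
noncomputable def gsgn (l : Cls →+ ZMod 2) : Mc (D := D) →* Multiplicative (ZMod 2) :=
  MonoidHom.transfer (F.gchi l)

theorem gchi_apply (l : Cls →+ ZMod 2) {x : F.G0sub} {v : F.G0} (h : ((x : Mc (D := D)) : G) = v) :
    F.gchi l x = Multiplicative.ofAdd (l (F.gcls v)) := by
  show Multiplicative.ofAdd (l (F.gcls ⟨((x : Mc (D := D)) : G), x.2⟩)) = _
  rw [show (⟨((x : Mc (D := D)) : G), x.2⟩ : F.G0) = v from Subtype.ext h]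

theorem gsgn_UM (l : Cls →+ ZMod 2) {x : Mc (D := D)} (hx : (x : G) ∈ F.UM) : F.gsgn l x = 1 :=
  sign_cube _ (by rw [← map_pow, show x ^ 3 = 1 from Subtype.ext (F.NT_cube hx), map_one])

theorem gsgn_N0 (hB : D.caseB) (l : Cls →+ ZMod 2) {x : Mc (D := D)} (hx : (x : G) ∈ F.N0) : F.gsgn l x = 1 := by
  classical
  haveI := Fintype.ofFinite (Mc (D := D) ⧸ F.G0sub)
  have key : F.N0 ≤ ((F.gsgn l).ker.map (Mc (D := D)).subtype) := by
    refine F.N0_le_of_invol fun w hw hw2 => ⟨⟨w, F.N0_le_Mc hw⟩, ?_, rfl⟩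
    refine MonoidHom.mem_ker.mpr (transfer_invol_one (F.gchi l) (Subtype.ext hw2) fun g hm => ?_)
    have hm' : (g : G)⁻¹ * w * g ∈ F.G0 := hm
    have h0 : (g : G)⁻¹ * w * g ∈ F.N0 := by
      have := F.fundamental hB hw hw2 (inv_mem g.2) (by rwa [inv_inv])
      rwa [inv_inv] at this
    rw [F.gchi_apply l (v := ⟨_, hm'⟩) rfl, F.gcls_N0 (g := ⟨_, hm'⟩) h0, map_zero]
    rfl
  obtain ⟨y, hy, e⟩ := key hx
  rw [show x = y from Subtype.ext e.symm]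
  exact hy

/-- The signs only depend on the class. -/
theorem gsgn_cls (hB : D.caseB) (l : Cls →+ ZMod 2) {x y : Mc (D := D)} (hx : (x : G) ∈ F.G0) (hy : (y : G) ∈ F.G0)
    (h : F.gcls ⟨x, hx⟩ = F.gcls ⟨y, hy⟩) : F.gsgn l x = F.gsgn l y := by
  have h0 : F.gcls (⟨x, hx⟩ * ⟨y, hy⟩) = 0 := by rw [F.gcls_mul, h, cls_double]
  obtain ⟨a, ha, n, hn, e⟩ := F.mem_G0 (mul_mem hx hy)
  have hz : F.ncls ⟨n, hn⟩ = 0 := by rw [← F.gcls_eq (g := ⟨x, hx⟩ * ⟨y, hy⟩) ha (n := ⟨n, hn⟩) e, h0]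
  have h1 : F.gsgn l (x * y) = 1 := by
    rw [show x * y = ⟨a, F.N0_le_Mc ha⟩ * ⟨n, hn.1⟩ from Subtype.ext e, map_mul,
      F.gsgn_N0 hB l (x := ⟨a, F.N0_le_Mc ha⟩) ha, one_mul]
    rcases F.ncls_zero_mem (n := ⟨n, hn⟩) hz with hu | hu
    · exact F.gsgn_UM l (x := ⟨n, hn.1⟩) hu
    · have hi : D.i1 ∈ F.N0 := F.R1_le_N0 i1_mem_R1
      rw [show (⟨n, hn.1⟩ : Mc (D := D)) = ⟨n * D.i1, F.UM_le_Mc hu⟩ * ⟨D.i1, F.N0_le_Mc hi⟩ from Subtype.ext (by
        show n = n * D.i1 * D.i1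
        rw [mul_assoc, D.i1_block.sq, mul_one]), map_mul, F.gsgn_UM l (x := ⟨n * D.i1, F.UM_le_Mc hu⟩) hu,
        F.gsgn_N0 hB l (x := ⟨D.i1, F.N0_le_Mc hi⟩) hi, one_mul]
  rw [map_mul] at h1
  exact (by decide : ∀ a b : Multiplicative (ZMod 2), a * b = 1 → a = b) _ _ h1

/-- The flip in the centraliser. -/
noncomputable def τM : Mc (D := D) := ⟨F.τ3, F.τ3_NT.1⟩

theorem gcls_τ3 : F.gcls ⟨F.τ3, F.NT_le_G0 F.τ3_NT⟩ = (1, 1) := (F.gcls_NT ⟨F.τ3, F.τ3_NT⟩).trans F.ncls_τ3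

theorem gsgn_τ3 (hB : D.caseB) (l : Cls →+ ZMod 2) : F.gsgn l F.τM = Multiplicative.ofAdd (l (1, 1)) := by
  classical
  haveI := Fintype.ofFinite (Mc (D := D) ⧸ F.G0sub)
  refine transfer_invol_const (F.gchi l) (Subtype.ext F.τ3_facts.1) (sign_two _) (F.index_odd hB) fun g hm => ?_
  have hm' : (g : G)⁻¹ * F.τ3 * g ∈ F.G0 := hm
  rw [F.gchi_apply l (v := ⟨_, hm'⟩) rfl, F.flip_stable hB (v := ⟨F.τ3, F.NT_le_G0 F.τ3_NT⟩) (w := ⟨_, hm'⟩)
    F.τ3_facts.1 F.gcls_τ3 (inv_mem g.2) (by show (g : G)⁻¹ * F.τ3 * (g : G)⁻¹⁻¹ = _; rw [inv_inv])]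

/-- An involution inverting both points has the second sign. -/
theorem gsgn_iota (hB : D.caseB) {x : Mc (D := D)} (hx : (x : G) ∈ F.G0) (h : F.gcls ⟨x, hx⟩ = (0, 1)) :
    F.gsgn l2 x = Multiplicative.ofAdd (1 : ZMod 2) := by
  classical
  haveI := Fintype.ofFinite (Mc (D := D) ⧸ F.G0sub)
  -- an involution of the same class
  obtain ⟨a, ha, n, hn, e⟩ := F.mem_G0 hx
  have hc : F.ncls ⟨n, hn⟩ = (0, 1) := by rw [← F.gcls_eq (g := ⟨x, hx⟩) ha (n := ⟨n, hn⟩) e, h]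
  obtain ⟨ι, hιN, hιF, hιc⟩ : ∃ ι : G, ∃ hT : ι ∈ F.NT, ι ∈ F.NF ∧ F.ncls ⟨ι, hT⟩ = (0, 1) := by
    rcases F.NT_adjust (x := ⟨n, hn⟩) with hq | hq
    · exact ⟨n, hn, ⟨mem_A12.mpr ⟨hq, (mem_Mc.mp hn.1).1⟩, F.NT_le_NU hn⟩, hc⟩
    · have hi : D.i1 ∈ F.NT := F.norm_UM_of_NJ (mem_Mc.mpr ⟨D.i1_block.fix rfl, Commute.refl _⟩) (F.mem_norm_J (by
        rintro _ ⟨v, rfl⟩; rw [F.conj_jel_i1]; exact F.jel_mem _))
      refine ⟨n * D.i1, mul_mem hn hi, ⟨mem_A12.mpr ⟨hq, (mem_Mc.mp (mul_mem hn.1 hi.1)).1⟩,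
        F.NT_le_NU (mul_mem hn hi)⟩, ?_⟩
      rw [show (⟨n * D.i1, mul_mem hn hi⟩ : F.NT) = ⟨n, hn⟩ * ⟨D.i1, hi⟩ from rfl, F.ncls_mul, hc,
        F.N0_NT_zero (n := ⟨D.i1, hi⟩) (F.R1_le_N0 i1_mem_R1), add_zero]
  set w : Mc (D := D) := ⟨ι, hιN.1⟩ ^ 3 with hw
  have hw2 : w * w = 1 := Subtype.ext (by
    show ι ^ 3 * ι ^ 3 = 1
    rw [← pow_add, show 3 + 3 = 2 * 3 from rfl, pow_mul, pow_two, F.U_cube (F.NF_sq hιF)])
  have hwG : (w : G) ∈ F.G0 := F.NT_le_G0 (pow_mem hιN 3)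
  have hwc : F.gcls ⟨w, hwG⟩ = (0, 1) := by
    refine (F.gcls_NT ⟨ι ^ 3, pow_mem hιN 3⟩).trans ?_
    rw [show (⟨ι ^ 3, pow_mem hιN 3⟩ : F.NT) = ⟨ι, hιN⟩ * ⟨ι, hιN⟩ * ⟨ι, hιN⟩ from Subtype.ext (pow_three' _),
      F.ncls_mul, F.ncls_mul, cls_triple, hιc]
  rw [F.gsgn_cls hB l2 hx hwG (h.trans hwc.symm)]
  refine transfer_invol_const (F.gchi l2) hw2 (sign_two _) (F.index_odd hB) fun g hm => ?_
  have hm' : (g : G)⁻¹ * w * g ∈ F.G0 := hm
  rw [F.gchi_apply l2 (v := ⟨_, hm'⟩) rfl]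
  set v : F.G0 := ⟨_, hm'⟩ with hv
  have hv2 : (v : G) * v = 1 := by
    show (g : G)⁻¹ * w * g * ((g : G)⁻¹ * w * g) = 1
    rw [show (g : G)⁻¹ * w * g * ((g : G)⁻¹ * w * g) = (g : G)⁻¹ * ((w * w : Mc (D := D)) : G) * g by
      rw [Subgroup.coe_mul]; group, hw2]
    simp
  have back : (g : G) * v * (g : G)⁻¹ = w := by
    show (g : G) * ((g : G)⁻¹ * w * g) * (g : G)⁻¹ = w
    group
  rcases cls_cases (F.gcls v) with e' | e' | e' | e'
  · exfalso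
    have h0 := F.invol_zero hv2 e'
    have := F.fundamental hB h0 hv2 g.2 (back ▸ hwG)
    rw [back] at this
    rw [F.gcls_N0 (g := ⟨w, hwG⟩) this] at hwc
    exact absurd hwc (by decide)
  · rw [e']; rfl
  · rw [e']; rfl
  · exfalso
    have := F.flip_stable hB (v := v) (w := ⟨w, hwG⟩) hv2 e' g.2 back
    rw [hwc] at this
    exact absurd this (by decide)

/-- Both signs vanish only in the trivial class. -/
theorem gsgn_ker (hB : D.caseB) {x : Mc (D := D)} (hx : (x : G) ∈ F.G0) (h1 : F.gsgn l1 x = 1)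
    (h2 : F.gsgn l2 x = 1) : F.gcls ⟨x, hx⟩ = 0 := by
  have hne : (Multiplicative.ofAdd (1 : ZMod 2)) ≠ 1 := by decide
  have hτG : ((F.τM : Mc (D := D)) : G) ∈ F.G0 := F.NT_le_G0 F.τ3_NT
  rcases cls_cases (F.gcls ⟨x, hx⟩) with e | e | e | e
  · exact e
  · exact absurd ((F.gsgn_iota hB hx e).symm.trans h2) hne
  · exfalso
    have hc : F.gcls ⟨_, mul_mem hx hτG⟩ = (0, 1) := by
      rw [show (⟨(x : G) * ((F.τM : Mc (D := D)) : G), mul_mem hx hτG⟩ : F.G0) = ⟨x, hx⟩ * ⟨F.τ3, F.NT_le_G0 F.τ3_NT⟩ from rfl,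
        F.gcls_mul, e, F.gcls_τ3]
      decide
    have := F.gsgn_iota hB (x := x * F.τM) (mul_mem hx hτG) hc
    rw [map_mul, h2, one_mul, F.gsgn_τ3 hB] at this
    exact absurd this (by decide)
  · exfalso
    have := F.gsgn_cls hB l1 hx hτG (e.trans F.gcls_τ3.symm)
    rw [h1, F.gsgn_τ3 hB] at this
    exact hne this.symm

/-- The kernel of both signs. -/
noncomputable def KM : Subgroup G := ((F.gsgn l1).ker ⊓ (F.gsgn l2).ker).map (Mc (D := D)).subtype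

theorem mem_KM {x : G} : x ∈ F.KM ↔ ∃ h : x ∈ Mc (D := D), F.gsgn l1 ⟨x, h⟩ = 1 ∧ F.gsgn l2 ⟨x, h⟩ = 1 := by
  constructor
  · rintro ⟨y, ⟨h1, h2⟩, rfl⟩; exact ⟨y.2, h1, h2⟩
  · rintro ⟨h, h1, h2⟩; exact ⟨⟨x, h⟩, ⟨h1, h2⟩, rfl⟩

theorem KM_le_G0 (hB : D.caseB) : F.KM ≤ F.G0 := by
  haveI : Fact (Nat.Prime 3) := ⟨Nat.prime_three⟩
  have hKM : F.KM ≤ Mc (D := D) := Subgroup.map_subtype_le _
  have hU : F.UM ≤ F.KM := fun x hx => F.mem_KM.mpr ⟨F.UM_le_Mc hx, F.gsgn_UM _ hx, F.gsgn_UM _ hx⟩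
  set T := F.sylUM F.KM hU hKM with hT
  have hnc : Subgroup.normalizer ((T : Subgroup F.KM) : Set F.KM) ≤
      Subgroup.centralizer ((T : Subgroup F.KM) : Set F.KM) := by
    intro a ha
    refine Subgroup.mem_centralizer_iff.mpr fun b hb => Subtype.ext ?_
    have haN : (a : G) ∈ F.NT := ⟨hKM a.2, norm_of_conj fun w hw =>
      F.mem_sylUM.mp ((ha ⟨w, hU hw⟩).mp hw)⟩
    obtain ⟨h, h1, h2⟩ := F.mem_KM.mp a.2
    have h0 := F.gsgn_ker hB (x := ⟨a, h⟩) (F.NT_le_G0 haN) h1 h2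
    rw [F.gcls_NT ⟨a, haN⟩] at h0
    have hbU : (b : G) ∈ F.UM := F.mem_sylUM.mp hb
    show (b : G) * a = (a : G) * b
    rcases F.ncls_zero_mem (n := ⟨a, haN⟩) h0 with hu | hu
    · exact (F.U_comm (F.mem_UM.mp hbU).1 (F.mem_UM.mp hu).1).eq
    · have := ((F.U_comm (F.mem_UM.mp hu).1 (F.mem_UM.mp hbU).1).mul_left (F.UM_comm_i1 _ hbU).symm.inv_left)
      rw [mul_inv_cancel_right] at this
      exact this.symm.eq
  have hNPC := CfsgLib.hasNormalPComplement_of_normalizer_le_centralizer T hnc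
  set R := Cfsg.pResidual 3 F.KM
  have hRc : (Nat.card R).Coprime 3 := CfsgLib.hasNormalPComplement_iff_pResidual.mp hNPC
  haveI hRn : R.Normal := CfsgLib.PResidual.pResidual_normal
  have hn : ∀ {u : G}, u ∈ F.UM → u ∈ Subgroup.normalizer ((R.map F.KM.subtype : Subgroup G) : Set G) := fun {u} hu => by
    refine norm_of_conj ?_
    rintro _ ⟨r, hr, rfl⟩
    exact ⟨_, hRn.conj_mem r hr ⟨u, hU hu⟩, rfl⟩
  have hR0 : R.map F.KM.subtype ≤ F.N0 := F.prime_to_three_le_N0 hB _ ((Subgroup.map_subtype_le _).trans hKM)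
    (by rwa [Subgroup.card_map_of_injective F.KM.subtype_injective]) (hn F.z_mem_UM) (hn F.y_mem_UM)
  intro x hx
  have hle : (⊤ : Subgroup F.KM) ≤ F.G0.subgroupOf F.KM := by
    rw [← CfsgLib.Transfer.sylow_sup_pResidual T]
    exact sup_le (fun y hy => F.NT_le_G0 (F.UM_le_NT (F.mem_sylUM.mp hy))) fun y hy => F.N0_le_G0 (hR0 ⟨y, hy, rfl⟩)
  exact hle (Subgroup.mem_top ⟨x, hx⟩)

/-- The centraliser is the extended product. -/
theorem Mc_le_G0 (hB : D.caseB) : Mc (D := D) ≤ F.G0 := fun x hx =>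
  F.conj_mem_N0_of_invol hB hx fun w hw _ => by
    have h : ∀ l : Cls →+ ZMod 2,
        F.gsgn l (⟨x, hx⟩ * ⟨w, F.N0_le_Mc hw⟩ * ⟨x, hx⟩⁻¹) = 1 := fun l => by
      rw [map_mul, map_mul, F.gsgn_N0 hB l (x := ⟨w, F.N0_le_Mc hw⟩) hw, mul_one, map_inv, mul_inv_cancel]
    exact F.KM_le_G0 hB (F.mem_KM.mpr ⟨mul_mem (mul_mem hx (F.N0_le_Mc hw)) (inv_mem hx), h l1, h l2⟩)

/-- In the small case the centraliser is the extended product as well. -/
theorem small_le_G0 (hB : ¬ D.swap.caseB) : Mc (D := D) ≤ F.G0 := fun g hg =>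
  F.cent_s2_any hg (by
    rw [show F.s2 = 1 from F.swapB.s0_one hB]
    exact Commute.one_right g)

include F in
theorem caseB_of_swap (h : D.swap.caseB) : D.caseB := F.swapB.swap_caseB h

/-- The centraliser of the second vector and the involution. -/
theorem Mc_eq_G0 : Mc (D := D) ≤ F.G0 := by
  by_cases hB : D.caseB
  · exact F.Mc_le_G0 hB
  · exact F.small_le_G0 fun h => hB (F.caseB_of_swap h)

/-- Centralising the second vector and the involution, one normalises the product. -/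
theorem centA2_norm_N0 {g : G} (hg : g ∈ Mc (D := D)) {x : G} (hx : x ∈ F.N0) : g * x * g⁻¹ ∈ F.N0 :=
  (F.G0_norm_N0 (F.Mc_eq_G0 hg) x).mp hx

end Setting.Base

end CfsgLib.U6Three
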