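import Cfsg.Agent.Lib.U6Three.LeviStable
import Cfsg.Agent.Lib.PSp43Rec.CtGen

/-!
The centraliser of the axis and the block involution is generated by the quaternion groups at the two points and the
elements keeping the pair of points.
-/

set_option autoImplicit false
set_option linter.style.haveILetI false

namespace CfsgLib.U6Three

open CfsgPSp43Rec Equiv

universe u

variable {X : Type*} [Group X] [Finite X]

theorem rec_mem_N {E : CfsgPSp43Rec.Frame X} {g : X} (hg : g ∈ E.N) (ht : Commute g E.t) :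
    (∃ i j : ZMod 3, g * E.z 2 * g⁻¹ = E.z 2 ^ i.val * E.z 3 ^ j.val) ∧
      ∃ i j : ZMod 3, g * E.z 3 * g⁻¹ = E.z 2 ^ i.val * E.z 3 ^ j.val := by
  obtain ⟨p, σ, e⟩ := E.exists_coord hg
  have key : ∀ k : Fin 4, Commute (E.z k) E.t →
      ∃ i j : ZMod 3, g * E.z k * g⁻¹ = E.z 2 ^ i.val * E.z 3 ^ j.val := by
    intro k hk
    have h1 : g * E.z k * g⁻¹ ∈ E.Ct := E.mem_Ct.2 ((ht.mul_left hk).mul_left ht.inv_left)
    have h2 : g * E.z k * g⁻¹ = E.Zt (act σ (ev k)) := by rw [e, E.z_eq, E.conj_coord]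
    rw [h2] at h1 ⊢
    obtain ⟨i, j, h3⟩ := rec_fixed _ (E.fixed_of_mem h1)
    exact ⟨i, j, by rw [h3, E.z_eq, E.z_eq, ← E.Zt_sc, ← E.Zt_sc, E.Zt_mul]⟩
  exact ⟨key 2 E.z2_t, key 3 E.t_z3.symm⟩

namespace Setting.Base

variable {G : Type u} [Group G] {D : Setting G} (F : D.Base) [Finite G]

/-- The elements centralising the axis and the involution lie in every subgroup containing the quaternion groups
and the elements keeping the pair of points. -/
theorem levi_gen (H : Subgroup G) (hW : F.W2 ≤ H)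
    (hN : ∀ g ∈ F.CP, Commute g (i2 D) →
      (∃ k j : ZMod 3, g * D.z * g⁻¹ = F.jel (k, 0, 0, j)) →
      (∃ k j : ZMod 3, g * F.y * g⁻¹ = F.jel (k, 0, 0, j)) → g ∈ H)
    {g : G} (hg : g ∈ F.CP) (hgi : Commute g (i2 D)) : g ∈ H := by
  classical
  obtain ⟨E, φ, hz, hi, hy⟩ := F.exists_model
  have hCP : ∀ {a : G}, a ∈ F.L → g * a * g⁻¹ ∈ F.L := fun h => F.L_conj hg h
  have hzi : Commute D.z (i2 D) := (i2_quat.choose_spec.2.1.cz).symm
  have hyi : Commute F.y (i2 D) := F.y_t.mul_right F.block_y.symm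
  set iL : F.L := ⟨i2 D, F.i2_mem_L⟩
  set zL : F.L := ⟨D.z, F.z_mem_L⟩
  set yL : F.L := ⟨F.y, F.y_mem_L⟩
  set a : F.L := ⟨g * D.z * g⁻¹, hCP F.z_mem_L⟩
  set b : F.L := ⟨g * F.y * g⁻¹, hCP F.y_mem_L⟩
  have cm : ∀ {u v : F.L}, Commute (u : G) v → Commute (φ u) (φ v) := fun h =>
    (show Commute _ _ from Subtype.ext h.eq).map φ
  have cm' : ∀ {u v : F.L}, Commute (φ u) (φ v) → Commute (u : G) v := fun {u v} h =>
    (show Commute u v from φ.injective (by rw [map_mul, map_mul]; exact h.eq)).map F.L.subtype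
  have p3 : ∀ {u : F.L}, (u : G) ^ 3 = 1 → φ u ^ 3 = 1 := fun {u} h => by
    rw [← map_pow, show u ^ 3 = 1 from Subtype.ext h, map_one]
  -- the powers of the image of the point
  have hpow : ∀ i : ZMod 3, ∃ i' : ZMod 3, E.z 2 ^ i.val = φ yL ^ i'.val := by
    intro i
    rcases hy with e | e
    · exact ⟨i, by rw [show φ yL = _ from e]⟩
    · refine ⟨2 * i, ?_⟩
      rw [show φ yL = _ from e, ← pow_two, ← pow_mul, pow_eq_pow_mod (2 * _) (E.cube 2),
        (by decide : ∀ i : ZMod 3, 2 * (2 * i).val % 3 = i.val) i]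
  have back : ∀ (v u : F.L) (i j : ZMod 3), φ v * φ u * (φ v)⁻¹ = E.z 2 ^ i.val * E.z 3 ^ j.val →
      ∃ k j' : ZMod 3, (v : G) * u * (v : G)⁻¹ = F.jel (k, 0, 0, j') := by
    intro v u i j e
    obtain ⟨i', hi'⟩ := hpow i
    rw [← map_inv, ← map_mul, ← map_mul, hi', ← hz, ← map_pow, ← map_pow, ← map_mul] at e
    refine ⟨j, i', ?_⟩
    rw [show ((j, 0, 0, i') : V4) = (0, 0, 0, i') + (j, 0, 0, 0) by simp, F.jel_add, F.jel_ypow, F.jel_zpow]
    exact congrArg Subtype.val (φ.injective e)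
  -- the centraliser in the perfect group
  have hCt : ∀ v : F.L, Commute (v : G) (i2 D) → (v : G) ∈ H := by
    intro v hv
    obtain ⟨i0, hi0, hI⟩ := E.exists_quat
    have h1 := E.Ct_gen hi0 hI ((H.subgroupOf F.L).map φ.toMonoidHom) ?_ ?_
      (E.mem_Ct.2 (hi ▸ cm (v := iL) hv : Commute (φ v) E.t))
    · obtain ⟨v', hv', e⟩ := h1
      exact φ.injective e ▸ hv'
    · obtain ⟨v', rfl⟩ := φ.surjective i0
      refine ⟨v', hW (Subgroup.subset_closure ⟨v'.2, ?_, ?_, Or.inl ?_⟩), rfl⟩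
      · have h4 : φ (v' ^ 4) = φ 1 := by
          rw [map_pow, map_one, show 4 = 2 * 2 from rfl, pow_mul, pow_two (φ v'), hi0, pow_two, E.t_sq]
        exact congrArg Subtype.val (φ.injective h4)
      · exact cm' (v := iL) (hi ▸ (hi0 ▸ (Commute.refl (φ v')).mul_right (Commute.refl (φ v'))))
      · exact cm' (v := zL) (hz ▸ hI.comm)
    · intro x hxt hxN
      obtain ⟨v', rfl⟩ := φ.surjective x
      obtain ⟨⟨i2', j2', e2⟩, ⟨i3, j3, e3⟩⟩ := rec_mem_N hxN hxt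
      refine ⟨v', hN _ (F.L_le_CP v'.2) (cm' (v := iL) (hi ▸ hxt)) (back v' zL i3 j3 (hz ▸ e3)) ?_, rfl⟩
      rcases hy with e | e
      · exact back v' yL i2' j2' (e ▸ e2)
      · refine back v' yL (i2' + i2') (j2' + j2') ?_
        rw [e, show φ v' * (E.z 2 * E.z 2) * (φ v')⁻¹ = (φ v' * E.z 2 * (φ v')⁻¹) * (φ v' * E.z 2 * (φ v')⁻¹) by
          group, e2, CfsgPSp43Rec.Frame.pow_add_val (E.cube 2), CfsgPSp43Rec.Frame.pow_add_val (E.cube 3),
          mul_assoc, ← mul_assoc (E.z 3 ^ _) (E.z 2 ^ _), ((E.comm 3 2).pow_pow _ _).eq]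
        group
  -- the corrected element
  obtain ⟨h, hh, ⟨ia, ja, ha⟩, ⟨ib, jb, hb⟩⟩ := conj_pair E (a := φ a) (b := φ b)
    (hi ▸ cm (v := iL) ((hgi.mul_left hzi).mul_left hgi.inv_left))
    (hi ▸ cm (v := iL) ((hgi.mul_left hyi).mul_left hgi.inv_left))
    (p3 (by show (g * D.z * g⁻¹) ^ 3 = 1; rw [conj_pow, D.z_cube]; group))
    (p3 (by show (g * F.y * g⁻¹) ^ 3 = 1; rw [conj_pow, F.y_cube]; group))
    (cm (conj_comm g F.y_z.symm))
  obtain ⟨h0, rfl⟩ := φ.surjective h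
  rw [← hi] at hh
  have hh' : Commute (h0 : G) (i2 D) := cm' hh
  have h2 : (h0 : G) * g ∈ H := by
    refine hN _ (mul_mem (F.L_le_CP h0.2) hg) (hh'.mul_left hgi) ?_ ?_
    · obtain ⟨k, j, e⟩ := back h0 a ia ja ha
      exact ⟨k, j, by rw [← e]; show _ = (h0 : G) * (g * D.z * g⁻¹) * (h0 : G)⁻¹; group⟩
    · obtain ⟨k, j, e⟩ := back h0 b ib jb hb
      exact ⟨k, j, by rw [← e]; show _ = (h0 : G) * (g * F.y * g⁻¹) * (h0 : G)⁻¹; group⟩
  have := mul_mem (inv_mem (hCt h0 hh')) h2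
  rwa [inv_mul_cancel_left] at this

end Setting.Base

end CfsgLib.U6Three
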