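import Cfsg.Agent.Lib.U6Three.FreePair
import Cfsg.Agent.Lib.U6Three.LeviGen

/-!
The centraliser of the second vector and the block involution: the group of coordinates inside it, its normaliser,
and the centralisers of the elements which control fusion.
-/

set_option autoImplicit false
set_option linter.style.haveILetI false

namespace CfsgLib.U6Three

universe u

set_option synthInstance.maxSize 2000 in
theorem pair_shape : ∀ k j k' j' : ZMod 3, k * j = 0 → (k, j) ≠ (0, 0) → k' * j' = 0 → (k', j') ≠ (0, 0) →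
    qJ (k + (k' + k'), 0, 1, j + (j' + j')) = 0 →
    ∃ c : Cls, clsMap c (1, 0) = (k, j) ∧ clsMap c (0, 1) = (k', j') := by decide +kernel

theorem shape_mul : ∀ k j : ZMod 3, ((k = 0 ∧ j ≠ 0) ∨ (k ≠ 0 ∧ j = 0)) → k * j = 0 ∧ (k, j) ≠ (0, 0) := by decide

theorem clsMap_pair : ∀ c : Cls, ∀ k j : ZMod 3,
    k • ((clsMap c (1, 0)).1, (0 : ZMod 3), (0 : ZMod 3), (clsMap c (1, 0)).2) +
      j • ((clsMap c (0, 1)).1, (0 : ZMod 3), (0 : ZMod 3), (clsMap c (0, 1)).2) =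
    ((clsMap c (k, j)).1, 0, 0, (clsMap c (k, j)).2) := clsMap_lin

theorem cls_fix_one : ∀ c : Cls, clsMap c (1, 1) = (1, 1) → c = 0 ∨ c = (1, 0) := by decide +kernel

theorem sl_comm_mU : ∀ R : SL23, R * R * (R * R) = 1 → R * mU = mU * R → R = 1 ∨ R = -1 := by decide +kernel

theorem qJ_line : ∀ v : V4, qJ v = 0 → v.2.2.2 = 0 → v.2.1 = 0 ∧ v.2.2.1 = 0 := by decide +kernel

namespace Setting

variable {G : Type u} [Group G] {D : Setting G}

theorem R1_lift [Finite G] {R : SL23} (hR : R * R * (R * R) = 1) : ∃ r ∈ D.R1, D.Acts r (R, 1) := by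
  obtain ⟨r0, hr0⟩ := D.swap.acts_lift (1, R) (by simp) hR
  obtain ⟨m, h4, hr⟩ := quat_adjust hR hr0
  exact ⟨_, mem_R1_def.mpr ⟨h4, R, hR, swap_acts.mp hr⟩, swap_acts.mp hr⟩

namespace Base

variable (F : D.Base)

/-- The centraliser of the second vector and the block involution. -/
def Mc : Subgroup G := Subgroup.centralizer ({a2 D, D.i1} : Set G)

theorem mem_Mc {x : G} : x ∈ Mc (D := D) ↔ Commute x (a2 D) ∧ Commute x D.i1 := by
  simp only [Mc, Subgroup.mem_centralizer_iff]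
  refine ⟨fun h => ⟨(h _ (by simp)).symm, (h _ (by simp)).symm⟩, ?_⟩
  rintro ⟨h1, h2⟩ w (rfl | rfl)
  exacts [h1.symm, h2.symm]

/-- The part of the centraliser of the coordinates centralising the involution. -/
def UM : Subgroup G := F.U ⊓ Subgroup.centralizer {D.i1}

theorem mem_UM {x : G} : x ∈ F.UM ↔ x ∈ F.U ∧ Commute x D.i1 :=
  and_congr_right' (Subgroup.mem_centralizer_singleton_iff)

/-- Its normaliser. -/
def NT : Subgroup G := Mc (D := D) ⊓ Subgroup.normalizer (F.UM : Set G)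

variable [Finite G]

/-- The product of the two quaternion groups with the normaliser. -/
noncomputable def G0 : Subgroup G := F.N0 ⊔ F.NT

theorem UM_le_Mc : F.UM ≤ Mc (D := D) := fun _ hx =>
  mem_Mc.mpr ⟨F.U_q (F.mem_UM.mp hx).1 (av_inA 0 1), (F.mem_UM.mp hx).2⟩

theorem UM_le_NT : F.UM ≤ F.NT := le_inf F.UM_le_Mc Subgroup.le_normalizer

theorem jel_mem_UM (k l j : ZMod 3) : F.jel (k, 0, l, j) ∈ F.UM := by
  refine F.mem_UM.mpr ⟨F.jel_mem_U _, (mul_inv_eq_iff_eq_mul.mp ?_).symm⟩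
  rw [F.conj_jel_i1]; simp

theorem z_mem_UM : D.z ∈ F.UM := F.jel_z ▸ F.jel_mem_UM 1 0 0

theorem y_mem_UM : F.y ∈ F.UM := F.jel_y ▸ F.jel_mem_UM 0 0 1

theorem N0_le_Mc : F.N0 ≤ Mc (D := D) := fun _ hx => mem_Mc.mpr (F.N0_comm hx)

theorem i1_mem_R1 : D.i1 ∈ D.R1 := by
  refine mem_R1.mpr ⟨?_, D.i1_block.acts.1.cz, D.i1_block.fix rfl, Commute.refl _⟩
  rw [show 4 = 2 * 2 from rfl, pow_mul, pow_two D.i1, D.i1_block.sq, one_pow]

theorem NT_conj_N0 {n : G} (hn : n ∈ F.NT) {x : G} (hx : x ∈ F.N0) : n * x * n⁻¹ ∈ F.N0 :=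
  F.N0_conj_pts (mem_Mc.mp hn.1).1 (mem_Mc.mp hn.1).2 ((hn.2 _).mp F.z_mem_UM).1 ((hn.2 _).mp F.y_mem_UM).1 hx

theorem NT_norm_N0 : F.NT ≤ Subgroup.normalizer (F.N0 : Set G) := fun n hn x =>
  ⟨fun h => F.NT_conj_N0 hn h, fun h => by
    have := F.NT_conj_N0 (inv_mem hn) h
    simpa [mul_assoc] using this⟩

theorem mem_G0 {g : G} (hg : g ∈ F.G0) : ∃ x ∈ F.N0, ∃ n ∈ F.NT, g = x * n := by
  rw [G0, ← SetLike.mem_coe, Subgroup.coe_mul_of_right_le_normalizer_left _ _ F.NT_norm_N0] at hg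
  obtain ⟨x, hx, n, hn, e⟩ := hg
  exact ⟨x, hx, n, hn, e.symm⟩

theorem N0_le_G0 : F.N0 ≤ F.G0 := le_sup_left

theorem NT_le_G0 : F.NT ≤ F.G0 := le_sup_right

theorem G0_le_Mc : F.G0 ≤ Mc (D := D) := sup_le F.N0_le_Mc inf_le_left

theorem G0_norm_N0 : F.G0 ≤ Subgroup.normalizer (F.N0 : Set G) := sup_le Subgroup.le_normalizer F.NT_norm_N0

/-- Centralising two points outside a common multiple, one normalises the coordinates. -/
theorem pair_pts {x : G} {v v' : V4} (hv : qJ v = 0) (hne : v ≠ 0) (hv' : qJ v' = 0)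
    (hind : ∀ c : ZMod 3, v' ≠ c • v) (hx : Commute x (F.jel v)) (hx' : Commute x (F.jel v')) :
    x ∈ Subgroup.normalizer (F.J : Set G) ∧ (x ^ 3 = 1 → x ∈ F.U) := by
  obtain ⟨h, hh, k, hk, e⟩ := F.move_point hv hne
  obtain ⟨φ, hφi, hφ⟩ := F.exists_lin hh
  have hsm : ∀ (c : ZMod 3) (v : V4), φ (c • v) = c • φ v := fun c v => ZMod.map_smul φ c v
  have hφv : φ v = (k, 0, 0, 0) := F.jel_inj (by rw [← hφ, e, F.jel_zpow])
  have hne' : v' ≠ 0 := fun h0 => hind 0 (by rw [h0, zero_smul])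
  have hq : qJ (φ v') = 0 := by
    refine ((F.isPt_jel _).mp ?_).1
    rw [← hφ]
    exact ((F.isPt_jel v').mpr ⟨hv', hne'⟩).conj h
  have hj : (φ v').2.2.2 ≠ 0 := fun h0 => by
    obtain ⟨hi, hl⟩ := qJ_line _ hq h0
    refine hind ((φ v').1 * k) (hφi ?_)
    rw [hsm, hφv]
    refine Prod.ext ?_ (Prod.ext (by simp [hi]) (Prod.ext (by simp [hl]) (by simp [h0])))
    show (φ v').1 = (φ v').1 * k * k
    rw [mul_assoc, (by decide : ∀ m : ZMod 3, m ≠ 0 → m * m = 1) k hk, mul_one]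
  set x' := h * x * h⁻¹ with hx'def
  have hz : Commute x' D.z := commute_zk hk (e ▸ conj_comm h hx)
  obtain ⟨w, hw⟩ := translate_y (φ v') hq hj
  have ew : D.q w * F.jel (0, 0, 0, (φ v').2.2.2) * (D.q w)⁻¹ = F.jel (φ v') := by
    rw [F.q_conj_jel]
    conv_rhs => rw [← hw]
    congr 1
    simp [show av 0 0 = (0 : W4) from rfl, show om w (0 : W4) = 0 by simp [om, det2]]
  set x'' := (D.q w)⁻¹ * x' * D.q w with hx''
  have hz'' : Commute x'' D.z := ((D.q_z w).inv_left.mul_left hz).mul_left (D.q_z w)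
  have hy'' : Commute x'' (F.y ^ (φ v').2.2.2.val) := by
    have := conj_comm' (D.q w) (hφ v' ▸ conj_comm h hx')
    rw [← ew, F.jel_ypow] at this
    simpa [hx'', hx'def, mul_assoc] using this
  have hy : Commute x'' F.y := by
    rcases (by decide : ∀ k : ZMod 3, k ≠ 0 → k = 1 ∨ k = -1) _ hj with r | r <;> rw [r] at hy''
    · rwa [show (1 : ZMod 3).val = 1 from rfl, pow_one] at hy''
    · rw [F.y_pow_neg, show (1 : ZMod 3).val = 1 from rfl, pow_one] at hy''
      exact Commute.inv_right_iff.mp hy''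
  obtain ⟨p1, p2⟩ := F.pair_zy hz'' hy
  have hc : (D.q w)⁻¹ * h ∈ Subgroup.normalizer (F.J : Set G) := mul_mem (inv_mem (F.q_mem_NJ w)) hh
  have ex : x = ((D.q w)⁻¹ * h)⁻¹ * x'' * ((D.q w)⁻¹ * h) := by rw [hx'', hx'def]; group
  refine ⟨?_, fun h3 => ?_⟩
  · rw [ex]
    exact mul_mem (mul_mem (inv_mem hc) (F.mem_norm_J p1)) hc
  · have h4 : x'' ∈ F.U := p2 (by
      have : x'' = ((D.q w)⁻¹ * h) * x * ((D.q w)⁻¹ * h)⁻¹ := by rw [hx'', hx'def]; group
      rw [this, conj_pow, h3]; group)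
    have := (F.NJ_le_NU (inv_mem hc) x'').mp h4
    rw [inv_inv] at this
    rwa [ex]

theorem norm_UM_of_NU {g : G} (hg : g ∈ Mc (D := D)) (hn : g ∈ Subgroup.normalizer (F.U : Set G)) : g ∈ F.NT := by
  have hi := (mem_Mc.mp hg).2
  refine ⟨hg, fun x => ?_⟩
  rw [SetLike.mem_coe, SetLike.mem_coe, F.mem_UM, F.mem_UM]
  refine and_congr (hn x) ⟨fun h => (hi.mul_left h).mul_left hi.inv_left, fun h => ?_⟩
  have := (hi.inv_left.mul_left h).mul_left hi
  simpa [mul_assoc] using this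

theorem norm_UM_of_NJ {g : G} (hg : g ∈ Mc (D := D)) (hn : g ∈ Subgroup.normalizer (F.J : Set G)) : g ∈ F.NT :=
  F.norm_UM_of_NU hg (F.NJ_le_NU hn)

/-- The centraliser of the central element. -/
theorem cent_z {g : G} (hg : g ∈ Mc (D := D)) (hz : Commute g D.z) : ∃ r ∈ D.R1, ∃ u ∈ F.UM, g = r * u := by
  obtain ⟨ha, hi⟩ := mem_Mc.mp hg
  obtain ⟨u, s, p, e, hs, hp, hu⟩ := inC_of (D := D.swap) (x := g) hz ha
  have hi1 : D.swap.Acts D.i1 (1, -1) := swap_acts.mpr D.i1_block.acts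
  have hu2 : u.2 = 0 := by
    have h1 := hs.conj hi1
    rw [show ((1, -1) : Pr) * p * ((1, -1) : Pr)⁻¹ = p from Prod.ext (by simp) (pm_central p.2).1] at h1
    have h2 := h1.mul hs.inv
    rw [mul_inv_cancel] at h2
    obtain ⟨m, hm⟩ := h2.trivial
    have e1 : D.i1 * s * D.i1⁻¹ = D.swap.zz m * s := mul_inv_eq_iff_eq_mul.mp hm
    have e2 : D.swap.zz m * D.swap.q (appP (1, -1) u) * s = D.swap.zz 0 * D.swap.q u * s := by
      calc D.swap.zz m * D.swap.q (appP (1, -1) u) * s = D.swap.q (appP (1, -1) u) * (D.swap.zz m * s) := by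
            rw [(D.swap.zz_q m _).eq, mul_assoc]
        _ = D.i1 * D.swap.q u * D.i1⁻¹ * (D.i1 * s * D.i1⁻¹) := by rw [hi1.2, e1]
        _ = D.i1 * g * D.i1⁻¹ := by rw [e]; group
        _ = D.swap.zz 0 * D.swap.q u * s := by
            rw [hi.symm.eq, mul_inv_cancel_right, D.swap.zz_zero, one_mul, e]
    exact snd_neg_zero u (D.swap.el_inj (mul_right_cancel e2)).2
  obtain ⟨⟨l, l'⟩, w⟩ := u
  simp only at hu hu2
  subst hu hu2
  obtain ⟨R, hR, b, hb⟩ := sl_Q8U p.2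
  obtain ⟨a, ha'⟩ := nine_pow _ hp
  obtain ⟨r, hr, hrA⟩ := R1_lift (D := D) hR
  have hsD := swap_acts.mp hs
  have hrs : D.Acts (r⁻¹ * s) (mU ^ b.val, mU ^ a.val) := by
    have := hrA.inv.mul hsD
    rwa [show ((R, 1) : Pr)⁻¹ * (p.2, p.1) = (mU ^ b.val, mU ^ a.val) from
      Prod.ext (by simp [hb]) (by simp [ha'])] at this
  have hn : Nine ((mU ^ b.val, mU ^ a.val) : Pr) := by
    have : ∀ c : ZMod 3, mU ^ c.val = 1 ∨ mU ^ c.val = mU ∨ mU ^ c.val = mU * mU := by decide +kernel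
    exact ⟨this b, this a⟩
  have hq : D.swap.q (((l, 0), 0) : W4) = D.q (av 0 l) := rfl
  have hcr : Commute (D.q (av 0 l)) r := by
    refine (hrA.comm_q ?_).symm
    exact Prod.ext ((by decide +kernel : ∀ A : SL23, app2 A (0, 0) = (0, 0)) R) (app2_one _)
  refine ⟨r, hr, D.q (av 0 l) * (r⁻¹ * s), F.mem_UM.mpr ⟨mul_mem ?_ (F.acts_mem_U hrs hn), ?_⟩, ?_⟩
  · rw [← F.jel_q]; exact F.jel_mem_U _
  · refine Commute.mul_left ?_ (nine_block_comm hrs).symm
    rw [← F.jel_q]; exact (F.mem_UM.mp (F.jel_mem_UM 0 l 0)).2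
  · rw [e, hq, ← mul_assoc, ← hcr.eq]; group

/-- Fixing both points. -/
theorem cent_zy_pair {g : G} (hg : g ∈ Mc (D := D)) (hz : Commute g D.z) (hy : Commute g F.y) :
    g ∈ F.UM ∨ g * D.i1 ∈ F.UM := by
  obtain ⟨r, hr, u, hu, rfl⟩ := F.cent_z hg hz
  have hry : Commute r F.y := by simpa using hy.mul_left (F.U_y (F.mem_UM.mp hu).1).inv_left
  obtain ⟨-, R, hR, hrA⟩ := mem_R1_def.mp hr
  have hc := (hry.eq ▸ hrA.ma.mul F.acts.ma).unique (F.acts.ma.mul hrA.ma)
  rcases sl_comm_mU R hR (congrArg Prod.fst hc) with rfl | rfl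
  · left
    rw [show r = 1 from R1_inj hr (one_mem _) hrA acts_one, one_mul]
    exact hu
  · right
    rw [show r = D.i1 from R1_inj hr i1_mem_R1 hrA D.i1_block.acts, mul_assoc, (F.mem_UM.mp hu).2.eq, ← mul_assoc,
      D.i1_block.sq, one_mul]
    exact hu

theorem exists_ncls {n : G} (hn : n ∈ F.NT) : ∃ c : Cls, ∀ k l j : ZMod 3,
    n * F.jel (k, 0, l, j) * n⁻¹ = F.jel ((clsMap c (k, j)).1, 0, l, (clsMap c (k, j)).2) := by
  obtain ⟨hnM, hnU⟩ := id hn
  obtain ⟨ha, hi⟩ := mem_Mc.mp hnM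
  have hna : ∀ l : ZMod 3, n * F.jel (0, 0, l, 0) * n⁻¹ = F.jel (0, 0, l, 0) := fun l => by
    rw [show ((0, 0, l, 0) : V4) = l • (0, 0, 1, 0) by simp, F.jel_smul, F.jel_q,
      show D.q (av 0 1) = a2 D from rfl, (ha.pow_right _).eq, mul_inv_cancel_right]
  have hnp : ∀ v : V4, qJ v = 0 → v ≠ 0 → v.2.1 = 0 → v.2.2.1 = 0 →
      ∃ k j : ZMod 3, n * F.jel v * n⁻¹ = F.jel (k, 0, 0, j) ∧ ((k = 0 ∧ j ≠ 0) ∨ (k ≠ 0 ∧ j = 0)) := by
    rintro ⟨k, i, l, j⟩ hq hne rfl rfl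
    have hm := F.mem_UM.mp ((hnU _).mp (F.jel_mem_UM k 0 j))
    refine F.pt_pair_jel ha hm.1 hm.2 ((F.isPt_jel _).mpr ⟨hq, hne⟩) ?_ ?_
    · rw [show a2 D = F.jel (0, 0, 1, 0) from (F.jel_q 0 1).symm, ← F.jel_add, F.isPt_jel]
      exact fun h => ((by decide : ∀ k j : ZMod 3, qJ (k, 0, 0, j) = 0 → qJ ((k, 0, 0, j) + (0, 0, 1, 0)) ≠ 0 ∧
        qJ ((k, 0, 0, j) + -(0, 0, 1, 0)) ≠ 0) k j hq).1 h.1
    · rw [show a2 D = F.jel (0, 0, 1, 0) from (F.jel_q 0 1).symm, ← F.jel_neg, ← F.jel_add, F.isPt_jel]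
      exact fun h => ((by decide : ∀ k j : ZMod 3, qJ (k, 0, 0, j) = 0 → qJ ((k, 0, 0, j) + (0, 0, 1, 0)) ≠ 0 ∧
        qJ ((k, 0, 0, j) + -(0, 0, 1, 0)) ≠ 0) k j hq).2 h.1
  obtain ⟨k, j, ez, h1⟩ := hnp (1, 0, 0, 0) (by decide) (by decide) rfl rfl
  obtain ⟨k', j', ey, h2⟩ := hnp (0, 0, 0, 1) (by decide) (by decide) rfl rfl
  have hmix : qJ (k + (k' + k'), 0, 1, j + (j' + j')) = 0 := by
    have e : n * F.jel (1, 0, 1, 2) * n⁻¹ = F.jel (k + (k' + k'), 0, 1, j + (j' + j')) := by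
      rw [show ((1, 0, 1, 2) : V4) = (1, 0, 0, 0) + (0, 0, 1, 0) + ((0, 0, 0, 1) + (0, 0, 0, 1)) by decide,
        F.jel_add, F.jel_add, F.jel_add, ← conj_mul, ← conj_mul, ← conj_mul, ez, ey, hna, ← F.jel_add, ← F.jel_add,
        ← F.jel_add]
      simp
    refine ((F.isPt_jel _).mp ?_).1
    rw [← e]
    exact ((F.isPt_jel _).mpr ⟨by decide, by decide⟩).conj n
  obtain ⟨c, hc1, hc2⟩ := pair_shape k j k' j' (shape_mul k j h1).1 (shape_mul k j h1).2 (shape_mul k' j' h2).1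
    (shape_mul k' j' h2).2 hmix
  refine ⟨c, fun a l b => ?_⟩
  rw [show ((a, 0, l, b) : V4) = a • (1, 0, 0, 0) + b • (0, 0, 0, 1) + (0, 0, l, 0) by simp, F.jel_add, F.jel_add,
    F.jel_smul, F.jel_smul, ← conj_mul, ← conj_mul, conj_pow', conj_pow', ez, ey, hna, ← F.jel_smul, ← F.jel_smul,
    ← F.jel_add, ← F.jel_add]
  refine congrArg F.jel ?_
  have h3 := clsMap_pair c a b
  rw [hc1, hc2] at h3
  rw [h3]
  simp

/-- The class of an element. -/
noncomputable def ncls (n : F.NT) : Cls := (F.exists_ncls n.2).choose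

theorem ncls_spec (n : F.NT) (k l j : ZMod 3) :
    (n : G) * F.jel (k, 0, l, j) * (n : G)⁻¹ = F.jel ((clsMap (F.ncls n) (k, j)).1, 0, l, (clsMap (F.ncls n) (k, j)).2) :=
  (F.exists_ncls n.2).choose_spec k l j

theorem ncls_eq (n : F.NT) {c : Cls}
    (hz : (n : G) * D.z * (n : G)⁻¹ = F.jel ((clsMap c (1, 0)).1, 0, 0, (clsMap c (1, 0)).2)) : F.ncls n = c := by
  rw [← F.jel_z, F.ncls_spec] at hz
  have := F.jel_inj hz
  simp only [Prod.mk.injEq, true_and] at this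
  exact clsMap_inj _ _ (Prod.ext this.1 this.2)

theorem ncls_mul (a b : F.NT) : F.ncls (a * b) = F.ncls a + F.ncls b := by
  refine F.ncls_eq _ ?_
  rw [Subgroup.coe_mul, show (a : G) * b * D.z * ((a : G) * b)⁻¹ = a * (b * D.z * (b : G)⁻¹) * (a : G)⁻¹ by group,
    ← F.jel_z, F.ncls_spec, F.ncls_spec, ← clsMap_comp]

theorem ncls_zero {n : F.NT} (h : F.ncls n = 0) : Commute (n : G) D.z ∧ Commute (n : G) F.y := by
  have h1 := F.ncls_spec n 1 0 0
  have h2 := F.ncls_spec n 0 0 1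
  rw [h] at h1 h2
  rw [F.jel_z] at h1
  rw [F.jel_y] at h2
  refine ⟨mul_inv_eq_iff_eq_mul.mp (h1.trans ?_), mul_inv_eq_iff_eq_mul.mp (h2.trans ?_)⟩
  · exact (congrArg F.jel (by decide)).trans F.jel_z
  · exact (congrArg F.jel (by decide)).trans F.jel_y

theorem ncls_zero_mem {n : F.NT} (h : F.ncls n = 0) : (n : G) ∈ F.UM ∨ (n : G) * D.i1 ∈ F.UM :=
  F.cent_zy_pair n.2.1 (F.ncls_zero h).1 (F.ncls_zero h).2

theorem UM_zero {n : F.NT} (h : (n : G) ∈ F.UM ∨ (n : G) * D.i1 ∈ F.UM) : F.ncls n = 0 := by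
  refine F.ncls_eq n ?_
  have hz : Commute (n : G) D.z := by
    rcases h with h | h
    · exact F.U_z (F.mem_UM.mp h).1
    · simpa using (F.U_z (F.mem_UM.mp h).1).mul_left D.i1_block.acts.1.cz.inv_left
  rw [hz.eq, mul_inv_cancel_right]
  exact F.jel_z.symm

/-- The squares in the normaliser. -/
theorem NT_sq {n : G} (hn : n ∈ F.NT) : n * n ∈ F.UM ∨ n * n * D.i1 ∈ F.UM :=
  F.ncls_zero_mem (n := ⟨n, hn⟩ * ⟨n, hn⟩) (by rw [F.ncls_mul, cls_double])

theorem three_UM {x : G} (hx : x ^ 3 = 1) (h : x ∈ F.UM ∨ x * D.i1 ∈ F.UM) : x ∈ F.UM := by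
  rcases h with h | h
  · exact h
  · exfalso
    obtain ⟨hU, hi⟩ := F.mem_UM.mp h
    have hxi : Commute x D.i1 := by simpa using hi.mul_left (Commute.refl D.i1).inv_left
    have h3 := F.U_cube hU
    rw [hxi.mul_pow, hx, one_mul, pow_three', D.i1_block.sq, one_mul] at h3
    have := D.i1_block.neg (v := av 1 0) rfl
    rw [h3, one_mul, inv_one, mul_one] at this
    exact (by decide : av 1 0 ≠ (-av 1 0 : W4)) (D.q_injective this)

theorem three_pow_NT {n : G} (hn : n ∈ F.NT) {m : ℕ} (h : n ^ 3 ^ m = 1) : n ∈ F.UM := by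
  obtain ⟨r, hr⟩ : Odd (3 ^ m) := (by decide : Odd 3).pow
  have e : n = (n * n) ^ (r + 1) := by
    rw [← pow_two, ← pow_mul, show 2 * (r + 1) = 3 ^ m + 1 by omega, pow_succ, h, one_mul]
  rcases F.NT_sq hn with h2 | h2
  · rw [e]; exact pow_mem h2 _
  · have h2c := (F.mem_UM.mp h2).2
    have hc : Commute (n * n) D.i1 := by simpa using h2c.mul_left (Commute.refl D.i1).inv_left
    have hmem : n ∈ F.UM ∨ n * D.i1 ∈ F.UM := by
      have hp := pow_mem h2 (r + 1)
      rw [hc.mul_pow, ← e] at hp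
      rcases Nat.even_or_odd (r + 1) with ⟨q, hq⟩ | ⟨q, hq⟩
      · left; rwa [hq, ← two_mul, pow_mul, pow_two D.i1, D.i1_block.sq, one_pow, mul_one] at hp
      · right; rwa [hq, pow_succ, pow_mul, pow_two D.i1, D.i1_block.sq, one_pow, one_mul] at hp
    rcases hmem with h' | h'
    · exact h'
    · exfalso
      obtain ⟨hU, hi⟩ := F.mem_UM.mp h'
      have hni : Commute n D.i1 := by simpa using hi.mul_left (Commute.refl D.i1).inv_left
      have h3 : (n * D.i1) ^ 3 ^ m = 1 := by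
        cases m with
        | zero =>
          rw [pow_zero, pow_one] at h
          have h4 := F.U_cube hU
          rw [h, one_mul, pow_three', D.i1_block.sq, one_mul] at h4
          rw [h, h4, one_mul, one_pow]
        | succ m => rw [pow_succ', pow_mul, F.U_cube hU, one_pow]
      rw [hni.mul_pow, h, one_mul, hr, pow_succ, pow_mul, pow_two D.i1, D.i1_block.sq, one_pow, one_mul] at h3
      have := D.i1_block.neg (v := av 1 0) rfl
      rw [h3, one_mul, inv_one, mul_one] at this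
      exact (by decide : av 1 0 ≠ (-av 1 0 : W4)) (D.q_injective this)

theorem τ_NT : F.τ ∈ F.NT := by
  refine F.norm_UM_of_NJ (mem_Mc.mpr ⟨F.τ_a2, F.τ_flip.ci⟩) (F.mem_norm_J ?_)
  rintro _ ⟨v, rfl⟩
  rw [F.τ_flip.act]
  exact F.jel_mem _

/-- The centraliser of the point. -/
theorem cent_y {g : G} (hg : g ∈ Mc (D := D)) (hy : Commute g F.y) : g ∈ F.G0 := by
  have hτ := F.τ_NT
  have h1 : F.τ⁻¹ * F.y * F.τ = D.z⁻¹ := by
    calc F.τ⁻¹ * F.y * F.τ = F.τ⁻¹ * (F.τ * D.z * F.τ⁻¹)⁻¹ * F.τ := by rw [F.τ_conj_z, inv_inv]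
      _ = D.z⁻¹ := by group
  have h2 := conj_comm' F.τ hy
  rw [h1] at h2
  obtain ⟨r, hr, u, hu, e⟩ := F.cent_z (g := F.τ⁻¹ * g * F.τ) (mul_mem (mul_mem (inv_mem hτ.1) hg) hτ.1)
    (Commute.inv_right_iff.mp h2)
  rw [show g = F.τ * (r * u) * F.τ⁻¹ by rw [← e]; group]
  exact mul_mem (mul_mem (F.NT_le_G0 hτ) (mul_mem (F.N0_le_G0 (F.R1_le_N0 hr)) (F.NT_le_G0 (F.UM_le_NT hu))))
    (inv_mem (F.NT_le_G0 hτ))

theorem cent_z_G0 {g : G} (hg : g ∈ Mc (D := D)) (hz : Commute g D.z) : g ∈ F.G0 := by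
  obtain ⟨r, hr, u, hu, rfl⟩ := F.cent_z hg hz
  exact mul_mem (F.N0_le_G0 (F.R1_le_N0 hr)) (F.NT_le_G0 (F.UM_le_NT hu))

/-- The centraliser of the opposite mixture. -/
theorem cent_zy' {g : G} (hg : g ∈ Mc (D := D)) (hc : Commute g (F.jel (1, 0, 0, 2))) : g ∈ F.NT := by
  refine F.norm_UM_of_NJ hg (F.pair_pts (v := (1, 0, 1, 2)) (v' := (1, 0, 2, 2)) (by decide) (by decide) (by decide)
    (by decide +kernel) ?_ ?_).1
  · have := hc.mul_right (show Commute g (F.jel (0, 0, 1, 0)) by rw [F.jel_q]; exact (mem_Mc.mp hg).1)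
    rw [← F.jel_add] at this
    exact this
  · have := hc.mul_right (show Commute g (F.jel (0, 0, 1, 0)) by rw [F.jel_q]; exact (mem_Mc.mp hg).1).inv_right
    rw [← F.jel_neg, ← F.jel_add] at this
    exact this

variable (hB : D.caseB)

include F hB in
theorem swap_caseB : D.swap.caseB := by
  have h := F.acts.mul (F.s0_acts hB).inv
  rw [show ((mU, mU) : Pr) * ((mU, 1) : Pr)⁻¹ = (1, mU) from Prod.ext (by simp) (by simp)] at h
  exact ⟨_, swap_acts.mpr h⟩

/-- The lift for the second block. -/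
noncomputable def s2 : G := F.swapB.s0

theorem s2_mem : F.s2 ∈ F.UM := by
  obtain ⟨p, hp, hn, -⟩ := F.swapB.s0_nine
  refine F.mem_UM.mpr ⟨F.swapB_U ▸ (F.swapB.mem_P.mp F.swapB.s0_mem_P).1, ?_⟩
  exact (nine_block_comm (swap_acts.mp hp)).symm

theorem UM_decomp_any {x : G} (hx : x ∈ F.UM) : ∃ k l j m : ZMod 3, x = F.jel (k, 0, l, j) * F.s2 ^ m.val := by
  obtain ⟨hU, hi⟩ := F.mem_UM.mp hx
  obtain ⟨⟨k, l, i, j⟩, m, rfl⟩ := F.swapB.U_decomp_any (x := x) (F.swapB_U.symm ▸ hU)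
  rw [F.swapB_jel k l i j] at hi ⊢
  have h1 : Commute (F.jel (k, i, l, j)) D.i1 := by
    simpa [s2] using hi.mul_left ((F.mem_UM.mp F.s2_mem).2.pow_left m.val).inv_left
  have h2 := F.conj_jel_i1 (k, i, l, j)
  rw [h1.symm.eq, mul_inv_cancel_right] at h2
  obtain rfl : i = 0 := (by decide : ∀ i : ZMod 3, i = -i → i = 0) i (congrArg (fun v : V4 => v.2.1) (F.jel_inj h2))
  exact ⟨k, l, j, m, rfl⟩

include hB in
theorem UM_decomp {x : G} (hx : x ∈ F.UM) : ∃ k l j m : ZMod 3, x = F.jel (k, 0, l, j) * F.s2 ^ m.val := by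
  have _h := hB
  exact F.UM_decomp_any hx

include hB in
theorem UM_coord_inj {k l j m k' l' j' m' : ZMod 3}
    (e : F.jel (k, 0, l, j) * F.s2 ^ m.val = F.jel (k', 0, l', j') * F.s2 ^ m'.val) :
    k = k' ∧ l = l' ∧ j = j' ∧ m = m' := by
  obtain ⟨h1, h2⟩ := F.swapB.U_coord_inj (F.swap_caseB hB) (v := (k, l, 0, j)) (w := (k', l', 0, j')) (m := m) (n := m')
    (by rw [F.swapB_jel, F.swapB_jel]; exact e)
  simp only [Prod.mk.injEq, true_and] at h1
  exact ⟨h1.1, h1.2.1, h1.2.2, h2⟩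

/-- Adjoining the involution. -/
def adjI (S : Subgroup G) (hS : ∀ x ∈ S, Commute x D.i1) : Subgroup G where
  carrier := {x | x ∈ S ∨ x * D.i1 ∈ S}
  one_mem' := Or.inl (one_mem _)
  mul_mem' := by
    rintro a b (ha | ha) (hb | hb)
    · exact Or.inl (mul_mem ha hb)
    · exact Or.inr (by rw [mul_assoc]; exact mul_mem ha hb)
    · refine Or.inr ?_
      have := mul_mem ha hb
      rwa [mul_assoc, ← (hS b hb).eq, ← mul_assoc] at this
    · refine Or.inl ?_
      have := mul_mem ha hb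
      have hc : Commute b D.i1 := by simpa using (hS _ hb).mul_left (Commute.refl D.i1).inv_left
      rwa [show a * D.i1 * (b * D.i1) = a * (D.i1 * b) * D.i1 by group, ← hc.eq,
        show a * (b * D.i1) * D.i1 = a * b * (D.i1 * D.i1) by group, D.i1_block.sq, mul_one] at this
  inv_mem' := by
    rintro a (ha | ha)
    · exact Or.inl (inv_mem ha)
    · refine Or.inr ?_
      have hc : Commute a D.i1 := by simpa using (hS _ ha).mul_left (Commute.refl D.i1).inv_left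
      have := inv_mem ha
      rwa [mul_inv_rev, D.i1_block.inv, ← hc.inv_left.eq] at this

theorem mem_adjI {S : Subgroup G} {hS : ∀ x ∈ S, Commute x D.i1} {x : G} :
    x ∈ adjI S hS ↔ x ∈ S ∨ x * D.i1 ∈ S := Iff.rfl

theorem card_adjI {S : Subgroup G} (hS : ∀ x ∈ S, Commute x D.i1) (h1 : D.i1 ∉ S) :
    Nat.card (adjI S hS) = 2 * Nat.card S := by
  have hb : Function.Bijective (fun p : Bool × S =>
      (⟨(p.2 : G) * if p.1 then D.i1 else 1, by
        cases p.1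
        · exact Or.inl (by simp)
        · exact Or.inr (by simp [mul_assoc, D.i1_block.sq])⟩ : adjI S hS)) := by
    refine ⟨fun p q e => ?_, fun ⟨x, hx⟩ => ?_⟩
    · obtain ⟨b, s⟩ := p
      obtain ⟨b', s'⟩ := q
      have e' := congrArg Subtype.val e
      dsimp only at e'
      cases b <;> cases b'
      · simp at e'; rw [e']
      · exfalso; refine h1 ?_
        simp at e'
        have := mul_mem (inv_mem s'.2) s.2
        rwa [e', inv_mul_cancel_left] at this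
      · exfalso; refine h1 ?_
        simp at e'
        have := mul_mem (inv_mem s.2) s'.2
        rwa [← e', inv_mul_cancel_left] at this
      · simp at e'; rw [e']
    · rcases hx with hx | hx
      · exact ⟨(false, ⟨x, hx⟩), Subtype.ext (by simp)⟩
      · exact ⟨(true, ⟨_, hx⟩), Subtype.ext (by simp [mul_assoc, D.i1_block.sq])⟩
  rw [← Nat.card_eq_of_bijective _ hb, Nat.card_prod]
  simp

theorem i1_not_U : D.i1 ∉ F.U := fun h => by
  have := D.i1_block.neg (v := av 1 0) rfl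
  rw [(F.U_q h (av_inA 1 0)).eq, mul_inv_cancel_right] at this
  exact (by decide : av 1 0 ≠ (-av 1 0 : W4)) (D.q_injective this)

theorem UM_comm_i1 : ∀ x ∈ F.UM, Commute x D.i1 := fun _ hx => (F.mem_UM.mp hx).2

include hB in
theorem card_UM : Nat.card F.UM = 81 := by
  have hb : Function.Bijective (fun p : ZMod 3 × ZMod 3 × ZMod 3 × ZMod 3 =>
      (⟨F.jel (p.1, 0, p.2.1, p.2.2.1) * F.s2 ^ p.2.2.2.val, mul_mem (F.jel_mem_UM _ _ _) (pow_mem F.s2_mem _)⟩ : F.UM)) := by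
    refine ⟨fun p q e => ?_, fun ⟨x, hx⟩ => ?_⟩
    · obtain ⟨h1, h2, h3, h4⟩ := F.UM_coord_inj hB (congrArg Subtype.val e)
      exact Prod.ext h1 (Prod.ext h2 (Prod.ext h3 h4))
    · obtain ⟨k, l, j, m, rfl⟩ := F.UM_decomp hB hx
      exact ⟨(k, l, j, m), rfl⟩
  rw [← Nat.card_eq_of_bijective _ hb]
  simp

include hB in
theorem card_NT_dvd (K : Subgroup G) (hK : K ≤ F.NT) : Nat.card K ∣ 4 * 162 := by
  let f : K →* Multiplicative Cls := MonoidHom.mk' (fun x => Multiplicative.ofAdd (F.ncls ⟨x, hK x.2⟩)) (fun a b => by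
    rw [← ofAdd_add, ← F.ncls_mul]; rfl)
  have hker : Nat.card f.ker ∣ 162 := by
    rw [show (162 : ℕ) = 2 * 81 from rfl, ← F.card_UM hB,
      ← card_adjI F.UM_comm_i1 (fun h => F.i1_not_U (F.mem_UM.mp h).1), ← Subgroup.card_map_of_injective (K := f.ker) K.subtype_injective]
    refine Subgroup.card_dvd_of_le ?_
    rintro _ ⟨x, hx, rfl⟩
    exact mem_adjI.mpr (F.ncls_zero_mem (Multiplicative.ofAdd.injective (MonoidHom.mem_ker.mp hx)))
  have hr : Nat.card f.range ∣ 4 := (Subgroup.card_subgroup_dvd_card _).trans (by simp)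
  have hm := Subgroup.card_eq_card_quotient_mul_card_subgroup f.ker
  rw [Nat.card_congr (QuotientGroup.quotientKerEquivRange f).toEquiv] at hm
  rw [hm]
  exact Nat.mul_dvd_mul hr hker

/-- The centraliser of the lift for the second block. -/
theorem cent_s2_any {g : G} (hg : g ∈ Mc (D := D)) (hc : Commute g F.s2) : g ∈ F.G0 := by
  obtain ⟨ha, hi⟩ := mem_Mc.mp hg
  refine F.swapB.levi_gen F.G0 ?_ ?_ (g := g) ?_ ((swap_i2 (D := D)).symm ▸ hi)
  · rw [F.W2_swap]; exact F.N0_le_G0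
  · rintro h hh hhi ⟨k, j, ez⟩ ⟨k', j', ey⟩
    rw [swap_i2 (D := D)] at hhi
    have hha : Commute h (a2 D) := F.swapB.mem_CP.mp hh _ F.a2_mem_swap
    have hhs : Commute h F.s2 := F.swapB.mem_CP.mp hh _ F.swapB.s0_mem_P
    have hhM : h ∈ Mc (D := D) := mem_Mc.mpr ⟨hha, hhi⟩
    refine F.NT_le_G0 ⟨hhM, ?_⟩
    have hto : ∀ x ∈ F.UM, h * x * h⁻¹ ∈ F.UM := by
      intro x hx
      obtain ⟨a, l, b, m, rfl⟩ := F.UM_decomp_any hx
      have ez' : h * D.z * h⁻¹ ∈ F.UM := by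
        have e : h * D.swap.z * h⁻¹ = F.swapB.jel (k, 0, 0, j) := ez
        rw [F.swapB_jel] at e
        exact (show h * D.z * h⁻¹ = _ from e) ▸ F.jel_mem_UM _ _ _
      have ey' : h * F.y * h⁻¹ ∈ F.UM := by
        have e : h * F.swapB.y * h⁻¹ = F.swapB.jel (k', 0, 0, j') := ey
        rw [F.swapB_jel] at e
        exact (show h * F.y * h⁻¹ = _ from e) ▸ F.jel_mem_UM _ _ _
      have hl : h * F.jel (0, 0, l, 0) * h⁻¹ = F.jel (0, 0, l, 0) := by
        rw [show ((0, 0, l, 0) : V4) = l • (0, 0, 1, 0) by simp, F.jel_smul, F.jel_q,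
          show D.q (av 0 1) = a2 D from rfl, (hha.pow_right _).eq, mul_inv_cancel_right]
      rw [show ((a, 0, l, b) : V4) = (a, 0, 0, 0) + (0, 0, l, 0) + (0, 0, 0, b) by simp, F.jel_add, F.jel_add,
        F.jel_zpow, F.jel_ypow, ← conj_mul, ← conj_mul, ← conj_mul, zz, conj_pow', conj_pow', hl,
        (hhs.pow_right _).eq, mul_inv_cancel_right]
      exact mul_mem (mul_mem (mul_mem (pow_mem ez' _) (F.jel_mem_UM _ _ _)) (pow_mem ey' _)) (pow_mem F.s2_mem _)
    intro x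
    refine ⟨hto x, fun hx => ?_⟩
    let f : F.UM → F.UM := fun a => ⟨h * a * h⁻¹, hto a a.2⟩
    obtain ⟨a, ha⟩ := ((Finite.injective_iff_surjective (f := f)).1 fun a b e => Subtype.ext (by
      have := congrArg Subtype.val e
      simpa [f] using this)) ⟨_, hx⟩
    have h2 : h * (a : G) * h⁻¹ = h * x * h⁻¹ := congrArg Subtype.val ha
    have : (a : G) = x := by simpa using h2
    exact this ▸ a.2
  · refine F.swapB.mem_CP.mpr fun π hπ => ?_
    obtain ⟨i, m, rfl⟩ := F.swapB.P_cases hπ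
    refine Commute.mul_right ?_ (hc.pow_right _)
    show Commute g (D.q (av 0 i))
    rw [← F.jel_q, show ((0, 0, i, 0) : V4) = i • (0, 0, 1, 0) by simp, F.jel_smul, F.jel_q]
    exact ha.pow_right _

include hB in
/-- The centraliser of the lift for the second block, in the large case. -/
theorem cent_s2 {g : G} (hg : g ∈ Mc (D := D)) (hc : Commute g F.s2) : g ∈ F.G0 := by
  have _h := hB
  exact F.cent_s2_any hg hc

include hB in
/-- The centraliser of the mixture. -/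
theorem cent_zy {g : G} (hg : g ∈ Mc (D := D)) (hc : Commute g (F.jel (1, 0, 0, 1))) : g ∈ F.NT := by
  classical
  set Z3 : Subgroup G :=
    { carrier := {x | ∃ k l : ZMod 3, x = F.jel (k, 0, l, k)}
      one_mem' := ⟨0, 0, F.jel_zero.symm⟩
      mul_mem' := by
        rintro _ _ ⟨k, l, rfl⟩ ⟨k', l', rfl⟩
        exact ⟨k + k', l + l', by rw [← F.jel_add]; simp⟩
      inv_mem' := by
        rintro _ ⟨k, l, rfl⟩
        exact ⟨-k, -l, by rw [← F.jel_neg]; simp⟩ } with hZ3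
  have hZ3U : Z3 ≤ F.UM := by rintro _ ⟨k, l, rfl⟩; exact F.jel_mem_UM _ _ _
  have hZ3i : ∀ x ∈ Z3, Commute x D.i1 := fun x hx => F.UM_comm_i1 x (hZ3U hx)
  set H := Mc (D := D) ⊓ Subgroup.centralizer {F.jel (1, 0, 0, 1)} with hH
  have memH : ∀ {x : G}, x ∈ H ↔ x ∈ Mc (D := D) ∧ Commute x (F.jel (1, 0, 0, 1)) := fun {x} => by
    rw [hH, Subgroup.mem_inf, Subgroup.mem_centralizer_singleton_iff]; rfl
  have fixZ : ∀ {h : G}, h ∈ H → ∀ x ∈ Z3, Commute h x := by
    rintro h hh _ ⟨k, l, rfl⟩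
    rw [show ((k, 0, l, k) : V4) = k • (1, 0, 0, 1) + l • (0, 0, 1, 0) by simp, F.jel_add, F.jel_smul, F.jel_smul,
      F.jel_q]
    exact ((memH.mp hh).2.pow_right _).mul_right ((mem_Mc.mp (memH.mp hh).1).1.pow_right _)
  set A := adjI F.UM F.UM_comm_i1 with hA
  set Z := adjI Z3 hZ3i with hZ
  have hAH : A ≤ H := by
    intro x hx
    have hx' : ∀ u ∈ F.UM, u ∈ H := fun u hu =>
      memH.mpr ⟨F.UM_le_Mc hu, (F.U_comm (F.mem_UM.mp hu).1 (F.jel_mem_U _))⟩
    rcases hx with hx | hx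
    · exact hx' x hx
    · have hi : D.i1 ∈ H := memH.mpr ⟨mem_Mc.mpr ⟨D.i1_block.fix rfl, Commute.refl _⟩,
        ((F.mem_UM.mp (F.jel_mem_UM 1 0 1)).2).symm⟩
      have := mul_mem (hx' _ hx) (inv_mem hi)
      rwa [mul_inv_cancel_right] at this
  have toUM : ∀ {h : G}, h ∈ H → h ∈ Subgroup.normalizer (A : Set G) → h ∈ F.NT := by
    intro h hh hn
    refine ⟨(memH.mp hh).1, fun x => ?_⟩
    constructor
    · intro hx
      exact F.three_UM (by rw [conj_pow, F.U_cube hx.1]; group) (mem_adjI.mp ((hn x).mp (Or.inl hx)))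
    · intro hx
      refine F.three_UM ?_ (mem_adjI.mp ((hn x).mpr (Or.inl hx)))
      calc x ^ 3 = h⁻¹ * (h * x * h⁻¹) ^ 3 * h := by rw [conj_pow]; group
        _ = 1 := by rw [F.U_cube (show h * x * h⁻¹ ∈ F.U from hx.1)]; group
  have fromNT : ∀ {h : G}, h ∈ H → h ∈ F.NT → h ∈ Subgroup.normalizer (A : Set G) := by
    intro h hh hn x
    have hi := (mem_Mc.mp (memH.mp hh).1).2
    rw [SetLike.mem_coe, SetLike.mem_coe, hA, mem_adjI, mem_adjI, show h * x * h⁻¹ * D.i1 = h * (x * D.i1) * h⁻¹ by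
      rw [show h * (x * D.i1) * h⁻¹ = h * x * h⁻¹ * (h * D.i1 * h⁻¹) by group, hi.eq, mul_inv_cancel_right]]
    exact or_congr (hn.2 x) (hn.2 _)
  suffices hmain : H ≤ Subgroup.normalizer (A : Set G) from toUM (memH.mpr ⟨hg, hc⟩) (hmain (memH.mpr ⟨hg, hc⟩))
  refine CfsgLib.Sym9Three.le_normalizer_of_quotient H Z A ?_ hAH ?_ ?_ ?_ ?_ ?_ ?_ ?_ ?_
  · rintro x (hx | hx)
    exacts [Or.inl (hZ3U hx), Or.inr (hZ3U hx)]
  · intro z hz h hh
    rcases hz with hz | hz
    · exact (fixZ hh z hz).eq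
    · have := (fixZ hh _ hz).mul_right (mem_Mc.mp (memH.mp hh).1).2
      rwa [mul_assoc, D.i1_block.sq, mul_one] at this
  · have h9 : Nat.card Z3 = 9 := by
      have hb : Function.Bijective (fun p : ZMod 3 × ZMod 3 => (⟨F.jel (p.1, 0, p.2, p.1), p.1, p.2, rfl⟩ : Z3)) := by
        refine ⟨fun p q e => ?_, fun ⟨x, k, l, e⟩ => ⟨(k, l), Subtype.ext e.symm⟩⟩
        have := F.jel_inj (congrArg Subtype.val e)
        simp only [Prod.mk.injEq, true_and] at this
        exact Prod.ext this.1 this.2.1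
      rw [← Nat.card_eq_of_bijective _ hb]; simp
    rw [hA, hZ, card_adjI _ (fun h => F.i1_not_U (F.mem_UM.mp h).1), card_adjI _ (fun h => F.i1_not_U (F.mem_UM.mp (hZ3U h)).1), F.card_UM hB, h9]
  · intro a ha
    rcases ha with ha | ha
    · exact Or.inl (by rw [F.U_cube ha.1]; exact one_mem _)
    · refine Or.inr ?_
      have hc : Commute a D.i1 := by simpa using (F.UM_comm_i1 _ ha).mul_left (Commute.refl D.i1).inv_left
      have h3 := F.U_cube ha.1
      rw [hc.mul_pow, pow_three' D.i1, D.i1_block.sq, one_mul] at h3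
      rw [h3]; exact one_mem _
  · intro a ha b hb
    have key : ∀ {a b : G}, a ∈ A → b ∈ F.UM → Commute a b := by
      intro a b ha hb
      rcases ha with ha | ha
      · exact F.U_comm ha.1 hb.1
      · simpa using (show Commute (a * D.i1) b from F.U_comm ha.1 hb.1).mul_left (F.UM_comm_i1 _ hb).symm.inv_left
    have hab : Commute a b := by
      rcases hb with hb | hb
      · exact key ha hb
      · have hi : Commute a D.i1 := (mem_Mc.mp (memH.mp (hAH ha)).1).2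
        simpa using (key ha hb).mul_right hi.inv_right
    rw [hab.eq, mul_inv_cancel_right, mul_inv_cancel]
    exact one_mem _
  · intro h hh hcm
    have hto : ∀ x ∈ F.UM, h * x * h⁻¹ ∈ F.UM := fun x hx => by
      refine F.three_UM (by rw [conj_pow, F.U_cube hx.1]; group) ?_
      have h1 := hcm x (Or.inl hx)
      rcases h1 with h1 | h1
      · exact Or.inl (by have := mul_mem (hZ3U h1) hx; rwa [inv_mul_cancel_right] at this)
      · refine Or.inr ?_
        have := mul_mem (hZ3U h1) hx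
        rwa [mul_assoc (h * x * h⁻¹ * x⁻¹), ← (F.UM_comm_i1 _ hx).eq, ← mul_assoc, inv_mul_cancel_right] at this
    have hn : h ∈ F.NT := ⟨(memH.mp hh).1, fun x => ⟨hto x, fun hx => by
      let f : F.UM → F.UM := fun a => ⟨h * a * h⁻¹, hto a a.2⟩
      obtain ⟨a, ha⟩ := ((Finite.injective_iff_surjective (f := f)).1 fun a b e => Subtype.ext (by
        have := congrArg Subtype.val e
        simpa [f] using this)) ⟨_, hx⟩
      have h2 : h * (a : G) * h⁻¹ = h * x * h⁻¹ := congrArg Subtype.val ha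
      have : (a : G) = x := by simpa using h2
      exact this ▸ a.2⟩⟩
    have h1 := F.ncls_spec ⟨h, hn⟩ 1 0 1
    rw [((memH.mp hh).2).eq, mul_inv_cancel_right] at h1
    have h1' := F.jel_inj h1
    simp only [Prod.mk.injEq, true_and] at h1'
    rcases cls_fix_one _ (Prod.ext h1'.1.symm h1'.2.symm) with e | e
    · exact F.ncls_zero_mem (n := ⟨h, hn⟩) e
    · exfalso
      have h2 := hcm _ (Or.inl F.z_mem_UM)
      have h3 : h * D.z * h⁻¹ = F.y := by
        rw [← F.jel_z, F.ncls_spec ⟨h, hn⟩, e, ← F.jel_y]; rfl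
      rw [h3] at h2
      have h4 : F.y * D.z⁻¹ = F.jel (2, 0, 0, 1) := by
        rw [← F.jel_y, ← F.jel_z, ← F.jel_neg, ← F.jel_add]; exact congrArg F.jel (by decide)
      rcases h2 with ⟨k, l, h2⟩ | h2
      · rw [h4] at h2
        have := F.jel_inj h2
        simp only [Prod.mk.injEq] at this
        exact (by decide : ∀ k : ZMod 3, ¬ ((2 : ZMod 3) = k ∧ (1 : ZMod 3) = k)) k ⟨this.1, this.2.2.2⟩
      · refine F.i1_not_U ?_
        have := mul_mem (inv_mem (F.jel_mem_U (2, 0, 0, 1))) (hZ3U h2).1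
        rwa [h4, inv_mul_cancel_left] at this
  · intro h hh a ha haZ hcm
    obtain ⟨a', ha', haa⟩ : ∃ a' ∈ F.UM, a = a' ∨ a = a' * D.i1 := by
      rcases ha with ha | ha
      · exact ⟨a, ha, Or.inl rfl⟩
      · exact ⟨_, ha, Or.inr (by rw [mul_assoc, D.i1_block.sq, mul_one])⟩
    have hcm' : h * a' * h⁻¹ * a'⁻¹ ∈ Z := by
      rcases haa with rfl | rfl
      · exact hcm
      · rwa [show h * (a' * D.i1) * h⁻¹ * (a' * D.i1)⁻¹ = h * a' * (D.i1 * h⁻¹ * D.i1⁻¹) * a'⁻¹ by group,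
          ((mem_Mc.mp (memH.mp hh).1).2.inv_left).symm.eq, mul_inv_cancel_right] at hcm
    have haZ' : a' ∉ Z3 := fun h0 => haZ (by
      rcases haa with rfl | rfl
      · exact Or.inl h0
      · exact Or.inr (by rw [mul_assoc, D.i1_block.sq, mul_one]; exact h0))
    obtain ⟨ζ, hζ, eζ⟩ : ∃ ζ ∈ Z3, h * a' * h⁻¹ = ζ * a' := by
      rcases hcm' with h0 | h0
      · exact ⟨_, h0, by group⟩
      · exfalso
        have h1 := F.three_UM (x := h * a' * h⁻¹) (by rw [conj_pow, F.U_cube ha'.1]; group) (Or.inr (by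
          have := mul_mem (hZ3U h0) ha'
          rwa [mul_assoc (h * a' * h⁻¹ * a'⁻¹), ← (F.UM_comm_i1 _ ha').eq, ← mul_assoc, inv_mul_cancel_right] at this))
        refine F.i1_not_U ?_
        have := F.U.mul_mem (F.U.inv_mem (F.UM.mul_mem h1 (F.UM.inv_mem ha')).1) (hZ3U h0).1
        rwa [inv_mul_cancel_left] at this
    -- the centraliser of the three
    have hC : ∀ x, x ∈ H → Commute x a' → x ∈ F.NT := by
      intro x hx hxa
      obtain ⟨k, l, j, m, e⟩ := F.UM_decomp hB ha'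
      by_cases hm : m = 0
      · subst hm
        rw [ZMod.val_zero, pow_zero, mul_one] at e
        have hkj : k ≠ j := fun h0 => haZ' (e ▸ ⟨k, l, by rw [h0]⟩)
        have hp : ∀ v : V4, ∀ c : ZMod 3, v = c • (1, 0, 0, 1) + (k - j) • (k, 0, l, j) + (-(k - j) * l) • (0, 0, 1, 0) →
            Commute x (F.jel v) := by
          intro v c hv
          rw [hv, F.jel_add, F.jel_add, F.jel_smul, F.jel_smul, F.jel_smul, ← e, F.jel_q]
          exact (((memH.mp hx).2.pow_right _).mul_right (hxa.pow_right _)).mul_right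
            ((mem_Mc.mp (memH.mp hx).1).1.pow_right _)
        obtain ⟨⟨c, hc⟩, c', hc'⟩ := (by decide +kernel : ∀ k l j : ZMod 3, k ≠ j →
          (∃ c : ZMod 3, ((1, 0, 0, 0) : V4) = c • (1, 0, 0, 1) + (k - j) • (k, 0, l, j) + (-(k - j) * l) • (0, 0, 1, 0)) ∧
          ∃ c : ZMod 3, ((2, 0, 0, 0) : V4) = c • (1, 0, 0, 1) + (k - j) • (k, 0, l, j) + (-(k - j) * l) • (0, 0, 1, 0) ∨
            ((1, 0, 0, 0) : V4) = c • (1, 0, 0, 1) + (k - j) • (k, 0, l, j) + (-(k - j) * l) • (0, 0, 1, 0)) k l j hkj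
        have hz : Commute x D.z := F.jel_z ▸ hp _ c hc
        have hy : Commute x F.y := by
          have := (memH.mp hx).2.mul_right (F.jel_z ▸ hz : Commute x (F.jel (1, 0, 0, 0))).inv_right
          rw [← F.jel_neg, ← F.jel_add] at this
          rw [← F.jel_y]
          exact this
        exact F.norm_UM_of_NJ (memH.mp hx).1 (F.mem_norm_J (F.pair_zy hz hy).1)
      · set s := F.swapB.s0 ^ m.val with hs
        set T : Subgroup G :=
          { carrier := {w | ∃ u ∈ Z3, ∃ n : ZMod 3, w = u * a' ^ n.val}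
            one_mem' := ⟨1, one_mem _, 0, by rw [ZMod.val_zero, pow_zero, mul_one]⟩
            mul_mem' := by
              rintro _ _ ⟨u, hu, n, rfl⟩ ⟨u', hu', n', rfl⟩
              refine ⟨u * u', mul_mem hu hu', n + n', ?_⟩
              rw [show u * a' ^ n.val * (u' * a' ^ n'.val) = u * (a' ^ n.val * u') * a' ^ n'.val by group,
                ((F.U_comm ha'.1 (hZ3U hu').1).pow_left _).eq, ZMod.val_add, ← pow_eq_pow_mod _ (F.U_cube ha'.1),
                pow_add]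
              group
            inv_mem' := by
              rintro _ ⟨u, hu, n, rfl⟩
              refine ⟨u⁻¹, inv_mem hu, -n, ?_⟩
              rw [mul_inv_rev, show a' ^ (-n).val = (a' ^ n.val)⁻¹ from eq_inv_of_mul_eq_one_left (by
                rw [← pow_add, pow_eq_pow_mod _ (F.U_cube ha'.1), ← ZMod.val_add, neg_add_cancel, ZMod.val_zero,
                  pow_zero])]
              exact ((F.U_comm (hZ3U hu).1 (pow_mem ha'.1 _)).inv_inv).symm.eq } with hT
        have hxT : x ∈ Subgroup.centralizer (T : Set G) := Subgroup.mem_centralizer_iff.mpr (by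
          rintro _ ⟨u, hu, n, rfl⟩
          exact ((fixZ hx u hu).mul_right (hxa.pow_right _)).eq.symm)
        refine F.norm_UM_of_NU (memH.mp hx).1 (F.free_le freeLine_zy T ?_ ?_ ?_ ?_ ?_ hxT)
        · rintro _ ⟨u, hu, n, rfl⟩; exact mul_mem (hZ3U hu).1 (pow_mem ha'.1 _)
        · exact ⟨_, ⟨1, 0, rfl⟩, 0, by rw [ZMod.val_zero, pow_zero, mul_one]⟩
        · exact ⟨_, ⟨0, 1, rfl⟩, 0, by rw [ZMod.val_zero, pow_zero, mul_one]⟩
        · intro w hw
          obtain ⟨v, n, hn⟩ := F.swapB.U_decomp (F.swap_caseB hB) (x := w) (F.swapB_U.symm ▸ hw)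
          have hmn : (m.val * (m * n).val : ℕ) % 3 = n.val := by
            exact (by decide : ∀ m : ZMod 3, m ≠ 0 → ∀ n : ZMod 3, m.val * (m * n).val % 3 = n.val) m hm n
          have hpow : a' ^ (m * n).val = F.jel ((m * n) • (k, 0, l, j)) * F.s2 ^ n.val := by
            rw [e, (F.commute_jel (pow_mem F.s2_mem.1 _) _).symm.mul_pow, F.jel_smul, ← pow_mul,
              pow_eq_pow_mod _ (F.U_cube F.s2_mem.1), hmn]
          obtain ⟨v1, v2, v3, v4⟩ := v
          rw [F.swapB_jel, ← s2] at hn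
          refine ⟨1 * a' ^ (m * n).val, ⟨1, one_mem _, m * n, rfl⟩,
            (v1, v3, v2, v4) + -((m * n) • (k, 0, l, j)), ?_⟩
          rw [hn, one_mul, hpow, mul_assoc, (F.commute_jel (pow_mem F.s2_mem.1 _) _).eq, ← mul_assoc, ← F.jel_add]
          congr 2
          abel
        · have hb : Function.Bijective (fun p : (ZMod 3 × ZMod 3) × ZMod 3 =>
              (⟨F.jel (p.1.1, 0, p.1.2, p.1.1) * a' ^ p.2.val, _, ⟨p.1.1, p.1.2, rfl⟩, p.2, rfl⟩ : T)) := by
            refine ⟨fun p q he => ?_, fun ⟨w, u, ⟨k', l', hu⟩, n, hw⟩ =>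
              ⟨((k', l'), n), Subtype.ext (by subst hu; exact hw.symm)⟩⟩
            obtain ⟨⟨p1, p2⟩, n⟩ := p
            obtain ⟨⟨q1, q2⟩, n'⟩ := q
            have he' := congrArg Subtype.val he
            simp only [e, (F.commute_jel (pow_mem F.s2_mem.1 m.val) _).symm.mul_pow, ← F.jel_smul] at he'
            rw [← mul_assoc, ← mul_assoc, ← F.jel_add, ← F.jel_add, ← pow_mul, ← pow_mul,
              pow_eq_pow_mod (m.val * n.val) (F.U_cube F.s2_mem.1),
              pow_eq_pow_mod (m.val * n'.val) (F.U_cube F.s2_mem.1), ← ZMod.val_mul, ← ZMod.val_mul] at he'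
            simp only [Prod.smul_mk, Prod.mk_add_mk, smul_zero, add_zero] at he'
            obtain ⟨e1, e2, -, e4⟩ := F.UM_coord_inj hB he'
            obtain rfl : n = n' := mul_left_cancel₀ hm e4
            obtain rfl := add_right_cancel e1
            obtain rfl := add_right_cancel e2
            rfl
          rw [F.card_U_eq hB, ← Nat.card_eq_of_bijective _ hb]
          simp
    -- the element normalises the centraliser
    have hconj : ∀ {x}, x ∈ F.UM → h * x * h⁻¹ ∈ F.UM := by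
      intro x hx
      have hxH : x ∈ H := hAH (Or.inl hx)
      have h1 : Commute (h * x * h⁻¹) a' := by
        have h2 := conj_comm h (F.U_comm hx.1 ha'.1)
        rw [eζ] at h2
        have h3 := (fixZ (mul_mem (mul_mem hh hxH) (inv_mem hh)) ζ hζ).inv_right.mul_right h2
        rwa [inv_mul_cancel_left] at h3
      exact F.three_pow_NT (hC _ (mul_mem (mul_mem hh hxH) (inv_mem hh)) h1) (m := 1)
        (by rw [conj_pow, pow_one, F.U_cube hx.1]; group)
    refine fromNT hh ⟨(memH.mp hh).1, fun x => ⟨hconj, fun hx => ?_⟩⟩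
    let f : F.UM → F.UM := fun a => ⟨h * a * h⁻¹, hconj a.2⟩
    obtain ⟨b, hb⟩ := ((Finite.injective_iff_surjective (f := f)).1 fun a b e => Subtype.ext (by
      have := congrArg Subtype.val e
      simpa [f] using this)) ⟨_, hx⟩
    have h2 : h * (b : G) * h⁻¹ = h * x * h⁻¹ := congrArg Subtype.val hb
    have : (b : G) = x := by simpa using h2
    exact this ▸ b.2
  · intro h hh hn
    exact F.NT_sq (toUM hh hn)
  · have h9 := F.card_NT_dvd hB (H ⊓ Subgroup.normalizer (A : Set G)) (fun x hx => toUM hx.1 hx.2)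
    refine h9.trans (dvd_of_eq ?_)
    have hb : Function.Bijective (fun p : ZMod 3 × ZMod 3 => (⟨F.jel (p.1, 0, p.2, p.1), p.1, p.2, rfl⟩ : Z3)) := by
      refine ⟨fun p q e => ?_, fun ⟨x, k, l, e⟩ => ⟨(k, l), Subtype.ext e.symm⟩⟩
      have := F.jel_inj (congrArg Subtype.val e)
      simp only [Prod.mk.injEq, true_and] at this
      exact Prod.ext this.1 this.2.1
    rw [hZ, card_adjI _ (fun h => F.i1_not_U (F.mem_UM.mp (hZ3U h)).1), ← Nat.card_eq_of_bijective _ hb]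
    simp

end Base

end Setting

end CfsgLib.U6Three
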