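import Cfsg.Agent.Lib.U6Three.CentA2Norm

/-!
The involutions of the normaliser of the product of the two quaternion groups: they keep their classes under
conjugation in the centraliser of the second vector and the block involution.
-/

set_option autoImplicit false
set_option linter.style.haveILetI false

namespace CfsgLib.U6Three

universe u

theorem q8_triple : ∀ R : SL23, R * R * (R * R) = 1 → ∀ j : ZMod 3, j ≠ 0 →
    R * (mU ^ j.val * R * (mU ^ j.val)⁻¹) * (mU ^ j.val * (mU ^ j.val * R * (mU ^ j.val)⁻¹) * (mU ^ j.val)⁻¹) = 1 ∨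
    R * (mU ^ j.val * R * (mU ^ j.val)⁻¹) * (mU ^ j.val * (mU ^ j.val * R * (mU ^ j.val)⁻¹) * (mU ^ j.val)⁻¹) = -1 := by
  decide +kernel

theorem q8_sq : ∀ R : SL23, R * R * (R * R) = 1 → R * R = 1 ∨ R * R = -1 := by decide +kernel

theorem q8_split_four : ∀ R : SL23, R * R * (R * R) = 1 → ∃ A B : SL23, A * A * (A * A) = 1 ∧ A * A = -1 ∧
    B * B * (B * B) = 1 ∧ B * B = -1 ∧ A * B = R := by decide +kernel

theorem cls_inv_vec : ∀ c : Cls, c ≠ 0 → ∃ β : ZMod 3, β ≠ 0 ∧ clsMap c (1, β) = (-1, -β) := by decide +kernel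

theorem cls_inv_pair : ∀ k j : ZMod 3, (((clsMap ((0, 1) : Cls) (k, j)).1, (0 : ZMod 3), (0 : ZMod 3),
    (clsMap ((0, 1) : Cls) (k, j)).2) : V4) = -(k, 0, 0, j) := by decide +kernel

/-- The linear map given by a class and the image of the first vector. -/
def clsLin (cc : Cls) (i l : ZMod 3) (v : V4) : V4 :=
  v.1 • ((clsMap cc (1, 0)).1, (0 : ZMod 3), (0 : ZMod 3), (clsMap cc (1, 0)).2) +
    v.2.1 • ((0 : ZMod 3), i, l, (0 : ZMod 3)) +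
    v.2.2.1 • ((0 : ZMod 3), (0 : ZMod 3), (1 : ZMod 3), (0 : ZMod 3)) +
    v.2.2.2 • ((clsMap cc (0, 1)).1, (0 : ZMod 3), (0 : ZMod 3), (clsMap cc (0, 1)).2)

theorem clsLin_invol : ∀ cc : Cls, ∀ i l : ZMod 3, i ≠ 0 → qJ (clsLin cc i l (1, 1, 0, 2)) = 0 →
    ∀ v : V4, clsLin cc i l (clsLin cc i l v) = v := by decide +kernel

theorem cls_fix_vec : (clsMap ((1, 1) : Cls) (1, 2) = (1, 2)) ∧ (clsMap ((1, 0) : Cls) (1, 1) = (1, 1)) := by
  decide +kernel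

namespace Setting.Base

variable {G : Type u} [Group G] {D : Setting G} (F : D.Base) [Finite G]

theorem NT_cube {x : G} (hx : x ∈ F.UM) : x ^ 3 = 1 := F.U_cube (F.mem_UM.mp hx).1

theorem N0_NT_zero {n : F.NT} (h : (n : G) ∈ F.N0) : F.ncls n = 0 := by
  have key : ∀ {w : G}, w ∈ F.UM → Commute (n : G) w := by
    intro w hw
    have h1 : (n : G) * w * (n : G)⁻¹ * w⁻¹ ∈ F.N0 := by
      rw [show (n : G) * w * (n : G)⁻¹ * w⁻¹ = (n : G) * (w * (n : G)⁻¹ * w⁻¹) by group]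
      exact mul_mem h (F.NT_conj_N0 (F.UM_le_NT hw) (inv_mem h))
    have h2 : (n : G) * w * (n : G)⁻¹ * w⁻¹ ∈ F.UM := mul_mem ((n.2.2 w).mp hw) (inv_mem hw)
    have h3 : (n : G) * w * (n : G)⁻¹ * w⁻¹ = 1 := orderOf_eq_one_iff.mp (Nat.eq_one_of_dvd_coprimes
      (by decide : Nat.Coprime 4 3) (orderOf_dvd_of_pow_eq_one (F.N0_four h1))
      (orderOf_dvd_of_pow_eq_one (F.NT_cube h2)))
    exact mul_inv_eq_iff_eq_mul.mp (mul_inv_eq_one.mp h3)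
  exact F.UM_zero (F.cent_zy_pair n.2.1 (key F.z_mem_UM) (key F.y_mem_UM))

theorem exists_gcls (g : F.G0) : ∃ c : Cls, ∀ x ∈ F.N0, ∀ n : F.NT, (g : G) = x * n → F.ncls n = c := by
  obtain ⟨x, hx, n, hn, e⟩ := F.mem_G0 g.2
  refine ⟨F.ncls ⟨n, hn⟩, fun x' hx' n' e' => ?_⟩
  have h : ((n' * ⟨n, hn⟩⁻¹ : F.NT) : G) ∈ F.N0 := by
    show (n' : G) * n⁻¹ ∈ F.N0
    rw [show (n' : G) * n⁻¹ = x'⁻¹ * x by
      rw [show (n' : G) = x'⁻¹ * g by rw [e', inv_mul_cancel_left], e]; group]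
    exact mul_mem (inv_mem hx') hx
  have h0 := F.N0_NT_zero h
  have h1 : F.ncls n' = F.ncls (n' * ⟨n, hn⟩⁻¹) + F.ncls ⟨n, hn⟩ := by rw [← F.ncls_mul, inv_mul_cancel_right]
  rwa [h0, zero_add] at h1

/-- The class of an element of the extended product. -/
noncomputable def gcls (g : F.G0) : Cls := (F.exists_gcls g).choose

theorem gcls_eq {g : F.G0} {x : G} (hx : x ∈ F.N0) {n : F.NT} (e : (g : G) = x * n) : F.gcls g = F.ncls n :=
  ((F.exists_gcls g).choose_spec x hx n e).symm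

theorem gcls_NT (n : F.NT) : F.gcls ⟨n, F.NT_le_G0 n.2⟩ = F.ncls n := F.gcls_eq (one_mem _) (one_mul _).symm

theorem gcls_mul (a b : F.G0) : F.gcls (a * b) = F.gcls a + F.gcls b := by
  obtain ⟨x, hx, n, hn, e⟩ := F.mem_G0 a.2
  obtain ⟨x', hx', n', hn', e'⟩ := F.mem_G0 b.2
  rw [F.gcls_eq hx (n := ⟨n, hn⟩) e, F.gcls_eq hx' (n := ⟨n', hn'⟩) e', ← F.ncls_mul]
  refine F.gcls_eq (x := x * (n * x' * n⁻¹)) (mul_mem hx (F.NT_conj_N0 hn hx')) ?_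
  show (a : G) * b = x * (n * x' * n⁻¹) * (n * n')
  rw [e, e']; group

theorem gcls_conj (h v : F.G0) : F.gcls (h * v * h⁻¹) = F.gcls v := by
  have hh : F.gcls h + F.gcls h⁻¹ = F.gcls 1 := by rw [← F.gcls_mul, mul_inv_cancel]
  have h1 : F.gcls (1 : F.G0) = 0 := by
    have := F.gcls_mul 1 1
    rw [mul_one, left_eq_add] at this
    exact this
  rw [F.gcls_mul, F.gcls_mul, add_right_comm, hh, h1, zero_add]

theorem gcls_N0 {g : F.G0} (h : (g : G) ∈ F.N0) : F.gcls g = 0 :=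
  (F.gcls_eq h (n := 1) (mul_one _).symm).trans (F.UM_zero (Or.inl (one_mem _)))

theorem gcls_zero_cube {g : F.G0} (h : F.gcls g = 0) : (g : G) ^ 3 ∈ F.N0 := by
  obtain ⟨x, hx, n, hn, e⟩ := F.mem_G0 g.2
  rw [F.gcls_eq hx (n := ⟨n, hn⟩) e] at h
  obtain ⟨x', hx', u, hu, e'⟩ : ∃ x' ∈ F.N0, ∃ u ∈ F.UM, (g : G) = x' * u := by
    rcases F.ncls_zero_mem (n := ⟨n, hn⟩) h with hu | hu
    · exact ⟨x, hx, n, hu, e⟩
    · refine ⟨x * D.i1, mul_mem hx (F.R1_le_N0 i1_mem_R1), n * D.i1, hu, ?_⟩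
      rw [e, show x * D.i1 * (n * D.i1) = x * (D.i1 * n) * D.i1 by group, ← (mem_Mc.mp hn.1).2.eq,
        show x * (n * D.i1) * D.i1 = x * n * (D.i1 * D.i1) by group, D.i1_block.sq, mul_one]
  have hn' := F.UM_le_NT hu
  rw [e', show (x' * u) ^ 3 = x' * (u * x' * u⁻¹) * (u * (u * x' * u⁻¹) * u⁻¹) * u ^ 3 by
    rw [pow_three', pow_three']; group, F.NT_cube hu, mul_one]
  exact mul_mem (mul_mem hx' (F.NT_conj_N0 hn' hx')) (F.NT_conj_N0 hn' (F.NT_conj_N0 hn' hx'))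

theorem invol_zero {v : F.G0} (h2 : (v : G) * v = 1) (h : F.gcls v = 0) : (v : G) ∈ F.N0 := by
  have := F.gcls_zero_cube h
  rwa [pow_three', h2, one_mul] at this

/-- The group of the central involution. -/
noncomputable def Ic : Subgroup G := Subgroup.zpowers D.i1

theorem mem_Ic {x : G} : x ∈ Ic (D := D) ↔ x = 1 ∨ x = D.i1 := by
  constructor
  · intro h
    obtain ⟨n, rfl⟩ := Subgroup.mem_zpowers_iff.mp h
    rcases Int.even_or_odd n with ⟨k, rfl⟩ | ⟨k, rfl⟩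
    · left; rw [← two_mul, zpow_mul, zpow_two, D.i1_block.sq, one_zpow]
    · right; rw [zpow_add, zpow_mul, zpow_two, D.i1_block.sq, one_zpow, one_mul, zpow_one]
  · rintro (rfl | rfl)
    exacts [one_mem _, Subgroup.mem_zpowers _]

theorem R1_pm {r : G} (hr : r ∈ D.R1) {R : SL23} (hA : D.MA r (R, 1)) (h : R = 1 ∨ R = -1) : r ∈ Ic (D := D) := by
  obtain ⟨-, R', hR', hrA⟩ := mem_R1_def.mp hr
  obtain rfl : R = R' := congrArg Prod.fst (hA.unique hrA.ma)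
  rcases h with rfl | rfl
  · exact mem_Ic.mpr (Or.inl (R1_inj hr (one_mem _) hrA acts_one))
  · exact mem_Ic.mpr (Or.inr (R1_inj hr i1_mem_R1 hrA D.i1_block.acts))

theorem Ic_comm {i x : G} (hi : i ∈ Ic (D := D)) (hx : x ∈ Mc (D := D)) : Commute x i := by
  rcases mem_Ic.mp hi with rfl | rfl
  exacts [Commute.one_right x, (mem_Mc.mp hx).2]

theorem N0_sq {w : G} (hw : w ∈ F.N0) : w * w ∈ Ic (D := D) := by
  have key : ∀ {r : G}, r ∈ D.R1 → r * r ∈ Ic (D := D) := fun {r} hr => by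
    obtain ⟨-, R, hR, hrA⟩ := mem_R1_def.mp hr
    exact R1_pm (mul_mem hr hr) (R := R * R) (by
      have := hrA.ma.mul hrA.ma
      rwa [show ((R, 1) : Pr) * (R, 1) = (R * R, 1) from Prod.ext rfl (one_mul _)] at this) (q8_sq R hR)
  obtain ⟨r, hr, s, hs, rfl⟩ := F.exists_prod hw
  obtain ⟨r', hr', rfl⟩ := id hs
  have h2 : (F.τ * r' * F.τ⁻¹) * (F.τ * r' * F.τ⁻¹) ∈ Ic (D := D) := by
    rw [conj_mul, (Ic_comm (key hr') F.τ_NT.1).eq, mul_inv_cancel_right]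
    exact key hr'
  show r * (F.τ * r' * F.τ⁻¹) * (r * (F.τ * r' * F.τ⁻¹)) ∈ Ic (D := D)
  rw [(show Commute (F.τ * r' * F.τ⁻¹) r from (F.R1_Ry_comm hr hs).symm).mul_mul_mul_comm]
  exact mul_mem (key hr) h2

theorem N0_swap {a b : G} (ha : a ∈ F.N0) (hb : b ∈ F.N0) : a * b * a⁻¹ * b⁻¹ ∈ Ic (D := D) := by
  rw [show a * b * a⁻¹ * b⁻¹ = (a * b * (a * b)) * (b⁻¹ * (a⁻¹ * a⁻¹) * b) * (b⁻¹ * b⁻¹) by group]
  have h1 := F.N0_sq (inv_mem ha)
  rw [show b⁻¹ * (a⁻¹ * a⁻¹) * b = a⁻¹ * a⁻¹ by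
    rw [(Ic_comm h1 (F.N0_le_Mc (inv_mem hb))).eq, inv_mul_cancel_right]]
  exact mul_mem (mul_mem (F.N0_sq (mul_mem ha hb)) h1) (F.N0_sq (inv_mem hb))

/-- The three conjugates under a mixture multiply into the central involution's group. -/
theorem N0_triple {β : ZMod 3} (hβ : β ≠ 0) {w : G} (hw : w ∈ F.N0) :
    w * (F.jel (1, 0, 0, β) * w * (F.jel (1, 0, 0, β))⁻¹) *
      (F.jel (1, 0, 0, β) * (F.jel (1, 0, 0, β) * w * (F.jel (1, 0, 0, β))⁻¹) * (F.jel (1, 0, 0, β))⁻¹) ∈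
      Ic (D := D) := by
  have key : ∀ {k j : ZMod 3}, j ≠ 0 → ∀ {r : G}, r ∈ D.R1 →
      r * (F.jel (k, 0, 0, j) * r * (F.jel (k, 0, 0, j))⁻¹) *
      (F.jel (k, 0, 0, j) * (F.jel (k, 0, 0, j) * r * (F.jel (k, 0, 0, j))⁻¹) * (F.jel (k, 0, 0, j))⁻¹) ∈
      Ic (D := D) := by
    intro k j hj r hr
    have hc : ∀ {r : G}, r ∈ D.R1 → F.jel (k, 0, 0, j) * r * (F.jel (k, 0, 0, j))⁻¹ ∈ D.R1 := fun h =>
      F.R1_conj_U (F.jel_mem_U _) (F.mem_UM.mp (F.jel_mem_UM k 0 j)).2 h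
    obtain ⟨-, R, hR, hrA⟩ := mem_R1_def.mp hr
    have hm : D.MA (F.jel (k, 0, 0, j)) (((mU, mU) : Pr) ^ j.val) := by
      have := (ma_of_Q (D := D) (mul_mem (D.zz_mem k) (D.q_mem (av 0 0)))).mul (F.y_ma j)
      rwa [one_mul] at this
    have h2 := (hm.mul hrA.ma).mul hm.inv
    have h3 := (hm.mul h2).mul hm.inv
    have h4 := (hrA.ma.mul h2).mul h3
    refine R1_pm (mul_mem (mul_mem hr (hc hr)) (hc (hc hr)))
      (R := R * (mU ^ j.val * R * (mU ^ j.val)⁻¹) * (mU ^ j.val * (mU ^ j.val * R * (mU ^ j.val)⁻¹) * (mU ^ j.val)⁻¹))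
      ?_ (q8_triple R hR j hj)
    convert h4 using 1
    exact Prod.ext (by simp) (by simp)
  obtain ⟨r, hr, s, hs, rfl⟩ := F.exists_prod hw
  obtain ⟨r', hr', rfl⟩ := id hs
  set e := F.jel (1, 0, 0, β) with he
  have heU : e ∈ F.UM := F.jel_mem_UM _ _ _
  have hs' : ∀ {s : G}, s ∈ F.Ry → e * s * e⁻¹ ∈ F.Ry := by
    rintro _ ⟨r', hr', rfl⟩
    refine ⟨(F.τ⁻¹ * e * F.τ) * r' * (F.τ⁻¹ * e * F.τ)⁻¹, ?_, by simp [mul_assoc]⟩
    have h := F.τ_flip.act (-β, 0, 0, -1)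
    simp only [neg_neg] at h
    rw [show F.τ⁻¹ * e * F.τ = F.jel (-β, 0, 0, -1) by rw [he, ← h]; group]
    exact F.R1_conj_U (F.jel_mem_U _) (F.mem_UM.mp (F.jel_mem_UM _ 0 _)).2 hr'
  have he' : F.τ⁻¹ * e * F.τ = F.jel (-β, 0, 0, -1) := by
    have h := F.τ_flip.act (-β, 0, 0, -1)
    simp only [neg_neg] at h
    rw [he, ← h]; group
  show r * (F.τ * r' * F.τ⁻¹) * (e * (r * (F.τ * r' * F.τ⁻¹)) * e⁻¹) *
    (e * (e * (r * (F.τ * r' * F.τ⁻¹)) * e⁻¹) * e⁻¹) ∈ Ic (D := D)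
  set s := F.τ * r' * F.τ⁻¹ with hsdef
  have hsR : s ∈ F.Ry := ⟨r', hr', rfl⟩
  have hr1 : e * r * e⁻¹ ∈ D.R1 := F.R1_conj_U (F.mem_UM.mp heU).1 (F.mem_UM.mp heU).2 hr
  have hr2 : e * (e * r * e⁻¹) * e⁻¹ ∈ D.R1 := F.R1_conj_U (F.mem_UM.mp heU).1 (F.mem_UM.mp heU).2 hr1
  rw [show e * (r * s) * e⁻¹ = (e * r * e⁻¹) * (e * s * e⁻¹) by group,
    show e * ((e * r * e⁻¹) * (e * s * e⁻¹)) * e⁻¹ = (e * (e * r * e⁻¹) * e⁻¹) * (e * (e * s * e⁻¹) * e⁻¹) by group,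
    (F.R1_Ry_comm hr1 hsR).symm.mul_mul_mul_comm,
    (F.R1_Ry_comm hr2 (mul_mem hsR (hs' hsR))).symm.mul_mul_mul_comm]
  refine mul_mem (key hβ hr) ?_
  have h1 := key (k := -β) (j := -1) (by decide) hr'
  rw [← he'] at h1
  have h2 : F.τ * (r' * (F.τ⁻¹ * e * F.τ * r' * (F.τ⁻¹ * e * F.τ)⁻¹) *
      (F.τ⁻¹ * e * F.τ * (F.τ⁻¹ * e * F.τ * r' * (F.τ⁻¹ * e * F.τ)⁻¹) * (F.τ⁻¹ * e * F.τ)⁻¹)) * F.τ⁻¹ ∈ Ic (D := D) := by
    rw [(Ic_comm h1 F.τ_NT.1).eq, mul_inv_cancel_right]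
    exact h1
  convert h2 using 1
  rw [hsdef]; group

/-- Involutions of a nontrivial class are conjugate to involutions of the normaliser. -/
theorem invol_form {v : F.G0} (h2 : (v : G) * v = 1) (hc : F.gcls v ≠ 0) :
    ∃ m ∈ F.N0, ∃ x : F.NT, (x : G) * x = 1 ∧ F.ncls x = F.gcls v ∧ (v : G) = m * x * m⁻¹ := by
  obtain ⟨x0, hx0, n, hn, e⟩ := F.mem_G0 v.2
  set N : F.NT := ⟨n, hn⟩
  have hcN : F.gcls v = F.ncls N := F.gcls_eq hx0 e
  set X : F.NT := N * N * N with hX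
  have hcX : F.ncls X = F.gcls v := by rw [hX, F.ncls_mul, F.ncls_mul, cls_triple, hcN]
  obtain ⟨x1, hx1, e1⟩ : ∃ x1 ∈ F.N0, (v : G) = x1 * X := by
    refine ⟨x0 * (n * x0 * n⁻¹) * (n * (n * x0 * n⁻¹) * n⁻¹), mul_mem (mul_mem hx0 (F.NT_conj_N0 hn hx0))
      (F.NT_conj_N0 hn (F.NT_conj_N0 hn hx0)), ?_⟩
    have h3 : (v : G) = (v : G) * v * v := by rw [h2, one_mul]
    rw [h3, e]
    show x0 * n * (x0 * n) * (x0 * n) = _ * (n * n * n)
    group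
  have hXX : (X : G) * X ∈ Ic (D := D) := by
    show n * n * n * (n * n * n) ∈ Ic (D := D)
    rw [show n * n * n * (n * n * n) = (n * n) ^ 3 by rw [pow_three']; group]
    rcases F.NT_sq hn with h | h
    · rw [F.NT_cube h]; exact one_mem _
    · have hci : Commute (n * n) D.i1 := (mem_Mc.mp (mul_mem hn.1 hn.1)).2
      have := F.NT_cube h
      rw [hci.mul_pow, pow_three' D.i1, D.i1_block.sq, one_mul, mul_eq_one_iff_eq_inv, D.i1_block.inv] at this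
      rw [this]; exact Subgroup.mem_zpowers _
  obtain ⟨β, hβ, hβc⟩ := cls_inv_vec _ hc
  set w := F.jel (1, 0, 0, β) with hw
  have hXw : (X : G) * w * (X : G)⁻¹ = w⁻¹ := by
    rw [hw, F.ncls_spec, hcX, hβc, ← F.jel_neg]
    exact congrArg F.jel (by simp)
  -- conjugation by the involutive part inverts modulo the centre
  set i := x1 * ((X : G) * x1 * (X : G)⁻¹) with hi
  have hiI : i ∈ Ic (D := D) := by
    have h : i * ((X : G) * X) = 1 := by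
      rw [hi, show x1 * ((X : G) * x1 * (X : G)⁻¹) * ((X : G) * X) = (x1 * X) * (x1 * X) by group, ← e1, h2]
    rw [eq_inv_of_mul_eq_one_left h]
    exact inv_mem hXX
  set m := w * x1 * w⁻¹ with hm
  have hmN : m ∈ F.N0 := F.NT_conj_N0 (F.UM_le_NT (F.jel_mem_UM _ _ _)) hx1
  have hkey : m⁻¹ * x1 * ((X : G) * m * (X : G)⁻¹) ∈ Ic (D := D) := by
    have e2 : (X : G) * m * (X : G)⁻¹ = w⁻¹ * (x1⁻¹ * i) * w := by
      rw [hi, inv_mul_cancel_left, hm, show (X : G) * (w * x1 * w⁻¹) * (X : G)⁻¹ =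
        ((X : G) * w * (X : G)⁻¹) * ((X : G) * x1 * (X : G)⁻¹) * ((X : G) * w * (X : G)⁻¹)⁻¹ by group, hXw, inv_inv]
    have hw3 : w⁻¹ = w * w := inv_eq_of_mul_eq_one_right (by
      rw [← pow_three]; exact F.U_cube (F.jel_mem_U _))
    have hwM : w ∈ Mc (D := D) := F.UM_le_Mc (F.jel_mem_UM _ _ _)
    set A := w * x1⁻¹ * w⁻¹ with hA
    set B := w * (w * x1⁻¹ * w⁻¹) * w⁻¹ with hB
    have hwN : w ∈ F.NT := F.UM_le_NT (F.jel_mem_UM _ _ _)
    have hAN : A ∈ F.N0 := F.NT_conj_N0 hwN (inv_mem hx1)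
    have e3 : m⁻¹ * x1 * ((X : G) * m * (X : G)⁻¹) = A * x1 * B * i := by
      rw [e2, show w⁻¹ * (x1⁻¹ * i) * w = (w * w) * (x1⁻¹ * i) * (w * w)⁻¹ by rw [← hw3, inv_inv],
        show (w * w) * (x1⁻¹ * i) * (w * w)⁻¹ = B * (w * (w * i * w⁻¹) * w⁻¹) by rw [hB]; group,
        show m⁻¹ = A by rw [hm, hA]; group, (Ic_comm hiI hwM).eq, mul_inv_cancel_right,
        (Ic_comm hiI hwM).eq, mul_inv_cancel_right, ← mul_assoc]
    rw [e3]
    refine mul_mem ?_ hiI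
    have h3 := F.N0_triple hβ (inv_mem hx1)
    -- reorder modulo the centre
    have e4 : A * x1 * B = (x1⁻¹ * A * B) * ((B⁻¹ * (A⁻¹ * x1 * A * x1⁻¹) * B) * (B⁻¹ * (x1 * x1) * B)) := by group
    rw [e4]
    have hBN : B ∈ F.N0 := F.NT_conj_N0 hwN hAN
    refine mul_mem h3 (mul_mem ?_ ?_)
    · have hc1 : A⁻¹ * x1 * A * x1⁻¹ ∈ Ic (D := D) := by
        have := F.N0_swap (inv_mem hAN) hx1
        rwa [inv_inv] at this
      rw [(Ic_comm hc1 (F.N0_le_Mc (inv_mem hBN))).eq, inv_mul_cancel_right]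
      exact hc1
    · have hc2 := F.N0_sq hx1
      rw [(Ic_comm hc2 (F.N0_le_Mc (inv_mem hBN))).eq, inv_mul_cancel_right]
      exact hc2
  set k := m⁻¹ * x1 * ((X : G) * m * (X : G)⁻¹) with hk
  have hkN : k ∈ F.N0 := by
    rcases mem_Ic.mp hkey with h | h <;> rw [h]
    exacts [one_mem _, F.R1_le_N0 i1_mem_R1]
  have hkT : k ∈ F.NT := by
    rcases mem_Ic.mp hkey with h | h <;> rw [h]
    · exact one_mem _
    · exact F.norm_UM_of_NJ (mem_Mc.mpr ⟨D.i1_block.fix rfl, Commute.refl _⟩) (F.mem_norm_J (by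
        rintro _ ⟨v, rfl⟩; rw [F.conj_jel_i1]; exact F.jel_mem _))
  have ev : (v : G) = m * (k * X) * m⁻¹ := by rw [e1, hk]; group
  refine ⟨m, hmN, ⟨k, hkT⟩ * X, ?_, ?_, ev⟩
  · show k * (X : G) * (k * (X : G)) = 1
    have h := congrArg (fun t => m⁻¹ * t * m) h2
    simp only [ev] at h
    calc k * (X : G) * (k * (X : G)) = m⁻¹ * (m * (k * (X : G)) * m⁻¹ * (m * (k * (X : G)) * m⁻¹)) * m := by group
      _ = 1 := by rw [h]; group
  · rw [F.ncls_mul, F.N0_NT_zero (n := ⟨k, hkT⟩) hkN, zero_add, hcX]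

/-- An element of order three whose fusion is controlled. -/
def Ctrl (f : G) : Prop := f ∈ F.G0 ∧ f ^ 3 = 1 ∧ ∀ g ∈ Mc (D := D), g * f * g⁻¹ ∈ F.G0 → g ∈ F.G0

theorem Ctrl.of_good {e : G} (he : F.Good e) : F.Ctrl e :=
  ⟨F.NT_le_G0 (F.UM_le_NT he.1), F.NT_cube he.1, fun _ hg h => F.good_fusion he hg h⟩

theorem Ctrl.conj {f : G} (hf : F.Ctrl f) {m : G} (hm : m ∈ F.G0) : F.Ctrl (m * f * m⁻¹) := by
  refine ⟨mul_mem (mul_mem hm hf.1) (inv_mem hm), by rw [conj_pow, hf.2.1]; group, fun g hg h => ?_⟩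
  have := hf.2.2 (g * m) (mul_mem hg (F.G0_le_Mc hm)) (by
    rwa [show g * m * f * (g * m)⁻¹ = g * (m * f * m⁻¹) * g⁻¹ by group])
  have := mul_mem this (inv_mem hm)
  rwa [mul_inv_cancel_right] at this

/-- Conjugate elements centralising controlled elements have the same class. -/
theorem ctrl_cls {v w : F.G0} {e f : G} (he : F.Ctrl e) (hve : Commute (v : G) e) (hf : F.Ctrl f)
    (hwf : Commute (w : G) f) {g : G} (hg : g ∈ Mc (D := D)) (hgv : g * v * g⁻¹ = w) : F.gcls w = F.gcls v := by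
  haveI : Fact (Nat.Prime 3) := ⟨Nat.prime_three⟩
  set H := Mc (D := D) ⊓ Subgroup.centralizer {(w : G)} with hH
  have memH : ∀ {x : G}, x ∈ H ↔ x ∈ Mc (D := D) ∧ Commute x w := fun {x} => by
    rw [hH, Subgroup.mem_inf, Subgroup.mem_centralizer_singleton_iff]; rfl
  have hfH : f ∈ H := memH.mpr ⟨F.G0_le_Mc hf.1, hwf.symm⟩
  have hp : ∀ {x : G}, x ^ 3 = 1 → IsPGroup 3 (Subgroup.zpowers x) := fun {x} h3 y => ⟨1, by
    obtain ⟨n, hn⟩ := Subgroup.mem_zpowers_iff.mp y.2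
    refine Subtype.ext ?_
    show (y : G) ^ 3 ^ 1 = 1
    rw [pow_one, ← hn, ← zpow_natCast, ← zpow_mul, mul_comm, zpow_mul, zpow_natCast, h3, one_zpow]⟩
  obtain ⟨Q, hQ⟩ := ((hp hf.2.1).comap_of_injective H.subtype H.subtype_injective).exists_le_sylow
  set P := (Q : Subgroup H).map H.subtype with hP
  have hfP : f ∈ P := ⟨⟨f, hfH⟩, hQ (Subgroup.mem_zpowers f), rfl⟩
  have hPG : P ≤ P ⊓ F.G0 := by
    refine le_of_grow (Q.2.map _) inf_le_left fun x hx hn => ⟨hx, ?_⟩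
    obtain ⟨y, -, rfl⟩ := id hx
    exact hf.2.2 _ (memH.mp y.2).1 (hn f ⟨hfP, hf.1⟩).2
  have hgH : g * e * g⁻¹ ∈ H := memH.mpr ⟨mul_mem (mul_mem hg (F.G0_le_Mc he.1)) (inv_mem hg), by
    rw [← hgv]; exact conj_comm g hve.symm⟩
  obtain ⟨Q', hQ'⟩ := ((hp (show (g * e * g⁻¹) ^ 3 = 1 by rw [conj_pow, he.2.1]; group)).comap_of_injective H.subtype
    H.subtype_injective).exists_le_sylow
  obtain ⟨c, hc⟩ := MulAction.exists_smul_eq H Q' Q
  have h1 : (c : G) * (g * e * g⁻¹) * (c : G)⁻¹ ∈ P :=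
    ⟨c * ⟨_, hgH⟩ * c⁻¹, hc ▸ ⟨_, hQ' (Subgroup.mem_zpowers _), rfl⟩, rfl⟩
  have hcG : (c : G) * g ∈ F.G0 := he.2.2 _ (mul_mem (memH.mp c.2).1 hg) (by
    rw [show (c : G) * g * e * ((c : G) * g)⁻¹ = (c : G) * (g * e * g⁻¹) * (c : G)⁻¹ by group]
    exact (hPG h1).2)
  have e1 : w = ⟨(c : G) * g, hcG⟩ * v * ⟨(c : G) * g, hcG⟩⁻¹ := Subtype.ext (by
    show (w : G) = (c : G) * g * v * ((c : G) * g)⁻¹
    rw [show (c : G) * g * v * ((c : G) * g)⁻¹ = (c : G) * (g * v * g⁻¹) * (c : G)⁻¹ by group, hgv,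
      (memH.mp c.2).2.eq, mul_inv_cancel_right])
  rw [e1, F.gcls_conj]

theorem zero_ctrl (hB : D.caseB) {v : F.G0} (h2 : (v : G) * v = 1) (h : F.gcls v = 0) :
    ∃ f, F.Ctrl f ∧ Commute (v : G) f :=
  ⟨F.s2, Ctrl.of_good F (F.good_s2 hB), F.N0_comm_s2 (F.invol_zero h2 h)⟩

theorem swap_ctrl (hB : D.caseB) {v : F.G0} (h2 : (v : G) * v = 1) (h : (F.gcls v).1 = 1) :
    ∃ f, F.Ctrl f ∧ Commute (v : G) f := by
  obtain ⟨m, hm, x, -, hxc, ev⟩ := F.invol_form h2 (fun h0 => by rw [h0] at h; exact absurd h (by decide))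
  have key : ∀ {β : ZMod 3}, F.Good (F.jel (1, 0, 0, β)) → clsMap (F.gcls v) (1, β) = (1, β) →
      ∃ f, F.Ctrl f ∧ Commute (v : G) f := by
    intro β hg hfix
    refine ⟨_, (Ctrl.of_good F hg).conj F (F.N0_le_G0 hm), ev ▸ conj_comm m ?_⟩
    refine mul_inv_eq_iff_eq_mul.mp ?_
    rw [F.ncls_spec, hxc, hfix]
  rcases cls_cases (F.gcls v) with e | e | e | e
  · rw [e] at h; exact absurd h (by decide)
  · rw [e] at h; exact absurd h (by decide)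
  · exact key (F.good_zy hB) (e ▸ cls_fix_vec.2)
  · exact key F.good_zy' (e ▸ cls_fix_vec.1)

theorem NT_le_NU {n : G} (hn : n ∈ F.NT) : n ∈ Subgroup.normalizer (F.U : Set G) := by
  refine F.mem_norm_U fun a ha => ?_
  set w := n * a * n⁻¹ with hw
  have key : ∀ {u : G}, u ∈ F.UM → Commute w u := fun {u} hu => by
    have h1 : n⁻¹ * u * n ∈ F.UM := by
      have := ((inv_mem hn : n⁻¹ ∈ F.NT).2 u).mp hu
      rwa [inv_inv] at this
    have := conj_comm n (F.U_comm ha (F.mem_UM.mp h1).1)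
    rwa [show n * (n⁻¹ * u * n) * n⁻¹ = u by group] at this
  exact (F.pair_zy (key F.z_mem_UM) (key F.y_mem_UM)).2 (by rw [hw, conj_pow, F.U_cube ha]; group)

/-- Up to the central involution, a pair inverting element fixes the first vector. -/
theorem NT_adjust {x : F.NT} : Commute (x : G) (D.q (av 1 0)) ∨ Commute ((x : G) * D.i1) (D.q (av 1 0)) := by
  obtain ⟨hxM, -⟩ := id x.2
  have hi := (mem_Mc.mp hxM).2
  set e := (x : G) * D.q (av 1 0) * (x : G)⁻¹ with he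
  have heU : e ∈ F.U := ((F.NT_le_NU x.2) _).mp (by rw [← F.jel_q]; exact F.jel_mem_U _)
  have hinv : D.i1 * e * D.i1 = e⁻¹ := by
    calc D.i1 * e * D.i1 = (x : G) * (D.i1 * D.q (av 1 0) * D.i1⁻¹) * (x : G)⁻¹ := by
          rw [he, show (x : G) * (D.i1 * D.q (av 1 0) * D.i1⁻¹) * (x : G)⁻¹ =
            ((x : G) * D.i1) * D.q (av 1 0) * ((x : G) * D.i1)⁻¹ by group, hi.eq]
          nth_rewrite 2 [← D.i1_block.inv]
          group
      _ = e⁻¹ := by rw [D.i1_block.neg rfl, ← D.q_inv, he]; group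
  obtain ⟨a, ha⟩ := F.U_inverted heU hinv
  rcases (by decide : ∀ a : ZMod 3, a = 0 ∨ a = 1 ∨ a = -1) a with rfl | rfl | rfl
  · exfalso
    rw [show av 0 0 = (0 : W4) from rfl, D.q_zero, he, conj_eq_one_iff] at ha
    exact (by decide : av 1 0 ≠ (0 : W4)) (D.q_injective (ha.trans D.q_zero.symm))
  · exact Or.inl (mul_inv_eq_iff_eq_mul.mp ha)
  · right
    refine mul_inv_eq_iff_eq_mul.mp ?_
    rw [show (x : G) * D.i1 * D.q (av 1 0) * ((x : G) * D.i1)⁻¹ =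
      (x : G) * (D.i1 * D.q (av 1 0) * D.i1⁻¹) * (x : G)⁻¹ by group, D.i1_block.neg rfl, ← D.q_inv,
      show (x : G) * (D.q (av 1 0))⁻¹ * (x : G)⁻¹ = e⁻¹ by rw [he]; group, ha, D.q_inv, av_neg, neg_neg, neg_zero]

theorem cls_of_ncls {x : F.NT} (hxF : (x : G) ∈ F.NF) : F.cls ⟨x, hxF⟩ = F.ncls x :=
  F.cls_eq _ (by rw [← F.jel_z, F.ncls_spec])

/-- An involution inverting both points, adjusted. -/
theorem exists_iota {x : F.NT} (h2 : (x : G) * x = 1) (hc : F.ncls x = (0, 1)) :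
    ∃ i, i ∈ Ic (D := D) ∧ ∃ hN : (x : G) * i ∈ F.NF, F.cls ⟨_, hN⟩ = (0, 1) ∧ (x : G) * i * ((x : G) * i) = 1 := by
  have mk : ∀ {i : G} (hiT : i ∈ F.NT), i ∈ Ic (D := D) → Commute ((x : G) * i) (D.q (av 1 0)) →
      ∃ i, i ∈ Ic (D := D) ∧ ∃ hN : (x : G) * i ∈ F.NF, F.cls ⟨_, hN⟩ = (0, 1) ∧ (x : G) * i * ((x : G) * i) = 1 := by
    intro i hiT hiI hq
    have hN : (x : G) * i ∈ F.NF :=
      ⟨mem_A12.mpr ⟨hq, (mem_Mc.mp (mul_mem x.2.1 hiT.1)).1⟩, F.NT_le_NU (mul_mem x.2 hiT)⟩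
    refine ⟨i, hiI, hN, ?_, ?_⟩
    · show F.cls ⟨((x * ⟨i, hiT⟩ : F.NT) : G), hN⟩ = _
      rw [F.cls_of_ncls (x := x * ⟨i, hiT⟩) hN, F.ncls_mul, hc, F.N0_NT_zero (n := ⟨i, hiT⟩) ?_, add_zero]
      rcases mem_Ic.mp hiI with h | h
      · show i ∈ F.N0; rw [h]; exact one_mem _
      · show i ∈ F.N0; rw [h]; exact F.R1_le_N0 i1_mem_R1
    · rw [(Ic_comm hiI x.2.1).symm.mul_mul_mul_comm, h2, one_mul]
      rcases mem_Ic.mp hiI with h | h <;> rw [h]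
      exacts [one_mul 1, D.i1_block.sq]
  rcases F.NT_adjust (x := x) with h | h
  · exact mk (one_mem _) (one_mem _) (by rwa [mul_one])
  · refine mk (F.norm_UM_of_NJ (mem_Mc.mpr ⟨D.i1_block.fix rfl, Commute.refl _⟩) (F.mem_norm_J ?_))
      (Subgroup.mem_zpowers _) h
    rintro _ ⟨v, rfl⟩; rw [F.conj_jel_i1]; exact F.jel_mem _

/-- The plane of the first vectors. -/
def Pl : Subgroup G := F.U ⊓ Subgroup.closure ({D.q (av 1 0), a2 D} : Set G)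

theorem mem_Pl {x : G} : x ∈ F.Pl ↔ ∃ i l : ZMod 3, x = D.q (av i l) := by
  constructor
  · rintro ⟨-, hc⟩
    let S : Subgroup G :=
      { carrier := {x | ∃ i l : ZMod 3, x = D.q (av i l)}
        one_mem' := ⟨0, 0, D.q_zero.symm⟩
        mul_mem' := by
          rintro _ _ ⟨i, l, rfl⟩ ⟨i', l', rfl⟩
          exact ⟨i + i', l + l', by rw [D.q_mul', av_om, neg_zero, D.zz_zero, one_mul, av_add]⟩
        inv_mem' := by
          rintro _ ⟨i, l, rfl⟩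
          exact ⟨-i, -l, by rw [D.q_inv, av_neg]⟩ }
    exact ((Subgroup.closure_le S).mpr (by rintro _ (rfl | rfl); exacts [⟨1, 0, rfl⟩, ⟨0, 1, rfl⟩])) hc
  · rintro ⟨i, l, rfl⟩
    refine ⟨by rw [← F.jel_q]; exact F.jel_mem_U _, ?_⟩
    rw [show D.q (av i l) = D.q (av 1 0) ^ i.val * a2 D ^ l.val by
      rw [← F.jel_q i l, show ((0, i, l, 0) : V4) = i • (0, 1, 0, 0) + l • (0, 0, 1, 0) by simp, F.jel_add, F.jel_smul,
        F.jel_smul, F.jel_q, F.jel_q]; rfl]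
    exact mul_mem (pow_mem (Subgroup.subset_closure (by simp)) _) (pow_mem (Subgroup.subset_closure (by simp [a2])) _)

theorem card_Pl : Nat.card F.Pl = 9 := by
  have hb : Function.Bijective (fun p : ZMod 3 × ZMod 3 => (⟨D.q (av p.1 p.2), F.mem_Pl.mpr ⟨_, _, rfl⟩⟩ : F.Pl)) := by
    refine ⟨fun p q e => ?_, fun ⟨x, hx⟩ => ?_⟩
    · obtain ⟨h1, h2⟩ := av_inj _ _ _ _ (D.q_injective (congrArg Subtype.val e))
      exact Prod.ext h1 h2
    · obtain ⟨i, l, rfl⟩ := F.mem_Pl.mp hx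
      exact ⟨(i, l), rfl⟩
  rw [← Nat.card_eq_of_bijective _ hb]; simp

theorem iota_sylow (hB : D.caseB) {ι : G} (hN : ι ∈ F.NF) (hc : F.cls ⟨ι, hN⟩ = (0, 1)) {P : Subgroup G}
    (hP : IsPGroup 3 P) (hPl : F.Pl ≤ P) (hPι : ∀ x ∈ P, Commute x ι) (hPa : ∀ x ∈ P, Commute x (a2 D)) :
    P ≤ F.Pl := by
  refine @le_of_grow _ _ _ 3 ⟨Nat.prime_three⟩ P F.Pl hP hPl fun x hx hn => ?_
  obtain ⟨m, hm⟩ := hP ⟨x, hx⟩
  have hm' : x ^ 3 ^ m = 1 := congrArg Subtype.val hm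
  -- the element normalises the large abelian group
  have hxU : x ∈ Subgroup.normalizer (F.U : Set G) := by
    refine F.mem_norm_U fun a ha => F.NF_three ?_ (by rw [conj_pow, F.U_cube ha]; group)
    have hA : x * a * x⁻¹ ∈ A12 (D := D) := by
      have hpl : ∀ {w : G}, w ∈ F.Pl → Commute (x * a * x⁻¹) (x * w * x⁻¹) := fun {w} hw =>
        conj_comm x (F.U_comm ha hw.1)
      have key : ∀ w ∈ F.Pl, Commute (x * a * x⁻¹) w := by
        intro w hw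
        let f : F.Pl → F.Pl := fun b => ⟨x * b * x⁻¹, hn b b.2⟩
        obtain ⟨b, hb⟩ := ((Finite.injective_iff_surjective (f := f)).1 fun a b e => Subtype.ext (by
          have := congrArg Subtype.val e
          simpa [f] using this)) ⟨_, hw⟩
        have := hpl b.2
        rwa [show x * (b : G) * x⁻¹ = w from congrArg Subtype.val hb] at this
      exact mem_A12.mpr ⟨key _ (F.mem_Pl.mpr ⟨1, 0, rfl⟩), key _ (F.mem_Pl.mpr ⟨0, 1, rfl⟩)⟩
    exact F.A12_le_NF hB hA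
  obtain ⟨φ, hφi, hφ⟩ := F.exists_lin (F.NU_le_NJ hxU)
  have hj : ∀ k j : ZMod 3, ∃ k' j' : ZMod 3, φ (k, 0, 0, j) = (k', 0, 0, j') := by
    intro k j
    rcases hv : φ (k, 0, 0, j) with ⟨k', i', l', j'⟩
    have h1 : ι * F.jel (k', i', l', j') * ι⁻¹ = F.jel (-(k', i', l', j')) := by
      rw [← hv, ← hφ, show ι * (x * F.jel (k, 0, 0, j) * x⁻¹) * ι⁻¹ = (ι * x) * F.jel (k, 0, 0, j) * (ι * x)⁻¹ by group,
        ← (hPι x hx).eq, show x * ι * F.jel (k, 0, 0, j) * (x * ι)⁻¹ = x * (ι * F.jel (k, 0, 0, j) * ι⁻¹) * x⁻¹ by group,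
        F.A12_conj_jel hN hc, cls_inv_pair, F.jel_neg, ← conj_inv, hφ, ← F.jel_neg]
    rw [F.A12_conj_jel hN hc] at h1
    have h2 := F.jel_inj h1
    simp only [Prod.neg_mk, Prod.mk.injEq] at h2
    obtain rfl : i' = 0 := (by decide : ∀ i : ZMod 3, i = -i → i = 0) i' h2.2.1
    obtain rfl : l' = 0 := (by decide : ∀ i : ZMod 3, i = -i → i = 0) l' h2.2.2.1
    exact ⟨k', j', rfl⟩
  have hpt : ∀ v, qJ v = 0 → v ≠ 0 → qJ (φ v) = 0 := fun v hq hne => by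
    refine ((F.isPt_jel _).mp ?_).1
    rw [← hφ]
    exact ((F.isPt_jel v).mpr ⟨hq, hne⟩).conj x
  obtain ⟨k, j, ez⟩ := hj 1 0
  obtain ⟨k', j', ey⟩ := hj 0 1
  have hkj : k * j = 0 := by
    have := hpt (1, 0, 0, 0) (by decide) (by decide)
    rw [ez] at this
    simpa [qJ] using this
  have hkj' : k' * j' = 0 := by
    have := hpt (0, 0, 0, 1) (by decide) (by decide)
    rw [ey] at this
    simpa [qJ] using this
  have hne : (k, j) ≠ (0, 0) := fun h => by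
    obtain ⟨rfl, rfl⟩ := Prod.mk.inj h
    have := hφi (a₁ := (1, 0, 0, 0)) (a₂ := 0) (by rw [ez, map_zero]; rfl)
    exact absurd this (by decide)
  have hne' : (k', j') ≠ (0, 0) := fun h => by
    obtain ⟨rfl, rfl⟩ := Prod.mk.inj h
    have := hφi (a₁ := (0, 0, 0, 1)) (a₂ := 0) (by rw [ey, map_zero]; rfl)
    exact absurd this (by decide)
  have hl : φ (0, 0, 1, 0) = (0, 0, 1, 0) := F.jel_inj (by
    rw [← hφ, F.jel_q, show D.q (av 0 1) = a2 D from rfl, (hPa x hx).eq, mul_inv_cancel_right])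
  obtain ⟨i, l, ei⟩ : ∃ i l : ZMod 3, φ (0, 1, 0, 0) = (0, i, l, 0) := by
    obtain ⟨i, l, e⟩ := F.mem_Pl.mp (hn _ (F.mem_Pl.mpr ⟨1, 0, rfl⟩))
    refine ⟨i, l, F.jel_inj ?_⟩
    rw [← hφ, F.jel_q, F.jel_q, e]
  have hlin : ∀ a b c d : ZMod 3, φ (a, b, c, d) =
      a • (k, (0 : ZMod 3), (0 : ZMod 3), j) + b • ((0 : ZMod 3), i, l, (0 : ZMod 3)) +
        c • ((0 : ZMod 3), (0 : ZMod 3), (1 : ZMod 3), (0 : ZMod 3)) + d • (k', (0 : ZMod 3), (0 : ZMod 3), j') :=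
    fun a b c d => by
    rw [show ((a, b, c, d) : V4) = a • (1, 0, 0, 0) + b • (0, 1, 0, 0) + c • (0, 0, 1, 0) + d • (0, 0, 0, 1) by simp,
      map_add, map_add, map_add, ZMod.map_smul, ZMod.map_smul, ZMod.map_smul, ZMod.map_smul, ez, ei, hl, ey]
  obtain ⟨cc, hz', hy'⟩ := pair_shape k j k' j' hkj hne hkj' hne' (by
    have h5 := hpt (1, 0, 1, 2) (by decide) (by decide)
    rw [hlin] at h5
    simpa [show (2 : ZMod 3) = 1 + 1 from rfl, add_mul] using h5)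
  -- trivial class and fixed first vector
  have hxz : φ (1, 0, 0, 0) = (1, 0, 0, 0) ∧ φ (0, 0, 0, 1) = (0, 0, 0, 1) ∧ φ (0, 1, 0, 0) = (0, 1, 0, 0) := by
    have hlin' : ∀ v : V4, φ v = v.1 • ((clsMap cc (1, 0)).1, (0 : ZMod 3), (0 : ZMod 3), (clsMap cc (1, 0)).2) +
        v.2.1 • ((0 : ZMod 3), i, l, (0 : ZMod 3)) +
        v.2.2.1 • ((0 : ZMod 3), (0 : ZMod 3), (1 : ZMod 3), (0 : ZMod 3)) +
        v.2.2.2 • ((clsMap cc (0, 1)).1, (0 : ZMod 3), (0 : ZMod 3), (clsMap cc (0, 1)).2) := by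
      rintro ⟨a, b, c, d⟩
      rw [hz', hy']
      exact hlin a b c d
    have hpow : ∀ (n : ℕ) (v : V4), x ^ n * F.jel v * (x ^ n)⁻¹ = F.jel (φ^[n] v) := by
      intro n
      induction n with
      | zero => intro v; simp
      | succ n ih =>
        intro v
        rw [Function.iterate_succ_apply', ← hφ, ← ih, pow_succ']
        group
    have hid : ∀ v, φ^[3 ^ m] v = v := fun v => F.jel_inj (by
      rw [← hpow, hm', one_mul, inv_one, mul_one])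
    have hi0 : i ≠ 0 := fun h => by
      have e2 : φ (0, 1, 0, 0) = φ (0, 0, l, 0) := by
        rw [ei, h, show ((0, 0, l, 0) : V4) = l • (0, 0, 1, 0) by simp, ZMod.map_smul, hl]
      exact one_ne_zero (congrArg (fun v : V4 => v.2.1) (hφi e2))
    have hq5 : qJ (clsLin cc i l (1, 1, 0, 2)) = 0 := by
      have := hpt (1, 1, 0, 2) (by decide) (by decide)
      rw [hlin'] at this
      exact this
    have hsq : ∀ v, φ (φ v) = v := fun v => by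
      rw [hlin' (φ v), hlin' v]
      exact clsLin_invol cc i l hi0 hq5 v
    have hodd : ∀ v, φ v = v := by
      intro v
      obtain ⟨r, hr⟩ : Odd (3 ^ m) := (by decide : Odd 3).pow
      have h2 : ∀ q : ℕ, φ^[2 * q] v = v := by
        intro q
        induction q with
        | zero => rfl
        | succ q ih =>
          rw [show 2 * (q + 1) = 2 * q + 1 + 1 by ring, Function.iterate_succ_apply', Function.iterate_succ_apply', ih,
            hsq]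
      have := hid v
      rw [hr] at this
      exact (congrArg φ (h2 r)).symm.trans ((Function.iterate_succ_apply' φ (2 * r) v).symm.trans this)
    exact ⟨hodd _, hodd _, hodd _⟩
  obtain ⟨h1, h2, h3⟩ := hxz
  have hA : x ∈ A12 (D := D) := mem_A12.mpr ⟨mul_inv_eq_iff_eq_mul.mp (by
    rw [← F.jel_q, hφ, h3]), hPa x hx⟩
  have hxN : x ∈ F.NF := ⟨hA, hxU⟩
  have hxU' : x ∈ F.U := (F.cls_zero_iff ⟨x, hxN⟩).mp (F.cls_eq _ (by
    show x * D.z * x⁻¹ = _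
    rw [← F.jel_z, hφ, h1]; rfl))
  obtain ⟨⟨a, b, c, d⟩, hxJ⟩ : x ∈ F.J := F.inv_pair_coset hN hc hxU' (by
    rw [← (hPι x hx).eq, mul_inv_cancel_right, inv_mul_cancel]; exact one_mem _)
  have h4 := F.A12_conj_jel hN hc a b c d
  rw [← hxJ, ← (hPι x hx).eq, mul_inv_cancel_right, hxJ] at h4
  have h5 := F.jel_inj h4
  simp only [Prod.mk.injEq] at h5
  obtain ⟨rfl, rfl⟩ : a = 0 ∧ d = 0 :=
    (by decide +kernel : ∀ a d : ZMod 3, a = (clsMap (0, 1) (a, d)).1 → d = (clsMap (0, 1) (a, d)).2 → a = 0 ∧ d = 0)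
      a d h5.1 h5.2.2.2
  exact F.mem_Pl.mpr ⟨b, c, by rw [hxJ, F.jel_q]⟩

/-- The three-subgroups of the centraliser of the second vector and such an involution. -/
theorem iota_small (hB : D.caseB) {ι : G} (hN : ι ∈ F.NF) (hc : F.cls ⟨ι, hN⟩ = (0, 1)) {P : Subgroup G}
    (hP : IsPGroup 3 P) (hPι : ∀ x ∈ P, Commute x ι) (hPa : ∀ x ∈ P, Commute x (a2 D)) :
    ∃ c : G, Commute c ι ∧ Commute c (a2 D) ∧ ∀ x ∈ P, c * x * c⁻¹ ∈ F.Pl := by
  haveI : Fact (Nat.Prime 3) := ⟨Nat.prime_three⟩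
  set H : Subgroup G := Subgroup.centralizer {ι} ⊓ Subgroup.centralizer {a2 D} with hH
  have memH : ∀ {x : G}, x ∈ H ↔ Commute x ι ∧ Commute x (a2 D) := fun {x} => by
    rw [hH, Subgroup.mem_inf, Subgroup.mem_centralizer_singleton_iff, Subgroup.mem_centralizer_singleton_iff]; rfl
  have hPlH : F.Pl ≤ H := fun x hx => by
    obtain ⟨i, l, rfl⟩ := F.mem_Pl.mp hx
    rw [← F.jel_q]
    exact memH.mpr ⟨(F.jel_A_fix hN.1 i l).symm,
      F.U_comm (F.jel_mem_U _) (show a2 D ∈ F.U by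
        rw [show a2 D = F.jel (0, 0, 1, 0) from (F.jel_q 0 1).symm]; exact F.jel_mem_U _)⟩
  have hp : IsPGroup 3 (F.Pl.subgroupOf H) := fun x =>
    ⟨1, Subtype.ext (Subtype.ext (by simpa using F.U_cube x.2.1))⟩
  obtain ⟨Q, hQ⟩ := hp.exists_le_sylow
  have hQe : (Q : Subgroup H).map H.subtype ≤ F.Pl := F.iota_sylow hB hN hc (Q.2.map _)
    (fun x hx => ⟨⟨x, hPlH hx⟩, hQ hx, rfl⟩) (by rintro _ ⟨y, -, rfl⟩; exact (memH.mp y.2).1)
    (by rintro _ ⟨y, -, rfl⟩; exact (memH.mp y.2).2)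
  obtain ⟨Q', hQ'⟩ := (hP.comap_of_injective H.subtype H.subtype_injective).exists_le_sylow
  obtain ⟨c, hcQ⟩ := MulAction.exists_smul_eq H Q' Q
  refine ⟨c, (memH.mp c.2).1, (memH.mp c.2).2, fun x hx => hQe ?_⟩
  exact ⟨c * ⟨x, memH.mpr ⟨hPι x hx, hPa x hx⟩⟩ * c⁻¹,
    hcQ ▸ ⟨_, hQ' (show ((⟨x, memH.mpr ⟨hPι x hx, hPa x hx⟩⟩ : H) : G) ∈ P from hx), rfl⟩, rfl⟩

/-- No involution of the product goes to the class inverting both points. -/
theorem not_zero_iota (hB : D.caseB) {w ι : G} (hw : w ∈ F.N0) (hN : ι ∈ F.NF) (hc : F.cls ⟨ι, hN⟩ = (0, 1))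
    {g : G} (hga : Commute g (a2 D)) : g * w * g⁻¹ ≠ ι := by
  intro e
  set T := F.swapB.P with hT
  have hTc : ∀ x ∈ T, Commute x w ∧ Commute x (a2 D) := fun x hx => by
    have h1 : F.N0 ≤ F.swapB.CP := fun u hu => F.swapB.L_le_CP (F.swapB.W2_le_L (F.W2_swap.symm ▸ hu))
    exact ⟨(F.swapB.mem_CP.mp (h1 hw) x hx).symm, F.U_comm (F.swapB_U ▸ (F.swapB.mem_P.mp hx).1)
      (show a2 D ∈ F.U by rw [show a2 D = F.jel (0, 0, 1, 0) from (F.jel_q 0 1).symm]; exact F.jel_mem_U _)⟩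
  obtain ⟨c, -, hca, hcP⟩ := F.iota_small hB hN hc (P := T.map (MulAut.conj g).toMonoidHom)
    (IsPGroup.map (fun x => ⟨1, Subtype.ext (by
      show (x : G) ^ 3 ^ 1 = 1
      rw [pow_one]; exact F.U_cube (F.swapB_U ▸ (F.swapB.mem_P.mp x.2).1))⟩) _)
    (by rintro _ ⟨x, hx, rfl⟩; exact e ▸ conj_comm g (hTc x hx).1)
    (by
      rintro _ ⟨x, hx, rfl⟩
      have := conj_comm g (hTc x hx).2
      rwa [hga.eq, mul_inv_cancel_right] at this)
  set h := c * g with hh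
  have hto : ∀ x ∈ T, h * x * h⁻¹ ∈ F.Pl := fun x hx => by
    have := hcP _ ⟨x, hx, rfl⟩
    rwa [show h * x * h⁻¹ = c * (MulAut.conj g).toMonoidHom x * c⁻¹ by simp [hh, mul_assoc]]
  have hsurj : ∀ p ∈ F.Pl, ∃ x ∈ T, h * x * h⁻¹ = p := by
    intro p hp
    have hcard : 9 ≤ Nat.card T := by
      refine le_of_eq_of_le (by simp) (Nat.card_le_card_of_injective (α := ZMod 3 × ZMod 3) (fun p =>
        (⟨D.swap.q (av p.1 0) * F.swapB.s0 ^ p.2.val,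
          mul_mem (F.swapB.a_mem_P p.1) (pow_mem F.swapB.s0_mem_P _)⟩ : T)) ?_)
      intro p q he
      have h1 : F.swapB.jel (0, p.1, 0, 0) * F.swapB.s0 ^ p.2.val = F.swapB.jel (0, q.1, 0, 0) * F.swapB.s0 ^ q.2.val := by
        rw [F.swapB.jel_q, F.swapB.jel_q]; exact congrArg Subtype.val he
      obtain ⟨h2, h3⟩ := F.swapB.U_coord_inj (F.swap_caseB hB) h1
      simp only [Prod.mk.injEq] at h2
      exact Prod.ext h2.2.1 h3
    let f : T → F.Pl := fun x => ⟨h * x * h⁻¹, hto x x.2⟩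
    have hinj : Function.Injective f := fun a b e => Subtype.ext (by
      have := congrArg Subtype.val e
      simpa [f] using this)
    obtain ⟨x, hx⟩ := (hinj.bijective_of_nat_card_le (by rw [F.card_Pl]; exact hcard)).2 ⟨p, hp⟩
    exact ⟨x, x.2, congrArg Subtype.val hx⟩
  set L' := F.swapB.L.map (MulAut.conj h).toMonoidHom with hL'
  have hL'N : L' ≤ F.NF := by
    rintro _ ⟨a, ha, rfl⟩
    refine F.A12_le_NF hB (mem_A12.mpr ?_)
    have key : ∀ p ∈ F.Pl, Commute (h * a * h⁻¹) p := by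
      intro p hp
      obtain ⟨x, hx, rfl⟩ := hsurj p hp
      exact conj_comm h (F.swapB.mem_CP.mp (F.swapB.L_le_CP ha) x hx)
    exact ⟨key _ (F.mem_Pl.mpr ⟨1, 0, rfl⟩), key _ (F.mem_Pl.mpr ⟨0, 1, rfl⟩)⟩
  have hperf : ⁅L', L'⁆ = L' := by rw [hL', ← Subgroup.map_commutator, F.swapB.L_perfect]
  have hU : L' ≤ F.U := by
    rw [← hperf, Subgroup.commutator_le]
    intro a ha b hb
    set A : F.NF := ⟨a, hL'N ha⟩
    set B : F.NF := ⟨b, hL'N hb⟩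
    have h0 : F.cls (1 : F.NF) = 0 := (F.cls_zero_iff _).mpr (one_mem _)
    have hi : ∀ X : F.NF, F.cls X⁻¹ = F.cls X := fun X => by
      have h := F.cls_mul X X⁻¹
      rw [mul_inv_cancel, h0] at h
      exact (by decide : ∀ c d : Cls, 0 = c + d → d = c) _ _ h
    exact (F.cls_zero_iff (A * B * A⁻¹ * B⁻¹)).mp (by
      rw [F.cls_mul, F.cls_mul, F.cls_mul, hi, hi]
      exact (by decide : ∀ c d : Cls, c + d + c + d = 0) _ _)
  have hbot : L' = ⊥ := by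
    rw [← hperf, eq_bot_iff, Subgroup.commutator_le]
    intro a ha b hb
    rw [Subgroup.mem_bot, commutatorElement_eq_one_iff_mul_comm]
    exact (F.U_comm (hU ha) (hU hb)).eq
  have : F.swapB.L = ⊥ := (Subgroup.map_eq_bot_iff_of_injective _ (MulAut.conj h).injective).mp hbot
  exact D.swap.z_ne (Subgroup.mem_bot.mp (this ▸ F.swapB.z_mem_L))

theorem τ3_NT : F.τ3 ∈ F.NT :=
  F.norm_UM_of_NU (mem_Mc.mpr ⟨(mem_A12.mp F.τ3_facts.2.1).2, F.τ3_facts.2.2.1⟩) F.τ3_mem.2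

theorem ncls_τ3 : F.ncls ⟨F.τ3, F.τ3_NT⟩ = (1, 1) := by
  rw [← F.cls_of_ncls (x := ⟨F.τ3, F.τ3_NT⟩) F.τ3_mem, F.cls_τ3]

/-- No involution of the flipping class goes to the class inverting both points. -/
theorem not_flip_iota (hB : D.caseB) {x : F.NT} (h2 : (x : G) * x = 1) (hc : F.ncls x = (1, 1)) {ι : G}
    (hN : ι ∈ F.NF) (hcι : F.cls ⟨ι, hN⟩ = (0, 1)) {i : G} (hi : i ∈ Ic (D := D)) {g : G} (hg : g ∈ Mc (D := D)) :
    g * ((x : G) * i) * g⁻¹ ≠ ι := by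
  intro e
  obtain ⟨hsq, hτA, hτi, hact, hs0⟩ := F.τ3_facts
  have hd : F.ncls (x * ⟨F.τ3, F.τ3_NT⟩) = 0 := by rw [F.ncls_mul, hc, F.ncls_τ3, cls_double]
  obtain ⟨j, hj, u, hu, exu⟩ : ∃ j ∈ Ic (D := D), ∃ u ∈ F.UM, (x : G) * j = u * F.τ3 := by
    rcases F.ncls_zero_mem hd with h | h
    · exact ⟨1, one_mem _, _, h, by
        show (x : G) * 1 = (x : G) * F.τ3 * F.τ3
        rw [mul_one, mul_assoc, hsq, mul_one]⟩
    · refine ⟨D.i1, Subgroup.mem_zpowers _, _, h, ?_⟩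
      show (x : G) * D.i1 = (x : G) * F.τ3 * D.i1 * F.τ3
      rw [mul_assoc _ D.i1 F.τ3, ← hτi.eq, mul_assoc (x : G) F.τ3, ← mul_assoc F.τ3 F.τ3, hsq, one_mul]
  have hxN : (x : G) * j ∈ F.NF := exu ▸ mul_mem (F.U_le_NF (F.mem_UM.mp hu).1) F.τ3_mem
  have hjj : j * j = 1 := by rcases mem_Ic.mp hj with h | h <;> rw [h]; exacts [one_mul 1, D.i1_block.sq]
  have hcls : F.cls ⟨_, hxN⟩ = (1, 1) := by
    rw [show (⟨(x : G) * j, hxN⟩ : F.NF) = ⟨u, F.U_le_NF (F.mem_UM.mp hu).1⟩ * ⟨F.τ3, F.τ3_mem⟩ from Subtype.ext exu,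
      F.cls_mul, (F.cls_zero_iff _).mpr (F.mem_UM.mp hu).1, F.cls_τ3, zero_add]
  obtain ⟨s, hs, hsx⟩ := F.flip_conj hxN (by rw [(Ic_comm hj x.2.1).symm.mul_mul_mul_comm, h2, hjj, one_mul]) hcls
  let C : Subgroup G := F.UM ⊓ Subgroup.centralizer {F.τ3}
  have hC : ∀ w ∈ C, Commute w ((x : G) * i) ∧ Commute w (a2 D) := fun w hw => by
    have hwU := (F.mem_UM.mp hw.1).1
    have h1 : Commute w ((x : G) * j) := hsx ▸
      ((F.U_comm hwU hs).mul_right (Subgroup.mem_centralizer_singleton_iff.mp hw.2)).mul_right (F.U_comm hwU hs).inv_right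
    have h3 : Commute w (x : G) := by
      have := h1.mul_right (Ic_comm (inv_mem hj) (F.UM_le_Mc hw.1))
      rwa [mul_inv_cancel_right] at this
    exact ⟨h3.mul_right (Ic_comm hi (F.UM_le_Mc hw.1)), (mem_Mc.mp (F.UM_le_Mc hw.1)).1⟩
  obtain ⟨c, -, -, hcP⟩ := F.iota_small hB hN hcι (P := C.map (MulAut.conj g).toMonoidHom)
    (IsPGroup.map (fun w => ⟨1, Subtype.ext (by
      show (w : G) ^ 3 ^ 1 = 1
      rw [pow_one]; exact F.NT_cube w.2.1)⟩) _)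
    (by rintro _ ⟨w, hw, rfl⟩; exact e ▸ conj_comm g (hC w hw).1)
    (by
      rintro _ ⟨w, hw, rfl⟩
      have := conj_comm g (hC w hw).2
      rwa [(mem_Mc.mp hg).1.eq, mul_inv_cancel_right] at this)
  have h27 : 27 ≤ Nat.card C := by
    refine le_of_eq_of_le (by simp) (Nat.card_le_card_of_injective (α := ZMod 3 × ZMod 3 × ZMod 3) (fun p =>
      (⟨F.jel (p.1, 0, p.2.1, -p.1) * F.s0 ^ p.2.2.val, mul_mem (F.jel_mem_UM _ _ _) (pow_mem (F.mem_UM.mpr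
        ⟨(F.mem_P.mp F.s0_mem_P).1, (nine_block_comm (F.s0_nine.choose_spec.1)).symm⟩) _),
        Subgroup.mem_centralizer_singleton_iff.mpr (by
          refine (Commute.mul_left ?_ (hs0.symm.pow_left _)).eq
          refine (mul_inv_eq_iff_eq_mul.mp ?_).symm
          rw [hact, neg_neg])⟩ : C)) ?_)
    intro p q h0
    obtain ⟨h1, h3⟩ := F.U_coord_inj hB (congrArg Subtype.val h0)
    simp only [Prod.mk.injEq] at h1
    exact Prod.ext h1.1 (Prod.ext h1.2.2.1 h3)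
  have h9 : Nat.card C ≤ 9 := by
    rw [← F.card_Pl]
    refine Nat.card_le_card_of_injective (fun w : C => (⟨c * (g * w * g⁻¹) * c⁻¹, hcP _ ⟨w, w.2, rfl⟩⟩ : F.Pl))
      fun a b h => Subtype.ext ?_
    exact mul_left_cancel (mul_right_cancel (mul_left_cancel (mul_right_cancel (congrArg Subtype.val h))))
  omega

/-- Involutions of the product stay in it. -/
theorem fundamental (hB : D.caseB) {w : G} (hw : w ∈ F.N0) (hw2 : w * w = 1) {g : G} (hg : g ∈ Mc (D := D))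
    (hgw : g * w * g⁻¹ ∈ F.G0) : g * w * g⁻¹ ∈ F.N0 := by
  set v : F.G0 := ⟨_, hgw⟩ with hv
  have hv2 : (v : G) * v = 1 := by
    show g * w * g⁻¹ * (g * w * g⁻¹) = 1
    rw [conj_mul, hw2]; group
  set w' : F.G0 := ⟨w, F.N0_le_G0 hw⟩
  have hswap : (F.gcls v).1 = 1 → False := fun h1 => by
    obtain ⟨f, hf, hvf⟩ := F.swap_ctrl hB hv2 h1
    obtain ⟨e, he, hwe⟩ := F.zero_ctrl hB (v := w') hw2 (F.gcls_N0 hw)
    have := F.ctrl_cls he hwe hf hvf hg rfl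
    rw [F.gcls_N0 (g := w') hw] at this
    rw [this] at h1
    exact absurd h1 (by decide)
  rcases cls_cases (F.gcls v) with e | e | e | e
  · exact F.invol_zero hv2 e
  · exfalso
    obtain ⟨m, hm, x, hx2, hxc, ev⟩ := F.invol_form hv2 (by rw [e]; decide)
    obtain ⟨i, hi, hN, hcls, -⟩ := F.exists_iota hx2 (hxc.trans e)
    have hiN : i ∈ F.N0 := by
      rcases mem_Ic.mp hi with h | h <;> rw [h]
      exacts [one_mem _, F.R1_le_N0 i1_mem_R1]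
    have hgm : m⁻¹ * g ∈ Mc (D := D) := mul_mem (inv_mem (F.N0_le_Mc hm)) hg
    refine F.not_zero_iota hB (mul_mem hw hiN) hN hcls (g := m⁻¹ * g) (mem_Mc.mp hgm).1 ?_
    rw [show m⁻¹ * g * (w * i) * (m⁻¹ * g)⁻¹ = (m⁻¹ * (g * w * g⁻¹) * m) * ((m⁻¹ * g) * i * (m⁻¹ * g)⁻¹) by group,
      (Ic_comm hi hgm).eq, mul_inv_cancel_right, show g * w * g⁻¹ = m * x * m⁻¹ from ev]
    group
  · exact (hswap (by rw [e])).elim
  · exact (hswap (by rw [e])).elim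

/-- Conjugate involutions of the flipping class. -/
theorem flip_stable (hB : D.caseB) {v w : F.G0} (hv2 : (v : G) * v = 1) (hv : F.gcls v = (1, 1))
    {g : G} (hg : g ∈ Mc (D := D)) (hgv : g * v * g⁻¹ = w) : F.gcls w = (1, 1) := by
  have hw2 : (w : G) * w = 1 := by rw [← hgv, conj_mul, hv2]; group
  obtain ⟨e, he, hve⟩ := F.swap_ctrl hB hv2 (by rw [hv])
  rcases cls_cases (F.gcls w) with h | h | h | h
  · exfalso
    obtain ⟨f, hf, hwf⟩ := F.zero_ctrl hB hw2 h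
    have := F.ctrl_cls he hve hf hwf hg hgv
    rw [h, hv] at this
    exact absurd this (by decide)
  · exfalso
    obtain ⟨m, hm, x, hx2, hxc, ev⟩ := F.invol_form hv2 (by rw [hv]; decide)
    obtain ⟨m', hm', x', hx2', hxc', ew⟩ := F.invol_form hw2 (by rw [h]; decide)
    obtain ⟨i, hi, hN, hcls, -⟩ := F.exists_iota hx2' (hxc'.trans h)
    have hG : m'⁻¹ * g * m ∈ Mc (D := D) := mul_mem (mul_mem (inv_mem (F.N0_le_Mc hm')) hg) (F.N0_le_Mc hm)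
    refine F.not_flip_iota hB hx2 (hxc.trans hv) hN hcls hi hG ?_
    rw [show m'⁻¹ * g * m * ((x : G) * i) * (m'⁻¹ * g * m)⁻¹ =
      (m'⁻¹ * (g * (m * x * m⁻¹) * g⁻¹) * m') * ((m'⁻¹ * g * m) * i * (m'⁻¹ * g * m)⁻¹) by group, ← ev, hgv, ew,
      (Ic_comm hi hG).eq, mul_inv_cancel_right]
    group
  · exfalso
    obtain ⟨f, hf, hwf⟩ := F.swap_ctrl hB hw2 (by rw [h])
    have := F.ctrl_cls he hve hf hwf hg hgv
    rw [h, hv] at this
    exact absurd this (by decide)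
  · exact h

/-- The product is generated by its involutions. -/
theorem N0_le_of_invol {H : Subgroup G} (h : ∀ w ∈ F.N0, w * w = 1 → w ∈ H) : F.N0 ≤ H := by
  obtain ⟨r0, hr0, R0, hR0, hR02, hr0A⟩ := exists_R1_four (D := D)
  have sq_i1 : ∀ {r : G} {R : SL23}, r ∈ D.R1 → D.Acts r (R, 1) → R * R = -1 → r * r = D.i1 := fun {r R} hr hA h2 => by
    refine R1_inj (mul_mem hr hr) i1_mem_R1 (hA.mul hA) ?_
    rw [show ((R, 1) : Pr) * (R, 1) = (-1, 1) from Prod.ext h2 (one_mul _)]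
    exact D.i1_block.acts
  have hr0sq : r0 * r0 = D.i1 := sq_i1 hr0 hr0A ((q8_sq R0 hR0).resolve_left hR02)
  have hiMc : Commute F.τ D.i1 := F.τ_flip.ci
  set s := F.τ * r0 * F.τ⁻¹ with hs
  have hsR : s ∈ F.Ry := ⟨r0, hr0, rfl⟩
  have hss : s * s = D.i1 := by rw [hs, conj_mul, hr0sq, hiMc.eq, mul_inv_cancel_right]
  have mixed : ∀ {a b : G}, a ∈ D.R1 → b ∈ F.Ry → a * a = D.i1 → b * b = D.i1 → a * b ∈ H := fun {a b} ha hb h1 h2 =>
    h _ (mul_mem (F.R1_le_N0 ha) (F.Ry_le_N0 hb)) (by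
      rw [(F.R1_Ry_comm ha hb).symm.mul_mul_mul_comm, h1, h2, D.i1_block.sq])
  have four : ∀ {r : G}, r ∈ D.R1 → r * r = D.i1 → ∀ {r' : G}, r' ∈ D.R1 → r' * r' = D.i1 → r * r' ∈ H := by
    intro r hr h1 r' hr' h2
    have h3 : s⁻¹ * s⁻¹ = D.i1 := by rw [← mul_inv_rev, hss, D.i1_block.inv]
    have := mul_mem (mixed hr hsR h1 hss) (mixed hr' (inv_mem hsR) h2 h3)
    rwa [show r * s * (r' * s⁻¹) = r * (s * r') * s⁻¹ by group, ← (F.R1_Ry_comm hr' hsR).eq,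
      show r * (r' * s) * s⁻¹ = r * r' by group] at this
  have hR1 : D.R1 ≤ H := by
    intro r hr
    obtain ⟨-, R, hR, hrA⟩ := mem_R1_def.mp hr
    obtain ⟨A, B, hA, hA2, hB, hB2, hAB⟩ := q8_split_four R hR
    obtain ⟨a, ha, haA⟩ := R1_lift (D := D) hA
    obtain ⟨b, hb, hbA⟩ := R1_lift (D := D) hB
    rw [show r = a * b from R1_inj hr (mul_mem ha hb) hrA (by
      have := haA.mul hbA
      rwa [show ((A, 1) : Pr) * (B, 1) = (R, 1) from Prod.ext hAB (one_mul _)] at this)]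
    exact four ha (sq_i1 ha haA hA2) hb (sq_i1 hb hbA hB2)
  refine sup_le hR1 ?_
  rintro _ ⟨r, hr, rfl⟩
  obtain ⟨-, R, hR, hrA⟩ := mem_R1_def.mp hr
  obtain ⟨A, B, hA, hA2, hB, hB2, hAB⟩ := q8_split_four R hR
  obtain ⟨a, ha, haA⟩ := R1_lift (D := D) hA
  obtain ⟨b, hb, hbA⟩ := R1_lift (D := D) hB
  rw [show r = a * b from R1_inj hr (mul_mem ha hb) hrA (by
    have := haA.mul hbA
    rwa [show ((A, 1) : Pr) * (B, 1) = (R, 1) from Prod.ext hAB (one_mul _)] at this)]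
  have sqy : ∀ {a : G}, a ∈ D.R1 → a * a = D.i1 → F.τ * a * F.τ⁻¹ * (F.τ * a * F.τ⁻¹) = D.i1 := fun {a} _ h1 => by
    rw [conj_mul, h1, hiMc.eq, mul_inv_cancel_right]
  have h1 := sq_i1 ha haA hA2
  have h2 := sq_i1 hb hbA hB2
  have m1 := mixed hr0 ⟨a, ha, rfl⟩ hr0sq (sqy ha h1)
  have m2 := mixed (inv_mem hr0) ⟨b, hb, rfl⟩ (by rw [← mul_inv_rev, hr0sq, D.i1_block.inv]) (sqy hb h2)
  have hc : Commute r0⁻¹ (F.τ * a * F.τ⁻¹) := F.R1_Ry_comm (inv_mem hr0) ⟨a, ha, rfl⟩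
  have := mul_mem m1 m2
  rw [show r0 * (MulAut.conj F.τ).toMonoidHom a * (r0⁻¹ * (MulAut.conj F.τ).toMonoidHom b) =
    r0 * (F.τ * a * F.τ⁻¹ * r0⁻¹) * (F.τ * b * F.τ⁻¹) by simp [mul_assoc], ← hc.eq, mul_inv_cancel_left] at this
  show F.τ * (a * b) * F.τ⁻¹ ∈ H
  rwa [conj_mul] at this

end Setting.Base

end CfsgLib.U6Three
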