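import Cfsg.Agent.Lib.U6Three.CentA2Base
import Cfsg.Agent.Lib.TransferApps
import Cfsg.Agent.Lib.PComplement
import Cfsg.Agent.Lib.PResidual

/-!
Control of fusion by the elements whose centralisers are known, and the normaliser of the product of the two
quaternion groups inside the centraliser of the second vector and the block involution.
-/

set_option autoImplicit false
set_option linter.style.haveILetI false

namespace CfsgLib.U6Three

universe u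

theorem q8_no_invert : ∀ R0 : SL23, R0 * R0 * (R0 * R0) = 1 → ∃ R : SL23, R * R * (R * R) = 1 ∧
    R0 * (mU * R * mU⁻¹) * R0⁻¹ ≠ mU⁻¹ * (R0 * R * R0⁻¹) * mU := by decide +kernel

theorem q8_y_free : ∀ R : SL23, R * R * (R * R) = 1 → R * R ≠ 1 → ∀ j : ZMod 3,
    mU ^ j.val * R = R * mU ^ j.val → j = 0 := by decide +kernel

theorem coprime_cube_mem {G : Type u} [Group G] {H : Subgroup G} {k : G} (hk : (orderOf k).Coprime 3)
    (h : k ^ 3 ∈ H) : k ∈ H := by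
  obtain ⟨j, hj⟩ := exists_pow_eq_self_of_coprime (n := 3) hk.symm
  exact hj ▸ H.pow_mem h j

namespace Setting.Base

variable {G : Type u} [Group G] {D : Setting G} (F : D.Base) [Finite G]

/-- An element of the coordinates whose centraliser is known. -/
def Good (e : G) : Prop := e ∈ F.UM ∧ ∀ g ∈ Mc (D := D), Commute g e → g ∈ F.G0

theorem good_z : F.Good D.z := ⟨F.z_mem_UM, fun _ hg hc => F.cent_z_G0 hg hc⟩

theorem good_y : F.Good F.y := ⟨F.y_mem_UM, fun _ hg hc => F.cent_y hg hc⟩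

theorem good_zy' : F.Good (F.jel (1, 0, 0, 2)) := ⟨F.jel_mem_UM _ _ _, fun _ hg hc => F.NT_le_G0 (F.cent_zy' hg hc)⟩

theorem good_zy (hB : D.caseB) : F.Good (F.jel (1, 0, 0, 1)) :=
  ⟨F.jel_mem_UM _ _ _, fun _ hg hc => F.NT_le_G0 (F.cent_zy hB hg hc)⟩

theorem good_s2 (hB : D.caseB) : F.Good F.s2 := ⟨F.s2_mem, fun _ hg hc => F.cent_s2 hB hg hc⟩

theorem three_le_UM {P : Subgroup G} (hP : IsPGroup 3 P) (hPM : P ≤ Mc (D := D)) (hUP : F.UM ≤ P) : P ≤ F.UM := by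
  haveI : Fact (Nat.Prime 3) := ⟨Nat.prime_three⟩
  refine le_of_grow hP hUP fun x hx hn => ?_
  obtain ⟨m, hm⟩ := hP ⟨x, hx⟩
  refine F.three_pow_NT ⟨hPM hx, fun w => ⟨hn w, fun hw => ?_⟩⟩ (m := m) (congrArg Subtype.val hm)
  let f : F.UM → F.UM := fun a => ⟨x * a * x⁻¹, hn a a.2⟩
  obtain ⟨a, ha⟩ := ((Finite.injective_iff_surjective (f := f)).1 fun a b e => Subtype.ext (by
    have := congrArg Subtype.val e
    simpa [f] using this)) ⟨_, hw⟩
  have h2 : x * (a : G) * x⁻¹ = x * w * x⁻¹ := congrArg Subtype.val ha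
  have : (a : G) = w := by simpa using h2
  exact this ▸ a.2

/-- The coordinates as a Sylow subgroup of an intermediate group. -/
noncomputable def sylUM (X : Subgroup G) (hX : F.UM ≤ X) (hXM : X ≤ Mc (D := D)) : Sylow 3 X where
  toSubgroup := F.UM.subgroupOf X
  isPGroup' := fun x => ⟨1, Subtype.ext (Subtype.ext (by simpa using F.U_cube (F.mem_UM.mp x.2).1))⟩
  is_maximal' := fun {Q} hQ hle => le_antisymm (fun x hx => by
    refine F.three_le_UM (hQ.map X.subtype) ((Subgroup.map_subtype_le _).trans hXM) ?_ ⟨x, hx, rfl⟩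
    exact fun u hu => ⟨⟨u, hX hu⟩, hle hu, rfl⟩) hle

theorem mem_sylUM {X : Subgroup G} {hX : F.UM ≤ X} {hXM : X ≤ Mc (D := D)} {x : X} :
    x ∈ (F.sylUM X hX hXM : Subgroup X) ↔ (x : G) ∈ F.UM := Iff.rfl

theorem conj_into_UM {X : Subgroup G} (hX : F.UM ≤ X) (hXM : X ≤ Mc (D := D)) {P : Subgroup G} (hP : IsPGroup 3 P)
    (hPX : P ≤ X) : ∃ h ∈ X, ∀ x ∈ P, h * x * h⁻¹ ∈ F.UM := by
  haveI : Fact (Nat.Prime 3) := ⟨Nat.prime_three⟩
  obtain ⟨Q, hQ⟩ := (hP.comap_of_injective X.subtype X.subtype_injective).exists_le_sylow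
  obtain ⟨h, hh⟩ := MulAction.exists_smul_eq X Q (F.sylUM X hX hXM)
  refine ⟨h, h.2, fun x hx => (F.mem_sylUM (hX := hX) (hXM := hXM) (x := h * ⟨x, hPX hx⟩ * h⁻¹)).mp ?_⟩
  rw [← hh]
  exact ⟨_, hQ (show ((⟨x, hPX hx⟩ : X) : G) ∈ P from hx), rfl⟩

theorem conj_elt_into_UM {X : Subgroup G} (hX : F.UM ≤ X) (hXM : X ≤ Mc (D := D)) {x : G} (hx : x ∈ X)
    (h3 : x ^ 3 = 1) : ∃ h ∈ X, h * x * h⁻¹ ∈ F.UM := by
  haveI : Fact (Nat.Prime 3) := ⟨Nat.prime_three⟩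
  have hp : IsPGroup 3 (Subgroup.zpowers x) := fun w => ⟨1, by
    obtain ⟨n, hn⟩ := Subgroup.mem_zpowers_iff.mp w.2
    refine Subtype.ext ?_
    show (w : G) ^ 3 ^ 1 = 1
    rw [pow_one, ← hn, ← zpow_natCast, ← zpow_mul, mul_comm, zpow_mul, zpow_natCast, h3, one_zpow]⟩
  obtain ⟨h, hh, hc⟩ := F.conj_into_UM hX hXM hp (Subgroup.zpowers_le.mpr hx)
  exact ⟨h, hh, hc x (Subgroup.mem_zpowers x)⟩

/-- The good elements control fusion. -/
theorem good_fusion {e : G} (he : F.Good e) {g : G} (hg : g ∈ Mc (D := D)) (hge : g * e * g⁻¹ ∈ F.G0) : g ∈ F.G0 := by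
  haveI : Fact (Nat.Prime 3) := ⟨Nat.prime_three⟩
  obtain ⟨heU, hcent⟩ := he
  obtain ⟨h, hh, hu⟩ := F.conj_elt_into_UM (F.UM_le_NT.trans F.NT_le_G0) F.G0_le_Mc hge
    (by rw [conj_pow, F.U_cube (F.mem_UM.mp heU).1]; group)
  have hhM := F.G0_le_Mc hh
  set T := F.sylUM (Mc (D := D)) F.UM_le_Mc le_rfl
  have hTab : IsMulCommutative (T : Subgroup (Mc (D := D))) :=
    ⟨⟨fun a b => Subtype.ext (Subtype.ext (F.U_comm (F.mem_UM.mp a.2).1 (F.mem_UM.mp b.2).1).eq)⟩⟩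
  obtain ⟨n, hn, hne⟩ := CfsgLib.TransferApps.exists_normalizer_conj_of_abelian T hTab
    (x := ⟨e, F.UM_le_Mc heU⟩) heU (g := ⟨h * g, mul_mem hhM hg⟩) (by
      show h * g * e * (h * g)⁻¹ ∈ F.UM
      rwa [show h * g * e * (h * g)⁻¹ = h * (g * e * g⁻¹) * h⁻¹ by group])
  have hnN : (n : G) ∈ F.NT := ⟨n.2, fun w => by
    constructor
    · intro hw
      exact (hn ⟨w, F.UM_le_Mc hw⟩).mp hw
    · intro hw
      have hwM : w ∈ Mc (D := D) := by
        have h2 := F.UM_le_Mc hw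
        have := mul_mem (mul_mem (inv_mem n.2) h2) n.2
        simpa [mul_assoc] using this
      exact (hn ⟨w, hwM⟩).mpr hw⟩
  have hne' : (n : G) * e * (n : G)⁻¹ = h * g * e * (h * g)⁻¹ := congrArg Subtype.val hne
  have hc : Commute ((n : G)⁻¹ * (h * g)) e := mul_inv_eq_iff_eq_mul.mp (by
    calc (n : G)⁻¹ * (h * g) * e * ((n : G)⁻¹ * (h * g))⁻¹ = (n : G)⁻¹ * (h * g * e * (h * g)⁻¹) * n := by group
      _ = e := by rw [← hne']; group)
  have h1 := hcent _ (mul_mem (inv_mem n.2) (mul_mem hhM hg)) hc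
  have h2 := mul_mem (inv_mem hh) (mul_mem (F.NT_le_G0 hnN) h1)
  rwa [mul_inv_cancel_left, inv_mul_cancel_left] at h2

theorem N0_four {x : G} (hx : x ∈ F.N0) : x ^ 4 = 1 := by
  obtain ⟨r, hr, s, hs, rfl⟩ := F.exists_prod hx
  rw [(F.R1_Ry_comm hr hs).mul_pow, (mem_R1_def.mp hr).1, (F.mem_Ry.mp hs).1, one_mul]

/-- Subgroups of order prime to three normalised by both points. -/
theorem prime_to_three_le_N0 (hB : D.caseB) (K : Subgroup G) (hKM : K ≤ Mc (D := D))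
    (hK : (Nat.card K).Coprime 3) (hz : D.z ∈ Subgroup.normalizer (K : Set G))
    (hy : F.y ∈ Subgroup.normalizer (K : Set G)) : K ≤ F.N0 := by
  have hco : ∀ {k : G}, k ∈ K → (orderOf k).Coprime 3 := fun hk =>
    hK.coprime_dvd_left (Subgroup.orderOf_dvd_natCard K hk)
  have hne : D.z ≠ 1 := D.z_ne
  have hyz : F.y ∉ Subgroup.zpowers D.z := fun h => by
    obtain ⟨n, hn⟩ := Subgroup.mem_zpowers_iff.mp h
    exact F.y_not_Q (hn ▸ Subgroup.zpow_mem _ (by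
      have := D.zz_mem 1
      rwa [D.zz_one] at this) n)
  rw [gen_pair D.z_cube F.y_cube F.y_z.symm hne hyz K hK hz hy]
  refine iSup₂_le fun c hc k hk => ?_
  obtain ⟨hkK, hkc⟩ := Subgroup.mem_inf.mp hk
  have hkc' : Commute k c := Subgroup.mem_centralizer_singleton_iff.mp hkc
  have hkM := hKM hkK
  obtain ⟨α, β, e⟩ := mem_pair D.z_cube F.y_cube F.y_z.symm hc.1
  have e' : c = F.jel (α, 0, 0, β) := by
    rw [e, show ((α, 0, 0, β) : V4) = (α, 0, 0, 0) + (0, 0, 0, β) by simp, F.jel_add, F.jel_zpow, F.jel_ypow]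
    rfl
  have hcyc : ∀ {w : G}, w ∈ F.UM → k * w * k⁻¹ ∈ F.UM → w ∈ Subgroup.normalizer (K : Set G) → Commute k w := by
    intro w hw hkw hn
    have h1 : k * w * k⁻¹ * w⁻¹ ∈ K := by
      rw [show k * w * k⁻¹ * w⁻¹ = k * (w * k⁻¹ * w⁻¹) by group]
      exact K.mul_mem hkK ((hn _).mp (K.inv_mem hkK))
    have h2 : k * w * k⁻¹ * w⁻¹ ∈ F.UM := mul_mem hkw (inv_mem hw)
    have h3 : k * w * k⁻¹ * w⁻¹ = 1 := orderOf_eq_one_iff.mp (Nat.eq_one_of_dvd_coprimes (hco h1) dvd_rfl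
      (orderOf_dvd_of_pow_eq_one (F.U_cube (F.mem_UM.mp h2).1)))
    exact mul_inv_eq_iff_eq_mul.mp (mul_inv_eq_one.mp h3)
  have toNT : k ∈ F.NT → k ∈ F.N0 := by
    intro hkN
    have h1 := hcyc F.z_mem_UM ((hkN.2 _).mp F.z_mem_UM) hz
    have h2 := hcyc F.y_mem_UM ((hkN.2 _).mp F.y_mem_UM) hy
    refine coprime_cube_mem (hco hkK) ?_
    rcases F.cent_zy_pair hkM h1 h2 with h | h
    · rw [F.U_cube (F.mem_UM.mp h).1]; exact one_mem _
    · have hi : Commute k D.i1 := (mem_Mc.mp hkM).2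
      have h3 := F.U_cube (F.mem_UM.mp h).1
      rw [hi.mul_pow, pow_three' D.i1, D.i1_block.sq, one_mul, mul_eq_one_iff_eq_inv, D.i1_block.inv] at h3
      rw [h3]; exact F.R1_le_N0 i1_mem_R1
  have cub : ∀ {r u : G}, r ∈ D.R1 → u ∈ F.UM → (r * u) ^ 3 ∈ D.R1 := fun {r u} hr hu => by
    have h1 := F.R1_conj_U (F.mem_UM.mp hu).1 (F.mem_UM.mp hu).2 hr
    have h2 := F.R1_conj_U (F.mem_UM.mp hu).1 (F.mem_UM.mp hu).2 h1
    rw [show (r * u) ^ 3 = r * (u * r * u⁻¹) * (u * (u * r * u⁻¹) * u⁻¹) * u ^ 3 by rw [pow_three', pow_three']; group,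
      F.U_cube (F.mem_UM.mp hu).1, mul_one]
    exact mul_mem (mul_mem hr h1) h2
  have atz : Commute k D.z → k ∈ F.N0 := fun h => by
    obtain ⟨r, hr, u, hu, e⟩ := F.cent_z hkM h
    exact coprime_cube_mem (hco hkK) (e ▸ F.R1_le_N0 (cub hr hu))
  have aty : Commute k F.y → k ∈ F.N0 := fun h => by
    have h1 : F.τ⁻¹ * F.y * F.τ = D.z⁻¹ := by
      calc F.τ⁻¹ * F.y * F.τ = F.τ⁻¹ * (F.τ * D.z * F.τ⁻¹)⁻¹ * F.τ := by rw [F.τ_conj_z, inv_inv]
        _ = D.z⁻¹ := by group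
    have h2 := conj_comm' F.τ h
    rw [h1] at h2
    obtain ⟨r, hr, u, hu, e⟩ := F.cent_z (g := F.τ⁻¹ * k * F.τ)
      (mul_mem (mul_mem (inv_mem F.τ_NT.1) hkM) F.τ_NT.1) (Commute.inv_right_iff.mp h2)
    refine coprime_cube_mem (hco hkK) ?_
    rw [show k = F.τ * (r * u) * F.τ⁻¹ by rw [← e]; group, conj_pow]
    exact F.NT_conj_N0 F.τ_NT (F.R1_le_N0 (cub hr hu))
  rw [e'] at hkc'
  rcases (by decide : ∀ α β : ZMod 3, (α, β) = (0, 0) ∨ (α ≠ 0 ∧ β = 0) ∨ (α = 0 ∧ β ≠ 0) ∨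
    (∃ s : ZMod 3, s ≠ 0 ∧ ((α, β) = (s, s) ∨ (α, β) = (s, s + s)))) α β with h | ⟨ha, rfl⟩ | ⟨rfl, hb⟩ | ⟨s, hs, h⟩
  · obtain ⟨rfl, rfl⟩ := Prod.mk.inj h
    exact absurd (e'.trans F.jel_zero) hc.2
  · rw [F.jel_zpow] at hkc'
    exact atz (commute_zk ha hkc')
  · rw [F.jel_ypow] at hkc'
    refine aty ?_
    rcases (by decide : ∀ k : ZMod 3, k ≠ 0 → k = 1 ∨ k = -1) β hb with rfl | rfl
    · rwa [show (1 : ZMod 3).val = 1 from rfl, pow_one] at hkc'
    · rw [F.y_pow_neg, show (1 : ZMod 3).val = 1 from rfl, pow_one] at hkc'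
      exact Commute.inv_right_iff.mp hkc'
  · have h1 := F.commute_smul hkc' s
    rcases h with h | h
    · rw [(Prod.mk.inj h).1, (Prod.mk.inj h).2, show s • ((s, 0, 0, s) : V4) = (1, 0, 0, 1) from
        (by decide : ∀ s : ZMod 3, s ≠ 0 → s • ((s, 0, 0, s) : V4) = (1, 0, 0, 1)) s hs] at h1
      exact toNT (F.cent_zy hB hkM h1)
    · rw [(Prod.mk.inj h).1, (Prod.mk.inj h).2, show s • ((s, 0, 0, s + s) : V4) = (1, 0, 0, 2) from
        (by decide : ∀ s : ZMod 3, s ≠ 0 → s • ((s, 0, 0, s + s) : V4) = (1, 0, 0, 2)) s hs] at h1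
      exact toNT (F.cent_zy' hkM h1)

theorem N0_comm_s2 {x : G} (hx : x ∈ F.N0) : Commute x F.s2 :=
  F.swapB.mem_CP.mp (F.swapB.L_le_CP (F.swapB.W2_le_L (F.W2_swap.symm ▸ hx))) _ F.swapB.s0_mem_P

theorem UM_comm_N0_form (hB : D.caseB) {u : G} (hu : u ∈ F.UM) (hc : ∀ x ∈ F.N0, Commute x u) :
    ∃ l m : ZMod 3, u = F.jel (0, 0, l, 0) * F.s2 ^ m.val := by
  obtain ⟨k, l, j, m, e⟩ := F.UM_decomp hB hu
  obtain ⟨r, hr, R, hR, hR2, hrA⟩ := exists_R1_four (D := D)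
  have hl : ∀ x ∈ F.N0, Commute x (F.jel (0, 0, l, 0)) := fun x hx => by
    rw [show ((0, 0, l, 0) : V4) = l • (0, 0, 1, 0) by simp, F.jel_smul, F.jel_q]
    exact (F.N0_comm hx).1.pow_right _
  have hzy : ∀ x ∈ F.N0, Commute x (F.jel (k, 0, 0, j)) := fun x hx => by
    have h1 := ((hc x hx).mul_right ((F.N0_comm_s2 hx).pow_right m.val).inv_right).mul_right (hl x hx).inv_right
    rw [e, mul_inv_cancel_right, show ((k, 0, l, j) : V4) = (k, 0, 0, j) + (0, 0, l, 0) by simp, F.jel_add,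
      mul_inv_cancel_right] at h1
    exact h1
  have key : ∀ j : ZMod 3, Commute r (F.y ^ j.val) → j = 0 := fun j h => by
    refine q8_y_free R hR hR2 j ?_
    have := ((F.y_ma j).mul hrA.ma).unique (h.eq ▸ hrA.ma.mul (F.y_ma j))
    simpa using congrArg Prod.fst this
  have hj : j = 0 := by
    refine key j ?_
    have h1 := hzy r (F.R1_le_N0 hr)
    rw [show ((k, 0, 0, j) : V4) = (k, 0, 0, 0) + (0, 0, 0, j) by simp, F.jel_add, F.jel_zpow, F.jel_ypow] at h1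
    have := (D.zz_comm hrA.1.cz k).inv_right.mul_right h1
    rwa [inv_mul_cancel_left] at this
  subst hj
  have hk : k = 0 := by
    refine neg_eq_zero.mp (key (-k) ?_)
    have h1 := conj_comm' F.τ (hzy (F.τ * r * F.τ⁻¹) (F.Ry_le_N0 ⟨r, hr, rfl⟩))
    rw [show F.τ⁻¹ * (F.τ * r * F.τ⁻¹) * F.τ = r by group,
      show F.τ⁻¹ * F.jel (k, 0, 0, 0) * F.τ = F.y ^ (-k).val by
        have h2 := F.τ_flip.act (0, 0, 0, -k)
        rw [F.jel_ypow, neg_neg] at h2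
        simp only [neg_zero] at h2
        rw [← h2]; group] at h1
    exact h1
  exact ⟨l, m, by rw [e, hk]⟩

/-- The centraliser of the product. -/
def CN : Subgroup G := Mc (D := D) ⊓ Subgroup.centralizer (F.N0 : Set G)

theorem mem_CN {x : G} : x ∈ F.CN ↔ x ∈ Mc (D := D) ∧ ∀ w ∈ F.N0, Commute w x :=
  and_congr_right' Subgroup.mem_centralizer_iff

theorem s2_CN : F.s2 ∈ F.CN := F.mem_CN.mpr ⟨F.UM_le_Mc F.s2_mem, fun _ hw => F.N0_comm_s2 hw⟩

theorem CN_conj {g x : G} (hg : g ∈ Mc (D := D)) (hn : g ∈ Subgroup.normalizer (F.N0 : Set G)) (hx : x ∈ F.CN) :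
    g * x * g⁻¹ ∈ F.CN := by
  obtain ⟨hxM, hxc⟩ := F.mem_CN.mp hx
  refine F.mem_CN.mpr ⟨mul_mem (mul_mem hg hxM) (inv_mem hg), fun w hw => ?_⟩
  have h1 := (inv_mem hn w).mp hw
  rw [inv_inv] at h1
  have := conj_comm g (hxc _ h1)
  rwa [show g * (g⁻¹ * w * g) * g⁻¹ = w by group] at this

/-- The normaliser of the part of the coordinates inside centralises it. -/
theorem CN_control (hB : D.caseB) {g : G} (hg : g ∈ F.CN)
    (hn : ∀ x, x ∈ F.UM → x ∈ F.CN → g * x * g⁻¹ ∈ F.UM) {x : G} (hx : x ∈ F.UM) (hxC : x ∈ F.CN) :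
    Commute g x := by
  obtain ⟨hgM, hgc⟩ := F.mem_CN.mp hg
  have hs : g * F.s2 * g⁻¹ ∈ F.UM := hn _ F.s2_mem F.s2_CN
  -- the image of the group of coordinates
  have hP : ∀ u ∈ F.UM, g * u * g⁻¹ ∈ F.G0 := fun u hu => by
    obtain ⟨l, m, e⟩ := F.UM_comm_N0_form hB hs fun w hw =>
      (F.mem_CN.mp (F.CN_conj hgM (fun w => ⟨fun h => by
        rw [(hgc w h).symm.eq, mul_inv_cancel_right]; exact h, fun h => by
        have := (hgc _ h).eq
        have e : w = g * w * g⁻¹ := by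
          calc w = g⁻¹ * (g * w * g⁻¹ * g) := by group
            _ = g⁻¹ * (g * (g * w * g⁻¹)) := by rw [this]
            _ = _ := by group
        rwa [e]⟩) F.s2_CN)).2 w hw
    have hm : m ≠ 0 := by
      rintro rfl
      rw [ZMod.val_zero, pow_zero, mul_one] at e
      have h2 : F.s2 = F.jel (0, 0, l, 0) := by
        have e2 : g⁻¹ * F.jel (0, 0, l, 0) * g = F.jel (0, 0, l, 0) := by
          rw [show ((0, 0, l, 0) : V4) = l • (0, 0, 1, 0) by simp, F.jel_smul, F.jel_q]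
          exact ((mem_Mc.mp hgM).1.pow_right _).inv_mul_cancel
        rw [← e2, ← e]; group
      have h3 := F.UM_coord_inj hB (k := 0) (l := 0) (j := 0) (m := 1) (k' := 0) (l' := l) (j' := 0) (m' := 0) (by
        rw [ZMod.val_zero, pow_zero, mul_one, show (1 : ZMod 3).val = 1 from rfl, pow_one,
          show ((0, 0, 0, 0) : V4) = 0 from rfl, F.jel_zero, one_mul, h2])
      exact (by decide : (1 : ZMod 3) ≠ 0) h3.2.2.2
    refine (F.good_s2 hB).2 _ (mul_mem (mul_mem hgM (F.UM_le_Mc hu)) (inv_mem hgM)) ?_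
    have h1 := conj_comm g (F.U_comm (F.mem_UM.mp hu).1 (F.mem_UM.mp F.s2_mem).1)
    rw [e] at h1
    have h2 : Commute (g * u * g⁻¹) (F.jel (0, 0, l, 0)) := by
      rw [show ((0, 0, l, 0) : V4) = l • (0, 0, 1, 0) by simp, F.jel_smul, F.jel_q]
      exact (mem_Mc.mp (mul_mem (mul_mem hgM (F.UM_le_Mc hu)) (inv_mem hgM))).1.pow_right _
    have h3 := h2.inv_right.mul_right h1
    rw [inv_mul_cancel_left] at h3
    rcases (by decide : ∀ m : ZMod 3, m ≠ 0 → m = 1 ∨ m = 2) m hm with rfl | rfl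
    · rwa [show (1 : ZMod 3).val = 1 from rfl, pow_one] at h3
    · rw [show (2 : ZMod 3).val = 2 from rfl] at h3
      have h4 := h3.mul_right h3
      rwa [← pow_add, pow_succ, F.U_cube (F.mem_UM.mp F.s2_mem).1, one_mul] at h4
  have hgG : g ∈ F.G0 := by
    obtain ⟨h, hh, hc⟩ := F.conj_into_UM (F.UM_le_NT.trans F.NT_le_G0) F.G0_le_Mc
      (P := F.UM.map (MulAut.conj g).toMonoidHom)
      (IsPGroup.map (fun x => ⟨1, Subtype.ext (by simpa using F.U_cube (F.mem_UM.mp x.2).1)⟩) _)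
      (by rintro _ ⟨u, hu, rfl⟩; exact hP u hu)
    have hto : ∀ u ∈ F.UM, h * g * u * (h * g)⁻¹ ∈ F.UM := fun u hu => by
      have := hc _ ⟨u, hu, rfl⟩
      rwa [show h * g * u * (h * g)⁻¹ = h * (MulAut.conj g).toMonoidHom u * h⁻¹ by simp [mul_assoc]]
    have hN : h * g ∈ F.NT := ⟨mul_mem (F.G0_le_Mc hh) hgM, fun w => ⟨hto w, fun hw => by
      let f : F.UM → F.UM := fun a => ⟨h * g * a * (h * g)⁻¹, hto a a.2⟩
      obtain ⟨a, ha⟩ := ((Finite.injective_iff_surjective (f := f)).1 fun a b e => Subtype.ext (by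
        have := congrArg Subtype.val e
        simpa [f] using this)) ⟨_, hw⟩
      have h2 : h * g * (a : G) * (h * g)⁻¹ = h * g * w * (h * g)⁻¹ := congrArg Subtype.val ha
      have : (a : G) = w := mul_left_cancel (mul_right_cancel h2)
      exact this ▸ a.2⟩⟩
    have := mul_mem (inv_mem hh) (F.NT_le_G0 hN)
    rwa [inv_mul_cancel_left] at this
  obtain ⟨x0, hx0, n, hn', hgn⟩ := F.mem_G0 hgG
  have hact : ∀ w ∈ F.N0, n * w * n⁻¹ = x0⁻¹ * w * x0 := fun w hw => by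
    rw [show n = x0⁻¹ * g by rw [hgn, inv_mul_cancel_left],
      show x0⁻¹ * g * w * (x0⁻¹ * g)⁻¹ = x0⁻¹ * (g * w * g⁻¹) * x0 by group, (hgc w hw).symm.eq, mul_inv_cancel_right]
  obtain ⟨r0, hr0, t0, ht0, hx0e⟩ := F.exists_prod (inv_mem hx0)
  have hactR : ∀ w ∈ D.R1, n * w * n⁻¹ = r0 * w * r0⁻¹ := fun w hw => by
    rw [hact w (F.R1_le_N0 hw)]
    conv_lhs => rw [show x0 = x0⁻¹⁻¹ by rw [inv_inv], inv_inv, inv_inv]
    rw [show x0⁻¹ * w * x0 = x0⁻¹ * w * (x0⁻¹)⁻¹ by rw [inv_inv], hx0e,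
      show r0 * t0 * w * (r0 * t0)⁻¹ = r0 * (t0 * w * t0⁻¹) * r0⁻¹ by group, ((F.R1_Ry_comm hw ht0).symm).eq,
      mul_inv_cancel_right]
  obtain ⟨r, hr, R, hR, hR2, hrA⟩ := exists_R1_four (D := D)
  have hc0 : F.ncls ⟨n, hn'⟩ = 0 := by
    have fixy : ∀ {w : G}, w ∈ D.R1 → Commute w F.y → w * w = 1 := fun {w} hw hwy => by
      obtain ⟨-, R', hR', hwA⟩ := mem_R1_def.mp hw
      have h2 := (hwy.eq ▸ hwA.ma.mul F.acts.ma).unique (F.acts.ma.mul hwA.ma)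
      refine R1_inj (mul_mem hw hw) (one_mem _) (hwA.mul hwA) ?_
      rcases sl_comm_mU R' hR' (congrArg Prod.fst h2) with rfl | rfl <;>
        rw [show ((_, 1) : Pr) * (_, 1) = 1 from Prod.ext (by simp) (by simp)] <;> exact acts_one
    have hz0 := F.ncls_spec ⟨n, hn'⟩ 1 0 0
    have hy0 := F.ncls_spec ⟨n, hn'⟩ 0 0 1
    rw [F.jel_z] at hz0
    rw [F.jel_y] at hy0
    have hmR : r0 * r * r0⁻¹ ∈ D.R1 := mul_mem (mul_mem hr0 hr) (inv_mem hr0)
    rcases cls_cases (F.ncls ⟨n, hn'⟩) with e | e | e | e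
    · exact e
    · exfalso
      rw [e] at hy0
      obtain ⟨-, R0, hR0, hr0A⟩ := mem_R1_def.mp hr0
      obtain ⟨R', hR', hne⟩ := q8_no_invert R0 hR0
      obtain ⟨r', hr', hr'A⟩ := R1_lift (D := D) hR'
      have hyU : F.y ∈ F.U := (F.mem_UM.mp F.y_mem_UM).1
      have hyy : n * F.y * n⁻¹ = F.y⁻¹ := by
        rw [hy0, ← F.jel_y, ← F.jel_neg]; exact congrArg F.jel (by decide)
      have heq : r0 * (F.y * r' * F.y⁻¹) * r0⁻¹ = F.y⁻¹ * (r0 * r' * r0⁻¹) * F.y := by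
        rw [← hactR _ (F.R1_conj_U hyU F.block_y.symm hr'), ← hactR _ hr',
          show n * (F.y * r' * F.y⁻¹) * n⁻¹ = (n * F.y * n⁻¹) * (n * r' * n⁻¹) * (n * F.y * n⁻¹)⁻¹ by group, hyy,
          inv_inv]
      have k1 := (hr0A.ma.mul ((F.acts.ma.mul hr'A.ma).mul F.acts.ma.inv)).mul hr0A.ma.inv
      have k2 := (F.acts.ma.inv.mul ((hr0A.ma.mul hr'A.ma).mul hr0A.ma.inv)).mul F.acts.ma
      rw [heq] at k1
      exact hne (by simpa using congrArg Prod.fst (k1.unique k2))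
    all_goals
      exfalso
      rw [e] at hz0
      have h1 : Commute (n * r * n⁻¹) F.y := by
        have h2 := conj_comm n hrA.1.cz
        rw [hz0] at h2
        first
          | rwa [show F.jel ((clsMap (1, 0) (1, 0)).1, 0, 0, (clsMap (1, 0) (1, 0)).2) = F.y from F.jel_y] at h2
          | (rw [show F.jel ((clsMap (1, 1) (1, 0)).1, 0, 0, (clsMap (1, 1) (1, 0)).2) = F.y⁻¹ from by
              rw [← F.jel_y, ← F.jel_neg]; exact congrArg F.jel (by decide)] at h2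
             exact Commute.inv_right_iff.mp h2)
      rw [hactR r hr] at h1
      have h3 := fixy hmR h1
      rw [show r0 * r * r0⁻¹ * (r0 * r * r0⁻¹) = r0 * (r * r) * r0⁻¹ by group, conj_eq_one_iff] at h3
      have h4 : D.MA (r * r) (1 : Pr) := h3.symm ▸ ma_one
      exact hR2 (by simpa using congrArg Prod.fst ((hrA.ma.mul hrA.ma).unique h4))
  have hnx : Commute n x := by
    rcases F.ncls_zero_mem (n := ⟨n, hn'⟩) hc0 with h | h
    · exact F.U_comm (F.mem_UM.mp h).1 (F.mem_UM.mp hx).1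
    · simpa using (F.U_comm (F.mem_UM.mp h).1 (F.mem_UM.mp hx).1).mul_left (F.mem_UM.mp hx).2.symm.inv_left
  rw [hgn]
  exact ((F.mem_CN.mp hxC).2 x0 hx0).mul_left hnx

/-- The normaliser of the product. -/
theorem norm_N0 (hB : D.caseB) {g : G} (hg : g ∈ Mc (D := D)) (hn : g ∈ Subgroup.normalizer (F.N0 : Set G)) :
    g ∈ F.G0 := by
  classical
  haveI : Fact (Nat.Prime 3) := ⟨Nat.prime_three⟩
  set Nc := Mc (D := D) ⊓ Subgroup.normalizer (F.N0 : Set G) with hNc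
  have hUNc : F.UM ≤ Nc := le_inf F.UM_le_Mc (F.UM_le_NT.trans F.NT_norm_N0)
  have hTp : IsPGroup 3 ((F.UM ⊓ F.CN).subgroupOf F.CN) := fun x =>
    ⟨1, Subtype.ext (Subtype.ext (by simpa using F.U_cube (F.mem_UM.mp x.2.1).1))⟩
  obtain ⟨P, hP⟩ := hTp.exists_le_sylow
  have hPeq : (P : Subgroup F.CN) = (F.UM ⊓ F.CN).subgroupOf F.CN := by
    refine le_antisymm ?_ hP
    obtain ⟨h, hh, hc⟩ := F.conj_into_UM (X := Nc) hUNc inf_le_left (P := (P : Subgroup F.CN).map F.CN.subtype)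
      (P.2.map _) (by
        rintro _ ⟨x, -, rfl⟩
        exact ⟨(F.mem_CN.mp x.2).1, fun w => ⟨fun hw => by
          show (x : G) * w * (x : G)⁻¹ ∈ F.N0
          rw [((F.mem_CN.mp x.2).2 w hw).symm.eq, mul_inv_cancel_right]; exact hw, fun hw => by
          have h2 : Commute ((x : G) * w * (x : G)⁻¹) (x : G) := (F.mem_CN.mp x.2).2 _ hw
          have e : (x : G) * w * (x : G)⁻¹ = w := by
            have := h2.eq
            calc (x : G) * w * (x : G)⁻¹ = (x : G)⁻¹ * ((x : G) * ((x : G) * w * (x : G)⁻¹)) := by group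
              _ = (x : G)⁻¹ * ((x : G) * w * (x : G)⁻¹ * x) := by rw [h2.eq]
              _ = w := by group
          rwa [show F.CN.subtype x = (x : G) from rfl, e] at hw⟩⟩)
    have hle : Nat.card (P : Subgroup F.CN) ≤ Nat.card ((F.UM ⊓ F.CN).subgroupOf F.CN) := by
      refine Nat.card_le_card_of_injective (fun x : (P : Subgroup F.CN) =>
        (⟨⟨h * (x : F.CN) * h⁻¹, F.CN_conj hh.1 hh.2 x.1.2⟩, hc _ ⟨x.1, x.2, rfl⟩, F.CN_conj hh.1 hh.2 x.1.2⟩ :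
          (F.UM ⊓ F.CN).subgroupOf F.CN)) fun a b e => Subtype.ext (Subtype.ext ?_)
      have e' := congrArg (fun z : (F.UM ⊓ F.CN).subgroupOf F.CN => ((z : F.CN) : G)) e
      exact mul_left_cancel (mul_right_cancel e')
    exact (Subgroup.eq_of_le_of_card_ge hP hle).ge
  have hnc : Subgroup.normalizer ((P : Subgroup F.CN) : Set F.CN) ≤ Subgroup.centralizer ((P : Subgroup F.CN) : Set F.CN) := by
    rw [hPeq]
    intro a ha
    refine Subgroup.mem_centralizer_iff.mpr fun b hb => Subtype.ext ?_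
    exact (F.CN_control hB a.2 (fun x hx hxC => ((ha ⟨x, hxC⟩).mp ⟨hx, hxC⟩).1) hb.1 hb.2).eq.symm
  have hNPC := CfsgLib.hasNormalPComplement_of_normalizer_le_centralizer P hnc
  set K := Cfsg.pResidual 3 F.CN
  have hKc : (Nat.card K).Coprime 3 := CfsgLib.hasNormalPComplement_iff_pResidual.mp hNPC
  have hKn : ∀ {u : G}, u ∈ F.UM → u ∈ Subgroup.normalizer ((K.map F.CN.subtype : Subgroup G) : Set G) := by
    intro u hu
    have hto : ∀ v ∈ F.UM, ∀ w ∈ K.map F.CN.subtype, v * w * v⁻¹ ∈ K.map F.CN.subtype := by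
      intro v hv
      have hvN := hUNc hv
      let f : F.CN →* F.CN := MonoidHom.mk' (fun x => ⟨v * x * v⁻¹, F.CN_conj hvN.1 hvN.2 x.2⟩) (fun a b =>
        Subtype.ext (by show v * ((a : G) * b) * v⁻¹ = (v * a * v⁻¹) * (v * b * v⁻¹); group))
      rintro _ ⟨x, hx, rfl⟩
      exact ⟨f x, CfsgLib.Transfer.map_pResidual_le f ⟨x, hx, rfl⟩, rfl⟩
    intro w
    refine ⟨hto u hu w, fun hw => ?_⟩
    have := hto u⁻¹ (inv_mem hu) _ hw
    simpa [mul_assoc] using this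
  have hK0 : K.map F.CN.subtype ≤ F.N0 := F.prime_to_three_le_N0 hB _
    ((Subgroup.map_subtype_le _).trans inf_le_left)
    (by rwa [Subgroup.card_map_of_injective F.CN.subtype_injective]) (hKn F.z_mem_UM) (hKn F.y_mem_UM)
  have hle : (⊤ : Subgroup F.CN) ≤ F.G0.subgroupOf F.CN := by
    rw [← CfsgLib.Transfer.sylow_sup_pResidual P, hPeq]
    exact sup_le (fun x hx => F.NT_le_G0 (F.UM_le_NT hx.1)) fun x hx => F.N0_le_G0 (hK0 ⟨x, hx, rfl⟩)
  exact F.good_fusion (F.good_s2 hB) hg (hle (Subgroup.mem_top ⟨_, F.CN_conj hg hn F.s2_CN⟩))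

end Setting.Base

end CfsgLib.U6Three
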