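import Cfsg.Agent.Lib.U6Three.Pair

/-!
Subspaces of the coordinates: orthogonal pairs inside, or two units in different orbits of the pointwise
stabiliser.
-/

set_option autoImplicit false
set_option linter.style.haveILetI false
set_option synthInstance.maxSize 1024

namespace CfsgLib.U6Three

universe u

theorem unit_not_orth : ∀ x : Vec, x ≠ 0 → ∃ v, qv v = 1 ∧ bv v x = 1 := by decide +kernel

theorem unit_orth : ∀ x : Vec, qv x = 0 → ∃ v, qv v = 1 ∧ bv v x = 0 := by decide +kernel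

theorem bv_self : ∀ x : Vec, bv x x = 0 := by decide +kernel

theorem bv_zero_left : ∀ x : Vec, bv 0 x = 0 := by decide +kernel

theorem qv_zero : qv (0 : Vec) = 0 := by decide

theorem plane_unit : ∀ d : Vec, ∃ u, qv u = 1 ∧ bv u d = 0 ∧ bv (sg u) d = 0 := by decide +kernel

theorem plane_unit_W : ∀ d : Vec, d.1 = 0 → ∃ w : Vec, w.1 = 0 ∧ qv w = 1 ∧ bv w d = 0 ∧ bv (sg w) d = 0 := by
  decide +kernel

theorem moving_hyperplane : ∀ p : Vec, qv p = 1 → ∃ x, bv p x = 0 ∧ bv p (sg x) = 1 := by decide +kernel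

theorem sg_fix_zero : ∀ x : Vec, sg x = sg (sg x) → x = 0 := by decide +kernel

theorem sg_shift : ∀ v w : Vec, bv (sg v) w = bv v (sg (sg w)) := fun v w => by
  rw [← sg_bv v (sg (sg w)), sg_cube]

theorem bv_add_right (u v w : Vec) : bv u (v + w) = bv u v + bv u w := by
  rw [bv_comm, bv_add_left, bv_comm v, bv_comm w]

theorem neg_vec (v : Vec) : -v = v := neg_eq_of_add_eq_zero_left (vec_two v)

/-- Separation of a vector from a subspace by an orthogonal vector. -/
theorem separate (S : AddSubgroup Vec) {x : Vec} (hx : x ∉ S) : ∃ v, (∀ d ∈ S, bv v d = 0) ∧ bv v x = 1 := by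
  classical
  obtain ⟨M, hSM, ⟨hxM, hmax⟩⟩ := Finite.exists_le_maximal (p := fun M : AddSubgroup Vec => x ∉ M) hx
  have hkey : ∀ y, y ∉ M → x + y ∈ M := by
    intro y hy
    let M' : AddSubgroup Vec :=
      { carrier := {w | w ∈ M ∨ w + y ∈ M}
        zero_mem' := Or.inl M.zero_mem
        add_mem' := fun {a b} ha hb => by
          rcases ha with ha | ha <;> rcases hb with hb | hb
          · exact Or.inl (M.add_mem ha hb)
          · right; rw [add_assoc]; exact M.add_mem ha hb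
          · right; rw [add_right_comm]; exact M.add_mem ha hb
          · left
            have := M.add_mem ha hb
            rwa [add_add_add_comm, vec_two, add_zero] at this
        neg_mem' := fun {a} ha => by rwa [neg_vec] }
    by_contra hxy
    have hy' : y ∈ M' := Or.inr (by rw [vec_two]; exact M.zero_mem)
    have hle : M' ≤ M := hmax (y := M') (fun h => h.elim hxM hxy) (fun w hw => Or.inl hw)
    exact hy (hle hy')
  have hcase : ∀ v w, (v ∈ M → w ∉ M → v + w ∉ M) ∧ (v ∉ M → w ∉ M → v + w ∈ M) := fun v w => by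
    refine ⟨fun hv hw h => hw ?_, fun hv hw => ?_⟩
    · have := M.add_mem hv h
      rwa [← add_assoc, vec_two, zero_add] at this
    · have := M.add_mem (hkey v hv) (hkey w hw)
      rwa [add_add_add_comm, vec_two, zero_add] at this
  obtain ⟨v0, hv0⟩ := bv_dual (fun v => if v ∈ M then 0 else 1) (fun v w => by
    by_cases hv : v ∈ M <;> by_cases hw : w ∈ M
    · rw [if_pos hv, if_pos hw, if_pos (M.add_mem hv hw), add_zero]
    · rw [if_pos hv, if_neg hw, if_neg ((hcase v w).1 hv hw), zero_add]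
    · rw [if_neg hv, if_pos hw, if_neg (by rw [add_comm]; exact (hcase w v).1 hw hv), add_zero]
    · rw [if_neg hv, if_neg hw, if_pos ((hcase v w).2 hv hw), (by decide : (1 : ZMod 2) + 1 = 0)])
  exact ⟨v0, fun d hd => by rw [hv0, if_pos (hSM hd)], by rw [hv0, if_neg hxM]⟩

namespace Setting.Base

variable {G : Type u} [Group G] {D : Setting G} (F : D.Base) [Finite G]

/-- A pair of orthogonal planes inside. -/
def HasPair (S : AddSubgroup Vec) : Prop :=
  ∃ n ∈ F.N, ∀ a, F.na n (emb none a) ∈ S ∧ F.na n (emb (some 0) a) ∈ S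

/-- Two units in different orbits of the pointwise stabiliser. -/
def TwoClasses (S : AddSubgroup Vec) : Prop :=
  ∃ v a : Vec, qv v = 1 ∧ qv a = 1 ∧ v ∉ S ∧ a ∉ S ∧
    ∀ g ∈ F.N, (∀ d ∈ S, F.na g d = d) → F.na g v + a ∉ S

theorem pair_of_units {S : AddSubgroup Vec} {u w : Vec} (hu : qv u = 1) (hw : qv w = 1) (hu0 : u ∈ S)
    (hu1 : sg u ∈ S) (hw0 : w ∈ S) (hw1 : sg w ∈ S) (h0 : bv u w = 0) (h1 : bv (sg u) w = 0) : F.HasPair S := by
  have hS : ∀ {x}, x ∈ S → sg x ∈ S → ∀ c, sp c x ∈ S := by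
    intro x hx hx' c
    rcases (by decide : ∀ i : ZMod 3, i = 0 ∨ i = 1 ∨ i = 2) c with rfl | rfl | rfl
    · exact hx
    · exact hx'
    · show sg (sg x) ∈ S
      rw [show sg (sg x) = x + sg x from (by decide +kernel : ∀ x : Vec, sg (sg x) = x + sg x) x]
      exact S.add_mem hx hx'
  obtain ⟨n, hn, i, hni⟩ := F.units_transitive hu
  have hnN := F.XS_le_N hn
  rw [sp_emb] at hni
  set a0 := rotn i ((1, 0) : K4)
  have ha0 : a0 ≠ 0 := (by decide +kernel : ∀ i, rotn i ((1, 0) : K4) ≠ 0) i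
  have hO : ∀ c, bv (sp c u) w = 0 := by
    intro c
    rcases (by decide : ∀ i : ZMod 3, i = 0 ∨ i = 1 ∨ i = 2) c with rfl | rfl | rfl
    · exact h0
    · exact h1
    · show bv (sg (sg u)) w = 0
      rw [show sg (sg u) = u + sg u from (by decide +kernel : ∀ x : Vec, sg (sg x) = x + sg x) u, bv_add_left, h0, h1,
        add_zero]
  have hw' : (F.na n⁻¹ w).1 = 0 := (W_orth _).mpr fun b => by
    rw [← F.na_bv hnN, F.na_cancel_inv hnN]
    obtain rfl | hb := eq_or_ne b 0
    · rw [emb_zero, F.na_zero hnN, bv_zero_left]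
    obtain ⟨c, rfl⟩ := rotn_reach b a0 hb ha0
    obtain ⟨c', hc⟩ := F.XS_sp hn c (emb none a0)
    rw [← sp_emb, hc, hni]
    exact hO c'
  obtain ⟨h, hh, a1, ha1⟩ := F.W_units hw' (by rw [F.na_qv (inv_mem hnN), hw])
  have hhN := F.C1_le_N hh
  have ha10 : a1 ≠ 0 := by
    rintro rfl
    rw [emb_zero, F.na_zero hhN] at ha1
    have := F.na_qv (inv_mem hnN) w
    rw [← ha1, hw, qv_zero] at this
    exact absurd this (by decide)
  obtain ⟨a2, ha2⟩ := F.XR_na_R1 (inv_mem (F.C1_le_XR hh)) a0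
  have hnh := mul_mem hnN hhN
  have ea : F.na (n * h) (emb none a2) = u := by
    rw [F.na_mul hnN hhN, ← ha2, F.na_cancel_inv hhN, hni]
  have eb : F.na (n * h) (emb (some 0) a1) = w := by rw [F.na_mul hnN hhN, ha1, F.na_cancel_inv hnN]
  have ha20 : a2 ≠ 0 := by
    rintro rfl
    rw [emb_zero, F.na_zero hnh] at ea
    rw [← ea, qv_zero] at hu
    exact absurd hu (by decide)
  refine ⟨_, hnh, fun a => ⟨?_, ?_⟩⟩
  · obtain rfl | ha := eq_or_ne a 0
    · rw [emb_zero, F.na_zero hnh]; exact S.zero_mem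
    obtain ⟨c, rfl⟩ := rotn_reach a a2 ha ha20
    obtain ⟨c', hc⟩ := F.XS_sp (F.N_le_XS hnh) c (emb none a2)
    rw [← sp_emb, hc, ea]
    exact hS hu0 hu1 c'
  · obtain rfl | ha := eq_or_ne a 0
    · rw [emb_zero, F.na_zero hnh]; exact S.zero_mem
    obtain ⟨c, rfl⟩ := rotn_reach a a1 ha ha10
    obtain ⟨c', hc⟩ := F.XS_sp (F.N_le_XS hnh) c (emb (some 0) a1)
    rw [← sp_emb, hc, eb]
    exact hS hw0 hw1 c'

/-- A hyperplane contains an orthogonal pair. -/
theorem pair_of_hyperplane {S : AddSubgroup Vec} {d : Vec} (h : ∀ x, bv d x = 0 → x ∈ S) : F.HasPair S := by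
  obtain ⟨u, hu, hu0, hu1⟩ := plane_unit d
  obtain ⟨n, hn, i, hni⟩ := F.units_transitive hu
  have hnN := F.XS_le_N hn
  rw [sp_emb] at hni
  set a0 := rotn i ((1, 0) : K4)
  have ha0 : a0 ≠ 0 := (by decide +kernel : ∀ i, rotn i ((1, 0) : K4) ≠ 0) i
  have hd1 : (F.na n⁻¹ d).1 = 0 := (W_orth _).mpr fun b => by
    rw [← F.na_bv hnN, F.na_cancel_inv hnN]
    obtain rfl | hb := eq_or_ne b 0
    · rw [emb_zero, F.na_zero hnN, bv_zero_left]
    obtain ⟨c, rfl⟩ := rotn_reach b a0 hb ha0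
    obtain ⟨c', hc⟩ := F.XS_sp hn c (emb none a0)
    rw [← sp_emb, hc, hni]
    rcases (by decide : ∀ i : ZMod 3, i = 0 ∨ i = 1 ∨ i = 2) c' with rfl | rfl | rfl
    · exact hu0
    · exact hu1
    · show bv (sg (sg u)) d = 0
      rw [show sg (sg u) = u + sg u from (by decide +kernel : ∀ x : Vec, sg (sg x) = x + sg x) u, bv_add_left, hu0,
        hu1, add_zero]
  obtain ⟨w, hw1, hwq, hw0, hws⟩ := plane_unit_W _ hd1
  have hX : ∀ c, ∃ c', sp c (F.na n w) = F.na n (sp c' w) := by
    intro c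
    obtain ⟨c', hc⟩ := F.XS_sp (inv_mem hn) c (F.na n w)
    rw [F.na_inv_cancel hnN] at hc
    exact ⟨c', by rw [← hc, F.na_cancel_inv hnN]⟩
  refine F.pair_of_units hu (show qv (F.na n w) = 1 by rw [F.na_qv hnN, hwq]) (h _ (by rw [bv_comm]; exact hu0))
    (h _ (by rw [bv_comm]; exact hu1)) (h _ ?_) (h _ ?_) ?_ ?_
  · rw [← F.na_bv (inv_mem hnN), F.na_inv_cancel hnN, bv_comm]; exact hw0
  · obtain ⟨c', hc⟩ := hX 1
    rw [sp_one] at hc
    rw [← F.na_bv (inv_mem hnN), hc, F.na_inv_cancel hnN, bv_comm]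
    rcases (by decide : ∀ i : ZMod 3, i = 0 ∨ i = 1 ∨ i = 2) c' with rfl | rfl | rfl
    · exact hw0
    · exact hws
    · show bv (sg (sg w)) _ = 0
      rw [show sg (sg w) = w + sg w from (by decide +kernel : ∀ x : Vec, sg (sg x) = x + sg x) w, bv_add_left, hw0,
        hws, add_zero]
  · rw [← hni, F.na_bv hnN]
    exact (W_orth w).mp hw1 a0
  · obtain ⟨c', hc⟩ := F.XS_sp (inv_mem hn) 1 (F.na n (emb none a0))
    rw [sp_one, F.na_inv_cancel hnN, hni, sp_emb] at hc
    rw [← F.na_bv (inv_mem hnN), F.na_inv_cancel hnN, hc]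
    exact (W_orth w).mp hw1 _

/-- The orthogonal of a plane contains an orthogonal pair. -/
theorem pair_of_plane_perp {S : AddSubgroup Vec} {p : Vec} (hp : qv p = 1)
    (h : ∀ x, bv p x = 0 → bv (sg p) x = 0 → x ∈ S) : F.HasPair S := by
  obtain ⟨n, hn, i, hni⟩ := F.units_transitive hp
  have hnN := F.XS_le_N hn
  rw [sp_emb] at hni
  set a0 := rotn i ((1, 0) : K4)
  have key : ∀ b a, F.na n (emb (some b) a) ∈ S := by
    intro b a
    refine h _ ?_ ?_
    · rw [← hni, F.na_bv hnN, bv_emb_ne _ _ _ _ (by simp)]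
    · obtain ⟨c', hc⟩ := F.XS_sp (inv_mem hn) 1 p
      rw [← hni] at hc ⊢
      rw [sp_one, F.na_inv_cancel hnN, sp_emb] at hc
      rw [← F.na_bv (inv_mem hnN), F.na_inv_cancel hnN, hc, bv_emb_ne _ _ _ _ (by simp)]
  have hs : ∀ b a, sg (F.na n (emb (some b) a)) ∈ S := by
    intro b a
    obtain ⟨c', hc⟩ := F.XS_sp (inv_mem hn) 1 (F.na n (emb (some b) a))
    rw [sp_one, F.na_inv_cancel hnN, sp_emb] at hc
    rw [← F.na_cancel_inv hnN (sg _), hc]
    exact key b _
  have hu : ∀ b : ZMod 3, qv (F.na n (emb (some b) (1, 0))) = 1 := fun b => by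
    rw [F.na_qv hnN, (bv_emb _ _ (1, 0)).2]; rfl
  refine F.pair_of_units (hu 0) (hu 1) (key _ _) (hs _ _) (key _ _) (hs _ _) ?_ ?_
  · rw [F.na_bv hnN, bv_emb_ne _ _ _ _ (by decide)]
  · obtain ⟨c', hc⟩ := F.XS_sp (inv_mem hn) 1 (F.na n (emb (some (0 : ZMod 3)) (1, 0)))
    rw [sp_one, F.na_inv_cancel hnN, sp_emb] at hc
    rw [← F.na_bv (inv_mem hnN), F.na_inv_cancel hnN, hc, bv_emb_ne _ _ _ _ (by decide)]

/-- The dichotomy. -/
theorem pair_or_classes {S : AddSubgroup Vec} (hbot : S ≠ ⊥) (htop : S ≠ ⊤) :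
    F.HasPair S ∨ F.TwoClasses S := by
  classical
  have hinv : ∀ {g : G}, g ∈ F.N → (∀ d ∈ S, F.na g d = d) → ∀ {v a r : Vec}, r ∈ S →
      (∀ d ∈ S, bv d r = 0) → F.na g v + a ∈ S → bv v r = bv a r := by
    intro g hg hfix v a r hr hrad hmem
    have h1 := hrad _ hmem
    rw [bv_add_left, ← hfix r hr, F.na_bv hg, hfix r hr] at h1
    exact (by decide : ∀ x y : ZMod 2, x + y = 0 → x = y) _ _ h1
  have hv : ∀ {v r : Vec}, r ∈ S → (∀ d ∈ S, bv d r = 0) → bv v r = 1 → v ∉ S := fun hr hrad h hm => by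
    rw [hrad _ hm] at h; exact absurd h (by decide)
  by_cases h2 : ∃ x ∈ S, ∃ y ∈ S, x ≠ 0 ∧ y ≠ 0 ∧ x ≠ y ∧ (∀ d ∈ S, bv d x = 0) ∧ (∀ d ∈ S, bv d y = 0)
  · obtain ⟨x, hxS, y, hyS, hx0, hy0, hxy, hxr, hyr⟩ := h2
    obtain ⟨v, hvq, hvx⟩ := unit_not_orth x hx0
    have hxy0 : x + y ≠ 0 := fun h => hxy (by
      calc x = x + (y + y) := by rw [vec_two, add_zero]
        _ = y := by rw [← add_assoc, h, zero_add])
    have hxyr : ∀ d ∈ S, bv d (x + y) = 0 := fun d hd => by rw [bv_add_right, hxr d hd, hyr d hd, add_zero]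
    obtain ⟨z, hzS, hz0, hzr, hvz⟩ : ∃ z ∈ S, z ≠ 0 ∧ (∀ d ∈ S, bv d z = 0) ∧ bv v z = 0 := by
      rcases z2_cases (bv v y) with h | h
      · exact ⟨y, hyS, hy0, hyr, h⟩
      · exact ⟨x + y, S.add_mem hxS hyS, hxy0, hxyr, by rw [bv_add_right, hvx, h]; decide⟩
    obtain ⟨a, haq, haz⟩ := unit_not_orth z hz0
    refine Or.inr ⟨v, a, hvq, haq, hv hxS hxr hvx, hv hzS hzr haz, fun g hg hfix hmem => ?_⟩
    have := hinv hg hfix hzS hzr hmem
    rw [hvz, haz] at this
    exact absurd this (by decide)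
  by_cases h1 : ∃ d ∈ S, d ≠ 0 ∧ ∀ e ∈ S, bv e d = 0
  · obtain ⟨d, hdS, hd0, hdr⟩ := h1
    have hone : ∀ x ∈ S, (∀ e ∈ S, bv e x = 0) → x = 0 ∨ x = d := fun x hx hxr => by
      by_contra hcon
      simp only [not_or] at hcon
      exact h2 ⟨x, hx, d, hdS, hcon.1, hd0, hcon.2, hxr, hdr⟩
    by_cases hout : ∃ w, w ∉ S ∧ ∀ e ∈ S, bv w e = 0
    · obtain ⟨w, hwS, hwp⟩ := hout
      obtain ⟨a, haq, haS, had⟩ : ∃ a, qv a = 1 ∧ a ∉ S ∧ bv a d = 0 := by
        rcases z2_cases (qv w) with hq | hq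
        swap
        · exact ⟨w, hq, hwS, hwp d hdS⟩
        by_cases hu : ∃ e ∈ S, qv e = 1
        · obtain ⟨e, heS, heq⟩ := hu
          refine ⟨w + e, by rw [qv_add, hq, heq, hwp e heS]; decide, fun h => hwS ?_, ?_⟩
          · have := S.add_mem h heS
            rwa [add_assoc, vec_two, add_zero] at this
          · rw [bv_add_left, hwp d hdS, hdr e heS, add_zero]
        · simp only [not_exists, not_and] at hu
          have hdq : qv d = 0 := (z2_cases _).resolve_right (hu d hdS)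
          obtain ⟨a, haq, had⟩ := unit_orth d hdq
          exact ⟨a, haq, fun h => hu a h haq, had⟩
      obtain ⟨v, hvq, hvd⟩ := unit_not_orth d hd0
      refine Or.inr ⟨v, a, hvq, haq, hv hdS hdr hvd, haS, fun g hg hfix hmem => ?_⟩
      have := hinv hg hfix hdS hdr hmem
      rw [hvd, had] at this
      exact absurd this (by decide)
    · simp only [not_exists, not_and] at hout
      refine Or.inl (F.pair_of_hyperplane (d := d) fun x hx => ?_)
      by_contra hxS
      obtain ⟨v, hvp, hvx⟩ := separate S hxS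
      have hvS : v ∈ S := by
        by_contra h
        exact hout v h hvp
      rcases hone v hvS (fun e he => by rw [bv_comm]; exact hvp e he) with rfl | rfl
      · rw [bv_zero_left] at hvx; exact absurd hvx (by decide)
      · rw [hx] at hvx; exact absurd hvx (by decide)
  -- nondegenerate
  simp only [not_exists, not_and] at h1
  have hdisj : ∀ x ∈ S, (∀ e ∈ S, bv x e = 0) → x = 0 := fun x hx h => by
    by_contra hx0
    exact h1 x hx hx0 fun e he => by rw [bv_comm]; exact h e he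
  obtain ⟨d', hd'S, hd'q⟩ : ∃ e ∈ S, qv e = 1 := by
    by_contra hcon
    simp only [not_exists, not_and] at hcon
    have h0 : ∀ e ∈ S, qv e = 0 := fun e he => (z2_cases _).resolve_right (hcon e he)
    refine hbot ((AddSubgroup.eq_bot_iff_forall _).mpr fun x hx => hdisj x hx fun e he => ?_)
    have h := qv_add x e
    rw [h0 _ (S.add_mem hx he), h0 x hx, h0 e he, zero_add, zero_add] at h
    exact h.symm
  have hperp : ∀ {g : G}, g ∈ F.N → (∀ d ∈ S, F.na g d = d) → ∀ {v : Vec}, (∀ e ∈ S, bv v e = 0) →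
      ∀ e ∈ S, bv (F.na g v) e = 0 := fun {g} hg hfix {v} hv e he => by
    rw [← hfix e he, F.na_bv hg, hv e he]
  by_cases hu1 : ∃ v, qv v = 1 ∧ ∀ e ∈ S, bv v e = 0
  swap
  · exfalso
    simp only [not_exists, not_and] at hu1
    have h0 : ∀ v, (∀ e ∈ S, bv v e = 0) → qv v = 0 := fun v hv =>
      (z2_cases _).resolve_right (fun h => hu1 v h hv)
    obtain ⟨x, hx⟩ : ∃ x, x ∉ S := by
      by_contra hcon
      simp only [not_exists, not_not] at hcon
      exact htop ((AddSubgroup.eq_top_iff' S).mpr hcon)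
    obtain ⟨w, hw, hwx⟩ := separate S hx
    have hwS : w ∉ S := fun h => by
      rw [hdisj w h hw, bv_zero_left] at hwx
      exact absurd hwx (by decide)
    obtain ⟨v, hvp, hvw⟩ := separate S hwS
    have h := qv_add v w
    rw [h0 _ (fun e he => by rw [bv_add_left, hvp e he, hw e he, add_zero]), h0 v hvp, h0 w hw, hvw] at h
    exact absurd h (by decide)
  obtain ⟨p1, hp1, hp1p⟩ := hu1
  have hp1S : p1 ∉ S := fun h => by rw [hdisj p1 h hp1p] at hp1; exact absurd hp1 (by decide +kernel)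
  by_cases hw : ∃ w, w ≠ 0 ∧ qv w = 0 ∧ ∀ e ∈ S, bv w e = 0
  · obtain ⟨w, hw0, hwq, hwp⟩ := hw
    have hwS : w ∉ S := fun h => hw0 (hdisj w h hwp)
    refine Or.inr ⟨p1, w + d', hp1, by rw [qv_add, hwq, hd'q, hwp d' hd'S]; decide, hp1S, fun h => hwS ?_,
      fun g hg hfix hmem => ?_⟩
    · have := S.add_mem h hd'S
      rwa [add_assoc, vec_two, add_zero] at this
    · have h3 : F.na g p1 + w ∈ S := by
        have := S.add_mem hmem hd'S
        rwa [add_assoc, add_assoc, vec_two, add_zero] at this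
      have h4 := hdisj _ h3 fun e he => by rw [bv_add_left, hperp hg hfix hp1p e he, hwp e he, add_zero]
      have h5 : F.na g p1 = w := by
        calc F.na g p1 = F.na g p1 + (w + w) := by rw [vec_two, add_zero]
          _ = w := by rw [← add_assoc, h4, zero_add]
      have := F.na_qv hg p1
      rw [h5, hwq, hp1] at this
      exact absurd this (by decide)
  simp only [not_exists, not_and] at hw
  have hall : ∀ v, v ≠ 0 → (∀ e ∈ S, bv v e = 0) → qv v = 1 := fun v hv0 hv =>
    (z2_cases _).resolve_left (fun h => hw v hv0 h hv)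
  obtain ⟨p2, hp2p, hp12⟩ := separate S hp1S
  have hp20 : p2 ≠ 0 := fun h => by rw [h, bv_zero_left] at hp12; exact absurd hp12 (by decide)
  have hp2 : qv p2 = 1 := hall p2 hp20 hp2p
  have h12 : p1 ≠ p2 := fun h => by rw [← h, bv_self] at hp12; exact absurd hp12 (by decide)
  have hp3p : ∀ e ∈ S, bv (p1 + p2) e = 0 := fun e he => by rw [bv_add_left, hp1p e he, hp2p e he, add_zero]
  have hexh : ∀ v, (∀ e ∈ S, bv v e = 0) → v = 0 ∨ v = p1 ∨ v = p2 ∨ v = p1 + p2 := by
    intro v hv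
    by_contra hcon
    simp only [not_or] at hcon
    have hne : ∀ {x y : Vec}, x ≠ y → x + y ≠ 0 := fun {x y} hxy h => hxy (by
      calc x = x + (y + y) := by rw [vec_two, add_zero]
        _ = y := by rw [← add_assoc, h, zero_add])
    have hq : ∀ p, p ≠ 0 → (∀ e ∈ S, bv p e = 0) → v ≠ p → bv v p = 1 := fun p hp0 hp hvp => by
      have h := qv_add v p
      rw [hall _ (hne hvp) (fun e he => by rw [bv_add_left, hv e he, hp e he, add_zero]), hall v hcon.1 hv,
        hall p hp0 hp] at h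
      exact (by decide : ∀ x : ZMod 2, 1 = 1 + 1 + x → x = 1) _ h
    have e1 := hq p1 (fun h => hp1S (h ▸ S.zero_mem)) hp1p hcon.2.1
    have e2 := hq p2 hp20 hp2p hcon.2.2.1
    have e3 := hq (p1 + p2) (hne h12) hp3p hcon.2.2.2
    rw [bv_add_right, e1, e2] at e3
    exact absurd e3 (by decide)
  have hdec : ∀ x, ∃ s ∈ S, ∃ p, (p = 0 ∨ p = p1 ∨ p = p2 ∨ p = p1 + p2) ∧ x = s + p := by
    intro x
    have key : ∀ p, (∀ q, q = p1 ∨ q = p2 → bv q p = bv q x) → x + p ∈ S := by
      intro p hpq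
      by_contra hns
      obtain ⟨v, hv, hvx⟩ := separate S hns
      have h1 : bv p1 (x + p) = 0 := by rw [bv_add_right, hpq p1 (Or.inl rfl)]; exact (by decide : ∀ a : ZMod 2, a + a = 0) _
      have h2 : bv p2 (x + p) = 0 := by rw [bv_add_right, hpq p2 (Or.inr rfl)]; exact (by decide : ∀ a : ZMod 2, a + a = 0) _
      rcases hexh v hv with rfl | rfl | rfl | rfl
      · rw [bv_zero_left] at hvx; exact absurd hvx (by decide)
      · rw [h1] at hvx; exact absurd hvx (by decide)
      · rw [h2] at hvx; exact absurd hvx (by decide)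
      · rw [bv_add_left, h1, h2] at hvx; exact absurd hvx (by decide)
    have hfin : ∀ p, (p = 0 ∨ p = p1 ∨ p = p2 ∨ p = p1 + p2) → (∀ q, q = p1 ∨ q = p2 → bv q p = bv q x) →
        ∃ s ∈ S, ∃ p, (p = 0 ∨ p = p1 ∨ p = p2 ∨ p = p1 + p2) ∧ x = s + p := fun p hp hpq =>
      ⟨x + p, key p hpq, p, hp, by rw [add_assoc, vec_two, add_zero]⟩
    have h21 : bv p1 p2 = 1 := by rw [bv_comm]; exact hp12
    rcases z2_cases (bv p1 x) with a | a <;> rcases z2_cases (bv p2 x) with b | b
    · refine hfin 0 (Or.inl rfl) ?_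
      rintro q (rfl | rfl) <;> rw [bv_comm, bv_zero_left]
      exacts [a.symm, b.symm]
    · refine hfin p1 (Or.inr (Or.inl rfl)) ?_
      rintro q (rfl | rfl)
      · rw [bv_self, a]
      · rw [hp12, b]
    · refine hfin p2 (Or.inr (Or.inr (Or.inl rfl))) ?_
      rintro q (rfl | rfl)
      · rw [h21, a]
      · rw [bv_self, b]
    · refine hfin (p1 + p2) (Or.inr (Or.inr (Or.inr rfl))) ?_
      rintro q (rfl | rfl)
      · rw [bv_add_right, bv_self, h21, zero_add, a]
      · rw [bv_add_right, bv_self, hp12, add_zero, b]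
  by_cases hσ : ∀ x ∈ S, sg x ∈ S
  · -- the orthogonal is a plane
    left
    have hsp : ∀ e ∈ S, bv (sg p1) e = 0 := fun e he => by
      rw [sg_shift]; exact hp1p _ (hσ _ (hσ _ he))
    have hne : sg p1 ≠ p1 := fun h => hp1S ((sg_fix_zero p1 (by rw [h, h])).symm ▸ S.zero_mem)
    have hs0 : sg p1 ≠ 0 := fun h => by
      have := sg_qv p1
      rw [h, hp1, qv_zero] at this
      exact absurd this (by decide)
    refine F.pair_of_plane_perp hp1 fun x hx1 hx2 => ?_
    by_contra hxS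
    obtain ⟨v, hv, hvx⟩ := separate S hxS
    have hx3 : bv p2 x = 0 := by
      rcases hexh _ hsp with h | h | h | h
      · exact absurd h hs0
      · exact absurd h hne
      · rw [← h, hx2]
      · rw [show p2 = p1 + sg p1 by rw [h, ← add_assoc, vec_two, zero_add], bv_add_left, hx1, hx2, add_zero]
    rcases hexh v hv with rfl | rfl | rfl | rfl
    · rw [bv_zero_left] at hvx; exact absurd hvx (by decide)
    · rw [hx1] at hvx; exact absurd hvx (by decide)
    · rw [hx3] at hvx; exact absurd hvx (by decide)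
    · rw [bv_add_left, hx1, hx3] at hvx; exact absurd hvx (by decide)
  right
  refine ⟨p1, p2, hp1, hp2, hp1S, fun h => hp20 (hdisj p2 h hp2p), fun g hg hfix hmem => ?_⟩
  have h4 := hdisj _ hmem fun e he => by rw [bv_add_left, hperp hg hfix hp1p e he, hp2p e he, add_zero]
  have hgp : F.na g p1 = p2 := by
    calc F.na g p1 = F.na g p1 + (p2 + p2) := by rw [vec_two, add_zero]
      _ = p2 := by rw [← add_assoc, h4, zero_add]
  rcases (F.N_le_XS hg).2 with hl | ha
  · -- commuting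
    simp only [not_forall, exists_prop] at hσ
    obtain ⟨x, hxS, hsx⟩ := hσ
    obtain ⟨s, hsS, p, hp, hsp⟩ := hdec (sg x)
    have hfp : F.na g p = p := by
      have h : F.na g (sg x) = sg x := by rw [hl, hfix x hxS]
      rw [hsp, F.na_add hg, hfix s hsS] at h
      exact add_left_cancel h
    have hno : ∀ q, q = p1 ∨ q = p2 → F.na g q ≠ q := by
      rintro q (rfl | rfl) h
      · exact h12 (h.symm.trans hgp)
      · exact h12 (F.na_inj hg (hgp.trans h.symm))
    rcases hp with rfl | rfl | rfl | rfl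
    · rw [add_zero] at hsp; exact hsx (hsp ▸ hsS)
    · exact hno _ (Or.inl rfl) hfp
    · exact hno _ (Or.inr rfl) hfp
    · obtain ⟨x2, hx2, hx3⟩ := moving_hyperplane (p1 + p2)
        (by rw [qv_add, hp1, hp2, bv_comm, hp12]; decide)
      have hq : ∀ y, bv (p1 + p2) y = 0 → F.na g y = y := by
        intro y hy
        obtain ⟨s', hs', p', hp', rfl⟩ := hdec y
        rw [bv_add_right, hp3p s' hs', zero_add] at hy
        rw [F.na_add hg, hfix s' hs']
        congr 1
        rcases hp' with rfl | rfl | rfl | rfl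
        · exact F.na_zero hg
        · rw [bv_add_left, bv_self, hp12] at hy; exact absurd hy (by decide)
        · rw [bv_add_left, bv_self, bv_comm, hp12] at hy; exact absurd hy (by decide)
        · exact hfp
      obtain ⟨s', hs', p', hp', hsx2⟩ := hdec (sg x2)
      have hf2 : F.na g p' = p' := by
        have h : F.na g (sg x2) = sg x2 := by rw [hl, hq x2 hx2]
        rw [hsx2, F.na_add hg, hfix s' hs'] at h
        exact add_left_cancel h
      rw [hsx2, bv_add_right, hp3p s' hs', zero_add] at hx3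
      rcases hp' with rfl | rfl | rfl | rfl
      · rw [bv_comm, bv_zero_left] at hx3; exact absurd hx3 (by decide)
      · exact hno _ (Or.inl rfl) hf2
      · exact hno _ (Or.inr rfl) hf2
      · rw [bv_self] at hx3; exact absurd hx3 (by decide)
  · -- anticommuting
    have hS : ∀ y, bv p1 y = 0 → bv p2 y = 0 → y ∈ S := fun y h1 h2 => by
      obtain ⟨s, hs, p, hp, rfl⟩ := hdec y
      rw [bv_add_right, hp1p s hs, zero_add] at h1
      rw [bv_add_right, hp2p s hs, zero_add] at h2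
      rcases hp with rfl | rfl | rfl | rfl
      · rwa [add_zero]
      · rw [hp12] at h2; exact absurd h2 (by decide)
      · rw [bv_comm, hp12] at h1; exact absurd h1 (by decide)
      · rw [bv_add_right, bv_self, bv_comm p1 p2, hp12] at h1; exact absurd h1 (by decide)
    let f : Vec → ZMod 2 × ZMod 2 × ZMod 2 × ZMod 2 := fun y =>
      (bv p1 y, bv p2 y, bv p1 (sg y), bv p2 (sg y))
    obtain ⟨y1, y2, hne, hf⟩ := Fintype.exists_ne_map_eq_of_card_lt f (by simp)
    simp only [f, Prod.mk.injEq] at hf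
    obtain ⟨f1, f2, f3, f4⟩ := hf
    have hz : ∀ a : ZMod 2, a + a = 0 := by decide
    have hyS : y1 + y2 ∈ S := hS _ (by rw [bv_add_right, f1, hz]) (by rw [bv_add_right, f2, hz])
    have hsS : sg (y1 + y2) ∈ S := hS _ (by rw [sg_add, bv_add_right, f3, hz]) (by rw [sg_add, bv_add_right, f4, hz])
    have h := ha (y1 + y2)
    rw [hfix _ hsS, hfix _ hyS] at h
    refine hne ?_
    calc y1 = y1 + (y2 + y2) := by rw [vec_two, add_zero]
      _ = y2 := by rw [← add_assoc, sg_fix_zero _ h, zero_add]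

end Setting.Base

end CfsgLib.U6Three
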