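import Cfsg.Agent.Lib.U6Three.Classes

/-!
The centraliser of the involution normalises the product.
-/

set_option autoImplicit false
set_option linter.style.haveILetI false
set_option synthInstance.maxSize 1024

namespace CfsgLib.U6Three

universe u

theorem singular_pair : ∃ w1 w2 : Vec, qv w1 = 0 ∧ qv w2 = 0 ∧ w1 ≠ 0 ∧ w2 ≠ 0 ∧ qv (w1 + w2) = 1 :=
  ⟨emb none (1, 0) + emb (some 0) (1, 0), emb none (0, 1) + emb (some 0) (1, 0), by decide +kernel, by decide +kernel,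
    by decide +kernel, by decide +kernel, by decide +kernel⟩

theorem mult_two : ∀ (n : ℤ) (w : Vec), n • w = 0 ∨ n • w = w := fun n w => by
  rcases Int.even_or_odd n with ⟨k, rfl⟩ | ⟨k, rfl⟩
  · left; rw [add_smul, vec_two]
  · right; rw [add_smul, one_smul, two_mul, add_smul, vec_two, zero_add]

/-- Two nonconjugate involutions have a common commuting involution. -/
theorem dihedral_center {G : Type u} [Group G] [Finite G] {v a : G} (hv : v * v = 1) (ha : a * a = 1)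
    (hn : ¬ ∃ g, g * v * g⁻¹ = a) :
    ∃ u, u ≠ 1 ∧ Commute u v ∧ Commute u a ∧
      ((∃ g, g * v * g⁻¹ = u * v) ∨ ∃ g, g * a * g⁻¹ = u * v) := by
  set t := v * a with ht
  have hv' : v⁻¹ = v := inv_eq_of_mul_eq_one_right hv
  have ha' : a⁻¹ = a := inv_eq_of_mul_eq_one_right ha
  have hvt : v * t * v⁻¹ = t⁻¹ := by rw [ht, mul_inv_rev, ← mul_assoc v, hv, one_mul, hv', ha']
  have hat : a * t * a⁻¹ = t⁻¹ := by rw [ht, mul_inv_rev, ha', hv', mul_assoc, mul_assoc v, ha, mul_one]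
  have hconj : ∀ (n : ℕ) {x : G}, x * t * x⁻¹ = t⁻¹ → t ^ n * x * (t ^ n)⁻¹ = t ^ (2 * n) * x := by
    intro n x hx
    have h1 : x * (t ^ n)⁻¹ * x⁻¹ = t ^ n := by rw [← conj_inv, ← conj_pow, hx, inv_pow, inv_inv]
    calc t ^ n * x * (t ^ n)⁻¹ = t ^ n * (x * (t ^ n)⁻¹ * x⁻¹) * x := by group
      _ = _ := by rw [h1, ← pow_add, two_mul]
  have hpos := orderOf_pos t
  have ho := pow_orderOf_eq_one t
  rcases Nat.even_or_odd (orderOf t) with ⟨m, hm⟩ | ⟨r, hr⟩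
  swap
  · refine absurd ⟨t ^ r, ?_⟩ hn
    rw [hconj r hvt]
    have h1 : t ^ (2 * r) = t⁻¹ := eq_inv_of_mul_eq_one_left (by rw [← pow_succ, ← hr, ho])
    rw [h1, ht, mul_inv_rev, ha', hv', mul_assoc, hv, mul_one]
  have hm2 : t ^ (2 * m) = 1 := by rw [two_mul, ← hm, ho]
  have hinv : (t ^ m)⁻¹ = t ^ m := inv_eq_of_mul_eq_one_right (by rw [← pow_add, ← two_mul, hm2])
  have hc : ∀ {x : G}, x * t * x⁻¹ = t⁻¹ → Commute (t ^ m) x := fun {x} hx => by
    refine (mul_inv_eq_iff_eq_mul.mp ?_ : Commute x (t ^ m)).symm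
    rw [← conj_pow, hx, inv_pow, hinv]
  refine ⟨t ^ m, pow_ne_one_of_lt_orderOf (by omega) (by omega), hc hvt, hc hat, ?_⟩
  rcases Nat.even_or_odd m with ⟨j, hj⟩ | ⟨j, hj⟩
  · left
    exact ⟨t ^ j, by rw [hconj j hvt, two_mul, ← hj]⟩
  · right
    refine ⟨t ^ (j + 1), ?_⟩
    rw [hconj (j + 1) hat, show 2 * (j + 1) = m + 1 by omega, pow_succ, mul_assoc]
    congr 1
    rw [ht, mul_assoc, ha, mul_one]

namespace Setting.Base

variable {G : Type u} [Group G] {D : Setting G} (F : D.Base) [Finite G]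

/-- The preimage of a subspace. -/
def Pre (S : AddSubgroup Vec) : Subgroup G where
  carrier := {d | d ∈ F.K ∧ F.kap d ∈ S}
  one_mem' := ⟨one_mem _, by rw [F.kap_Ic (one_mem _)]; exact S.zero_mem⟩
  mul_mem' := fun {a b} ha hb => ⟨mul_mem ha.1 hb.1, by rw [F.kap_mul ha.1 hb.1]; exact S.add_mem ha.2 hb.2⟩
  inv_mem' := fun {a} ha => ⟨inv_mem ha.1, by rw [F.kap_inv ha.1]; exact ha.2⟩

theorem mem_Pre {S : AddSubgroup Vec} {d : G} : d ∈ F.Pre S ↔ d ∈ F.K ∧ F.kap d ∈ S := Iff.rfl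

/-- The centraliser of a subspace modulo the centre. -/
noncomputable def CD (S : AddSubgroup Vec) : Subgroup G := Cen (D := D) (F.Pre S : Set G)

theorem K_le_CD (S : AddSubgroup Vec) : F.K ≤ F.CD S := fun k hk => mem_Cen.mpr ⟨F.K_le_Mi hk, fun d hd => by
  refine (F.kap_congr hd.1 (mul_mem (mul_mem hk hd.1) (inv_mem hk))).mp ?_
  rw [F.kap_mul (mul_mem hk hd.1) (inv_mem hk), F.kap_mul hk hd.1, F.kap_inv hk, add_comm (F.kap k), add_assoc,
    vec_two, add_zero]⟩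

theorem CD_le_Mi (S : AddSubgroup Vec) : F.CD S ≤ Mi (D := D) := fun _ h => (mem_Cen.mp h).1

theorem CD_bot {g : G} (hg : g ∈ Mi (D := D)) : g ∈ F.CD ⊥ := mem_Cen.mpr ⟨hg, fun d hd => by
  have hI := (F.kap_zero hd.1).mp (AddSubgroup.mem_bot.mp hd.2)
  rw [(Ic_comm_Mi hI hg).eq, mul_inv_cancel_right, inv_mul_cancel]
  exact one_mem _⟩

theorem CD_top : F.CD ⊤ ≤ F.K := fun g hg => F.inner (CD_le_Mi F ⊤ hg) fun x hx => by
  have h := (mem_Cen.mp hg).2 x ⟨hx, AddSubgroup.mem_top _⟩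
  rw [show g * x * g⁻¹ * x⁻¹ = x * (x⁻¹ * (g * x * g⁻¹)) * x⁻¹ by group,
    (Ic_comm_Mi h (F.K_le_Mi hx)).eq, mul_inv_cancel_right]
  exact h

theorem CD_conj {S : AddSubgroup Vec} {g d : G} (hg : g ∈ F.CD S) (hd : d ∈ F.Pre S) : g * d * g⁻¹ ∈ F.Pre S := by
  have h := (mem_Cen.mp hg).2 d hd
  have h1 : d⁻¹ * (g * d * g⁻¹) ∈ F.Pre S := ⟨F.Ic_le_K h, by rw [F.kap_Ic h]; exact S.zero_mem⟩
  have := mul_mem hd h1
  rwa [mul_inv_cancel_left] at this

/-- Membership from generators. -/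
theorem mem_CD_sup {S : AddSubgroup Vec} {h : G} (hh : h ∈ F.CD S) {y : G} (hy : y ∈ F.K)
    (hc : y⁻¹ * (h * y * h⁻¹) ∈ Ic (D := D)) : h ∈ F.CD (S ⊔ AddSubgroup.zmultiples (F.kap y)) := by
  refine mem_Cen.mpr ⟨F.CD_le_Mi S hh, ?_⟩
  rintro d ⟨hdK, hdS⟩
  obtain ⟨s, hs, w, hw, e⟩ := AddSubgroup.mem_sup.mp hdS
  obtain ⟨n, rfl⟩ := AddSubgroup.mem_zmultiples_iff.mp hw
  have key : ∀ d : G, d ∈ F.Pre S → d⁻¹ * (h * d * h⁻¹) ∈ Ic (D := D) := (mem_Cen.mp hh).2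
  have hds : F.sec s ∈ F.Pre S := ⟨F.sec_mem s, by rw [F.kap_sec]; exact hs⟩
  rcases mult_two n (F.kap y) with h0 | h0 <;> rw [h0] at e
  · exact key d ⟨hdK, by rw [← e, add_zero]; exact hs⟩
  · set d0 := d * y⁻¹ with hd0
    have hd0S : d0 ∈ F.Pre S := ⟨mul_mem hdK (inv_mem hy), by
      rw [hd0, F.kap_mul hdK (inv_mem hy), F.kap_inv hy, ← e, add_assoc, vec_two, add_zero]; exact hs⟩
    have h1 := key d0 hd0S
    rw [show d = d0 * y by rw [hd0, inv_mul_cancel_right],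
      show (d0 * y)⁻¹ * (h * (d0 * y) * h⁻¹) = y⁻¹ * (d0⁻¹ * (h * d0 * h⁻¹)) * y * (y⁻¹ * (h * y * h⁻¹)) by group,
      mul_assoc y⁻¹, ← (Ic_comm_Mi h1 (F.K_le_Mi hy)).eq, inv_mul_cancel_left]
    exact mul_mem h1 hc

/-- A conjugation carrying one vector to another. -/
theorem conj_into {S : AddSubgroup Vec} {g x y : G} (hg : g ∈ F.CD S) (hx : x ∈ F.K) (hy : y ∈ F.K)
    (hxy : y⁻¹ * (g * x * g⁻¹) ∈ F.Pre S) :
    ∀ k ∈ F.K, g * k * g⁻¹ ∈ F.CD (S ⊔ AddSubgroup.zmultiples (F.kap y)) := by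
  intro k hk
  have hkS : g * k * g⁻¹ ∈ F.CD S := mul_mem (mul_mem hg (F.K_le_CD S hk)) (inv_mem hg)
  have hgM := F.CD_le_Mi S hg
  refine F.mem_CD_sup hkS hy ?_
  set h := g * k * g⁻¹ with hh
  set d := y⁻¹ * (g * x * g⁻¹) with hd
  have h1 := (mem_Cen.mp hkS).2 d hxy
  have h2 : (g * x * g⁻¹)⁻¹ * (h * (g * x * g⁻¹) * h⁻¹) ∈ Ic (D := D) := by
    have h3 := (mem_Cen.mp (F.K_le_CD ⊤ hk)).2 x ⟨hx, AddSubgroup.mem_top _⟩
    rw [show (g * x * g⁻¹)⁻¹ * (h * (g * x * g⁻¹) * h⁻¹) = g * (x⁻¹ * (k * x * k⁻¹)) * g⁻¹ by rw [hh]; group,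
      (Ic_comm_Mi h3 hgM).eq, mul_inv_cancel_right]
    exact h3
  have hdM := F.K_le_Mi hxy.1
  have e : y⁻¹ * (h * y * h⁻¹) =
      d * ((g * x * g⁻¹)⁻¹ * (h * (g * x * g⁻¹) * h⁻¹) * (d⁻¹ * (h * d * h⁻¹))⁻¹) * d⁻¹ := by rw [hd]; group
  rw [e, (Ic_comm_Mi (mul_mem h2 (inv_mem h1)) hdM).eq, mul_inv_cancel_right]
  exact mul_mem h2 (inv_mem h1)

/-- An element conjugating the product into the normaliser lies in it. -/
theorem N_of_conj_K {g : G} (hg : g ∈ Mi (D := D)) (h : ∀ k ∈ F.K, g * k * g⁻¹ ∈ F.N) : g ∈ F.N := by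
  refine ⟨hg, norm_of_conj fun k hk => ?_⟩
  let S : Subgroup G :=
    { carrier := {x | x ∈ F.K ∧ g * x * g⁻¹ ∈ F.K}
      one_mem' := ⟨one_mem _, by simp⟩
      mul_mem' := fun {a b} ha hb => ⟨mul_mem ha.1 hb.1, by
        rw [show g * (a * b) * g⁻¹ = g * a * g⁻¹ * (g * b * g⁻¹) by group]; exact mul_mem ha.2 hb.2⟩
      inv_mem' := fun {a} ha => ⟨inv_mem ha.1, by rw [← conj_inv]; exact inv_mem ha.2⟩ }
  have hu : ∀ i a, F.sec (emb i a) ∈ S := by
    intro i a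
    refine ⟨F.sec_mem _, ?_⟩
    obtain rfl | ha := eq_or_ne a 0
    · have hI : F.sec (emb i 0) ∈ Ic (D := D) := (F.kap_zero (F.sec_mem _)).mp (by rw [F.kap_sec, emb_zero])
      rw [(Ic_comm_Mi hI hg).eq, mul_inv_cancel_right]
      exact F.sec_mem _
    · exact F.unit_fusion (F.sec_mem _) (by rw [F.kap_sec, (bv_emb i a a).2, nz_one]; exact ha) hg (h _ (F.sec_mem _))
  have hI : ∀ x ∈ Ic (D := D), x ∈ S := fun x hx => ⟨F.Ic_le_K hx, by
    rw [(Ic_comm_Mi hx hg).eq, mul_inv_cancel_right]; exact F.Ic_le_K hx⟩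
  set v := F.kap k
  set p := F.sec (emb none v.1) * F.sec (emb (some 0) (vb v 0)) * F.sec (emb (some 1) (vb v 1)) *
    F.sec (emb (some 2) (vb v 2)) with hp
  have hpS : p ∈ S := mul_mem (mul_mem (mul_mem (hu _ _) (hu _ _)) (hu _ _)) (hu _ _)
  have hkp : F.kap p = v := by
    rw [hp, F.kap_mul (mul_mem (mul_mem (F.sec_mem _) (F.sec_mem _)) (F.sec_mem _)) (F.sec_mem _),
      F.kap_mul (mul_mem (F.sec_mem _) (F.sec_mem _)) (F.sec_mem _), F.kap_mul (F.sec_mem _) (F.sec_mem _),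
      F.kap_sec, F.kap_sec, F.kap_sec, F.kap_sec, ← emb_split]
  have := mul_mem hpS (hI _ ((F.kap_congr hpS.1 hk).mp hkp))
  rw [mul_inv_cancel_left] at this
  exact this.2

/-- The pair case. -/
theorem CD_pair {S : AddSubgroup Vec} (h : F.HasPair S) : F.CD S ≤ F.N := by
  obtain ⟨n, hn, hp⟩ := h
  intro g hg
  have hgM := F.CD_le_Mi S hg
  have hnM := F.N_le_Mi hn
  have hX : n⁻¹ * g * n ∈ F.Xp := by
    refine mem_Cen.mpr ⟨mul_mem (mul_mem (inv_mem hnM) hgM) hnM, fun d hd => ?_⟩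
    have hdK := F.N0_le_K hd
    have hdS : n * d * n⁻¹ ∈ F.Pre S := by
      refine ⟨F.N_conj_K hn hdK, ?_⟩
      rw [← F.na_kap hn hdK]
      let T : Subgroup G :=
        { carrier := {x | x ∈ F.K ∧ F.na n (F.kap x) ∈ S}
          one_mem' := ⟨one_mem _, by rw [F.kap_Ic (one_mem _), F.na_zero hn]; exact S.zero_mem⟩
          mul_mem' := fun {a b} ha hb => ⟨mul_mem ha.1 hb.1, by
            rw [F.kap_mul ha.1 hb.1, F.na_add hn]; exact S.add_mem ha.2 hb.2⟩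
          inv_mem' := fun {a} ha => ⟨inv_mem ha.1, by rw [F.kap_inv ha.1]; exact ha.2⟩ }
      have hle : F.N0 ≤ T := by
        refine sup_le (fun r hr => ⟨F.R1_le_K hr, by rw [F.R1_emb hr]; exact (hp _).1⟩) fun x hx => ?_
        rw [← F.Rb_zero] at hx
        exact ⟨F.Rb_le_K 0 hx, by rw [F.Rb_emb hx]; exact (hp _).2⟩
      exact (hle hd).2
    have h1 := (mem_Cen.mp hg).2 _ hdS
    rw [show d⁻¹ * (n⁻¹ * g * n * d * (n⁻¹ * g * n)⁻¹) =
      n⁻¹ * ((n * d * n⁻¹)⁻¹ * (g * (n * d * n⁻¹) * g⁻¹)) * n by group, mul_assoc n⁻¹,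
      ← (Ic_comm_Mi h1 hnM).eq, inv_mul_cancel_left]
    exact h1
  have := mul_mem (mul_mem hn (F.pair_le_N hX)) (inv_mem hn)
  rwa [show n * (n⁻¹ * g * n) * n⁻¹ = g by group] at this

theorem N_conj_unit {g x : G} (hg : g ∈ Mi (D := D)) (hx : x ∈ F.K) (hq : qv (F.kap x) = 1) {S : AddSubgroup Vec}
    {d : G} (hd : d ∈ F.Pre S) {y : G} (hy : y ∈ F.N) (e : g * x * g⁻¹ = y * d) : g * x * g⁻¹ ∈ F.K :=
  F.unit_fusion hx hq hg (e ▸ mul_mem hy (F.K_le_N hd.1))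

/-- The step for a subspace with two classes of units. -/
theorem CD_step {S : AddSubgroup Vec} (h2 : F.TwoClasses S)
    (ih : ∀ w : Vec, w ∉ S → F.CD (S ⊔ AddSubgroup.zmultiples w) ≤ F.N) : F.CD S ≤ F.N := by
  classical
  obtain ⟨v, a, hv, ha, hvS, haS, hsep⟩ := h2
  let Dh : Subgroup (F.CD S) := (F.Pre S).subgroupOf (F.CD S)
  haveI : Dh.Normal := ⟨fun d hd g => F.CD_conj g.2 hd⟩
  let π : F.CD S →* F.CD S ⧸ Dh := QuotientGroup.mk' Dh
  have hπ : Function.Surjective π := QuotientGroup.mk'_surjective Dh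
  have hπe : ∀ x y : F.CD S, π x = π y ↔ (x : G)⁻¹ * y ∈ F.Pre S := fun x y => QuotientGroup.eq.trans Iff.rfl
  have hπ1 : ∀ x : F.CD S, π x = 1 ↔ (x : G) ∈ F.Pre S := fun x => (QuotientGroup.eq_one_iff x).trans Iff.rfl
  let lift : ∀ {x : G}, x ∈ F.K → F.CD S := fun {x} hx => ⟨x, F.K_le_CD S hx⟩
  set xv : F.CD S := lift (F.sec_mem v) with hxv
  set xa : F.CD S := lift (F.sec_mem a) with hxa
  have hsq : ∀ {w : Vec}, π (lift (F.sec_mem w)) * π (lift (F.sec_mem w)) = 1 := fun {w} => by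
    rw [← map_mul, hπ1]
    refine ⟨mul_mem (F.sec_mem w) (F.sec_mem w), ?_⟩
    show F.kap (F.sec w * F.sec w) ∈ S
    rw [F.kap_mul (F.sec_mem w) (F.sec_mem w), vec_two]; exact S.zero_mem
  have hinto : ∀ (g x : F.CD S) (y : G) (hx : (x : G) ∈ F.K) (hy : y ∈ F.K), F.kap y ∉ S →
      π g * π x * (π g)⁻¹ = π (lift hy) → (g : G) ∈ F.N := fun g x y hx hy hyS e => by
    refine F.N_of_conj_K (F.CD_le_Mi S g.2) fun k hk => ih _ hyS (F.conj_into g.2 hx hy ?_ k hk)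
    rw [← map_inv, ← map_mul, ← map_mul] at e
    exact (hπe _ _).mp e.symm
  have hnc : ¬ ∃ g, g * π xv * g⁻¹ = π xa := by
    rintro ⟨g, hg⟩
    obtain ⟨g, rfl⟩ := hπ g
    have hgN := hinto g xv _ (F.sec_mem v) (F.sec_mem a) (by rw [F.kap_sec]; exact haS) hg
    refine hsep g hgN (fun d hd => ?_) ?_
    · have h1 := (mem_Cen.mp g.2).2 (F.sec d) ⟨F.sec_mem d, by rw [F.kap_sec]; exact hd⟩
      have h2 := (F.kap_congr (F.sec_mem d) (F.N_conj_K hgN (F.sec_mem d))).mpr h1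
      rw [← F.na_kap hgN (F.sec_mem d), F.kap_sec] at h2
      exact h2.symm
    · rw [← map_inv, ← map_mul, ← map_mul, eq_comm, hπe] at hg
      have h3 : F.kap ((F.sec a)⁻¹ * ((g : G) * F.sec v * (g : G)⁻¹)) ∈ S := hg.2
      rwa [F.kap_mul (inv_mem (F.sec_mem a)) (F.N_conj_K hgN (F.sec_mem v)), F.kap_inv (F.sec_mem a), F.kap_sec,
        ← F.na_kap hgN (F.sec_mem v), F.kap_sec, add_comm] at h3
  -- all conjugates of the second unit
  intro g hg
  set gS : F.CD S := ⟨g, hg⟩ with hgS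
  set a' := π gS * π xa * (π gS)⁻¹ with ha'
  have ha'2 : a' * a' = 1 := by
    rw [ha', show π gS * π xa * (π gS)⁻¹ * (π gS * π xa * (π gS)⁻¹) = π gS * (π xa * π xa) * (π gS)⁻¹ by group, hsq,
      mul_one, mul_inv_cancel]
  have hnc' : ¬ ∃ k, k * π xv * k⁻¹ = a' := fun ⟨k, hk⟩ => hnc ⟨(π gS)⁻¹ * k, by
    calc (π gS)⁻¹ * k * π xv * ((π gS)⁻¹ * k)⁻¹ = (π gS)⁻¹ * (k * π xv * k⁻¹) * π gS := by group
      _ = π xa := by rw [hk, ha']; group⟩
  obtain ⟨uu, hu1, huv, hua, hu3⟩ := dihedral_center hsq ha'2 hnc'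
  obtain ⟨u, rfl⟩ := hπ uu
  have huN : (u : G) ∈ F.N := hinto u xv _ (F.sec_mem v) (F.sec_mem v) (by rw [F.kap_sec]; exact hvS)
    (by rw [huv.eq, mul_inv_cancel_right])
  have huK : (u : G) ∈ F.K := by
    have key : ∀ (w : Vec) (k : F.CD S), qv w = 1 → π k * π (lift (F.sec_mem w)) * (π k)⁻¹ = π u * π xv →
        (u : G) ∈ F.K := by
      intro w k hw e
      rw [← map_inv, ← map_mul, ← map_mul, ← map_mul, eq_comm, hπe] at e
      set d := ((u : G) * F.sec v)⁻¹ * ((k : G) * F.sec w * (k : G)⁻¹) with hd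
      have hdS : d ∈ F.Pre S := e
      have hkw := F.N_conj_unit (F.CD_le_Mi S k.2) (F.sec_mem w) (by rw [F.kap_sec]; exact hw) hdS
        (mul_mem huN (F.K_le_N (F.sec_mem v))) (by rw [hd, mul_inv_cancel_left])
      have := mul_mem (mul_mem hkw (inv_mem hdS.1)) (inv_mem (F.sec_mem v))
      rwa [hd, show (k : G) * F.sec w * (k : G)⁻¹ * (((u : G) * F.sec v)⁻¹ * ((k : G) * F.sec w * (k : G)⁻¹))⁻¹ *
        (F.sec v)⁻¹ = u by group] at this
    rcases hu3 with ⟨k, hk⟩ | ⟨k, hk⟩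
    · obtain ⟨k, rfl⟩ := hπ k
      exact key v k hv hk
    · obtain ⟨k, rfl⟩ := hπ k
      refine key a (k * gS) ha ?_
      rw [← hk, ha', map_mul, hxa]; group
  have hukS : F.kap (u : G) ∉ S := fun h => hu1 ((hπ1 u).mpr ⟨huK, h⟩)
  set y := gS * xa * gS⁻¹ with hy
  have hyN : (y : G) ∈ F.N := hinto y u _ huK huK hukS (by
    have : π y = a' := by rw [hy, map_mul, map_mul, map_inv]
    rw [this, ← hua.eq, mul_inv_cancel_right])
  have hyK : (y : G) ∈ F.K := F.unit_fusion (F.sec_mem a) (by rw [F.kap_sec]; exact ha) (F.CD_le_Mi S hg) hyN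
  refine hinto gS xa _ (F.sec_mem a) hyK ?_ (by rw [← map_inv, ← map_mul, ← map_mul])
  intro h
  have h1 : π y = 1 := (hπ1 y).mpr ⟨hyK, h⟩
  rw [hy, map_mul, map_mul, map_inv, mul_inv_eq_one, mul_eq_left] at h1
  refine haS ?_
  have := ((hπ1 xa).mp h1).2
  rwa [show F.kap (xa : G) = a from F.kap_sec a] at this

/-- The centralisers of nonzero subspaces normalise the product. -/
theorem CD_le_N (S : AddSubgroup Vec) (hS : S ≠ ⊥) : F.CD S ≤ F.N := by
  classical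
  induction hn : Nat.card Vec - Nat.card S using Nat.strong_induction_on generalizing S with
  | h n ih =>
    by_cases htop : S = ⊤
    · exact htop ▸ F.CD_top.trans F.K_le_N
    rcases F.pair_or_classes hS htop with h | h
    · exact F.CD_pair h
    refine F.CD_step h fun w hw => ih _ ?_ _ ?_ rfl
    · have hlt : S < S ⊔ AddSubgroup.zmultiples w :=
        lt_of_le_of_ne le_sup_left fun h => hw (h ▸ AddSubgroup.mem_sup_right (AddSubgroup.mem_zmultiples w))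
      have h1 := AddSubgroup.card_le_card_addGroup (S ⊔ AddSubgroup.zmultiples w)
      have h2 : Nat.card S < Nat.card (S ⊔ AddSubgroup.zmultiples w : AddSubgroup Vec) :=
        Set.Finite.card_lt_card (Set.toFinite _) (SetLike.coe_ssubset_coe.mpr hlt)
      omega
    · exact fun h => hS (le_bot_iff.mp (h ▸ le_sup_left))

/-- The centraliser of the involution normalises the product. -/
theorem Mi_eq_N : Mi (D := D) = F.N := by
  classical
  refine le_antisymm ?_ F.N_le_Mi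
  have ih : ∀ {w : Vec}, w ≠ 0 → F.CD (⊥ ⊔ AddSubgroup.zmultiples w) ≤ F.N := fun {w} hw => F.CD_le_N _ (by
    rw [bot_sup_eq, Ne, AddSubgroup.zmultiples_eq_bot]; exact hw)
  have hinto : ∀ {g x y : G}, g ∈ Mi (D := D) → x ∈ F.K → y ∈ F.K → F.kap y ≠ 0 →
      y⁻¹ * (g * x * g⁻¹) ∈ Ic (D := D) → g ∈ F.N := fun {g x y} hg hx hy hy0 h => by
    refine F.N_of_conj_K hg fun k hk => ih hy0 (F.conj_into (F.CD_bot hg) hx hy ⟨F.Ic_le_K h, ?_⟩ k hk)
    rw [F.kap_Ic h]; exact AddSubgroup.zero_mem _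
  let I : Subgroup (Mi (D := D)) := (Ic (D := D)).subgroupOf (Mi (D := D))
  haveI : I.Normal := ⟨fun d hd g => by
    show (g : G) * d * (g : G)⁻¹ ∈ Ic (D := D)
    have hd' : (d : G) ∈ Ic (D := D) := hd
    rw [(Ic_comm_Mi hd' g.2).eq, mul_inv_cancel_right]; exact hd'⟩
  let π : Mi (D := D) →* Mi (D := D) ⧸ I := QuotientGroup.mk' I
  have hπ : Function.Surjective π := QuotientGroup.mk'_surjective I
  have hπe : ∀ x y : Mi (D := D), π x = π y ↔ (x : G)⁻¹ * y ∈ Ic (D := D) := fun x y => QuotientGroup.eq.trans Iff.rfl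
  let lift : ∀ {x : G}, x ∈ F.K → Mi (D := D) := fun {x} hx => ⟨x, F.K_le_Mi hx⟩
  have hsq : ∀ {w : Vec}, π (lift (F.sec_mem w)) * π (lift (F.sec_mem w)) = 1 := fun {w} => by
    rw [← map_mul]
    refine (QuotientGroup.eq_one_iff _).mpr ?_
    show F.sec w * F.sec w ∈ Ic (D := D)
    rw [F.kap_sq (F.sec_mem w)]; exact ip_Ic _
  set v : Vec := emb none (1, 0) with hvd
  have hv : qv v = 1 := by decide +kernel
  have hv0 : v ≠ 0 := fun h => by rw [h, qv_zero] at hv; exact absurd hv (by decide)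
  set xv := lift (F.sec_mem v)
  have hsing : ∀ (w : Vec), qv w = 0 → w ≠ 0 → ∀ g ∈ Mi (D := D), g * F.sec w * g⁻¹ ∈ F.N := by
    intro w hw hw0 g hg
    set xw := lift (F.sec_mem w)
    set gM : Mi (D := D) := ⟨g, hg⟩
    set a' := π gM * π xw * (π gM)⁻¹ with ha'
    have ha'2 : a' * a' = 1 := by
      rw [ha', show π gM * π xw * (π gM)⁻¹ * (π gM * π xw * (π gM)⁻¹) = π gM * (π xw * π xw) * (π gM)⁻¹ by group,
        hsq, mul_one, mul_inv_cancel]
    have hnc : ¬ ∃ k, k * π xv * k⁻¹ = a' := by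
      rintro ⟨k, hk⟩
      obtain ⟨k, rfl⟩ := hπ k
      rw [ha', ← map_inv, ← map_inv, ← map_mul, ← map_mul, ← map_mul, ← map_mul, hπe] at hk
      have hk' : ((k : G) * F.sec v * (k : G)⁻¹)⁻¹ * (g * F.sec w * g⁻¹) ∈ Ic (D := D) := hk
      rcases mem_Ic.mp hk' with e | e <;> rw [inv_mul_eq_iff_eq_mul] at e <;>
        have h2 := congrArg₂ (· * ·) e e
      · rw [mul_one] at h2
        rw [show g * F.sec w * g⁻¹ * (g * F.sec w * g⁻¹) = g * (F.sec w * F.sec w) * g⁻¹ by group,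
          show (k : G) * F.sec v * (k : G)⁻¹ * ((k : G) * F.sec v * (k : G)⁻¹) =
            (k : G) * (F.sec v * F.sec v) * (k : G)⁻¹ by group,
          F.kap_sq (F.sec_mem v), F.kap_sq (F.sec_mem w), F.kap_sec, F.kap_sec, hv, hw,
          (ip_comm (mem_Mi.mp hg) _).eq, mul_inv_cancel_right, (ip_comm (mem_Mi.mp k.2) _).eq,
          mul_inv_cancel_right] at h2
        exact absurd (ip_inj (D := D) h2) (by decide)
      · have hc : Commute ((k : G) * F.sec v * (k : G)⁻¹) D.i1 :=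
          mem_Mi.mp (mul_mem (mul_mem k.2 (F.K_le_Mi (F.sec_mem v))) (inv_mem k.2))
        rw [hc.symm.mul_mul_mul_comm, D.i1_block.sq, mul_one,
          show g * F.sec w * g⁻¹ * (g * F.sec w * g⁻¹) = g * (F.sec w * F.sec w) * g⁻¹ by group,
          show (k : G) * F.sec v * (k : G)⁻¹ * ((k : G) * F.sec v * (k : G)⁻¹) =
            (k : G) * (F.sec v * F.sec v) * (k : G)⁻¹ by group,
          F.kap_sq (F.sec_mem v), F.kap_sq (F.sec_mem w), F.kap_sec, F.kap_sec, hv, hw,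
          (ip_comm (mem_Mi.mp hg) _).eq, mul_inv_cancel_right, (ip_comm (mem_Mi.mp k.2) _).eq,
          mul_inv_cancel_right] at h2
        exact absurd (ip_inj (D := D) h2) (by decide)
    obtain ⟨uu, hu1, huv, hua, hu3⟩ := dihedral_center hsq ha'2 hnc
    obtain ⟨u, rfl⟩ := hπ uu
    have huN : (u : G) ∈ F.N := hinto u.2 (F.sec_mem v) (F.sec_mem v) (by rw [F.kap_sec]; exact hv0) (by
      have h := huv.eq
      rw [← mul_inv_eq_iff_eq_mul, ← map_inv, ← map_mul, ← map_mul, eq_comm, hπe] at h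
      exact h)
    have huK : (u : G) ∈ F.K := by
      rcases hu3 with ⟨k, hk⟩ | ⟨k, hk⟩
      · obtain ⟨k, rfl⟩ := hπ k
        rw [← map_inv, ← map_mul, ← map_mul, ← map_mul, eq_comm, hπe] at hk
        set d := ((u : G) * F.sec v)⁻¹ * ((k : G) * F.sec v * (k : G)⁻¹) with hd
        have hdI : d ∈ Ic (D := D) := hk
        have hkv := F.N_conj_unit (S := ⊥) k.2 (F.sec_mem v) (by rw [F.kap_sec]; exact hv)
          ⟨F.Ic_le_K hdI, by rw [F.kap_Ic hdI]; exact AddSubgroup.zero_mem _⟩ (mul_mem huN (F.K_le_N (F.sec_mem v)))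
          (by rw [hd, mul_inv_cancel_left])
        have := mul_mem (mul_mem hkv (inv_mem (F.Ic_le_K hdI))) (inv_mem (F.sec_mem v))
        rwa [hd, show (k : G) * F.sec v * (k : G)⁻¹ * (((u : G) * F.sec v)⁻¹ * ((k : G) * F.sec v * (k : G)⁻¹))⁻¹ *
          (F.sec v)⁻¹ = u by group] at this
      · obtain ⟨k, rfl⟩ := hπ k
        set h := k * gM with hh
        have hk' : π h * π xw * (π h)⁻¹ = π u * π xv := by rw [hh, map_mul, ← hk, ha']; group
        -- pull the unit back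
        set r := h⁻¹ * xv * h with hr
        have hrC : Commute (π r) (π xw) := by
          have h1 : Commute (π xv) (π u * π xv) := huv.symm.mul_right (Commute.refl _)
          rw [← hk'] at h1
          have h2 := conj_comm' (π h) h1
          rw [hr, map_mul, map_mul, map_inv]
          rwa [show (π h)⁻¹ * (π h * π xw * (π h)⁻¹) * π h = π xw by group] at h2
        have hrN : (r : G) ∈ F.N := hinto r.2 (F.sec_mem w) (F.sec_mem w) (by rw [F.kap_sec]; exact hw0) (by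
          have h2 := hrC.eq
          rw [← mul_inv_eq_iff_eq_mul, ← map_inv, ← map_mul, ← map_mul, eq_comm, hπe] at h2
          exact h2)
        have hrK : (r : G) ∈ F.K := by
          have := F.unit_fusion (F.sec_mem v) (by rw [F.kap_sec]; exact hv) (inv_mem h.2) (g := (h : G)⁻¹) (by
            rw [inv_inv]; exact hrN)
          rwa [inv_inv] at this
        have hhN : (h : G) ∈ F.N := hinto h.2 hrK (F.sec_mem v) (by rw [F.kap_sec]; exact hv0) (by
          rw [show (F.sec v)⁻¹ * ((h : G) * r * (h : G)⁻¹) = 1 by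
            show (F.sec v)⁻¹ * ((h : G) * ((h : G)⁻¹ * F.sec v * (h : G)) * (h : G)⁻¹) = 1
            group]
          exact one_mem _)
        rw [← map_inv, ← map_mul, ← map_mul, ← map_mul, eq_comm, hπe] at hk'
        have h3 : ((u : G) * F.sec v)⁻¹ * ((h : G) * F.sec w * (h : G)⁻¹) ∈ Ic (D := D) := hk'
        have := mul_mem (mul_mem (F.N_conj_K hhN (F.sec_mem w)) (inv_mem (F.Ic_le_K h3))) (inv_mem (F.sec_mem v))
        rwa [show (h : G) * F.sec w * (h : G)⁻¹ * (((u : G) * F.sec v)⁻¹ * ((h : G) * F.sec w * (h : G)⁻¹))⁻¹ *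
          (F.sec v)⁻¹ = u by group] at this
    have hu0 : F.kap (u : G) ≠ 0 := fun h => hu1 ((QuotientGroup.eq_one_iff u).mpr ((F.kap_zero huK).mp h))
    refine hinto (mul_mem (mul_mem hg (F.K_le_Mi (F.sec_mem w))) (inv_mem hg)) huK huK hu0 ?_
    have h := hua.symm.eq
    rw [← mul_inv_eq_iff_eq_mul, ha', ← map_inv, ← map_mul, ← map_mul, ← map_inv, ← map_mul, ← map_mul,
      eq_comm, hπe] at h
    exact h
  intro g hg
  obtain ⟨w1, w2, h1, h2, h10, h20, h12⟩ := singular_pair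
  set x := F.sec w1 * F.sec w2 with hx
  have hxK : x ∈ F.K := mul_mem (F.sec_mem _) (F.sec_mem _)
  have hxq : qv (F.kap x) = 1 := by rw [hx, F.kap_mul (F.sec_mem _) (F.sec_mem _), F.kap_sec, F.kap_sec, h12]
  have hgx : g * x * g⁻¹ ∈ F.N := by
    have := mul_mem (hsing w1 h1 h10 g hg) (hsing w2 h2 h20 g hg)
    rwa [show g * F.sec w1 * g⁻¹ * (g * F.sec w2 * g⁻¹) = g * x * g⁻¹ by rw [hx]; group] at this
  have hgK := F.unit_fusion hxK hxq hg hgx
  refine hinto hg hxK hgK (fun h => ?_) (by rw [inv_mul_cancel]; exact one_mem _)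
  have hI := (F.kap_zero hgK).mp h
  have hxI : x ∈ Ic (D := D) := by
    rw [show x = g⁻¹ * (g * x * g⁻¹) * g by group, mul_assoc, ← (Ic_comm_Mi hI hg).eq, inv_mul_cancel_left]
    exact hI
  rw [F.kap_Ic hxI, qv_zero] at hxq
  exact absurd hxq (by decide)

end Setting.Base

end CfsgLib.U6Three
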