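import Cfsg.Agent.Lib.U6Three.Pre

/-!
Coordinates from an extraspecial core and an acting product of two quaternion groups: the setting.
-/

set_option autoImplicit false
set_option linter.style.haveILetI false

namespace CfsgLib.U6Three

universe u

/-- Fourth power trivial. -/
def P4 (g : Pr) : Prop := g.1 * g.1 * (g.1 * g.1) = 1 ∧ g.2 * g.2 * (g.2 * g.2) = 1

instance : DecidablePred P4 := fun g => inferInstanceAs (Decidable (_ ∧ _))

/-- The number of square roots. -/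
def rootsQ (c : QQ) : ℕ := (Finset.univ.filter fun x : QQ => x * x = c).card

/-- The number of square roots among the elements with trivial fourth power. -/
def rootsP (g : Pr) : ℕ := (Finset.univ.filter fun h : Pr => P4 h ∧ h * h = g).card

theorem rootsQ_facts : (∀ c, rootsQ c = 36 → c = tt) ∧ ∀ c, rootsQ c = 12 → c = ee ∨ c = ff := by decide +kernel

theorem rootsP_facts : rootsP (-1, -1) = 36 ∧ rootsP (-1, 1) = 12 ∧ rootsP (1, -1) = 12 := by decide +kernel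

theorem p4_facts : P4 (-1, -1) ∧ P4 (-1, 1) ∧ P4 (1, -1) := by decide +kernel

theorem appP_neg : ∀ v : W4, appP ((-1, -1) : Pr) v = -v := by decide +kernel

theorem appP_other : ∀ v : W4, appP ((1, -1) : Pr) v = swapW (appP (-1, 1) (swapW v)) := by decide +kernel

theorem card_p4 : Fintype.card {g : Pr // P4 g} = Fintype.card QQ := by decide +kernel

theorem rootsQ_aut (e : QQ ≃* QQ) (c : QQ) : rootsQ (e c) = rootsQ c := by
  refine Finset.card_bij' (fun x _ => e.symm x) (fun x _ => e x) ?_ ?_ (fun x _ => e.apply_symm_apply x)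
    (fun x _ => e.symm_apply_apply x)
  · intro x hx
    simp only [Finset.mem_filter, Finset.mem_univ, true_and] at hx ⊢
    rw [← map_mul, hx, e.symm_apply_apply]
  · intro x hx
    simp only [Finset.mem_filter, Finset.mem_univ, true_and] at hx ⊢
    rw [← map_mul, hx]

namespace Pre

variable {G : Type u} [Group G] [Finite G] {P : Pre G} (F : P.Fr)

namespace Fr

theorem θ_p4 (x : QQ) : P4 (F.θ x) := by
  have h := congrArg F.θ (qq_four x)
  rw [map_mul, map_mul, map_one] at h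
  exact ⟨congrArg Prod.fst h, congrArg Prod.snd h⟩

theorem θ_surj {g : Pr} (hg : P4 g) : ∃ x, F.θ x = g := by
  have hb := (Fintype.bijective_iff_injective_and_card fun x : QQ => (⟨F.θ x, F.θ_p4 x⟩ : {g : Pr // P4 g})).mpr
    ⟨fun a b e => F.θ_inj (congrArg Subtype.val e), card_p4.symm⟩
  obtain ⟨x, hx⟩ := hb.2 ⟨g, hg⟩
  exact ⟨x, congrArg Subtype.val hx⟩

theorem roots_eq (c : QQ) : rootsQ c = rootsP (F.θ c) := by
  refine Finset.card_bij (fun x _ => F.θ x) ?_ (fun a _ b _ e => F.θ_inj e) ?_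
  · intro x hx
    simp only [Finset.mem_filter, Finset.mem_univ, true_and] at hx ⊢
    exact ⟨F.θ_p4 x, by rw [← map_mul, hx]⟩
  · intro g hg
    simp only [Finset.mem_filter, Finset.mem_univ, true_and] at hg
    obtain ⟨x, rfl⟩ := F.θ_surj hg.1
    exact ⟨x, by simp only [Finset.mem_filter, Finset.mem_univ, true_and]; exact F.θ_inj (by rw [map_mul]; exact hg.2),
      rfl⟩

theorem θ_tt : F.θ tt = (-1, -1) := by
  obtain ⟨x, hx⟩ := F.θ_surj p4_facts.1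
  rw [← rootsQ_facts.1 x (by rw [F.roots_eq, hx]; exact rootsP_facts.1), hx]

theorem θ_other {x : QQ} (h : rootsQ x = 12) : F.θ x = (-1, 1) ∨ F.θ x = (1, -1) := by
  obtain ⟨a, ha⟩ := F.θ_surj p4_facts.2.1
  obtain ⟨b, hb⟩ := F.θ_surj p4_facts.2.2
  have hne : a ≠ b := fun e => by
    rw [e, hb] at ha
    exact absurd ha (by decide +kernel)
  have ka := rootsQ_facts.2 a (by rw [F.roots_eq, ha]; exact rootsP_facts.2.1)
  have kb := rootsQ_facts.2 b (by rw [F.roots_eq, hb]; exact rootsP_facts.2.2)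
  rcases rootsQ_facts.2 x h with rfl | rfl
  · rcases ka with rfl | rfl
    · exact Or.inl ha
    · rcases kb with rfl | rfl
      · exact Or.inr hb
      · exact absurd rfl hne
  · rcases ka with rfl | rfl
    · rcases kb with rfl | rfl
      · exact absurd rfl hne
      · exact Or.inr hb
    · exact Or.inl ha

/-- The inverting involution. -/
def t (_F : P.Fr) : G := P.φ tt

theorem t_sq : F.t * F.t = 1 := by rw [t, ← map_mul, qq_inv.2.2.1, map_one]

theorem t_z : Commute F.t P.z := P.φ_z _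

theorem t_inv : F.t⁻¹ = F.t := inv_eq_of_mul_eq_one_right F.t_sq

theorem chi_t {x : G} (hx : x ∈ P.Q) : F.chi (F.t * x * F.t⁻¹) = -F.chi x := by
  rw [F.fmap_chi F.t_z hx, t, F.θ_spec, F.θ_tt, appP_neg]

theorem neg_unique {v : W4} {x x' : G} (hx : x ∈ P.Q ∧ F.chi x = v ∧ F.t * x * F.t⁻¹ = x⁻¹)
    (hx' : x' ∈ P.Q ∧ F.chi x' = v ∧ F.t * x' * F.t⁻¹ = x'⁻¹) : x = x' := by
  obtain ⟨k, rfl⟩ := F.chi_eq hx.1 hx'.1 (hx.2.1.trans hx'.2.1.symm)
  have h := hx.2.2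
  rw [show F.t * (P.zz k * x') * F.t⁻¹ = F.t * P.zz k * F.t⁻¹ * (F.t * x' * F.t⁻¹) by group, (P.zz_comm F.t_z k).eq,
    mul_inv_cancel_right, hx'.2.2, mul_inv_rev, ← P.zz_neg, (P.zz_Qcomm k (inv_mem hx'.1)).eq] at h
  have h2 := P.zz_inj (mul_left_cancel h)
  rw [(by decide : ∀ k : ZMod 3, k = -k → k = 0) k h2, P.zz_zero, one_mul]

theorem q_exists (v : W4) : ∃ x, x ∈ P.Q ∧ F.chi x = v ∧ F.t * x * F.t⁻¹ = x⁻¹ := by
  have hw := F.w_mem v
  have hw' := P.conj_Q F.t F.t_z _ hw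
  obtain ⟨m, hm⟩ := F.chi_ker (mul_mem hw' hw) (by rw [F.chi_mul hw' hw, F.chi_t hw, neg_add_cancel])
  refine ⟨P.zz m * F.w v, mul_mem (P.zz_Q m) hw, by rw [F.chi_mul (P.zz_Q m) hw, F.chi_zz, F.chi_w, zero_add], ?_⟩
  rw [show F.t * (P.zz m * F.w v) * F.t⁻¹ = F.t * P.zz m * F.t⁻¹ * (F.t * F.w v * F.t⁻¹) by group,
    (P.zz_comm F.t_z m).eq, mul_inv_cancel_right, eq_mul_inv_of_mul_eq hm, ← mul_assoc, ← P.zz_add, mul_inv_rev,
    ← P.zz_neg, ← (P.zz_Qcomm (-m) (inv_mem hw)).eq, (by decide : ∀ m : ZMod 3, m + m = -m) m]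

/-- The coordinates. -/
noncomputable def q (v : W4) : G := (F.q_exists v).choose

theorem q_spec (v : W4) : F.q v ∈ P.Q ∧ F.chi (F.q v) = v ∧ F.t * F.q v * F.t⁻¹ = (F.q v)⁻¹ :=
  (F.q_exists v).choose_spec

theorem q_of {v : W4} {x : G} (h1 : x ∈ P.Q) (h2 : F.chi x = v) (h3 : F.t * x * F.t⁻¹ = x⁻¹) : x = F.q v :=
  F.neg_unique ⟨h1, h2, h3⟩ (F.q_spec v)

theorem q_zero : F.q 0 = 1 := (F.q_of (one_mem _) F.chi_one (by group)).symm

theorem q_el {x : G} (hx : x ∈ P.Q) : ∃ k, x = P.zz k * F.q (F.chi x) :=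
  F.chi_eq hx (F.q_spec _).1 (F.q_spec _).2.1.symm

theorem q_mul (v v' : W4) : F.q v * F.q v' = P.zz (-om v v') * F.q (v + v') := by
  obtain ⟨h1, e1, n1⟩ := F.q_spec v
  obtain ⟨h2, e2, n2⟩ := F.q_spec v'
  obtain ⟨h3, e3, n3⟩ := F.q_spec (v + v')
  obtain ⟨m, hm⟩ := F.chi_eq (mul_mem h1 h2) h3 (by rw [F.chi_mul h1 h2, e1, e2, e3])
  have hs : F.q v' * F.q v = P.zz (om v' v) * (P.zz m * F.q (v + v')) := by
    rw [P.swap_mul h2 h1, F.kk_chi h2 h1, e1, e2, hm]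
  have e4 : F.t * (F.q v * F.q v') * F.t⁻¹ = (P.zz (om v' v + m) * F.q (v + v'))⁻¹ := by
    rw [show F.t * (F.q v * F.q v') * F.t⁻¹ = F.t * F.q v * F.t⁻¹ * (F.t * F.q v' * F.t⁻¹) by group, n1, n2,
      ← mul_inv_rev, hs, ← mul_assoc, ← P.zz_add]
  rw [hm, show F.t * (P.zz m * F.q (v + v')) * F.t⁻¹ = F.t * P.zz m * F.t⁻¹ * (F.t * F.q (v + v') * F.t⁻¹) by group,
    (P.zz_comm F.t_z m).eq, mul_inv_cancel_right, n3, mul_inv_rev, ← P.zz_neg,
    (P.zz_Qcomm m (inv_mem h3)).eq] at e4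
  have h5 := P.zz_inj (mul_left_cancel e4)
  rw [hm, (by decide : ∀ a m : ZMod 3, m = -(-a + m) → m = -a) (om v v') m (by rw [← om_swap]; exact h5)]

theorem q_inv (v : W4) : (F.q v)⁻¹ = F.q (-v) := by
  obtain ⟨h1, e1, n1⟩ := F.q_spec v
  refine F.q_of (inv_mem h1) (by rw [F.chi_inv h1, e1]) ?_
  rw [show F.t * (F.q v)⁻¹ * F.t⁻¹ = (F.t * F.q v * F.t⁻¹)⁻¹ by group, n1]

theorem exact_conj {s : G} (hz : Commute s P.z) (ht : Commute s F.t) (v : W4) :
    s * F.q v * s⁻¹ = F.q (F.fmap s v) := by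
  obtain ⟨h1, e1, n1⟩ := F.q_spec v
  refine F.q_of (P.conj_Q s hz _ h1) (by rw [F.fmap_chi hz h1, e1]) ?_
  rw [show F.t * (s * F.q v * s⁻¹) * F.t⁻¹ = (F.t * s) * F.q v * (F.t * s)⁻¹ by group, ← ht.eq,
    show s * F.t * F.q v * (s * F.t)⁻¹ = s * (F.t * F.q v * F.t⁻¹) * s⁻¹ by group, n1, conj_inv]

theorem q_cube (v : W4) : F.q v * F.q v * F.q v = 1 := by
  rw [F.q_mul, om_self, neg_zero, P.zz_zero, one_mul, F.q_mul, om_add_left, om_self, add_zero, neg_zero, P.zz_zero,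
    one_mul, W4_three, F.q_zero]

theorem decomp {h : G} (hh : Commute h P.z) : ∃ u s, Commute s P.z ∧ Commute s F.t ∧ h = F.q u * s := by
  obtain ⟨e, he⟩ := P.aut h hh
  have hett : e tt = tt := rootsQ_facts.1 _ (by rw [rootsQ_aut, F.roots_eq, F.θ_tt]; exact rootsP_facts.1)
  have hx : h * F.t * h⁻¹ * F.t⁻¹ ∈ P.Q := by
    have := he tt
    rwa [hett] at this
  obtain ⟨k, hk⟩ := F.q_el hx
  set w := F.chi (h * F.t * h⁻¹ * F.t⁻¹)
  have e1 : h * F.t * h⁻¹ = P.zz k * F.q w * F.t := mul_inv_eq_iff_eq_mul.mp hk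
  have hk0 : k = 0 := by
    have h2 : h * F.t * h⁻¹ * (h * F.t * h⁻¹) = 1 := by
      rw [show h * F.t * h⁻¹ * (h * F.t * h⁻¹) = h * (F.t * F.t) * h⁻¹ by group, F.t_sq]; group
    rw [e1] at h2
    rw [show P.zz k * F.q w * F.t * (P.zz k * F.q w * F.t) =
      P.zz k * F.q w * (F.t * P.zz k * F.t⁻¹) * (F.t * F.q w * F.t⁻¹) * (F.t * F.t) by group, F.t_sq, mul_one,
      (P.zz_comm F.t_z k).eq, mul_inv_cancel_right, (F.q_spec w).2.2, mul_assoc (P.zz k),
      ← (P.zz_Qcomm k (F.q_spec w).1).eq, ← mul_assoc, ← P.zz_add, mul_inv_cancel_right] at h2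
    exact (by decide : ∀ k : ZMod 3, k + k = 0 → k = 0) k (P.zz_inj (h2.trans P.zz_zero.symm))
  rw [hk0, P.zz_zero, one_mul] at e1
  refine ⟨-w, F.q w * h, (P.Q_z _ (F.q_spec w).1).mul_left hh, ?_, by rw [← F.q_inv, inv_mul_cancel_left]⟩
  have e2 : F.t * (F.q w)⁻¹ = F.q w * F.t := by
    rw [← (F.q_spec w).2.2]
    calc F.t * (F.t * F.q w * F.t⁻¹) = F.t * F.t * F.q w * F.t⁻¹ := by group
      _ = F.q w * F.t := by rw [F.t_sq, one_mul, F.t_inv]
  refine mul_inv_eq_iff_eq_mul.mp ?_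
  rw [show F.q w * h * F.t * (F.q w * h)⁻¹ = F.q w * (h * F.t * h⁻¹) * (F.q w)⁻¹ by group, e1,
    show F.q w * (F.q w * F.t) * (F.q w)⁻¹ = F.q w * F.q w * (F.t * (F.q w)⁻¹) by group, e2,
    show F.q w * F.q w * (F.q w * F.t) = F.q w * F.q w * F.q w * F.t by group, F.q_cube, one_mul]

theorem blocks {s : G} (hz : Commute s P.z) (ht : Commute s F.t) : ∃ g : Pr,
    (∀ v, s * F.q v * s⁻¹ = F.q (appP g v)) ∨ ∀ v, s * F.q v * s⁻¹ = F.q (appP g (swapW v)) := by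
  obtain ⟨e, he⟩ := P.aut s hz
  obtain ⟨a, ha⟩ := F.θ_surj p4_facts.2.1
  have hr : rootsQ (e a) = 12 := by rw [rootsQ_aut, F.roots_eq, ha]; exact rootsP_facts.2.1
  have hcomm : ∀ v, F.fmap s (appP (-1, 1) v) = appP (F.θ (e a)) (F.fmap s v) := by
    intro v
    have hx := he a
    rw [← ha, ← F.θ_spec, ← F.θ_spec, ← F.fmap_mul hz (P.φ_z a),
      show s * P.φ a = (s * P.φ a * s⁻¹ * (P.φ (e a))⁻¹) * (P.φ (e a) * s) by group,
      F.fmap_mul (P.Q_z _ hx) ((P.φ_z _).mul_left hz), F.fmap_Q hx, F.fmap_mul (P.φ_z _) hz]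
  rcases F.θ_other hr with h | h
  · obtain ⟨g, hg⟩ := block_form _ (F.fmap_add hz) (F.fmap_om hz) fun v => by rw [hcomm, h]
    exact ⟨g, Or.inl fun v => by rw [F.exact_conj hz ht, hg]⟩
  · obtain ⟨g, hg⟩ := block_form (fun v => swapW (F.fmap s v))
      (fun v v' => by rw [F.fmap_add hz, swapW_add]) (fun v v' => by rw [swapW_om, F.fmap_om hz])
      fun v => by rw [hcomm, h, appP_other, swapW_swapW]
    refine ⟨(g.2, g.1), Or.inr fun v => ?_⟩
    rw [F.exact_conj hz ht, ← swapW_appP, ← hg, swapW_swapW]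

/-- The setting. -/
noncomputable def setting : Setting G where
  z := P.z
  t := F.t
  q := F.q
  z_cube := P.z_cube
  z_ne := P.z_ne
  t_sq := F.t_sq
  t_z := F.t_z
  q_z v := P.Q_z _ (F.q_spec v).1
  q_mul := F.q_mul
  q_inj k v h := by
    change P.zz k * F.q v = 1 at h
    obtain ⟨h1, e1, -⟩ := F.q_spec v
    have hv := congrArg F.chi h
    rw [F.chi_mul (P.zz_Q k) h1, F.chi_zz, zero_add, e1, F.chi_one] at hv
    rw [hv, F.q_zero, mul_one] at h
    exact ⟨P.zz_inj (h.trans P.zz_zero.symm), hv⟩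
  t_q v := by
    rw [← F.q_inv, ← (F.q_spec v).2.2, F.t_inv]
  decomp _ hh := F.decomp hh
  blocks _ hz ht := F.blocks hz ht
  lift g h1 h2 := by
    obtain ⟨x, hx⟩ := F.θ_surj (g := g) ⟨h1, h2⟩
    have ht : Commute (P.φ x) F.t := by
      show P.φ x * P.φ tt = P.φ tt * P.φ x
      rw [← map_mul, ← map_mul, qq_central.2.2]
    exact ⟨P.φ x, P.φ_z x, ht, fun v => by rw [F.exact_conj (P.φ_z x) ht, F.θ_spec, hx]⟩
  self x hx := by
    refine P.mem_zp (P.self x fun y hy => ?_)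
    obtain ⟨k, hk⟩ := F.q_el hy
    have hxz : Commute x P.z := by
      have hc := ((hx ea1).mul_right (hx eb1)).mul_right ((hx ea1).inv_right) |>.mul_right ((hx eb1).inv_right)
      rwa [P.kk_spec (F.q_spec ea1).1 (F.q_spec eb1).1, F.kk_chi (F.q_spec ea1).1 (F.q_spec eb1).1, (F.q_spec ea1).2.1,
        (F.q_spec eb1).2.1, show om ea1 eb1 = 1 by decide, P.zz_one] at hc
    rw [hk]
    exact (P.zz_comm hxz k).mul_right (hx _)
  wc g k v h := by
    change g * P.z * g⁻¹ = P.zz k * F.q v at h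
    obtain ⟨h1, e1, -⟩ := F.q_spec v
    obtain ⟨j, hj⟩ := P.mem_zp (P.wc g (h ▸ mul_mem (P.zz_Q k) h1))
    have := congrArg F.chi (h.symm.trans hj)
    rwa [F.chi_mul (P.zz_Q k) h1, F.chi_zz, zero_add, e1, F.chi_zz] at this
  nwc := by
    obtain ⟨g, hg, hn⟩ := P.nwc
    exact ⟨g, hg, fun k v h => hn (h ▸ mul_mem (P.zz_Q k) (F.q_spec v).1)⟩

end Fr

theorem exists_setting (P : Pre G) : Nonempty (Setting G) := by
  obtain ⟨F⟩ := P.exists_fr
  exact ⟨F.setting⟩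

end Pre

end CfsgLib.U6Three
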