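import Cfsg.Agent.Lib.U6Three.NormU

/-!
The linear part of the centraliser of the block involution and the product of the perfect group with the two-group.
-/

set_option autoImplicit false
set_option linter.style.haveILetI false
set_option synthInstance.maxSize 1024

namespace CfsgLib.U6Three

open scoped commutatorElement

universe u

theorem sg_ne_sq : sg (emb none (1, 0)) ≠ sg (sg (emb none (1, 0))) ∧
    zA (emb (some 0) (1, 0)) ≠ emb (some 0) (1, 0) := by decide +kernel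

/-- A product with a normalised subgroup has at most the product of the orders. -/
theorem card_sup_le {G : Type u} [Group G] [Finite G] {A B : Subgroup G} (h : A ≤ Subgroup.normalizer (B : Set G)) :
    Nat.card (A ⊔ B : Subgroup G) ≤ Nat.card A * Nat.card B := by
  rw [← Nat.card_prod]
  refine Nat.card_le_card_of_surjective (fun p : A × B =>
    (⟨p.1 * p.2, mul_mem (Subgroup.mem_sup_left p.1.2) (Subgroup.mem_sup_right p.2.2)⟩ : (A ⊔ B : Subgroup G))) ?_
  rintro ⟨x, hx⟩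
  have hx' : x ∈ ((A ⊔ B : Subgroup G) : Set G) := hx
  rw [Subgroup.coe_mul_of_left_le_normalizer_right _ _ h] at hx'
  obtain ⟨a, ha, b, hb, rfl⟩ := hx'
  exact ⟨(⟨a, ha⟩, ⟨b, hb⟩), rfl⟩

namespace Setting.Base

variable {G : Type u} [Group G] {D : Setting G} (F : D.Base) [Finite G]

/-- The elements of the normaliser commuting with the rotation. -/
def XL : Subgroup G where
  carrier := {g | g ∈ F.N ∧ F.Lin g}
  one_mem' := ⟨one_mem _, fun v => by rw [F.na_one, F.na_one]⟩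
  mul_mem' := fun {a b} ha hb => ⟨mul_mem ha.1 hb.1, F.lin_mul ha.1 hb.1 ha.2 hb.2⟩
  inv_mem' := fun {a} ha => ⟨inv_mem ha.1, F.lin_inv ha.1 ha.2⟩

theorem mem_XL {g : G} : g ∈ F.XL ↔ g ∈ F.N ∧ F.Lin g := Iff.rfl

theorem XL_le_N : F.XL ≤ F.N := fun _ h => h.1

theorem not_lin_anti {g : G} (hg : g ∈ F.N) (hl : F.Lin g) (ha : F.Anti g) : False := by
  set w := emb none (1, 0) with hw
  have h1 := hl (F.na g⁻¹ w)
  rw [ha, F.na_cancel_inv hg] at h1
  exact sg_ne_sq.1 h1.symm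

theorem anti_of {g : G} (hg : g ∈ F.N) (h : g ∉ F.XL) : F.Anti g :=
  (F.N_le_XS hg).2.resolve_left fun hl => h ⟨hg, hl⟩

/-- Two elements outside the linear part multiply into it. -/
theorem anti_mul {g h : G} (hg : g ∈ F.N) (hh : h ∈ F.N) (a : g ∉ F.XL) (b : h ∉ F.XL) : g * h ∈ F.XL :=
  ⟨mul_mem hg hh, fun v => by
    rw [F.na_mul hg hh, F.na_mul hg hh, F.anti_of hh b, F.anti_of hg a, F.anti_of hg a, sg_cube]⟩

theorem mul_XL_iff {g h : G} (hg : g ∈ F.N) (hh : h ∈ F.N) : g * h ∈ F.XL ↔ (g ∈ F.XL ↔ h ∈ F.XL) := by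
  by_cases a : g ∈ F.XL <;> by_cases b : h ∈ F.XL
  · exact iff_of_true (mul_mem a b) (iff_of_true a b)
  · refine iff_of_false (fun hm => b ?_) fun e => b (e.mp a)
    have := mul_mem (inv_mem a) hm
    rwa [inv_mul_cancel_left] at this
  · refine iff_of_false (fun hm => a ?_) fun e => a (e.mpr b)
    have := mul_mem hm (inv_mem b)
    rwa [mul_inv_cancel_right] at this
  · exact iff_of_true (F.anti_mul hg hh a b) (iff_of_false a b)

theorem conj_XL_iff {g x : G} (hg : g ∈ F.N) (hx : x ∈ F.N) : g * x * g⁻¹ ∈ F.XL ↔ x ∈ F.XL := by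
  rw [F.mul_XL_iff (mul_mem hg hx) (inv_mem hg), F.mul_XL_iff hg hx, F.XL.inv_mem_iff]
  tauto

theorem L_le_XL : F.L ≤ F.XL := by
  refine F.L_perfect.ge.trans (Subgroup.commutator_le.mpr fun a ha b hb => ?_)
  have haN := F.L_le_N ha
  have hbN := F.L_le_N hb
  rw [commutatorElement_def, F.mul_XL_iff (mul_mem (mul_mem haN hbN) (inv_mem haN)) (inv_mem hbN),
    F.conj_XL_iff haN hbN, F.XL.inv_mem_iff]

theorem K_le_XL : F.K ≤ F.XL := fun k hk => ⟨F.K_le_N hk, fun v => by rw [F.na_K hk, F.na_K hk]⟩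

/-- The perfect group times the two-group. -/
noncomputable def LK : Subgroup G := F.L ⊔ F.K

theorem L_le_LK : F.L ≤ F.LK := le_sup_left

theorem K_le_LK : F.K ≤ F.LK := le_sup_right

theorem LK_le_XL : F.LK ≤ F.XL := sup_le F.L_le_XL F.K_le_XL

theorem LK_mem {x : G} (hx : x ∈ F.LK) : ∃ l ∈ F.L, ∃ k ∈ F.K, l * k = x := by
  have h : F.L ≤ Subgroup.normalizer (F.K : Set G) := fun _ hl => (F.L_le_N hl).2
  have hx' : x ∈ ((F.L ⊔ F.K : Subgroup G) : Set G) := hx
  rw [Subgroup.coe_mul_of_left_le_normalizer_right _ _ h] at hx'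
  obtain ⟨l, hl, k, hk, e⟩ := hx'
  exact ⟨l, hl, k, hk, e⟩

theorem L_inf_K {x : G} (hx : x ∈ F.L) (hK : x ∈ F.K) : x = 1 := by
  haveI := F.simple_L
  have hn : (F.K.subgroupOf F.L).Normal := ⟨fun k hk l => F.N_conj_K (F.L_le_N l.2) hk⟩
  rcases IsSimpleGroup.eq_bot_or_eq_top_of_normal _ hn with h | h
  · have : (⟨x, hx⟩ : F.L) ∈ F.K.subgroupOf F.L := hK
    rw [h, Subgroup.mem_bot] at this
    exact congrArg Subtype.val this
  · exact absurd (four_three_one (F.K_four (Subgroup.subgroupOf_eq_top.mp h F.z_mem_L)) D.z_cube) D.z_ne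

theorem card_LK : Nat.card F.LK = 25920 * 512 := by
  rw [show 25920 * 512 = Nat.card (F.L × F.K) by rw [Nat.card_prod, F.card_L, F.card_K]; norm_num]
  symm
  refine Nat.card_eq_of_bijective (fun p : F.L × F.K =>
    (⟨p.1 * p.2, mul_mem (F.L_le_LK p.1.2) (F.K_le_LK p.2.2)⟩ : F.LK)) ⟨?_, ?_⟩
  · rintro ⟨l, k⟩ ⟨l', k'⟩ e
    have e' : (l : G) * k = l' * k' := congrArg Subtype.val e
    have h1 : (l' : G)⁻¹ * l = k' * (k : G)⁻¹ := by rw [inv_mul_eq_iff_eq_mul, ← mul_assoc, ← e', mul_inv_cancel_right]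
    have h2 := F.L_inf_K (mul_mem (inv_mem l'.2) l.2) (h1 ▸ mul_mem k'.2 (inv_mem k.2))
    rw [inv_mul_eq_one] at h2
    rw [h2] at e'
    exact Prod.ext (Subtype.ext h2.symm) (Subtype.ext (mul_left_cancel e'))
  · rintro ⟨x, hx⟩
    obtain ⟨l, hl, k, hk, rfl⟩ := F.LK_mem hx
    exact ⟨(⟨l, hl⟩, ⟨k, hk⟩), rfl⟩

theorem s0_N : F.s0 ∈ F.N := by
  by_cases h : D.caseB
  · exact (F.s0_facts h).1
  · rw [F.s0_one h]; exact one_mem _

theorem s0_comm_L {l : G} (hl : l ∈ F.L) : Commute l F.s0 := F.mem_CP.mp (F.L_le_CP hl) _ F.s0_mem_P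

theorem s0_XL : F.s0 ∈ F.XL :=
  ⟨F.s0_N, F.lin_cent_z (F.N_le_Mi F.s0_N) (F.P_comm_z F.s0_mem_P)⟩

theorem s0_not_LK (hB : D.caseB) : F.s0 ∉ F.LK := by
  intro h
  obtain ⟨l, hl, k, hk, e⟩ := F.LK_mem h
  have hlN := F.L_le_N hl
  have hna : ∀ v, F.na l v = sg v := fun v => by
    have := (F.s0_facts hB).2 v
    rwa [← e, F.na_mul hlN (F.K_le_N hk), F.na_K hk] at this
  haveI := F.simple_L
  have hc : (⟨l, hl⟩ : F.L) ∈ Subgroup.center F.L := Subgroup.mem_center_iff.mpr fun m => by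
    have hmN := F.L_le_N m.2
    refine Subtype.ext (mul_inv_eq_iff_eq_mul.mp ?_).symm
    show l * (m : G) * l⁻¹ = m
    refine mul_inv_eq_one.mp (F.L_inf_K (mul_mem (mul_mem (mul_mem hl m.2) (inv_mem hl)) (inv_mem m.2))
      (F.K_of_na (mul_mem (mul_mem (mul_mem hlN hmN) (inv_mem hlN)) (inv_mem hmN)) fun v => ?_))
    rw [F.na_mul (mul_mem (mul_mem hlN hmN) (inv_mem hlN)) (inv_mem hmN), F.na_mul (mul_mem hlN hmN) (inv_mem hlN),
      F.na_mul hlN hmN, hna, ← (F.L_le_XL m.2).2, ← hna, F.na_cancel_inv hlN, F.na_cancel_inv hmN]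
  rcases IsSimpleGroup.eq_bot_or_eq_top_of_normal (Subgroup.center F.L) inferInstance with hb | ht
  · rw [hb, Subgroup.mem_bot] at hc
    have := hna (emb none (1, 0))
    rw [show l = 1 from congrArg Subtype.val hc, F.na_one] at this
    exact absurd this (by decide +kernel)
  · letI : CommGroup F.L := { (inferInstance : Group F.L) with
      mul_comm := fun a b => (Subgroup.mem_center_iff.mp (ht ▸ Subgroup.mem_top b) a) }
    have := IsSimpleGroup.prime_card (α := F.L)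
    rw [F.card_L] at this
    norm_num at this

/-- The centraliser of the central element in the perfect group. -/
noncomputable def LC : Subgroup G := F.L ⊓ Subgroup.centralizer {D.z}

theorem mem_LC {x : G} : x ∈ F.LC ↔ x ∈ F.L ∧ Commute x D.z := by
  rw [LC, Subgroup.mem_inf, Subgroup.mem_centralizer_singleton_iff]; rfl

theorem card_LC : Nat.card F.LC ≤ 648 := by
  rw [← F.card_cent_zb]
  refine Nat.card_le_card_of_injective (fun x : F.LC => (⟨F.prL ⟨x, (F.mem_LC.mp x.2).1⟩,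
    Subgroup.mem_centralizer_singleton_iff.mpr
      (F.zb_comm ⟨x, F.L_le_CP (F.mem_LC.mp x.2).1⟩ (F.mem_LC.mp x.2).2).eq⟩ :
    Subgroup.centralizer ({F.zb} : Set F.Fq))) fun x x' e => ?_
  exact Subtype.ext (congrArg (fun t : F.L => (t : G)) (F.prL_inj (congrArg Subtype.val e)))

/-- The linear part of the stabiliser of the first component. -/
noncomputable def C1L : Subgroup G := (Mi (D := D) ⊓ Subgroup.centralizer {D.z}) ⊔ F.K

theorem cent_z_form_LK {h : G} (hM : h ∈ Mi (D := D)) (hz : Commute h D.z) :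
    h ∈ (F.LC ⊔ Subgroup.zpowers F.s0) ⊔ F.K := by
  obtain ⟨v, s, p, rfl, hs⟩ := cent_z_form hz (mem_Mi.mp hM)
  set T := (F.LC ⊔ Subgroup.zpowers F.s0) ⊔ F.K with hT
  have hL : ∀ {x : G}, x ∈ F.L → Commute x D.z → x ∈ T := fun h1 h2 =>
    Subgroup.mem_sup_left (Subgroup.mem_sup_left (F.mem_LC.mpr ⟨h1, h2⟩))
  obtain ⟨R, hR, b, hb⟩ := sl_Q8U p.2
  obtain ⟨r2, hr2⟩ := D.acts_lift (1, R) (by simp) hR
  obtain ⟨q, hq, -⟩ := Acts.of_three (D := D) ⟨F.y_z.pow_left b.val, F.y_t.pow_left b.val⟩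
    (by rw [← pow_mul, mul_comm, pow_mul, F.y_cube, one_pow])
  obtain rfl := hq.ma.unique (F.y_ma b)
  have hw := hr2.mul hq
  obtain ⟨R', hR', a, ha⟩ := sl_Q8U (p.1 * (mU ^ b.val)⁻¹)
  obtain ⟨r, hr, hrA⟩ := R1_lift (D := D) hR'
  have h2 := hrA.inv.mul (hs.mul hw.inv)
  rw [show ((R', 1) : Pr)⁻¹ * (p * ((1, R) * (mU, mU) ^ b.val)⁻¹) = (mU ^ a.val, 1) from
    Prod.ext (by simp only [Prod.fst_mul, Prod.fst_inv, Prod.pow_fst, one_mul]; rw [ha, inv_mul_cancel_left])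
      (by simp only [Prod.snd_mul, Prod.snd_inv, Prod.pow_snd, inv_one, one_mul]; rw [hb, mul_inv_cancel])] at h2
  obtain ⟨k, m, hkm⟩ := F.s0_pow h2
  have e : s = r * (D.zz k * F.s0 ^ m.val) * (r2 * F.y ^ b.val) := by rw [← hkm]; group
  rw [e]
  refine mul_mem (hL (F.gen_mem_L (Or.inl ⟨v, rfl⟩)) (D.q_z _)) (mul_mem (mul_mem (Subgroup.mem_sup_right (F.R1_le_K hr))
    (mul_mem (hL (pow_mem F.z_mem_L _) ((Commute.refl D.z).pow_left _)) (Subgroup.mem_sup_left (Subgroup.mem_sup_right (pow_mem (Subgroup.mem_zpowers _) _)))))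
    (mul_mem (hL (F.gen_mem_L (Or.inr ⟨R, hR, hr2⟩)) hr2.1.cz) (hL (pow_mem F.y_mem_L _) (F.y_z.pow_left _))))

theorem card_C1L : Nat.card F.C1L ≤ 648 * Nat.card (Subgroup.zpowers F.s0) * 512 := by
  have hle : F.C1L ≤ (F.LC ⊔ Subgroup.zpowers F.s0) ⊔ F.K := sup_le (fun h hh => F.cent_z_form_LK hh.1
    (Subgroup.mem_centralizer_singleton_iff.mp hh.2)) le_sup_right
  refine le_trans (Subgroup.card_le_of_le hle) (le_trans (card_sup_le ?_) ?_)
  · exact sup_le (fun _ h => (F.L_le_N (F.mem_LC.mp h).1).2) (Subgroup.zpowers_le.mpr F.s0_N.2)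
  rw [F.card_K]
  refine Nat.mul_le_mul_right _ (le_trans (card_sup_le fun l hl x => ?_) (Nat.mul_le_mul_right _ F.card_LC))
  have hcc : ∀ w ∈ Subgroup.zpowers F.s0, Commute l w := fun w hw => by
    obtain ⟨n, rfl⟩ := Subgroup.mem_zpowers_iff.mp hw
    exact (F.s0_comm_L (F.mem_LC.mp hl).1).zpow_right n
  refine ⟨fun hx => by rw [(hcc x hx).eq, mul_inv_cancel_right]; exact hx, fun hx => ?_⟩
  have := hcc _ hx
  have e : x = l * x * l⁻¹ := by
    calc x = l⁻¹ * (l * x * l⁻¹) * l := by group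
      _ = _ := by rw [mul_assoc l⁻¹, ← this.eq, inv_mul_cancel_left]
  rw [e]; exact hx

/-- An element inverting the central element is not linear. -/
theorem inv_not_XL {g : G} (hg : g ∈ Mi (D := D)) (hz : g * D.z * g⁻¹ = D.z⁻¹) : g ∉ F.XL := fun h => by
  have hXR : g ∈ F.XR := F.C1_le_XR (Subgroup.mem_sup_left ⟨hg, Or.inr hz⟩)
  have hzN : D.z ∈ F.N := F.UM_le_N F.z_mem_UM
  have h1 : ∀ v, zA v = F.na D.z⁻¹ v := fun v => by
    rw [← hz, F.na_mul (mul_mem h.1 hzN) (inv_mem h.1), F.na_mul h.1 hzN, F.na_z, F.lin_zA hXR h.2, F.na_cancel_inv h.1]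
  refine sg_ne_sq.2 ?_
  have h2 := h1 (zA (zA (emb (some 0) (1, 0))))
  rw [zA_cube] at h2
  have h3 := congrArg (F.na D.z) h2
  rw [F.na_cancel_inv hzN, F.na_z] at h3
  have h4 := congrArg zA h3
  rw [zA_cube] at h4
  exact h3.trans h4

theorem C1_inf_XL {x : G} (hx : x ∈ F.C1) (hl : x ∈ F.XL) : x ∈ F.C1L := by
  have hn : NZ (D := D) ≤ Subgroup.normalizer (F.K : Set G) := fun _ h => (F.NZ_le_N h).2
  have hx' : x ∈ ((NZ (D := D) ⊔ F.K : Subgroup G) : Set G) := hx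
  rw [Subgroup.coe_mul_of_left_le_normalizer_right _ _ hn] at hx'
  obtain ⟨n, hn', k, hk, rfl⟩ := hx'
  refine mul_mem (Subgroup.mem_sup_left ⟨hn'.1, ?_⟩) (Subgroup.mem_sup_right hk)
  rcases hn'.2 with h | h
  · exact Subgroup.mem_centralizer_singleton_iff.mpr (mul_inv_eq_iff_eq_mul.mp h)
  · refine absurd ?_ (F.inv_not_XL hn'.1 h)
    have := mul_mem hl (inv_mem (F.K_le_XL hk))
    rwa [mul_inv_cancel_right] at this

theorem C1_of_no_inv (hI : ¬ D.Inv) : F.C1 ≤ F.C1L :=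
  sup_le (fun g hg => Subgroup.mem_sup_left ⟨hg.1, by
    rcases hg.2 with h | h
    · exact Subgroup.mem_centralizer_singleton_iff.mpr (mul_inv_eq_iff_eq_mul.mp h)
    · exact absurd ⟨g, hg.1, h⟩ hI⟩) le_sup_right

theorem card_N : Nat.card F.N = Nat.card F.C1 * 40 := by rw [← F.card_XS, F.N_eq_XS]

theorem XL_index_two (hI : D.Inv) : (F.XL.subgroupOf F.N).index = 2 := by
  obtain ⟨a, ha, hz⟩ := hI
  have haN : a ∈ F.N := F.NZ_le_N ⟨ha, Or.inr hz⟩
  refine Subgroup.index_eq_two_iff.mpr ⟨⟨a, haN⟩, fun b => ?_⟩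
  simp only [Subgroup.mem_subgroupOf, Subgroup.coe_mul, F.mul_XL_iff b.2 haN, F.inv_not_XL ha hz, iff_false]
  by_cases h : (b : G) ∈ F.XL
  · exact Or.inr ⟨h, not_not.mpr h⟩
  · exact Or.inl ⟨h, h⟩

theorem card_XL : Nat.card F.XL ≤ 40 * Nat.card F.C1L := by
  by_cases hI : D.Inv
  swap
  · rw [mul_comm]
    refine le_trans (Subgroup.card_le_of_le F.XL_le_N) ?_
    rw [F.card_N]
    exact Nat.mul_le_mul_right _ (Subgroup.card_le_of_le (F.C1_of_no_inv hI))
  have h1 := (F.XL.subgroupOf F.N).card_mul_index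
  rw [F.XL_index_two hI, Nat.card_congr (Subgroup.subgroupOfEquivOfLe F.XL_le_N).toEquiv, F.card_N] at h1
  -- the linear part of the stabiliser has index at most two
  obtain ⟨a, ha, hz⟩ := hI
  have haC : a ∈ F.C1 := Subgroup.mem_sup_left ⟨ha, Or.inr hz⟩
  have haX := F.inv_not_XL ha hz
  have h2 : Nat.card F.C1 ≤ 2 * Nat.card F.C1L := by
    classical
    have hsub : (F.C1 : Set G) ⊆ Set.range fun p : Bool × F.C1L => if p.1 then a * (p.2 : G) else (p.2 : G) := by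
      intro x hx
      by_cases hxl : x ∈ F.XL
      · exact ⟨(false, ⟨x, F.C1_inf_XL hx hxl⟩), rfl⟩
      · refine ⟨(true, ⟨a⁻¹ * x, F.C1_inf_XL (mul_mem (inv_mem haC) hx) ?_⟩), by simp⟩
        rw [F.mul_XL_iff (inv_mem (F.NZ_le_N ⟨ha, Or.inr hz⟩)) (F.C1_le_N hx), F.XL.inv_mem_iff]
        exact iff_of_false haX hxl
    refine le_trans (Nat.card_mono (Set.toFinite _) hsub) (le_trans (Finite.card_range_le _) ?_)
    rw [Nat.card_prod, Nat.card_eq_fintype_card (α := Bool), Fintype.card_bool]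
  omega

theorem card_XL_three : Nat.card F.XL ≤ 3 * Nat.card F.LK := by
  have h1 : Nat.card (Subgroup.zpowers F.s0) ≤ 3 := by
    rw [Nat.card_zpowers]; exact Nat.le_of_dvd (by norm_num) (orderOf_dvd_of_pow_eq_one F.s0_cube)
  have := F.card_XL
  have := F.card_C1L
  rw [F.card_LK]
  nlinarith

theorem XL_eq_LK (hB : ¬ D.caseB) : F.XL = F.LK := by
  refine (Subgroup.eq_of_le_of_card_ge F.LK_le_XL ?_).symm
  have := F.card_XL
  have h := F.card_C1L
  rw [F.s0_one hB, Nat.card_zpowers, orderOf_one] at h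
  rw [F.card_LK]
  omega

theorem N_eq_LK (hB : ¬ D.caseB) (hI : ¬ D.Inv) : F.N = F.LK := by
  refine (Subgroup.eq_of_le_of_card_ge (F.LK_le_XL.trans F.XL_le_N) ?_).symm
  have h := F.card_C1L
  rw [F.s0_one hB, Nat.card_zpowers, orderOf_one] at h
  have h2 := Subgroup.card_le_of_le (F.C1_of_no_inv hI)
  rw [F.card_LK, F.card_N]
  omega

/-- The product is normal. -/
theorem LK_conj {g x : G} (hg : g ∈ F.N) (hx : x ∈ F.LK) : g * x * g⁻¹ ∈ F.LK := by
  classical
  set H := F.LK.map (MulAut.conj g).toMonoidHom with hH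
  have hle : H ≤ F.XL := by
    rintro _ ⟨y, hy, rfl⟩
    exact (F.conj_XL_iff hg ((F.LK_le_XL.trans F.XL_le_N) hy)).mpr (F.LK_le_XL hy)
  have hc : Nat.card H = Nat.card F.LK := Subgroup.card_map_of_injective (MulEquiv.injective _)
  haveI := F.simple_L
  have hidx : (H.subgroupOf F.L).index ≤ 3 := by
    have h1 : (H.subgroupOf F.XL).index ≤ 3 := by
      have := (H.subgroupOf F.XL).card_mul_index
      rw [Nat.card_congr (Subgroup.subgroupOfEquivOfLe hle).toEquiv, hc] at this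
      have h2 := F.card_XL_three
      rw [← this, F.card_LK] at h2
      omega
    refine le_trans (Nat.card_le_card_of_injective (Quotient.map' (Subgroup.inclusion F.L_le_XL) fun a b h => ?_) ?_) h1
    · rw [QuotientGroup.leftRel_apply] at h ⊢
      exact h
    · intro a b
      refine Quotient.inductionOn₂' a b fun a b e => ?_
      have := QuotientGroup.eq.mp (show ((Subgroup.inclusion F.L_le_XL a : F.XL) : F.XL ⧸ H.subgroupOf F.XL) = _ from e)
      exact QuotientGroup.eq.mpr this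
  have htop := simple_index (by rw [F.card_L]; norm_num) hidx
  have hLH : F.L ≤ H := Subgroup.subgroupOf_eq_top.mp htop
  have hKH : F.K ≤ H := fun k hk => ⟨g⁻¹ * k * g, F.K_le_LK (by simpa using F.N_conj_K (inv_mem hg) hk), by simp [mul_assoc]⟩
  have heq : F.LK = H := Subgroup.eq_of_le_of_card_ge (sup_le hLH hKH) hc.le
  exact heq.symm ▸ (⟨x, hx, by simp⟩ : g * x * g⁻¹ ∈ H)

end Setting.Base

end CfsgLib.U6Three
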