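import Cfsg.Agent.Lib.U6Three.Partner

/-!
Every conjugate of the central element in its centraliser outside the core is diagonal of positive orientation.
-/

set_option autoImplicit false

namespace CfsgLib.U6Three

universe u

/-- The diagonal pairs of positive orientation. -/
def Par (p : Pr) : Prop := p = (mU, mU) ∨ p = (mU * mU, mU * mU)

theorem DiagP.par {p : Pr} (h : DiagP p) (e : p.1 = p.2) : Par p := by
  rcases h with rfl | rfl | rfl | rfl
  · exact Or.inl rfl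
  · exact Or.inr rfl
  · exact absurd e (by decide +kernel)
  · exact absurd e (by decide +kernel)

theorem Par.diag {p : Pr} (h : Par p) : DiagP p := by
  rcases h with rfl | rfl <;> simp [DiagP]

theorem diag_pow_one : ∀ A : SL23, (A = mU ∨ A = mU * mU) → ∀ m : ZMod 3, A ^ m.val = 1 → m = 0 := by
  decide +kernel

theorem line_kernel : ∀ a b : ZMod 3, ∃ i j : ZMod 3, i • ea1 + j • ea2 ≠ 0 ∧ i * a + j * b = 0 := by
  decide +kernel

theorem opp_translate : ∀ p ∈ [((mU, mU) : Pr), (mU * mU, mU * mU), (mU, mU * mU), (mU * mU, mU)], p.1 ≠ p.2 →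
    ∃ w, InA (cV p 0 w) ∧ cV p 0 w ≠ 0 ∧ cK p 0 w = 0 := by decide +kernel

theorem lift_zero : ∀ p ∈ [((mU, mU) : Pr), (mU * mU, mU * mU), (mU, mU * mU), (mU * mU, mU)], ∀ u, InA u →
    ∃ w, cV p u w = 0 := by decide +kernel

theorem om_ea : ∀ u : W4, om u ea1 = 0 → om u ea2 = 0 → InA u := by decide +kernel

theorem InA_add : ∀ v w : W4, InA v → InA w → InA (v + w) := by
  intro v w h h'
  exact ⟨by rw [Prod.fst_add, Prod.snd_add, h.1, h'.1, add_zero], by rw [Prod.snd_add, Prod.snd_add, h.2, h'.2, add_zero]⟩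

theorem pure_second : ∀ w : V2, ∀ B : SL23, app2 B (1, 0) + (w - app2 1 w) = (1, 0) →
    B = 1 ∨ B = mU ∨ B = mU * mU := by decide +kernel

theorem nine_fix : ∀ B : SL23, (B = 1 ∨ B = mU ∨ B = mU * mU) → app2 B (1, 0) = (1, 0) ∧ app2 B (0, 0) = (0, 0) := by
  decide +kernel

theorem opp_choice : ∀ B1 B2 : SL23, (B1 = 1 ∨ B1 = mU ∨ B1 = mU * mU) → (B2 = mU ∨ B2 = mU * mU) →
    ∃ j : ZMod 3, DiagP (B1 * mU ^ j.val, B2) ∧ B1 * mU ^ j.val ≠ B2 := by decide +kernel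

set_option synthInstance.maxSize 1000 in
theorem span_nine : ∀ A1 A2 : SL23, (A1 = mU ∨ A1 = mU * mU) → (A2 = mU ∨ A2 = mU * mU) →
    ∀ B1 B2 : SL23, (B1 = 1 ∨ B1 = mU ∨ B1 = mU * mU) → (B2 = 1 ∨ B2 = mU ∨ B2 = mU * mU) →
    (∀ i : ZMod 3, ((B1, B2) : Pr) ≠ (A1 ^ i.val, A2 ^ i.val)) →
    ∃ i j : ZMod 3, B1 ^ i.val * A1 ^ j.val = mU ∧ B2 ^ i.val * A2 ^ j.val = 1 := by decide +kernel

theorem pure_pow : ∀ B1 : SL23, (B1 = 1 ∨ B1 = mU ∨ B1 = mU * mU) → ∃ i : ZMod 3, B1 = mU ^ i.val := by decide +kernel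

namespace Setting

variable {G : Type u} [Group G] {D : Setting G}

/-- A diagonal point in standard position. -/
theorem DiagA.std {x : G} (hA : D.DiagA x) (hp : D.IsPt x) (hz : Commute x D.z) (hQ : x ∉ D.Q) :
    ∃ h p, Commute h D.z ∧ D.Acts (h * x * h⁻¹) p ∧ DiagP p := by
  obtain ⟨w, hw⟩ := hA
  set x1 := D.q w * x * (D.q w)⁻¹ with hx1
  have hlev : D.IsLevi x1 := ⟨((D.q_z w).mul_left hz).mul_left (D.q_z w).inv_left, hw⟩
  have hQ1 : x1 ∉ D.Q := fun h => hQ (by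
    have := D.conj_Q (D.q_z w).inv_left h
    simpa [hx1, mul_assoc] using this)
  obtain ⟨g, hg, h3, n1, n2⟩ := D.pt_levi (hp.conj _) hQ1 hlev
  obtain ⟨R1, R2, hR1, hR2, hmem⟩ := pr_forms g.1 g.2 (congrArg Prod.fst h3) (congrArg Prod.snd h3) (Or.inl n1)
  obtain ⟨r, hr⟩ := D.acts_lift (R1, R2) hR1 hR2
  have m1 : R1 * g.1 * R1⁻¹ ≠ 1 := fun h => n1 (conj_eq_one_iff.mp h)
  have m2 : R2 * g.2 * R2⁻¹ ≠ 1 := fun h => n2 (conj_eq_one_iff.mp h)
  refine ⟨r * D.q w, (R1 * g.1 * R1⁻¹, R2 * g.2 * R2⁻¹), hr.1.cz.mul_left (D.q_z w), ?_, ?_⟩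
  · rw [show r * D.q w * x * (r * D.q w)⁻¹ = r * x1 * r⁻¹ by rw [hx1]; group]
    have e : ((R1, R2) : Pr) * g * ((R1, R2) : Pr)⁻¹ = (R1 * g.1 * R1⁻¹, R2 * g.2 * R2⁻¹) :=
      Prod.ext (by simp only [Prod.fst_mul, Prod.fst_inv]) (by simp only [Prod.snd_mul, Prod.snd_inv])
    exact e ▸ hg.conj hr
  · simp only [List.mem_cons, List.not_mem_nil, or_false, Prod.mk.injEq] at hmem
    rcases hmem with h | h | h | h | h | h | h | h
    · exact absurd h.2 m2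
    · exact absurd h.2 m2
    · exact absurd h.1 m1
    · exact absurd h.1 m1
    · rw [h.1, h.2]; exact Or.inl rfl
    · rw [h.1, h.2]; exact Or.inr (Or.inl rfl)
    · rw [h.1, h.2]; exact Or.inr (Or.inr (Or.inl rfl))
    · rw [h.1, h.2]; exact Or.inr (Or.inr (Or.inr rfl))

theorem zz_q_pair (a b : ZMod 3) (v w : W4) :
    D.zz a * D.q v * (D.zz b * D.q w) = D.zz (a + b + -om v w) * D.q (v + w) := by
  calc D.zz a * D.q v * (D.zz b * D.q w) = D.zz a * (D.q v * D.zz b) * D.q w := by group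
    _ = D.zz a * D.zz b * (D.q v * D.q w) := by rw [← (D.zz_q b v).eq]; group
    _ = _ := by rw [q_mul', ← zz_add, ← mul_assoc, ← zz_add]

theorem Acts.of_three {a : G} (hl : D.IsLevi a) (h3 : a ^ 3 = 1) : ∃ g, D.Acts a g ∧ g * g * g = 1 := by
  obtain ⟨g', hg', h⟩ := D.ma_three hl.cz h3
  obtain ⟨g, hg | hg⟩ := D.levi_cases hl
  · obtain rfl := hg'.unique hg.ma
    exact ⟨g', hg, h⟩
  · exact absurd ⟨0, a, by rw [D.q_zero, one_mul], hg⟩ hg'.not_MS

/-- The image of a translation under an involution of the centraliser. -/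
theorem conj_q_acts {a u : W4} {σ : G} (hσ : D.IsLevi σ) (ha : σ * D.q a * σ⁻¹ = D.q a)
    (h2 : D.q u * σ * (D.q u * σ) = 1) : Commute (D.q u * σ) (D.q a) := by
  have e : D.q u * σ * D.q a * (D.q u * σ)⁻¹ = D.zz (om u a) * D.q a := by
    rw [show D.q u * σ * D.q a * (D.q u * σ)⁻¹ = D.q u * (σ * D.q a * σ⁻¹) * (D.q u)⁻¹ by group, ha, q_conj]
  have hz : Commute (D.q u * σ) (D.zz (om u a)) := D.zz_comm ((D.q_z u).mul_left hσ.cz) _
  have e2 : D.q a = D.zz (om u a + om u a) * D.q a := by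
    calc D.q a = D.q u * σ * (D.q u * σ) * D.q a * (D.q u * σ * (D.q u * σ))⁻¹ := by rw [h2]; group
      _ = D.q u * σ * (D.q u * σ * D.q a * (D.q u * σ)⁻¹) * (D.q u * σ)⁻¹ := by group
      _ = (D.q u * σ * D.zz (om u a)) * D.q a * (D.q u * σ)⁻¹ := by rw [e]; group
      _ = D.zz (om u a) * (D.q u * σ * D.q a * (D.q u * σ)⁻¹) := by rw [hz.eq]; group
      _ = _ := by rw [e, zz_add, mul_assoc]
  have h0 : D.zz 0 * D.q a = D.zz (om u a + om u a) * D.q a := by rw [zz_zero, one_mul, ← e2]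
  have h3 : om u a = 0 := (by decide : ∀ x : ZMod 3, 0 = x + x → x = 0) _ (D.el_inj h0).1
  rw [h3, zz_zero, one_mul, mul_inv_eq_iff_eq_mul] at e
  exact e

/-- The conjugate of the involution by the transporter exchanges no blocks. -/
theorem PartnerData.not_swap {g : G} {p : Pr} (P : D.PartnerData g p) {p' : Pr}
    (hx : D.Acts (g⁻¹ * D.z * g) p') (hp' : DiagP p') {h : Pr} (hS : D.MS (g⁻¹ * D.t * g) h) : False := by
  obtain ⟨f1, f2, -, -, f5, f6, -⟩ := P.facts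
  set x' := g⁻¹ * D.z * g with hx'
  set t' := g⁻¹ * D.t * g with ht'
  have hh : h.1 * h.2 = 1 := by
    have h2 := hS.mul_MS hS
    rw [f6] at h2
    exact congrArg Prod.fst (h2.unique ma_one)
  have hp2 : h * (p'.2, p'.1) * h⁻¹ = p' := by
    have h1 := hS.conj_MA hx.ma
    rw [f5.eq, mul_inv_cancel_right] at h1
    exact (hx.ma.unique h1).symm
  obtain ⟨h1, h2⟩ := h
  obtain rfl : h2 = h1⁻¹ := eq_inv_of_mul_eq_one_right hh
  obtain ⟨w, w1, w2, w3, w4, w5, w6, w7⟩ := ms_translate h1 p' hp'.mem hp2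
  obtain ⟨u, σ, eσ, hσ⟩ := hS
  set c := cV p' 0 w with hc
  set d := cK p' 0 w with hd
  have fixc : ∀ v, appP (h1, h1⁻¹) (swapW v) = v → Commute t' (D.q v) := fun v hv => by
    rw [eσ]
    exact conj_q_acts hσ.1 ((hσ.2 v).trans (congrArg D.q hv)) (eσ ▸ f6)
  have htw := fixc w w1
  have htc := fixc c w2
  have hxc : Commute x' (D.q c) := hx.comm_q w3
  set C := g * D.q c * g⁻¹ with hC
  have eT : g * t' * g⁻¹ = D.t := by rw [ht']; group
  have eX : g * x' * g⁻¹ = D.z := by rw [hx']; group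
  have hCl : D.IsLevi C := ⟨eX ▸ conj_comm g hxc.symm, eT ▸ conj_comm g htc.symm⟩
  have hC3 : C ^ 3 = 1 := by rw [hC, conj_pow, D.q_cube, mul_one, mul_inv_cancel]
  obtain ⟨Cm, hCm, hCm3⟩ := Acts.of_three hCl hC3
  have hCy : Commute C (g * D.z * g⁻¹) := conj_comm g (D.q_z c)
  have hcp : Cm * p = p * Cm := ((hCy.eq ▸ hCm.mul P.acts).unique (P.acts.mul hCm))
  obtain ⟨n1, n2⟩ := P.diag.cent hCm3 hcp
  have hnot : ∀ i : ZMod 3, ((Cm.1, Cm.2) : Pr) ≠ (p.1 ^ i.val, p.2 ^ i.val) := by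
    intro i hi
    have hyi := P.acts.ma.pow i.val
    have h1 := hCm.ma.mul hyi.inv
    rw [show Cm * (p ^ i.val)⁻¹ = 1 by rw [mul_inv_eq_one]; exact hi] at h1
    obtain ⟨m, v, ev⟩ := h1.mem_Q
    have hl : D.IsLevi (C * ((g * D.z * g⁻¹) ^ i.val)⁻¹) :=
      hCl.mul D ⟨(P.acts.1.cz.pow_left _).inv_left, (P.acts.1.ct.pow_left _).inv_left⟩
    have hv0 : v = 0 := by
      have := hl.ct
      rw [ev, show D.zz m * D.q v = D.zz m * (D.q v * 1) by rw [mul_one]] at this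
      exact D.t_fix D.isLevi_one this
    rw [hv0, q_zero, mul_one, conj_pow, hC] at ev
    have e2 : D.q c = x' ^ m.val * D.z ^ i.val := by
      have hxm : x' ^ m.val = g⁻¹ * D.zz m * g := by
        simpa [hx', zz] using (conj_pow (a := g⁻¹) (b := D.z) (i := m.val))
      rw [hxm, ← ev]; group
    have h2 : D.MA (x' ^ m.val * D.z ^ i.val) (p' ^ m.val * 1) := (hx.ma.pow _).mul (D.acts_zz i).ma
    rw [← e2, mul_one] at h2
    have h3 := (ma_of_Q (D.q_mem c)).unique h2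
    obtain rfl := diag_pow_one p'.1 hp'.comps.1 m (by simpa using (congrArg Prod.fst h3).symm)
    rw [show (0 : ZMod 3).val = 0 from rfl, pow_zero, one_mul] at e2
    exact w4 (D.el_inj (k := 0) (v := c) (l := i) (w := 0)
      (by rw [zz_zero, one_mul, q_zero, mul_one, e2]; rfl)).2
  have mk : ∀ w' : W4, ∀ C' : G, ∀ Cm' : Pr, Commute t' (D.q w') → cK p' 0 w' = d →
      C' = g * D.q (cV p' 0 w') * g⁻¹ → D.Acts C' Cm' → p ^ d.val * Cm' ≠ 1 →
      (p ^ d.val * Cm').1 ≠ 1 ∧ (p ^ d.val * Cm').2 ≠ 1 := by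
    intro w' C' Cm' htw' hK eC hA' hne
    have hpt : D.IsPt (g * (D.q w' * x' * (D.q w')⁻¹) * g⁻¹) := (f1.conj _).conj _
    have e0 : D.q w' * x' * (D.q w')⁻¹ = D.zz d * (D.q (cV p' 0 w') * x') := by
      have := D.q_conj_el (k := 0) (u := 0) hx w'
      rwa [zz_zero, one_mul, q_zero, one_mul, zero_add, hK] at this
    have e1 : g * (D.q w' * x' * (D.q w')⁻¹) * g⁻¹ = (g * D.z * g⁻¹) ^ d.val * C' * D.z := by
      have hxz : g * x' * g⁻¹ = D.z := eX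
      rw [e0, eC, conj_pow, zz]
      calc g * (D.z ^ d.val * (D.q (cV p' 0 w') * x')) * g⁻¹
          = g * D.z ^ d.val * g⁻¹ * (g * D.q (cV p' 0 w') * g⁻¹) * (g * x' * g⁻¹) := by group
        _ = _ := by rw [hxz]
    have hMA : D.MA (g * (D.q w' * x' * (D.q w')⁻¹) * g⁻¹) (p ^ d.val * Cm') := by
      rw [e1]
      have := ((P.acts.ma.pow d.val).mul hA'.ma).mul (D.zz_one ▸ (D.acts_zz 1).ma)
      rwa [mul_one] at this
    have hl : D.IsLevi (g * (D.q w' * x' * (D.q w')⁻¹) * g⁻¹) := by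
      rw [e1]
      exact ((IsLevi.mk (P.acts.1.cz.pow_left _) (P.acts.1.ct.pow_left _)).mul D hA'.1).mul D
        ⟨Commute.refl _, D.t_z.symm⟩
    obtain ⟨q', hq', -, r1, r2⟩ := D.pt_levi hpt (fun hQ => hne (hMA.unique (ma_of_Q hQ))) hl
    obtain rfl := hMA.unique hq'.ma
    exact ⟨r1, r2⟩
  have hinvC : C⁻¹ = g * D.q (cV p' 0 (-w)) * g⁻¹ := by rw [w5, ← D.q_inv, hC]; group
  have htw2 : Commute t' (D.q (-w)) := D.q_inv w ▸ htw.inv_right
  have nz : ∀ Cm' : Pr, (∀ i : ZMod 3, Cm' ≠ p ^ i.val) → p ^ d.val * Cm' ≠ 1 := by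
    intro Cm' hC' h1
    refine hC' (-d) ?_
    rw [eq_inv_of_mul_eq_one_right h1]
    refine (eq_inv_of_mul_eq_one_left ?_).symm
    rw [← pow_add, pow_eq_pow_mod _ (show p ^ 3 = 1 by rw [pow_three']; exact P.diag.cube), ← ZMod.val_add,
      neg_add_cancel, ZMod.val_zero, pow_zero]
  have hnot2 : ∀ i : ZMod 3, Cm⁻¹ ≠ p ^ i.val := by
    intro i hi
    refine hnot (-i) ?_
    have : Cm = p ^ (-i).val := by
      rw [← inv_inv Cm, hi]
      refine (eq_inv_of_mul_eq_one_left ?_).symm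
      rw [← pow_add, pow_eq_pow_mod _ (show p ^ 3 = 1 by rw [pow_three']; exact P.diag.cube), ← ZMod.val_add,
        neg_add_cancel, ZMod.val_zero, pow_zero]
    exact this
  obtain ⟨a1, a2⟩ := mk w C Cm htw rfl hC hCm (nz Cm fun i hi => hnot i hi)
  obtain ⟨b1, b2⟩ := mk (-w) C⁻¹ Cm⁻¹ htw2 w6 hinvC hCm.inv (nz _ hnot2)
  rcases sign_pure p.1 p.2 P.diag.comps.1 P.diag.comps.2 Cm.1 Cm.2 n1 n2 hnot d w7 with (h | h) | (h | h)
  exacts [a1 h, a2 h, b1 h, b2 h]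

/-- The images of the translations in a standard partner. -/
theorem PartnerData.image {g : G} {p : Pr} (P : D.PartnerData g p) {p' : Pr}
    (hx : D.Acts (g⁻¹ * D.z * g) p') (hp' : DiagP p') {w : W4} {s' : G} {e : Pr}
    (et : g⁻¹ * D.t * g = D.q w * s') (hs' : D.Acts s' e) (he1 : e.1 = 1 ∨ e.1 = -1) (he2 : e.2 = 1 ∨ e.2 = -1)
    {a : W4} (ha : InA a) :
    ∃ m v, g⁻¹ * D.q a * g = D.zz m * D.q v ∧ InA v ∧ appP e v = -v ∧ (v = 0 → a = 0) := by
  obtain ⟨a1, a2, a3, a4⟩ := P.trans_q ha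
  obtain ⟨A, hA1, hA3⟩ := D.ma_three a1 a3
  have hA' : D.MA (g⁻¹ * D.t * g) e := ⟨w, s', et, hs'⟩
  have hinv := (hA'.mul hA1).mul hA'.inv
  rw [a4] at hinv
  obtain rfl := central_inverted he1 he2 hA3 (hinv.unique hA1.inv)
  obtain ⟨m, v, ev⟩ := hA1.mem_Q
  have h1 : g⁻¹ * D.t * g * (g⁻¹ * D.q a * g) * (g⁻¹ * D.t * g)⁻¹ =
      D.zz (m + om w (appP e v)) * D.q (appP e v) := by
    rw [ev, et, zz_add, mul_assoc (D.zz m), ← D.q_conj, ← hs'.2]
    calc D.q w * s' * (D.zz m * D.q v) * (D.q w * s')⁻¹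
        = (D.q w * s' * D.zz m * (D.q w * s')⁻¹) * (D.q w * (s' * D.q v * s'⁻¹) * (D.q w)⁻¹) := by group
      _ = _ := by rw [D.conj_zz ((D.q_z w).mul_left hs'.1.cz)]
  rw [a4, ev, mul_inv_rev, ← D.zz_neg, D.q_inv, ← (D.zz_q _ _).eq] at h1
  obtain ⟨hm, hv⟩ := D.el_inj h1
  have hfix : Commute (g⁻¹ * D.z * g) (D.q v) := by
    have h2 : Commute (g⁻¹ * D.z * g) (g⁻¹ * D.q a * g) := a2.symm
    rw [ev] at h2
    have hz : Commute (g⁻¹ * D.z * g) (D.zz m) := D.zz_comm hx.1.cz m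
    simpa [mul_assoc] using hz.inv_right.mul_right h2
  have hin : InA v := (hp'.fix_iff v).mp (((D.comm_q_iff hx (k := 0) (u := 0) v).mp
    (by rwa [zz_zero, one_mul, q_zero, one_mul])).1)
  refine ⟨m, v, ev, hin, hv.symm, fun h0 => ?_⟩
  rw [h0] at hm hv ev
  have happ : appP e (0 : W4) = 0 := by simp [appP, app2]
  rw [happ, (by simp [om, det2] : om w (0 : W4) = 0), add_zero] at hm
  obtain rfl : m = 0 := (by decide : ∀ m : ZMod 3, -m = m → m = 0) m hm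
  rw [zz_zero, q_zero, one_mul] at ev
  refine D.q_injective (w := 0) ?_
  rw [q_zero]
  calc D.q a = g * (g⁻¹ * D.q a * g) * g⁻¹ := by group
    _ = 1 := by rw [ev]; group

/-- The transporter can be taken to commute with the involution. -/
theorem PartnerData.transporter {g : G} {p : Pr} (P : D.PartnerData g p) : ∃ g', g' * D.z * g'⁻¹ = g * D.z * g⁻¹ ∧
    Commute g' D.t ∧ (∃ p', D.Acts (g'⁻¹ * D.z * g') p' ∧ DiagP p') ∧
    ∀ a, InA a → ∃ b, InA b ∧ g'⁻¹ * D.q a * g' = D.q b := by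
  obtain ⟨f1, f2, f3, -⟩ := P.facts
  obtain ⟨h, p', hh, hx, hp'⟩ := P.partner_diagA.std f1 f2 f3
  obtain ⟨P1, e1⟩ := P.move hh
  set g1 := g * h⁻¹ with hg1
  rw [← e1] at hx
  have e0 : g1 * D.z * g1⁻¹ = g * D.z * g⁻¹ := by
    rw [hg1, show g * h⁻¹ * D.z * (g * h⁻¹)⁻¹ = g * (h⁻¹ * D.z * h) * g⁻¹ by group, hh.inv_left.eq]
    group
  obtain ⟨-, -, -, f4, f5, f6, f7⟩ := P1.facts
  rcases D.inv_forms f4 f6 f7 with ⟨h', hS, -⟩ | hA'
  · exact (P1.not_swap hx hp' hS).elim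
  have bad : ∀ e : Pr, D.MA (g1⁻¹ * D.t * g1) e → (e = (-1, 1) ∨ e = (1, -1)) → False := by
    rintro e ⟨w, s', et, hs'⟩ he
    have he1 : e.1 = 1 ∨ e.1 = -1 := by rcases he with rfl | rfl <;> simp
    have he2 : e.2 = 1 ∨ e.2 = -1 := by rcases he with rfl | rfl <;> simp
    obtain ⟨m1, v1, q1, i1, j1, -⟩ := P1.image hx hp' et hs' he1 he2 (a := ea1) (by decide)
    obtain ⟨m2, v2, q2, i2, j2, -⟩ := P1.image hx hp' et hs' he1 he2 (a := ea2) (by decide)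
    have hline : ∀ v : W4, InA v → appP e v = -v → ∀ v', InA v' → appP e v' = -v' →
        ∃ i j : ZMod 3, i • ea1 + j • ea2 ≠ 0 ∧ i • v + j • v' = 0 := by
      intro v hv he' v' hv' he''
      rcases he with rfl | rfl
      · have a1 := (app2_fix_pm v.2).2 (congrArg Prod.snd he')
        have a2 := (app2_fix_pm v'.2).2 (congrArg Prod.snd he'')
        obtain ⟨i, j, hne, hij⟩ := line_kernel v.1.1 v'.1.1
        refine ⟨i, j, hne, Prod.ext (Prod.ext ?_ ?_) (by simp [a1, a2])⟩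
        · simpa using hij
        · simp [hv.1, hv'.1]
      · have a1 := (app2_fix_pm v.1).2 (congrArg Prod.fst he')
        have a2 := (app2_fix_pm v'.1).2 (congrArg Prod.fst he'')
        obtain ⟨i, j, hne, hij⟩ := line_kernel v.2.1 v'.2.1
        refine ⟨i, j, hne, Prod.ext (by simp [a1, a2]) (Prod.ext ?_ ?_)⟩
        · simpa using hij
        · simp [hv.2, hv'.2]
    obtain ⟨i, j, hne, hij⟩ := hline v1 i1 j1 v2 i2 j2
    obtain ⟨m, v, qv, -, -, hv0⟩ := P1.image hx hp' et hs' he1 he2 (a := i • ea1 + j • ea2)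
      ((by decide : ∀ i j : ZMod 3, InA (i • ea1 + j • ea2)) i j)
    refine hne (hv0 ?_)
    have hq : D.q (i • ea1 + j • ea2) = D.q ea1 ^ i.val * D.q ea2 ^ j.val := by
      rw [← D.q_smul, ← D.q_smul, q_mul', (by decide : ∀ i j : ZMod 3, om (i • ea1) (j • ea2) = 0) i j, neg_zero,
        zz_zero, one_mul]
    have key : g1⁻¹ * D.q (i • ea1 + j • ea2) * g1 =
        (D.zz m1 * D.q v1) ^ i.val * (D.zz m2 * D.q v2) ^ j.val := by
      have h1 := conj_pow (a := g1⁻¹) (b := D.q ea1) (i := i.val)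
      have h2 := conj_pow (a := g1⁻¹) (b := D.q ea2) (i := j.val)
      rw [inv_inv, q1] at h1
      rw [inv_inv, q2] at h2
      rw [hq, h1, h2]; group
    have pz : ∀ c n : ZMod 3, D.zz c ^ n.val = D.zz ((c.val * n.val : ℕ) : ZMod 3) := fun c n => by
      rw [← D.zz_nat, zz, pow_mul]
    rw [qv, (D.zz_q m1 v1).mul_pow, (D.zz_q m2 v2).mul_pow, ← D.q_smul, ← D.q_smul, pz, pz, D.zz_q_pair] at key
    have := (D.el_inj key).2
    rw [this, hij]
  rcases hA' with ⟨⟨u, et⟩, -⟩ | h | h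
  rotate_left
  · exact (bad _ h (Or.inl rfl)).elim
  · exact (bad _ h (Or.inr rfl)).elim
  have hcV := D.comm_cV (k := 0) (u := 0) (s := g1⁻¹ * D.z * g1) hx D.t_acts (w := u)
    (by rw [zz_zero, one_mul, q_zero, one_mul, ← et]; exact f5)
  have hu : appP p' u = u := by
    rw [show ((-1, -1) : Pr) * p' * ((-1, -1) : Pr)⁻¹ = p' from
        Prod.ext (pm_central p'.1).1 (pm_central p'.2).1,
      show appP ((-1, -1) : Pr) (0 : W4) = 0 by simp [appP, app2], cV, zero_add, sub_eq_zero] at hcV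
    exact hcV.symm
  have hcx : Commute (g1⁻¹ * D.z * g1) (D.q u) := hx.comm_q hu
  set g2 := g1 * (D.q u)⁻¹ with hg2
  have et2 : g2⁻¹ * D.t * g2 = D.t := by
    calc g2⁻¹ * D.t * g2 = D.q u * (g1⁻¹ * D.t * g1) * (D.q u)⁻¹ := by rw [hg2]; group
      _ = D.q u * (D.q u * D.t * (D.q u)⁻¹) := by rw [et]; group
      _ = D.q u * D.q (u + u) * D.t := by rw [D.t_conj_q, mul_assoc]
      _ = D.t := by
        rw [q_mul', om_add_right, om_self, add_zero, neg_zero, zz_zero, one_mul, ← add_assoc, W4_three, q_zero, one_mul]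
  have ex2 : g2⁻¹ * D.z * g2 = g1⁻¹ * D.z * g1 := by
    calc g2⁻¹ * D.z * g2 = D.q u * (g1⁻¹ * D.z * g1) * (D.q u)⁻¹ := by rw [hg2]; group
      _ = _ := by rw [hcx.symm.eq]; group
  have e2 : g2 * D.z * g2⁻¹ = g1 * D.z * g1⁻¹ := by
    calc g2 * D.z * g2⁻¹ = g1 * ((D.q u)⁻¹ * D.z * D.q u) * g1⁻¹ := by rw [hg2]; group
      _ = _ := by rw [(D.q_z u).inv_left.eq]; group
  have P2 : D.PartnerData g2 p := ⟨e2 ▸ P1.acts, P1.diag⟩
  refine ⟨g2, e2.trans e0, ?_, ⟨p', ex2 ▸ hx, hp'⟩, fun a ha => ?_⟩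
  · calc g2 * D.t = g2 * (g2⁻¹ * D.t * g2) := by rw [et2]
      _ = D.t * g2 := by group
  · obtain ⟨m, v, ev, hin, -, -⟩ := P2.image (ex2 ▸ hx) hp' (w := 0) (s' := D.t)
      (by rw [et2, q_zero, one_mul]) D.t_acts (Or.inr rfl) (Or.inr rfl) ha
    obtain ⟨-, -, -, a4⟩ := P2.trans_q ha
    rw [et2, ev, mul_inv_rev, ← D.zz_neg, D.q_inv, ← (D.zz_q _ _).eq] at a4
    have e3 : D.t * (D.zz m * D.q v) * D.t⁻¹ = D.zz m * D.q (-v) := by
      calc D.t * (D.zz m * D.q v) * D.t⁻¹ = (D.t * D.zz m * D.t⁻¹) * (D.t * D.q v * D.t⁻¹) := by group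
        _ = _ := by rw [D.conj_zz D.t_z, inv_eq_of_mul_eq_one_right D.t_sq, D.t_q]
    rw [e3] at a4
    obtain rfl : m = 0 := (by decide : ∀ m : ZMod 3, m = -m → m = 0) m (D.el_inj a4).1
    exact ⟨v, hin, by rw [ev, zz_zero, one_mul]⟩

end Setting

end CfsgLib.U6Three
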