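import Cfsg.Agent.Lib.U6Three.FiveFree
import Cfsg.Agent.Lib.PSp43Real.CaseZero
import Cfsg.Agent.Lib.PSp43Real.CaseOne
import Cfsg.Agent.Lib.PSp43Real.CaseTwo
import Cfsg.Agent.Lib.PSp43Real.Aut.Final
import Cfsg.Agent.Lib.PSp43Real.Sp.Close

/-!
The centraliser of the axis modulo the axis is the symplectic group of degree four over three elements or its
automorphism group.
-/

set_option autoImplicit false
set_option linter.style.haveILetI false

namespace CfsgLib.U6Three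

universe u

theorem q8_comm : ∀ v : V2, v ≠ 0 → ∃ A : SL23, A * A * (A * A) = 1 ∧ ∃ w : V2, app2 A w - w = v := by decide +kernel

theorem sp_three_five : CfsgPSp43Real.SpM.wd [1, 2] ^ 3 = 1 ∧ CfsgPSp43Real.SpM.wd [1, 2] ≠ 1 ∧
    CfsgPSp43Real.SpM.wd [4, 8, 20, 32] ^ 5 = 1 ∧ CfsgPSp43Real.SpM.wd [4, 8, 20, 32] ≠ 1 ∧
    CfsgPSp43Real.SpM.wd [1, 2] * CfsgPSp43Real.SpM.wd [4, 8, 20, 32] =
      CfsgPSp43Real.SpM.wd [4, 8, 20, 32] * CfsgPSp43Real.SpM.wd [1, 2] := by decide +kernel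

namespace Setting.Base

variable {G : Type u} [Group G] {D : Setting G} (F : D.Base) [Finite G]

/-- The translations of the second block and the quaternion elements. -/
theorem q_second_mem (v : V2) : D.q ((0, 0), v) ∈ F.CP := by
  have := F.inC_mem_CP (kEl_inC (D := D) 0 v)
  rwa [D.zz_zero, one_mul] at this

theorem τ_mem_CP : F.τ ∈ F.CP := F.mem_CP.mpr fun _ hπ => (F.mem_P.mp hπ).2.1.symm

theorem τ_zb : F.pr ⟨F.τ, F.τ_mem_CP⟩ * F.zb * (F.pr ⟨F.τ, F.τ_mem_CP⟩)⁻¹ =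
    (F.pr ⟨F.y, F.U_le_CP (F.jel_y ▸ F.jel_mem_U _)⟩)⁻¹ := by
  rw [zb, ← map_mul, ← map_inv, ← map_inv, ← map_mul]
  refine congrArg F.pr (Subtype.ext ?_)
  show F.τ * D.z * F.τ⁻¹ = F.y⁻¹
  rw [← F.jel_z, F.τ_flip.act, ← F.jel_y, ← F.jel_neg]
  simp

/-- No normal subgroup of index three. -/
theorem no_index_three (N : Subgroup F.Fq) (hN : N.Normal) : N.index ≠ 3 := by
  intro hi
  have hcop : ∀ X : F.Fq, X ^ 4 = 1 → X ∈ N := by
    intro X hX
    rw [← QuotientGroup.eq_one_iff]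
    have h4 : ((X : F.Fq) : F.Fq ⧸ N) ^ 4 = 1 := by rw [← QuotientGroup.mk_pow, hX, QuotientGroup.mk_one]
    have h3 : orderOf ((X : F.Fq) : F.Fq ⧸ N) ∣ 3 := by
      have := orderOf_dvd_natCard ((X : F.Fq) : F.Fq ⧸ N)
      rwa [show Nat.card (F.Fq ⧸ N) = 3 from hi] at this
    exact orderOf_eq_one_iff.mp (Nat.eq_one_of_dvd_coprimes (by decide) (orderOf_dvd_of_pow_eq_one h4) h3)
  have hlift : ∀ A : SL23, A * A * (A * A) = 1 → ∃ (r : G) (hr : r ∈ F.CP), D.Acts r (1, A) ∧ F.pr ⟨r, hr⟩ ∈ N := by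
    intro A hA
    obtain ⟨r, hr⟩ := D.acts_lift (1, A) (by simp) hA
    have hC : D.InC r := ⟨0, r, _, by rw [D.q_zero, one_mul], hr, Or.inl rfl, rfl⟩
    refine ⟨r, F.inC_mem_CP hC, hr, ?_⟩
    -- the fourth power is a power of the central element
    have h4 : D.Acts (r * r * (r * r)) 1 := by
      have := (hr.mul hr).mul (hr.mul hr)
      rwa [show ((1, A) : Pr) * (1, A) * ((1, A) * (1, A)) = 1 from Prod.ext (by simp) (by simpa using hA)] at this
    obtain ⟨k, hk⟩ := h4.trivial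
    set X := F.pr ⟨r, F.inC_mem_CP hC⟩
    have h12 : X ^ 12 = 1 := by
      rw [← map_pow]
      refine F.pr_one.mpr ?_
      rw [SubmonoidClass.coe_pow]
      show r ^ 12 ∈ F.P
      rw [show r ^ 12 = (r * r * (r * r)) ^ 3 by rw [← pow_two r, ← pow_add, ← pow_mul], hk, D.Q_cube (D.zz_mem k)]
      exact one_mem _
    have h3 : X ^ 3 ∈ N := hcop _ (by rw [← pow_mul]; exact h12)
    -- the cube has the same action up to a power of the fourth
    have h4N : X ^ 4 ∈ N := by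
      have hz : F.zb ∈ N := by
        by_contra hzN
        obtain ⟨r', hr'⟩ := D.acts_lift (1, -1) (by simp) neg_one_four.1
        have hC' : D.InC r' := ⟨0, r', _, by rw [D.q_zero, one_mul], hr', Or.inl rfl, rfl⟩
        set Y := F.pr ⟨r', F.inC_mem_CP hC'⟩
        have hcomm : ∀ v : V2, F.kq (0, v + v) ∈ N := by
          intro v
          have hq : Y * F.kq (0, -v) * Y⁻¹ = F.kq (0, v) := by
            rw [kq, ← map_mul, ← map_inv, ← map_mul]
            refine congrArg F.pr (Subtype.ext ?_)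
            show r' * (D.zz 0 * D.q ((0, 0), -v)) * r'⁻¹ = D.zz 0 * D.q ((0, 0), v)
            rw [D.zz_zero, one_mul, one_mul, hr'.2]
            refine congrArg D.q (Prod.ext ?_ ?_)
            · show app2 1 (0, 0) = (0, 0); rw [app2_one]
            · show app2 (-1) (-v) = v; rw [(app2_pm _).1, neg_neg]
          have e1 : F.kq (0, v + v) = Y * F.kq (0, -v) * Y⁻¹ * (F.kq (0, -v))⁻¹ := by
            rw [hq, kq, kq, kq, ← map_inv, ← map_mul]
            refine congrArg F.pr (Subtype.ext ?_)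
            show D.zz 0 * D.q ((0, 0), v + v) = D.zz 0 * D.q ((0, 0), v) * (D.zz 0 * D.q ((0, 0), -v))⁻¹
            rw [D.zz_zero, one_mul, one_mul, one_mul, D.q_inv, D.q_mul']
            have e2 : ((0, 0), v) + -(((0, 0), -v) : W4) = ((0, 0), v + v) := by simp
            rw [e2, show om ((0, 0), v) (-((0, 0), -v) : W4) = 0 by simp [om, det2]; ring, neg_zero, D.zz_zero,
              one_mul]
          rw [e1]
          -- a commutator lies in every normal subgroup with abelian quotient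
          rw [← QuotientGroup.eq_one_iff]
          have hcy : ∀ a b : F.Fq ⧸ N, a * b = b * a := by
            haveI : Fact (Nat.Prime 3) := ⟨Nat.prime_three⟩
            haveI : IsCyclic (F.Fq ⧸ N) := isCyclic_of_prime_card (show Nat.card (F.Fq ⧸ N) = 3 from hi)
            exact IsMulCommutative.is_comm.comm
          simp only [QuotientGroup.mk_mul, QuotientGroup.mk_inv]
          rw [hcy (Y : F.Fq ⧸ N), mul_inv_cancel_right, mul_inv_cancel]
        apply hzN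
        have e1 : F.zb = F.kq (0, (1, 0)) * F.kq (0, (0, 1)) * (F.kq (0, (1, 0)))⁻¹ * (F.kq (0, (0, 1)))⁻¹ := by
          rw [F.kq_comm]
          show _ = F.kq (om ((0, 0), (1, 0)) ((0, 0), (0, 1)), 0)
          rw [show om (((0, 0), (1, 0)) : W4) ((0, 0), (0, 1)) = 1 from by decide, F.kq_zero,
            show (1 : ZMod 3).val = 1 from rfl, pow_one]
        rw [e1]
        have a := hcomm (2, 0)
        have b := hcomm (0, 2)
        rw [show ((2, 0) : V2) + (2, 0) = (1, 0) from rfl] at a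
        rw [show ((0, 2) : V2) + (0, 2) = (0, 1) from rfl] at b
        exact mul_mem (mul_mem (mul_mem a b) (inv_mem a)) (inv_mem b)
      have : X ^ 4 = F.zb ^ k.val := by
        rw [← map_pow, zb, ← map_pow]
        refine congrArg F.pr (Subtype.ext ?_)
        rw [SubmonoidClass.coe_pow, SubmonoidClass.coe_pow]
        show r ^ 4 = D.z ^ k.val
        rw [show r ^ 4 = r * r * (r * r) by rw [← pow_two r, ← pow_add], hk]; rfl
      rw [this]; exact pow_mem hz _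
    have : X = X ^ 4 * (X ^ 3)⁻¹ := by group
    rw [this]; exact mul_mem h4N (inv_mem h3)
  have hzero : ∀ v : V2, ∃ k, F.kq (k, v) ∈ N := by
    intro v
    by_cases hv : v = 0
    · exact ⟨0, by rw [hv, F.kq_zero, ZMod.val_zero, pow_zero]; exact one_mem _⟩
    obtain ⟨A, hA, w, hw⟩ := q8_comm v hv
    obtain ⟨r, hr, hact, hrN⟩ := hlift A hA
    refine ⟨-om ((0, 0), app2 A w) (-((0, 0), w) : W4), ?_⟩
    have e1 : F.kq (-om ((0, 0), app2 A w) (-((0, 0), w) : W4), v) =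
        F.pr ⟨r, hr⟩ * (F.kq (0, w) * (F.pr ⟨r, hr⟩)⁻¹ * (F.kq (0, w))⁻¹) := by
      rw [kq, kq, ← map_inv, ← map_inv, ← map_mul, ← map_mul, ← map_mul]
      refine congrArg F.pr (Subtype.ext ?_)
      show D.zz _ * D.q ((0, 0), v) = r * (D.zz 0 * D.q ((0, 0), w) * r⁻¹ * (D.zz 0 * D.q ((0, 0), w))⁻¹)
      rw [D.zz_zero, one_mul, show r * (D.q ((0, 0), w) * r⁻¹ * (D.q ((0, 0), w))⁻¹) =
        (r * D.q ((0, 0), w) * r⁻¹) * (D.q ((0, 0), w))⁻¹ by group, hact.2, D.q_inv,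
        show appP ((1, A) : Pr) ((0, 0), w) = ((0, 0), app2 A w) from Prod.ext (app2_one _) rfl, D.q_mul']
      congr 2
      rw [← hw]
      exact Prod.ext (by simp) (sub_eq_add_neg _ _)
    rw [e1]
    exact mul_mem hrN (hN.conj_mem _ (inv_mem hrN) _)
  have hz : F.zb ∈ N := by
    obtain ⟨k, hk⟩ := hzero (1, 0)
    obtain ⟨l, hl⟩ := hzero (0, 1)
    have e1 : F.zb = F.kq (k, (1, 0)) * F.kq (l, (0, 1)) * (F.kq (k, (1, 0)))⁻¹ * (F.kq (l, (0, 1)))⁻¹ := by
      rw [F.kq_comm]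
      show _ = F.kq (om ((0, 0), (1, 0)) ((0, 0), (0, 1)), 0)
      rw [show om (((0, 0), (1, 0)) : W4) ((0, 0), (0, 1)) = 1 from by decide, F.kq_zero,
        show (1 : ZMod 3).val = 1 from rfl, pow_one]
    rw [e1]
    exact mul_mem (mul_mem (mul_mem hk hl) (inv_mem hk)) (inv_mem hl)
  have hy : F.pr ⟨F.y, F.U_le_CP (F.jel_y ▸ F.jel_mem_U _)⟩ ∈ N := by
    rw [← inv_mem_iff, ← F.τ_zb]
    exact hN.conj_mem _ hz _
  have hker : ∀ k v, F.kq (k, v) ∈ N := by
    intro k v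
    obtain ⟨l, hl⟩ := hzero v
    have e : F.kq (k, v) = F.zb ^ (k - l).val * F.kq (l, v) := by
      rw [kq, kq, zb, ← map_pow, ← map_mul]
      refine congrArg F.pr (Subtype.ext ?_)
      rw [Subgroup.coe_mul, SubmonoidClass.coe_pow]
      show D.zz k * D.q ((0, 0), v) = D.z ^ (k - l).val * (D.zz l * D.q ((0, 0), v))
      rw [← mul_assoc]
      congr 1
      rw [show D.z ^ (k - l).val = D.zz (k - l) from rfl, ← D.zz_add, sub_add_cancel]
    rw [e]
    exact mul_mem (pow_mem hz _) hl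
  have hC : ∀ X : Subgroup.centralizer ({F.zb} : Set F.Fq), (X : F.Fq) ∈ N := by
    intro X
    obtain ⟨R, hR, b, hb⟩ := sl_Q8U (F.piHom X)
    obtain ⟨r, hr, hact, hrN⟩ := hlift R hR
    obtain ⟨q, hq, -⟩ := Acts.of_three (D := D) ⟨F.y_z.pow_left b.val, F.y_t.pow_left b.val⟩
      (by rw [← pow_mul, mul_comm, pow_mul, F.y_cube, one_pow])
    obtain rfl := hq.ma.unique (F.y_ma b)
    set yC : F.CP := ⟨F.y, F.U_le_CP (F.jel_y ▸ F.jel_mem_U _)⟩
    set Y : Subgroup.centralizer ({F.zb} : Set F.Fq) := ⟨F.pr (⟨r, hr⟩ * yC ^ b.val),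
      Subgroup.mem_centralizer_singleton_iff.mpr (F.zb_comm _ (by
        rw [Subgroup.coe_mul, SubmonoidClass.coe_pow]
        exact hact.1.cz.mul_left (F.y_z.pow_left _))).eq⟩
    have hY : F.piHom Y = F.piHom X := by
      rw [F.piHom_eq (X := Y) rfl (p := ((1, R) : Pr) * ((mU, mU) : Pr) ^ b.val) (by
        rw [Subgroup.coe_mul, SubmonoidClass.coe_pow]; exact (hact.mul hq).ma), hb]
      simp
    obtain ⟨⟨k, v⟩, e⟩ := F.ker_el (X := Y⁻¹ * X) (by rw [map_mul, map_inv, hY, inv_mul_cancel])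
    have hYN : (Y : F.Fq) ∈ N := by
      show F.pr (⟨r, hr⟩ * yC ^ b.val) ∈ N
      rw [map_mul, map_pow]
      exact mul_mem hrN (pow_mem hy _)
    have := mul_mem hYN (e ▸ hker k v : ((Y⁻¹ * X : Subgroup.centralizer ({F.zb} : Set F.Fq)) : F.Fq) ∈ N)
    simpa using this
  haveI : Fact (Nat.Prime 3) := ⟨Nat.prime_three⟩
  have hle : F.setupFq.S ≤ N := fun X hX => hC ⟨X, F.setupFq.S_le hX⟩
  have h1 := Subgroup.index_dvd_of_le hle
  rw [hi] at h1
  exact F.setupFq.sylow.not_dvd_index h1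

theorem not_normal : Subgroup.normalizer (Subgroup.zpowers F.zb : Set F.Fq) ≠ ⊤ := by
  intro h
  have hm : F.pr ⟨F.τ, F.τ_mem_CP⟩ ∈ Subgroup.normalizer (Subgroup.zpowers F.zb : Set F.Fq) := h ▸ Subgroup.mem_top _
  have h1 := (hm F.zb).mp (Subgroup.mem_zpowers _)
  rw [F.τ_zb] at h1
  obtain ⟨n, hn⟩ := Subgroup.mem_zpowers_iff.mp (show _ ∈ Subgroup.zpowers F.zb from h1)
  rw [zb, ← map_zpow, ← map_inv] at hn
  have h2 : (D.z ^ n)⁻¹ * F.y⁻¹ ∈ F.P := by simpa [zC] using F.pr_eq.mp hn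
  obtain ⟨k, hk⟩ : ∃ k, D.z ^ n = D.zz k := by
    refine ⟨(n : ZMod 3), ?_⟩
    rw [zz, ← zpow_natCast, ZMod.val_intCast]
    conv_lhs => rw [← Int.mul_ediv_add_emod n 3, zpow_add, zpow_mul, show D.z ^ (3 : ℤ) = 1 from by
      rw [show (3 : ℤ) = ((3 : ℕ) : ℤ) from rfl, zpow_natCast, D.z_cube], one_zpow, one_mul]
    rfl
  rw [hk, ← F.jel_zpow, ← F.jel_y, ← F.jel_neg, ← F.jel_neg, ← F.jel_add] at h2
  have := (F.jel_mem_P h2).2.2
  simp at this

/-- Every element of order three of the quotient is conjugate into the image of the elementary group. -/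
theorem three_into_J (Fr : CfsgPSp43Real.Frame F.Fq) (hFr : Fr.D = F.setupFq) {X : F.Fq} (h3 : X ^ 3 = 1) :
    ∃ c : F.Fq, c * X * c⁻¹ ∈ F.Jq := by
  haveI : Fact (Nat.Prime 3) := ⟨Nat.prime_three⟩
  have hp : IsPGroup 3 (Subgroup.zpowers X) := by
    rintro ⟨g, hg⟩
    obtain ⟨n, rfl⟩ := Subgroup.mem_zpowers_iff.mp hg
    refine ⟨1, Subtype.ext ?_⟩
    rw [pow_one, SubmonoidClass.coe_pow, OneMemClass.coe_one, ← zpow_natCast, ← zpow_mul, mul_comm, zpow_mul,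
      zpow_natCast, h3, one_zpow]
  obtain ⟨Q, hQ⟩ := hp.exists_le_sylow
  obtain ⟨g, hg⟩ := MulAction.exists_smul_eq F.Fq Q Fr.D.sylow
  have hX : g * X * g⁻¹ ∈ Fr.D.S := by
    have h1 : MulAut.conj g X ∈ ((g • Q : Sylow 3 F.Fq) : Subgroup F.Fq) :=
      ⟨X, hQ (Subgroup.mem_zpowers X), rfl⟩
    rw [hg] at h1
    exact h1
  obtain ⟨m, hm, em⟩ := Fr.mem_S_iff.mp hX
  have h3' : (g * X * g⁻¹) ^ 3 = 1 := by rw [conj_pow, h3]; group
  have hsub := CfsgLib.Sym9Three.Sub_zero_le Fr.k (CfsgPSp43Real.inS3_facts.1 m hm).1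
  have hm3 : m * m * m = 1 := Fr.el_inj _ (mul_mem (mul_mem hsub hsub) hsub) _ (one_mem _) (by
    rw [Fr.el_mul _ (mul_mem hsub hsub) _ hsub, Fr.el_mul _ hsub _ hsub, em, ← pow_three', h3', Fr.el_one])
  rcases CfsgPSp43Real.inS3_facts.2.2.2.2 m hm hm3 with h0 | hk
  · refine ⟨g, ?_⟩
    have : g * X * g⁻¹ ∈ Fr.D.J := (Fr.mem_J _).mpr ⟨m.v, by
      rw [← em]; congr 1; exact (by cases m; cases h0; rfl)⟩
    rw [hFr] at this
    exact this
  · obtain ⟨c, -, hc⟩ := Fr.conj_R_into_J (em ▸ Fr.el_mem_R hk)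
    rw [hFr] at hc
    refine ⟨c * g, ?_⟩
    rw [show c * g * X * (c * g)⁻¹ = c * (g * X * g⁻¹) * c⁻¹ by group]
    exact em ▸ hc

theorem not_sp_six (Fr : CfsgPSp43Real.Frame F.Fq) (hFr : Fr.D = F.setupFq)
    (f : CfsgPSp43Real.SpM.S →* F.Fq) (hf : Function.Injective f) : False := by
  obtain ⟨a3, a1, b5, b1, hab⟩ := sp_three_five
  set X := f ⟨_, CfsgPSp43Real.SpM.wd_mem [1, 2]⟩
  set Y := f ⟨_, CfsgPSp43Real.SpM.wd_mem [4, 8, 20, 32]⟩
  have hX : X ^ 3 = 1 := by rw [← map_pow, map_eq_one_iff _ hf]; exact Subtype.ext a3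
  have hY : Y ^ 5 = 1 := by rw [← map_pow, map_eq_one_iff _ hf]; exact Subtype.ext b5
  have hX1 : X ≠ 1 := fun h => a1 (congrArg Subtype.val ((map_eq_one_iff _ hf).mp h))
  have hY1 : Y ≠ 1 := fun h => b1 (congrArg Subtype.val ((map_eq_one_iff _ hf).mp h))
  have hXY : Commute X Y := (show Commute _ _ from Subtype.ext hab).map f
  obtain ⟨c, x, hx, hcx⟩ := F.three_into_J Fr hFr hX
  obtain ⟨g, hg⟩ := F.pr_surj (c * Y * c⁻¹)
  have h5 : (g : G) ^ 5 ∈ F.P := by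
    rw [← SubmonoidClass.coe_pow]; exact F.pr_one.mp (by rw [map_pow, hg, conj_pow, hY]; group)
  have h15 : ((g : G) ^ 6) ^ 5 = 1 := by
    rw [← pow_mul, show 6 * 5 = 5 * 3 * 2 from rfl, pow_mul, pow_mul, F.U_cube (F.mem_P.mp h5).1, one_pow]
  have hpr : F.pr (g ^ 6) = c * Y * c⁻¹ := by
    rw [map_pow, hg, conj_pow, show Y ^ 6 = Y ^ 5 * Y from pow_succ Y 5, hY, one_mul]
  have hxP : (x : G) ∉ F.P := fun h => hX1 (by
    have := F.pr_one.mpr h
    rw [hcx] at this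
    simpa using this)
  have hcomm : (x : G)⁻¹ * (((g ^ 6 : F.CP) : G) * x * ((g ^ 6 : F.CP) : G)⁻¹) ∈ F.P := by
    have h1 : Commute (F.pr (g ^ 6)) (F.pr x) := by
      rw [hpr, hcx]; exact conj_comm c hXY.symm
    have : F.pr x = F.pr (g ^ 6 * x * (g ^ 6)⁻¹) := by
      rw [map_mul, map_mul, map_inv, h1.eq, mul_inv_cancel_right]
    simpa using F.pr_eq.mp this
  have h1 := F.no_five (g ^ 6).2 (by rw [SubmonoidClass.coe_pow]; exact h15) (show (x : G) ∈ F.U from hx) hxP hcomm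
  apply hY1
  have : F.pr (g ^ 6) = 1 := by rw [show g ^ 6 = 1 from Subtype.ext h1, map_one]
  rw [hpr] at this
  simpa using this

/-- Some element of the centraliser of the axis inverts the central element. -/
def caseS : Prop := ∃ g ∈ F.CP, g * D.z * g⁻¹ = D.z⁻¹

theorem real_caseS : F.caseS ↔ ∃ X : F.Fq, X * F.zb * X⁻¹ = F.zb⁻¹ := by
  constructor
  · rintro ⟨g, hg, e⟩
    refine ⟨F.pr ⟨g, hg⟩, ?_⟩
    rw [zb, ← map_inv, ← map_inv, ← map_mul, ← map_mul]
    exact congrArg F.pr (Subtype.ext e)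
  · rintro ⟨X, e⟩
    obtain ⟨g, rfl⟩ := F.pr_surj X
    rw [zb, ← map_inv, ← map_inv, ← map_mul, ← map_mul] at e
    have h1 : D.z * ((g : G) * D.z * (g : G)⁻¹) ∈ F.P := by simpa [zC] using F.pr_eq.mp e.symm
    have h2 : (((g : G) * D.z * (g : G)⁻¹) * D.z)⁻¹ ∈ F.P := by
      refine inv_mem ?_
      have hc : Commute D.z (D.z * ((g : G) * D.z * (g : G)⁻¹)) := ((F.P_comm_z h1)).symm
      have : (g : G) * D.z * (g : G)⁻¹ * D.z = D.z⁻¹ * (D.z * ((g : G) * D.z * (g : G)⁻¹)) * D.z := by group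
      rw [this, hc.inv_left.eq, inv_mul_cancel_right]
      exact h1
    have h3 := F.z_rigid h2 (by
      rw [show D.z * ((g : G) * D.z * (g : G)⁻¹ * D.z)⁻¹ = ((g : G) * D.z * (g : G)⁻¹)⁻¹ by group]
      exact ⟨g, Or.inr rfl⟩)
    rw [inv_eq_one] at h3
    exact ⟨g, g.2, eq_inv_of_mul_eq_one_left h3⟩

/-- The quotient of the centraliser of the axis. -/
theorem type_Fq : (¬ F.caseS → Nonempty (F.Fq ≃* Cfsg.PSp 2 CfsgLib.Heis43.K3)) ∧
    (F.caseS → Nonempty (F.Fq ≃* MulAut (Cfsg.PSp 2 CfsgLib.Heis43.K3))) := by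
  classical
  obtain ⟨Fr, hFr⟩ := F.setupFq.exists_frame
  have hk : Fr.k = 0 ∨ Fr.k = 1 ∨ Fr.k = 2 ∨ Fr.k = 3 := by
    generalize Fr.k = k
    decide +revert
  have hFa : Fr.D.a = F.zb := by rw [hFr]; rfl
  refine ⟨fun hS => ?_, fun hS => ?_⟩
  · have hk' : ¬ (Fr.k = 1 ∨ Fr.k = 3) := fun h => hS (F.real_caseS.mpr (by
      obtain ⟨g, hg⟩ := Fr.real_iff.2 h
      exact ⟨g, hFa ▸ hg⟩))
    rcases hk with h | h | h | h
    · obtain ⟨N, hN, hi⟩ := Fr.exists_index_three h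
      exact absurd hi (F.no_index_three N hN)
    · exact absurd (Or.inl h) hk'
    · exact Fr.case_two h
    · exact absurd (Or.inr h) hk'
  · rcases Fr.real_iff.1 (hFa.symm ▸ F.real_caseS.mp hS) with h | h
    · exact absurd (hFa ▸ Fr.case_one h) F.not_normal
    let F3 : CfsgPSp43Real.Frame3 F.Fq := { toFrame := Fr, k3 := h }
    rcases F3.dichotomy with hg | ⟨⟨E⟩⟩
    · exact F3.case_good hg
    · obtain ⟨e⟩ := F3.case_six E
      exact (F.not_sp_six Fr hFr e.symm.toMonoidHom e.symm.injective).elim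

end Setting.Base

end CfsgLib.U6Three
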