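import Cfsg.Agent.Lib.U6Three.Free

/-!
The two lines without isotropic vectors in use.
-/

set_option autoImplicit false

namespace CfsgLib.U6Three

theorem keepPts_dec (a b u v p q : V4) : KeepPts a b u v p q ↔
    ∀ α β γ δ : ZMod 3, qJ (α • u + β • v + γ • a + δ • b) = 0 → qJ (α • p + β • q + γ • a + δ • b) = 0 := Iff.rfl

instance (a b u v p q : V4) : Decidable (KeepPts a b u v p q) := decidable_of_iff _ (keepPts_dec a b u v p q).symm

theorem freeLine_zy : FreeLine (1, 0, 0, 1) (0, 0, 1, 0) (1, 0, 0, 0) (2, 1, 0, 1) where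
  span := by decide +kernel
  indep := by decide +kernel
  pts := by decide +kernel
  free := by decide +kernel
  hyp := by decide +kernel
  image := by decide +kernel
  image' := by decide +kernel
  four := ⟨[((0, 0, 0, 1), (1, 1, 0, 2)), ((0, 0, 0, 1), (1, 2, 0, 2)), ((1, 0, 0, 0), (2, 1, 0, 1)),
    ((1, 0, 0, 0), (2, 2, 0, 1))], le_rfl, by decide +kernel⟩

theorem freeLine_A : FreeLine (0, 1, 0, 0) (0, 0, 1, 0) (1, 0, 0, 0) (0, 0, 0, 1) where
  span := by decide +kernel
  indep := by decide +kernel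
  pts := by decide +kernel
  free := by decide +kernel
  hyp := by decide +kernel
  image := by decide +kernel
  image' := by decide +kernel
  four := ⟨[((0, 0, 0, 1), (1, 0, 0, 0)), ((0, 0, 0, 2), (2, 0, 0, 0)), ((1, 0, 0, 0), (0, 0, 0, 1)),
    ((2, 0, 0, 0), (0, 0, 0, 2))], le_rfl, by decide +kernel⟩

end CfsgLib.U6Three
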