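import Cfsg.Agent.Lib.U6Three.Quot
import Cfsg.Agent.Lib.U6Three.Lines

/-!
No element of order five centralises an element of order three of the centraliser of the axis modulo the axis.
-/

set_option autoImplicit false
set_option linter.style.haveILetI false

namespace CfsgLib.U6Three

universe u

theorem freeLine_zy1 : FreeLine (1, 0, 0, 1) (0, 1, 0, 0) (1, 0, 0, 0) (2, 0, 1, 1) where
  span := by decide +kernel
  indep := by decide +kernel
  pts := by decide +kernel
  free := by decide +kernel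
  hyp := by decide +kernel
  image := by decide +kernel
  image' := by decide +kernel
  four := ⟨[((0, 0, 0, 1), (1, 0, 1, 2)), ((0, 0, 0, 1), (1, 0, 2, 2)), ((1, 0, 0, 0), (2, 0, 1, 1)),
    ((1, 0, 0, 0), (2, 0, 2, 1))], le_rfl, by decide +kernel⟩

theorem freeLine_A1 : FreeLine (0, 0, 1, 0) (0, 1, 0, 0) (1, 0, 0, 0) (0, 0, 0, 1) where
  span := by decide +kernel
  indep := by decide +kernel
  pts := by decide +kernel
  free := by decide +kernel
  hyp := by decide +kernel
  image := by decide +kernel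
  image' := by decide +kernel
  four := ⟨[((0, 0, 0, 1), (1, 0, 0, 0)), ((0, 0, 0, 2), (2, 0, 0, 0)), ((1, 0, 0, 0), (0, 0, 0, 1)),
    ((2, 0, 0, 0), (0, 0, 0, 2))], le_rfl, by decide +kernel⟩

theorem sl_five : ∀ A : SL23, A * A * A * A * A = 1 → A = 1 := by decide +kernel

theorem line_cases : ∀ k l j : ZMod 3, (k, l, j) ≠ (0, 0, 0) →
    (∃ α β : ZMod 3, qJ (α • ((k, 0, l, j) : V4) + β • (0, 1, 0, 0)) = 0 ∧
      α • ((k, 0, l, j) : V4) + β • (0, 1, 0, 0) ≠ 0) ∨
    ∃ c : ZMod 3, ∃ w ∈ ([(0, 0, 1, 0), (0, 0, 2, 0), (1, 0, 0, 1), (2, 0, 0, 2)] : List V4),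
      (k + om ((0, 0), (0, c)) (av 0 l) - j * (c * c), (0 : ZMod 3), l - j * c, j) = w := by decide +kernel

namespace Setting

variable {G : Type u} [Group G] {D : Setting G}

theorem five_cent {g : G} (h5 : g ^ 5 = 1) (hz : Commute g D.z) : g = 1 := by
  obtain ⟨u, s, p, e, hs | hs⟩ := D.cases_H hz
  · have hA : D.MA g p := ⟨u, s, e, hs⟩
    have h := hA.pow 5
    rw [h5] at h
    have hp : p ^ 5 = 1 := h.unique ma_one
    have key : ∀ A : SL23, A ^ 5 = 1 → A = 1 := fun A hA => sl_five A (by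
      rw [pow_succ, pow_succ, pow_succ, pow_succ, pow_one] at hA
      exact hA)
    have hp1 : p = 1 := Prod.ext (key _ (congrArg Prod.fst hp)) (key _ (congrArg Prod.snd hp))
    have h3 := D.Q_cube (hp1 ▸ hA : D.MA g 1).mem_Q
    calc g = g ^ 3 * g ^ 3 * (g ^ 5)⁻¹ := by group
      _ = 1 := by rw [h3, h5]; group
  · exfalso
    have hS : D.MS g p := ⟨u, s, e, hs⟩
    have h2 := (hS.mul_MS hS).pow 3
    have e' : (g * g) ^ 3 = g := by
      rw [← pow_two, ← pow_mul, show 2 * 3 = 5 + 1 from rfl, pow_succ, h5, one_mul]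
    rw [e'] at h2
    exact h2.not_MS hS

theorem five_pt {g x : G} (h5 : g ^ 5 = 1) (hx : D.IsPt x) (hc : Commute g x) : g = 1 := by
  obtain ⟨c, hc'⟩ := hx
  have h : Commute (c⁻¹ * g * c) D.z := by
    rcases hc' with e | e
    · have := conj_comm' c (e ▸ hc)
      rwa [show c⁻¹ * (c * D.z * c⁻¹) * c = D.z by group] at this
    · have := conj_comm' c (Commute.inv_right_iff.mp (e ▸ hc))
      rwa [show c⁻¹ * (c * D.z * c⁻¹) * c = D.z by group] at this
  have h1 := five_cent (D := D) (g := c⁻¹ * g * c) (by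
    have := conj_pow (a := c⁻¹) (b := g) (i := 5)
    rw [inv_inv] at this
    rw [this, h5]; group) h
  calc g = c * (c⁻¹ * g * c) * c⁻¹ := by group
    _ = 1 := by rw [h1]; group

namespace Base

variable (F : D.Base) [Finite G]

/-- The preimage of a subgroup of the quotient, in the whole group. -/
noncomputable def lift (X : Subgroup F.Fq) : Subgroup G := (X.comap F.pr).map F.CP.subtype

theorem mem_lift {X : Subgroup F.Fq} {x : G} : x ∈ F.lift X ↔ ∃ h : x ∈ F.CP, F.pr ⟨x, h⟩ ∈ X := by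
  constructor
  · rintro ⟨y, hy, rfl⟩; exact ⟨y.2, hy⟩
  · rintro ⟨h, hX⟩; exact ⟨⟨x, h⟩, hX, rfl⟩

theorem card_lift (X : Subgroup F.Fq) : Nat.card (F.lift X) = Nat.card X * Nat.card F.P := by
  rw [lift, Subgroup.card_map_of_injective F.CP.subtype_injective]
  have h1 : (X.comap F.pr).index = X.index := X.index_comap_of_surjective F.pr_surj
  have h2 := (X.comap F.pr).card_mul_index
  have h3 := X.card_mul_index
  have h4 := Subgroup.card_eq_card_quotient_mul_card_subgroup F.PC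
  rw [show Nat.card F.PC = Nat.card F.P from Nat.card_congr (Subgroup.subgroupOfEquivOfLe F.P_le_CP).toEquiv] at h4
  rw [h1, h4, show Nat.card (F.CP ⧸ F.PC) = Nat.card F.Fq from rfl, ← h3] at h2
  have hpos : 0 < X.index := Nat.pos_of_ne_zero Subgroup.index_ne_zero_of_finite
  refine Nat.eq_of_mul_eq_mul_right hpos (h2.trans ?_)
  ring

theorem P_le_lift (X : Subgroup F.Fq) : F.P ≤ F.lift X := fun x hx => F.mem_lift.mpr ⟨F.P_le_CP hx, by
  rw [F.pr_one.mpr (show ((⟨x, F.P_le_CP hx⟩ : F.CP) : G) ∈ F.P from hx)]; exact one_mem _⟩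

theorem lift_Jq : F.lift F.Jq = F.U := by
  refine le_antisymm (fun x hx => ?_) (fun x hx => F.mem_lift.mpr ⟨F.U_le_CP hx, ⟨x, _⟩, hx, rfl⟩)
  obtain ⟨h, y, hy, e⟩ := F.mem_lift.mp hx
  have h1 : (y : G)⁻¹ * x ∈ F.P := F.pr_eq.mp e
  have := mul_mem (show (y : G) ∈ F.U from hy) (F.mem_P.mp h1).1
  rwa [mul_inv_cancel_left] at this

theorem card_U : Nat.card F.U = 27 * Nat.card F.P := by rw [← F.lift_Jq, F.card_lift, F.card_Jq]

theorem free_square {h : G} (hn : h ∈ Subgroup.normalizer (F.U : Set G)) {a b u v : V4} (hfl : FreeLine a b u v)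
    (ha : Commute h (F.jel a)) (hb : Commute h (F.jel b)) : h * h ∈ F.U := by
  obtain ⟨φ, hφ, hmem, hkp, hlin⟩ := F.exists_lin_fix (F.NU_le_NJ hn) hfl ha hb
  obtain ⟨hp, hq⟩ := List.mem_product.mp hmem
  refine F.fix_J_mem_U fun w => ?_
  have hsq : φ (φ w) = w := by
    obtain ⟨α, β, γ, δ, e1⟩ := hfl.span (φ u)
    obtain ⟨α', β', γ', δ', e2⟩ := hfl.span (φ v)
    have hu : φ (φ u) = u := by
      conv_lhs => rw [e1]
      rw [hlin, hfl.image _ hp _ hq hkp α β γ δ e1.symm]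
    have hv : φ (φ v) = v := by
      conv_lhs => rw [e2]
      rw [hlin, hfl.image' _ hp _ hq hkp α' β' γ' δ' e2.symm]
    obtain ⟨x, y, z, r, rfl⟩ := hfl.span w
    rw [hlin, map_add, map_add, map_add, ZMod.map_smul, ZMod.map_smul, hu, hv, ZMod.map_smul, ZMod.map_smul]
    have fa : φ a = a := by simpa using hlin 0 0 1 0
    have fb : φ b = b := by simpa using hlin 0 0 0 1
    rw [fa, fb]
  refine mul_inv_eq_iff_eq_mul.mp ?_
  calc h * h * F.jel w * (h * h)⁻¹ = h * (h * F.jel w * h⁻¹) * h⁻¹ := by group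
    _ = _ := by rw [hφ, hφ, hsq]

theorem jel_a : F.jel (0, 1, 0, 0) = D.q (av 1 0) := F.jel_q 1 0

/-- An element of order five centralising the axis and a coordinate along a line without points. -/
theorem five_line {g : G} (hg : g ∈ F.CP) (h5 : g ^ 5 = 1) {a u v : V4} (hfl : FreeLine a (0, 1, 0, 0) u v)
    (hc : Commute g (F.jel a)) (haP : F.jel a ∉ F.P) : g = 1 := by
  set X : Subgroup F.Fq := Subgroup.zpowers (F.pr ⟨F.jel a, F.U_le_CP (F.jel_mem_U a)⟩)
  have hX : Nat.card X = 3 := by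
    rw [Nat.card_zpowers]
    refine orderOf_eq_prime (p := 3) ?_ fun h => haP (F.pr_one.mp h)
    rw [← map_pow]
    exact F.pr_one.mpr (by rw [SubmonoidClass.coe_pow, F.U_cube (F.jel_mem_U a)]; exact one_mem _)
  have hXJ : X ≤ F.Jq := Subgroup.zpowers_le.mpr ⟨⟨F.jel a, _⟩, F.jel_mem_U a, rfl⟩
  have hSU : F.lift X ≤ F.U := F.lift_Jq ▸ fun x hx => by
    obtain ⟨h, hh⟩ := F.mem_lift.mp hx
    exact F.mem_lift.mpr ⟨h, hXJ hh⟩
  have ha : F.jel a ∈ F.lift X := F.mem_lift.mpr ⟨F.U_le_CP (F.jel_mem_U a), Subgroup.mem_zpowers _⟩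
  have hb : F.jel (0, 1, 0, 0) ∈ F.lift X := F.P_le_lift X (F.jel_a ▸ F.a_one_mem)
  have hgS : g ∈ Subgroup.centralizer (F.lift X : Set G) := by
    refine Subgroup.mem_centralizer_iff.mpr fun s hs => ?_
    obtain ⟨h, hX'⟩ := F.mem_lift.mp hs
    obtain ⟨n, hn⟩ := Subgroup.mem_zpowers_iff.mp hX'
    rw [← map_zpow] at hn
    have h1 : (F.jel a ^ n)⁻¹ * s ∈ F.P := by simpa using F.pr_eq.mp hn
    have h2 := ((hc.zpow_right n).mul_right (F.mem_CP.mp hg _ h1))
    rw [mul_inv_cancel_left] at h2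
    exact h2.symm.eq
  have hn := F.free_le hfl (F.lift X) hSU ha hb (fun x hx => by
    obtain ⟨k, l, j, h⟩ := F.U_reps hx
    refine ⟨_, F.P_le_lift X h, (k, 0, l, j), ?_⟩
    rw [(F.U_comm (F.mem_P.mp h).1 (F.jel_mem_U _)).eq, mul_inv_cancel_left])
    (by rw [F.card_U, F.card_lift, hX]; ring) hgS
  have h2 := F.free_square hn hfl hc (F.jel_a ▸ F.mem_CP.mp hg _ F.a_one_mem)
  have h3 := F.U_cube h2
  rw [← pow_two, ← pow_mul, show 2 * 3 = 5 + 1 from rfl, pow_succ, h5, one_mul] at h3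
  exact h3

/-- An element of order five centralising the axis and a further element of the large abelian group. -/
theorem no_five {g : G} (hg : g ∈ F.CP) (h5 : g ^ 5 = 1) {x : G} (hx : x ∈ F.U) (hxP : x ∉ F.P)
    (hc : x⁻¹ * (g * x * g⁻¹) ∈ F.P) : g = 1 := by
  set π := x⁻¹ * (g * x * g⁻¹) with hπ
  have hgπ : ∀ m : ℕ, Commute g (π ^ m) := fun m => F.mem_CP.mp hg _ (pow_mem hc m)
  have hpow : ∀ n : ℕ, g ^ n * x * (g ^ n)⁻¹ = x * π ^ n := by
    intro n
    induction n with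
    | zero => simp
    | succ n ih =>
      rw [pow_succ' g, show g * g ^ n * x * (g * g ^ n)⁻¹ = g * (g ^ n * x * (g ^ n)⁻¹) * g⁻¹ by group, ih,
        show g * (x * π ^ n) * g⁻¹ = (g * x * g⁻¹) * (g * π ^ n * g⁻¹) by group, (hgπ n).eq, mul_inv_cancel_right,
        show g * x * g⁻¹ = x * π by rw [hπ]; group, mul_assoc, ← pow_succ']
  have h1 : π ^ 5 = 1 := by
    have := hpow 5
    rw [h5, one_mul, inv_one, mul_one, eq_comm, mul_eq_left] at this
    exact this
  have h2 : π ^ 3 = 1 := F.U_cube (F.mem_P.mp hc).1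
  have h3 : π = 1 := by
    calc π = π ^ 3 * π ^ 3 * (π ^ 5)⁻¹ := by group
      _ = 1 := by rw [h1, h2]; group
  have hgx : Commute g x := by
    have := hpow 1
    rw [pow_one, pow_one, h3, mul_one, mul_inv_eq_iff_eq_mul] at this
    exact this
  obtain ⟨k, l, j, hr⟩ := F.U_reps hx
  set w : V4 := (k, 0, l, j)
  have hgw : Commute g (F.jel w) := by
    have := hgx.mul_right (F.mem_CP.mp hg _ hr).inv_right
    rwa [show x * ((F.jel w)⁻¹ * x)⁻¹ = F.jel w by group] at this
  have hne : (k, l, j) ≠ (0, 0, 0) := by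
    intro h
    simp only [Prod.mk.injEq] at h
    obtain ⟨rfl, rfl, rfl⟩ := h
    exact hxP (by simpa [w, show ((0, 0, 0, 0) : V4) = 0 from rfl, F.jel_zero] using hr)
  have hgb : Commute g (F.jel (0, 1, 0, 0)) := F.jel_a ▸ F.mem_CP.mp hg _ F.a_one_mem
  rcases line_cases k l j hne with ⟨α, β, hq, h0⟩ | ⟨c, w', hw', e⟩
  · refine five_pt h5 ((F.isPt_jel _).mpr ⟨hq, h0⟩) ?_
    rw [F.jel_add]
    exact (F.commute_smul hgw α).mul_right (F.commute_smul hgb β)
  · set t := D.q ((0, 0), (0, c)) with ht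
    have htC : t ∈ F.CP := by
      refine F.inC_mem_CP ?_
      have := kEl_inC (D := D) 0 (0, c)
      rwa [D.zz_zero, one_mul] at this
    have hg' : t * g * t⁻¹ ∈ F.CP := mul_mem (mul_mem htC hg) (inv_mem htC)
    have h5' : (t * g * t⁻¹) ^ 5 = 1 := by rw [conj_pow, h5]; group
    have hc' : Commute (t * g * t⁻¹) (F.jel w') := by
      have := conj_comm t hgw
      rw [ht, F.q_conj_jel] at this
      rw [← e]
      convert this using 2
      simp [w, av, om, det2]
    have hone : t * g * t⁻¹ = 1 := by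
      simp only [List.mem_cons, List.not_mem_nil, or_false] at hw'
      have hcA : ∀ w : V4, (w = (0, 0, 1, 0) ∨ w = (1, 0, 0, 1)) → F.jel w ∉ F.P := by
        rintro w hw h
        have := F.jel_mem_P h
        rcases hw with rfl | rfl
        · exact (by decide : (1 : ZMod 3) ≠ 0) this.2.1
        · exact (by decide : (1 : ZMod 3) ≠ 0) this.1
      rcases hw' with rfl | rfl | rfl | rfl
      · exact F.five_line hg' h5' freeLine_A1 hc' (hcA _ (Or.inl rfl))
      · refine F.five_line hg' h5' (a := (0, 0, 1, 0)) freeLine_A1 ?_ (hcA _ (Or.inl rfl))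
        have := F.commute_smul hc' 2
        simpa [show (2 : ZMod 3) * 2 = 1 from rfl] using this
      · exact F.five_line hg' h5' freeLine_zy1 hc' (hcA _ (Or.inr rfl))
      · refine F.five_line hg' h5' (a := (1, 0, 0, 1)) freeLine_zy1 ?_ (hcA _ (Or.inr rfl))
        have := F.commute_smul hc' 2
        simpa [show (2 : ZMod 3) * 2 = 1 from rfl] using this
    calc g = t⁻¹ * (t * g * t⁻¹) * t := by group
      _ = 1 := by rw [hone]; group

end Base

end Setting

end CfsgLib.U6Three
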