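import Cfsg.Agent.Lib.U6Three.Forty

/-!
Elements of order three commuting with an element of order five in the small case.
-/

set_option autoImplicit false
set_option linter.style.haveILetI false
set_option synthInstance.maxSize 1024

namespace CfsgLib.U6Three

universe u

/-- The action of a translation of the second block on coordinates. -/
def tT (w : V2) (v : V4) : V4 :=
  (v.1 + om ((0, 0), w) (av v.2.1 v.2.2.1) - v.2.2.2 * (0 * 0 + w.2 * w.2),
    v.2.1 - v.2.2.2 * 0, v.2.2.1 - v.2.2.2 * w.2, v.2.2.2)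

/-- The action of a translation of both blocks on coordinates. -/
def tW (w : W4) (v : V4) : V4 :=
  (v.1 + om w (av v.2.1 v.2.2.1) - v.2.2.2 * (w.1.2 * w.1.2 + w.2.2 * w.2.2),
    v.2.1 - v.2.2.2 * w.1.2, v.2.2.1 - v.2.2.2 * w.2.2, v.2.2.2)

/-- The action of the flip on coordinates. -/
def tau4 (v : V4) : V4 := (-v.2.2.2, v.2.1, v.2.2.1, -v.1)

theorem tT_sum : ∀ k l j : ZMod 3, ∀ w : V2,
    tT w (k, 0, l, j) + tT w (tT w (k, 0, l, j)) + tT w (tT w (tT w (k, 0, l, j))) = 0 → j = 0 ∨ w.2 = 0 := by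
  decide +kernel

theorem q_one_moves : ∀ k l j : ZMod 3, qJ (k, 0, l, j) = 1 → ∃ c1 c3 : ZMod 3, ∃ f : Bool,
    (tT (0, c3) (if f then tau4 (tT (0, c1) (k, 0, l, j)) else tT (0, c1) (k, 0, l, j)) = (0, 0, 1, 0) ∨
      tT (0, c3) (if f then tau4 (tT (0, c1) (k, 0, l, j)) else tT (0, c1) (k, 0, l, j)) = (0, 0, 2, 0)) := by
  decide +kernel

theorem q_two_moves : ∀ k l j : ZMod 3, qJ (k, 0, l, j) = 2 → ∃ c : ZMod 3,
    (tau4 (tW ((0, 1), (0, c)) (k, 0, l, j))).2.2.2 = 0 ∧ (tau4 (tW ((0, 1), (0, c)) (k, 0, l, j))).2.1 ≠ 0 ∧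
      (tau4 (tW ((0, 1), (0, c)) (k, 0, l, j))).2.2.1 ≠ 0 := by decide +kernel

theorem z3_cases : ∀ i : ZMod 3, i = 0 ∨ i = 1 ∨ i = -1 := by decide

theorem av_one_ne : av 1 0 ≠ (0 : W4) := by decide

theorem neg_a2_vec : -((0, 0, 2, 0) : V4) = (0, 0, 1, 0) := by decide

theorem qJ_cases : ∀ v : V4, qJ v = 0 ∨ qJ v = 1 ∨ qJ v = 2 := by decide +kernel

theorem shift_point : ∀ k i l j : ZMod 3, qJ (k, i, l, j) = 0 → i ≠ 0 →
    qJ ((k, i, l, j) + (0, i, 0, 0)) = 0 ∧ ((k, i, l, j) + (0, i, 0, 0) : V4) ≠ 0 := by decide +kernel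

theorem first_fix : ∀ (A : SL23) (a : ZMod 3), a ≠ 0 → app2 A (a, 0) = (a, 0) → (A = 1 ∨ A = mU ∨ A = mU * mU) := by
  decide +kernel

theorem sl_four_neg : ∃ R : SL23, R * R * (R * R) = 1 ∧ R * R ≠ 1 ∧ R ^ 18 = R * R := by decide +kernel

namespace Setting.Base

variable {G : Type u} [Group G] {D : Setting G} (F : D.Base) [Finite G]

theorem U_J (hB : ¬ D.caseB) {x : G} (hx : x ∈ F.U) : ∃ v, x = F.jel v := by
  obtain ⟨v, m, e⟩ := F.U_decomp_any hx
  exact ⟨v, by rw [e, F.s0_one hB, one_pow, mul_one]⟩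

theorem P_axis (hB : ¬ D.caseB) {x : G} (hx : x ∈ F.P) : ∃ i, x = D.q (av i 0) := by
  obtain ⟨i, m, e⟩ := F.P_cases hx
  exact ⟨i, by rw [e, F.s0_one hB, one_pow, mul_one]⟩

theorem CP_of_comm (hB : ¬ D.caseB) {x : G} (hx : Commute x (D.q (av 1 0))) : x ∈ F.CP :=
  F.mem_CP.mpr fun π hπ => by
    obtain ⟨i, rfl⟩ := F.P_axis hB hπ
    rw [show av i 0 = i • av 1 0 by simp [av], D.q_smul]
    exact hx.pow_right _

/-- A point of the centraliser of the axis without points in its translates by the axis is conjugate to the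
central element. -/
theorem CP_point {w : G} (hw : w ∈ F.CP) (hp : D.IsPt w)
    (hn : ∀ s : ZMod 3, s ≠ 0 → ¬ D.IsPt (D.q (av s 0) * w)) : ∃ c ∈ F.CP, Pm D.z (c * w * c⁻¹) := by
  obtain ⟨Fr, hFr⟩ := F.setupFq.exists_frame
  obtain ⟨C, u, hu, hC⟩ := F.three_into_J Fr hFr (X := F.pr ⟨w, hw⟩) (by
    rw [← map_pow, show (⟨w, hw⟩ : F.CP) ^ 3 = 1 from Subtype.ext hp.cube, map_one])
  obtain ⟨c, rfl⟩ := F.pr_surj C
  rw [← map_inv, ← map_mul, ← map_mul] at hC
  have hU : (c : G) * w * (c : G)⁻¹ ∈ F.U := by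
    have h1 := F.pr_eq.mp hC
    have := mul_mem (show (u : G) ∈ F.U from hu) (F.mem_P.mp h1).1
    simpa using this
  obtain ⟨⟨k, i, l, j⟩, hq, hne, e⟩ := (F.pt_iff hU).mp (hp.conj _)
  have hi : i = 0 := by
    by_contra hi
    obtain ⟨h1, h2⟩ := shift_point k i l j hq hi
    refine hn i hi ?_
    have h3 := ((F.isPt_jel _).mpr ⟨h1, h2⟩).conj (c : G)⁻¹
    rw [add_comm, F.jel_add, F.jel_q, ← e, inv_inv] at h3
    have hc : Commute (c : G) (D.q (av i 0)) := F.mem_CP.mp c.2 _ (F.a_mem_P i)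
    rwa [show (c : G)⁻¹ * (D.q (av i 0) * ((c : G) * w * (c : G)⁻¹)) * (c : G) = D.q (av i 0) * w by
      rw [← mul_assoc (D.q (av i 0)), ← mul_assoc (D.q (av i 0)), ← hc.eq]; group] at h3
  subst hi
  by_cases hj : j = 0
  · subst hj
    obtain rfl := pt_line k l hq
    refine ⟨c, c.2, ?_⟩
    rw [e, F.jel_zpow]
    exact pm_zz fun hk => hne (by rw [hk]; rfl)
  · refine ⟨F.τ * trb (D := D) (l * j) * c, mul_mem (mul_mem F.τ_mem_CP (F.q_second_mem _)) c.2, ?_⟩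
    have h1 : trb (D := D) (l * j) * ((c : G) * w * (c : G)⁻¹) * (trb (D := D) (l * j))⁻¹ = F.y ^ j.val := by
      rw [e, trb, F.q_conj_jel, pt_norm k l j hq hj, F.jel_ypow]
    have h2 := (F.pm_ypow hj).conj F.τ
    rw [F.τ_conj_y] at h2
    rw [show F.τ * trb (D := D) (l * j) * c * w * (F.τ * trb (D := D) (l * j) * (c : G))⁻¹ =
      F.τ * (trb (D := D) (l * j) * ((c : G) * w * (c : G)⁻¹) * (trb (D := D) (l * j))⁻¹) * F.τ⁻¹ by group, h1]
    exact Pm.trans (Or.inr rfl) h2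

include F in
/-- The axis is not conjugate to a mixed vector. -/
theorem a1_not_mixed (hB : ¬ D.caseB) {g : G} {k a b : ZMod 3} (ha : a ≠ 0) (hb : b ≠ 0) :
    g * D.q (av 1 0) * g⁻¹ ≠ D.zz k * D.q (av a b) := by
  intro hg
  set m := D.zz k * D.q (av a b)
  have hmz : Commute m D.z := D.Q_z (mul_mem (D.zz_mem k) (D.q_mem _))
  set w := g⁻¹ * D.z * g with hwd
  have hw : w ∈ F.CP := F.CP_of_comm hB (by
    have h1 : Commute (g * D.q (av 1 0) * g⁻¹) D.z := hg ▸ hmz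
    have := conj_comm' g h1.symm
    rwa [show g⁻¹ * (g * D.q (av 1 0) * g⁻¹) * g = D.q (av 1 0) by group] at this)
  obtain ⟨c, hc, hP⟩ := F.CP_point hw ⟨g⁻¹, Or.inl (by rw [inv_inv])⟩ fun s hs hpt => by
    have h1 := hpt.conj g
    rw [show g * (D.q (av s 0) * w) * g⁻¹ = g * D.q (av s 0) * g⁻¹ * D.z by rw [hwd]; group,
      show av s 0 = s • av 1 0 by simp [av], D.q_smul, ← conj_pow, hg] at h1
    obtain ⟨k', hk'⟩ := h1.mem_Q (mul_mem (pow_mem (mul_mem (D.zz_mem k) (D.q_mem _)) _) (D.zz_one ▸ D.zz_mem 1))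
    rw [(D.zz_q k _).mul_pow, ← D.q_smul, zz, ← pow_mul, D.zz_nat, ← D.zz_one,
      mul_assoc, ← (D.zz_q 1 _).eq, ← mul_assoc, ← D.zz_add] at hk'
    have h2 := (D.el_inj (hk'.trans (by rw [D.q_zero, mul_one] : D.zz k' = D.zz k' * D.q 0))).2
    have h3 : s * a = 0 := by simpa [av] using congrArg (fun v : W4 => v.1.1) h2
    rcases mul_eq_zero.mp h3 with h | h
    exacts [hs h, ha h]
  obtain ⟨R, hR, hR2, hR18⟩ := sl_four_neg
  obtain ⟨r, hr⟩ := D.acts_lift (1, R) (by simp) hR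
  have hra : Commute r (D.q (av 1 0)) := hr.comm_q (Prod.ext (app2_one _) (app2_zero R))
  have hca : Commute c (D.q (av 1 0)) := F.mem_CP.mp hc _ F.a_one_mem
  set e := g * c⁻¹ * r * (g * c⁻¹)⁻¹ with hed
  have hez : Commute e D.z := by
    have h1 : Commute r (c * w * c⁻¹) := Pm.comm hP hr.1.cz
    have := conj_comm (g * c⁻¹) h1
    rwa [show g * c⁻¹ * (c * w * c⁻¹) * (g * c⁻¹)⁻¹ = D.z by rw [hwd]; group] at this
  have hem : Commute e m := by
    have := conj_comm (g * c⁻¹) hra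
    rwa [show g * c⁻¹ * D.q (av 1 0) * (g * c⁻¹)⁻¹ = m by
      rw [← hg, show g * c⁻¹ * D.q (av 1 0) * (g * c⁻¹)⁻¹ = g * (c⁻¹ * D.q (av 1 0) * c) * g⁻¹ by group,
        mul_assoc c⁻¹, ← hca.eq, inv_mul_cancel_left]] at this
  -- the square acts on both blocks by unipotent elements
  obtain ⟨u, s, p, he, hs | hs⟩ := D.cases_H hez
  all_goals
    obtain ⟨p2, hp2⟩ : ∃ p2, D.MA (e * e) p2 := by
      first
        | exact ⟨_, (show D.MA e p from ⟨u, s, he, hs⟩).mul ⟨u, s, he, hs⟩⟩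
        | exact ⟨_, (show D.MS e p from ⟨u, s, he, hs⟩).mul_MS ⟨u, s, he, hs⟩⟩
    obtain ⟨u', s', e', hs'⟩ := id hp2
    have hq : Commute (D.zz 0 * (D.q u' * s')) (D.q (av a b)) := by
      rw [D.zz_zero, one_mul, ← e']
      have h1 : Commute (e * e) ((D.zz k)⁻¹ * m) :=
        ((D.zz_comm (hez.mul_left hez) k).inv_right).mul_right (hem.mul_left hem)
      rwa [show (D.zz k)⁻¹ * m = D.q (av a b) from inv_mul_cancel_left _ _] at h1
    obtain ⟨hfix, -⟩ := (D.comm_q_iff hs' _).mp hq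
    have hn : Nine p2 := ⟨first_fix _ a ha (congrArg Prod.fst hfix), first_fix _ b hb (congrArg Prod.snd hfix)⟩
    have h6 : (e * e) ^ 3 ∈ D.Q := by
      have := hp2.pow 3
      rw [pow_three', pow_three', hn.cube] at this
      rw [pow_three']
      exact this.mem_Q
    have h18 : e ^ 18 = 1 := by
      rw [show 18 = 2 * 3 * 3 from rfl, pow_mul, pow_mul, pow_two, D.Q_cube h6]
    have hr18 : r ^ 18 = 1 := by
      have h1 : g * c⁻¹ * r ^ 18 * (g * c⁻¹)⁻¹ = 1 := by rw [← conj_pow]; exact h18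
      rwa [conj_eq_one_iff] at h1
    have h := hr.ma.pow 18
    rw [hr18] at h
    have h2 := congrArg Prod.snd (h.unique ma_one)
    rw [Prod.pow_snd] at h2
    exact hR2 (hR18.symm.trans h2)

/-- The form of an element of order three of the centraliser. -/
theorem three_form (hB : ¬ D.caseB) {x : G} (hi : x ∈ Mi (D := D)) (hz : Commute x D.z) (h3 : x ^ 3 = 1) :
    ∃ h ∈ Mi (D := D), Commute h D.z ∧
      (h * x * h⁻¹ ∈ Qm (D := D) ∨ ∃ k l j, h * x * h⁻¹ = F.jel (k, 0, l, j)) := by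
  obtain ⟨v, s, p, e, hs⟩ := cent_z_form hz (mem_Mi.mp hi)
  have hm : D.MA x p := ⟨_, s, e, hs⟩
  obtain ⟨g, hg, hg3⟩ := D.ma_three hz h3
  obtain rfl := hm.unique hg
  obtain ⟨R2, hR2, hB2⟩ := sl_to_nine p.2 (congrArg Prod.snd hg3)
  obtain ⟨R1', hR1, hA⟩ := sl_to_nine p.1 (congrArg Prod.fst hg3)
  obtain ⟨s2, hs2⟩ := D.acts_lift (1, R2) (by simp) hR2
  obtain ⟨r, hr, hrA⟩ := R1_lift (D := D) hR1
  have h0i : s2 * r ∈ Mi (D := D) :=
    mul_mem (mem_Mi.mpr (Quat.comm_i1 ⟨R2, hR2, hs2⟩)) (mem_Mi.mpr (mem_R1.mp hr).2.2.2)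
  have h0z : Commute (s2 * r) D.z := hs2.1.cz.mul_left (mem_R1.mp hr).2.1
  refine ⟨_, h0i, h0z, ?_⟩
  set x' := s2 * r * x * (s2 * r)⁻¹ with hx'
  have hm' : D.MA x' ((1, R2) * (R1', 1) * p * ((1, R2) * (R1', 1))⁻¹) :=
    (((hs2.mul hrA).ma).mul hm).mul (hs2.mul hrA).ma.inv
  have hi' : x' ∈ Mi (D := D) := mul_mem (mul_mem h0i hi) (inv_mem h0i)
  have hz' : Commute x' D.z := (h0z.mul_left hz).mul_left h0z.inv_left
  obtain ⟨v', s', p', e', hs'⟩ := cent_z_form hz' (mem_Mi.mp hi')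
  obtain rfl := MA.unique (D := D) ⟨_, s', e', hs'⟩ hm'
  have hn : Nine ((1, R2) * (R1', 1) * p * ((1, R2) * (R1', 1))⁻¹) := ⟨by simpa using hA, by simpa using hB2⟩
  obtain ⟨⟨k, i, l, j⟩, ej⟩ := F.U_J hB (F.acts_mem_U hs' hn)
  have hsi : Commute D.i1 s' := nine_block_comm hs'
  rw [ej] at hsi
  have h1 := F.conj_jel_i1 (k, i, l, j)
  rw [hsi.eq, mul_inv_cancel_right] at h1
  obtain rfl : i = 0 := (by decide : ∀ i : ZMod 3, i = -i → i = 0) i (congrArg (fun v : V4 => v.2.1) (F.jel_inj h1))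
  rw [ej] at e'
  by_cases hj : j = 0
  · subst hj
    left
    rw [e']
    refine mul_mem (second_mem_Qm v') ⟨?_, ej ▸ mem_Mi.mpr (nine_block_comm hs').symm⟩
    show D.zz k * D.q (av 0 l) * F.y ^ (0 : ZMod 3).val ∈ D.Q
    rw [ZMod.val_zero, pow_zero, mul_one]
    exact mul_mem (D.zz_mem _) (D.q_mem _)
  · right
    set q := D.q ((0, 0), v') with hq
    set J0 := F.jel (k, 0, l, j)
    have hT : ∀ u : V4, q * F.jel u * q⁻¹ = F.jel (tT v' u) := fun u => F.q_conj_jel _ _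
    have hx3 : x' ^ 3 = F.jel (tT v' (k, 0, l, j) + tT v' (tT v' (k, 0, l, j)) + tT v' (tT v' (tT v' (k, 0, l, j)))) := by
      rw [e', pow_three']
      calc q * J0 * (q * J0) * (q * J0)
          = q * J0 * q⁻¹ * (q * (q * J0 * q⁻¹) * q⁻¹) * (q * (q * (q * J0 * q⁻¹) * q⁻¹) * q⁻¹) * (q * q * q) := by group
        _ = _ := by
            rw [hT, hT, hT, show q * q * q = 1 from (pow_three' q).symm.trans (D.q_cube _), mul_one, F.jel_add,
              F.jel_add]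
    have hx30 : x' ^ 3 = 1 := by rw [hx', conj_pow, h3]; group
    rw [hx30, ← F.jel_zero] at hx3
    have hv := (tT_sum k l j v' (F.jel_inj hx3).symm).resolve_left hj
    obtain ⟨a, b⟩ := v'
    obtain rfl : b = 0 := hv
    refine ⟨k, a + l, j, ?_⟩
    rw [e', hq, show (((0, 0), (a, 0)) : W4) = av 0 a from rfl, ← F.jel_q, ← F.jel_add]
    simp

include F in
/-- A five-element of the centraliser of the second vector is trivial. -/
theorem Mc_five {g : G} (hg : g ∈ Mc (D := D)) (h5 : g ^ 5 = 1) : g = 1 := by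
  have hG := F.Mc_eq_G0 hg
  set w : F.G0 := ⟨g, hG⟩ with hw
  have hc : F.gcls (w * w * w * w * w) = F.gcls w := by
    rw [F.gcls_mul, F.gcls_mul, F.gcls_mul, F.gcls_mul]
    generalize F.gcls w = c
    revert c; decide
  have h1 : w * w * w * w * w = 1 := by
    refine Subtype.ext ?_
    show g * g * g * g * g = 1
    rw [← h5, pow_succ, pow_succ, pow_succ, pow_succ, pow_one]
  rw [h1, F.gcls_N0 (g := 1) (one_mem _)] at hc
  have h12 : g ^ 12 = 1 := by
    rw [show 12 = 3 * 4 from rfl, pow_mul]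
    exact F.N0_four (F.gcls_zero_cube (g := w) hc.symm)
  calc g = (g ^ 5) ^ 5 * ((g ^ 12) ^ 2)⁻¹ := by rw [← pow_mul, ← pow_mul]; group
    _ = 1 := by rw [h5, h12]; group

/-- An element of order five of the flip group commutes with no element of order three of the normaliser. -/
theorem five_three (hB : ¬ D.caseB) {g0 x : G} (hg0 : g0 ∈ F.L) (h5 : g0 ^ 5 = 1) (hg1 : g0 ≠ 1) (hx : x ∈ F.N)
    (h3 : x ^ 3 = 1) (hx1 : x ≠ 1) (hc : Commute x g0) : False := by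
  haveI : Fact (Nat.Prime 3) := ⟨Nat.prime_three⟩
  have hgP : g0 ∈ F.CP := F.L_le_CP hg0
  set CC := Subgroup.centralizer ({g0} : Set G)
  have hmem : ∀ {w : G}, w ∈ CC ↔ Commute w g0 := fun {w} => Subgroup.mem_centralizer_singleton_iff
  have hPC : F.P ≤ CC := fun π hπ => hmem.mpr (F.mem_CP.mp hgP π hπ).symm
  have hp : IsPGroup 3 F.P := fun π => ⟨1, Subtype.ext (by simpa using F.U_cube (F.mem_P.mp π.2).1)⟩
  obtain ⟨S, hS⟩ := (hp.comap_of_injective CC.subtype CC.subtype_injective).exists_le_sylow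
  set R0 := (S : Subgroup CC).map CC.subtype with hR0
  have hPR : F.P ≤ R0 := fun π hπ => ⟨⟨π, hPC hπ⟩, hS hπ, rfl⟩
  have hRP : R0 ≤ F.P := by
    refine le_of_grow (S.2.map _) hPR fun y hy hn => ?_
    obtain ⟨i, hi⟩ := F.P_axis hB (hn _ F.a_one_mem)
    have hyC : Commute y g0 := hmem.mp (Subgroup.map_subtype_le _ hy)
    obtain ⟨m, hm⟩ := (S.2.map CC.subtype) ⟨y, hy⟩
    have hm' : y ^ 3 ^ m = 1 := congrArg Subtype.val hm
    have hne : D.q (av 1 0) ≠ 1 := fun h => by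
      exact av_one_ne (D.q_injective (h.trans D.q_zero.symm))
    have hy1 : Commute y (D.q (av 1 0)) := by
      rcases z3_cases i with rfl | rfl | rfl
      · exfalso
        rw [show av 0 0 = (0 : W4) from rfl, D.q_zero, conj_eq_one_iff] at hi
        exact hne hi
      · exact mul_inv_eq_iff_eq_mul.mp hi
      · exfalso
        rw [show av (-1) 0 = -av 1 0 by simp [av], ← D.q_inv] at hi
        have h4 := conj_odd hm' hi
        have := D.q_cube (av 1 0)
        rw [pow_three', show D.q (av 1 0) * D.q (av 1 0) = 1 by nth_rw 1 [← h4]; exact inv_mul_cancel _, one_mul] at this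
        exact hne this
    have hyP : y ∈ F.CP := F.CP_of_comm hB hy1
    set X := F.pr ⟨y, hyP⟩
    by_contra hynot
    have hX1 : X ≠ 1 := fun h => hynot (F.pr_one.mp h)
    obtain ⟨s, -, hs⟩ := (Nat.dvd_prime_pow Nat.prime_three).mp (orderOf_dvd_of_pow_eq_one
      (show X ^ 3 ^ m = 1 by rw [← map_pow, show (⟨y, hyP⟩ : F.CP) ^ 3 ^ m = 1 from Subtype.ext hm', map_one]))
    obtain ⟨s, rfl⟩ : ∃ t, s = t + 1 := Nat.exists_eq_succ_of_ne_zero fun h0 => hX1 (by
      rw [← orderOf_eq_one_iff, hs, h0, pow_zero])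
    set y' : F.CP := ⟨y, hyP⟩ ^ 3 ^ s with hy'
    have hX'3 : F.pr y' ^ 3 = 1 := by
      rw [hy', map_pow, ← pow_mul, ← pow_succ, ← hs, pow_orderOf_eq_one]
    have hX'1 : F.pr y' ≠ 1 := by
      rw [hy', map_pow]
      refine pow_ne_one_of_lt_orderOf (pow_ne_zero _ (by norm_num)) ?_
      rw [hs]
      exact Nat.pow_lt_pow_right (by norm_num) (Nat.lt_succ_self s)
    obtain ⟨Fr, hFr⟩ := F.setupFq.exists_frame
    obtain ⟨C, u, hu, hC⟩ := F.three_into_J Fr hFr hX'3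
    obtain ⟨c, rfl⟩ := F.pr_surj C
    rw [← map_inv, ← map_mul, ← map_mul] at hC
    set w := ((c * y' * c⁻¹ : F.CP) : G) with hwd
    have hwU : w ∈ F.U := by
      have h1 := F.pr_eq.mp hC
      have := mul_mem (show (u : G) ∈ F.U from hu) (F.mem_P.mp h1).1
      simpa [hwd] using this
    have hwP : w ∉ F.P := fun h => hX'1 (by
      have := F.pr_one.mpr h
      rw [map_mul, map_mul, map_inv] at this
      simpa using this)
    have hy'c : Commute (y' : G) g0 := by rw [hy', SubmonoidClass.coe_pow]; exact hyC.pow_left _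
    have hone := F.no_five (g := (c : G) * g0 * (c : G)⁻¹) (mul_mem (mul_mem c.2 hgP) (inv_mem c.2))
      (by rw [conj_pow, h5]; group) hwU hwP (by
        have h1 : Commute ((c : G) * g0 * (c : G)⁻¹) w := conj_comm (c : G) hy'c.symm
        rw [h1.eq, mul_inv_cancel_right, inv_mul_cancel]
        exact one_mem _)
    exact hg1 (conj_eq_one_iff.mp hone)
  -- the element is conjugate to a power of the axis
  have hxC : x ∈ CC := hmem.mpr hc
  have hpx : IsPGroup 3 (Subgroup.zpowers (⟨x, hxC⟩ : CC)) := IsPGroup.of_card (n := 1) (by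
    rw [Nat.card_zpowers, pow_one]
    exact orderOf_eq_prime (p := 3) (Subtype.ext h3) (fun h => hx1 (congrArg Subtype.val h)))
  obtain ⟨T, hT⟩ := hpx.exists_le_sylow
  obtain ⟨h, hh⟩ := MulAction.exists_smul_eq CC T S
  obtain ⟨i, hi⟩ := F.P_axis hB (hRP (show (h : G) * x * (h : G)⁻¹ ∈ R0 from
    ⟨h * ⟨x, hxC⟩ * h⁻¹, hh ▸ ⟨_, hT (Subgroup.mem_zpowers _), rfl⟩, rfl⟩))
  have hi0 : i ≠ 0 := by
    rintro rfl
    rw [show av 0 0 = (0 : W4) from rfl, D.q_zero, conj_eq_one_iff] at hi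
    exact hx1 hi
  have hxa : ∃ d : G, d * D.q (av 1 0) * d⁻¹ = x ∨ d * D.q (av 1 0) * d⁻¹ = x⁻¹ := by
    refine ⟨(h : G)⁻¹, ?_⟩
    rcases (z3_cases i).resolve_left hi0 with rfl | rfl
    · left; rw [← hi]; group
    · right
      rw [show av (-1) 0 = -av 1 0 by simp [av], ← D.q_inv] at hi
      rw [show D.q (av 1 0) = ((h : G) * x * (h : G)⁻¹)⁻¹ by rw [hi, inv_inv]]
      group
  -- move it to a standard form
  obtain ⟨c, hcN, hcz⟩ := F.cent_sylow F.N_le_Mi (fun g hg hz => F.cent_z_le_N hg hz) hx h3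
  have hxM : x ∈ Mi (D := D) := F.N_le_Mi hx
  have hcM : c ∈ Mi (D := D) := F.N_le_Mi hcN
  obtain ⟨h', hh', hhz, hform⟩ := F.three_form hB (mul_mem (mul_mem hcM hxM) (inv_mem hcM)) hcz
    (by rw [conj_pow, h3]; group)
  rw [show h' * (c * x * c⁻¹) * h'⁻¹ = h' * c * x * (h' * c)⁻¹ by group] at hform
  have hg0M : g0 ∈ Mi (D := D) := mem_Mi.mpr (F.L_i1 hg0)
  have five : ∀ d ∈ Mi (D := D), Commute (d * x * d⁻¹) (a2 D) → Commute (d * g0 * d⁻¹) (a2 D) → False :=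
    fun d hd _ hga => hg1 (conj_eq_one_iff.mp (F.Mc_five (g := d * g0 * d⁻¹)
      (mem_Mc.mpr ⟨hga, mem_Mi.mp (mul_mem (mul_mem hd hg0M) (inv_mem hd))⟩) (by rw [conj_pow, h5]; group)))
  have hcom : ∀ d : G, Commute (d * g0 * d⁻¹) (d * x * d⁻¹) := fun d => conj_comm d hc.symm
  have hptfree : ∀ d : G, ¬ D.IsPt (d * x * d⁻¹) := fun d hd =>
    hg1 (conj_eq_one_iff.mp (five_pt (g := d * g0 * d⁻¹) (by rw [conj_pow, h5]; group) hd (hcom d)))
  have hd0 : h' * c ∈ Mi (D := D) := mul_mem hh' hcM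
  rcases hform with hQ | ⟨k, l, j, e⟩
  · obtain ⟨d, hd, -, hP | hP⟩ := good_Qm hQ (fun h1 => hx1 (conj_eq_one_iff.mp h1))
    · refine hptfree (d * (h' * c)) ?_
      rw [show d * (h' * c) * x * (d * (h' * c))⁻¹ = d * (h' * c * x * (h' * c)⁻¹) * d⁻¹ by group]
      rcases hP with e | e <;> rw [e]
      exacts [⟨1, Or.inl (by group)⟩, ⟨1, Or.inr (by group)⟩]
    · have e2 : d * (h' * c) * x * (d * (h' * c))⁻¹ = a2 D := by
        rw [← hP]; group
      exact five _ (mul_mem hd hd0) (e2 ▸ Commute.refl _) (e2 ▸ hcom _)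
  have hne : (k, (0 : ZMod 3), l, j) ≠ (0 : V4) := fun h0 => hx1 (conj_eq_one_iff.mp (by rw [e, h0, F.jel_zero]))
  rcases qJ_cases (k, 0, l, j) with hq | hq | hq
  · exact hptfree (h' * c) (e ▸ (F.isPt_jel _).mpr ⟨hq, hne⟩)
  · obtain ⟨c1, c3, f, hf⟩ := q_one_moves k l j hq
    have hT : ∀ (cc : ZMod 3) (u : V4), trb (D := D) cc * F.jel u * (trb (D := D) cc)⁻¹ = F.jel (tT (0, cc) u) :=
      fun cc u => F.q_conj_jel _ _
    set t := if f then F.τ else 1 with ht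
    set d := trb (D := D) c3 * t * trb (D := D) c1 * (h' * c) with hdd
    have htM : t ∈ Mi (D := D) := by rw [ht]; split_ifs; exacts [F.τ_le_N.1, one_mem _]
    have hd : d ∈ Mi (D := D) := mul_mem (mul_mem (mul_mem (trb_Mi _) htM) (trb_Mi _)) hd0
    have hτ : ∀ u : V4, F.τ * F.jel u * F.τ⁻¹ = F.jel (tau4 u) := fun u => F.τ_flip.act u
    have hτu : ∀ u, t * F.jel u * t⁻¹ = F.jel (if f then tau4 u else u) := fun u => by
      rw [ht]; cases f
      · simp
      · simp only [if_true]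
        exact hτ u
    have ed : d * x * d⁻¹ = F.jel (tT (0, c3) (if f then tau4 (tT (0, c1) (k, 0, l, j)) else tT (0, c1) (k, 0, l, j))) := by
      rw [← hT, ← hτu, ← hT, ← e, hdd]; group
    have ha : ∀ {w : G}, Commute w (d * x * d⁻¹) → Commute w (a2 D) := fun {w} hw => by
      rw [show a2 D = F.jel (0, 0, 1, 0) from (F.jel_q 0 1).symm]
      rcases hf with h | h <;> rw [h] at ed <;> rw [ed] at hw
      · exact hw
      · have := hw.inv_right
        rwa [← F.jel_neg, neg_a2_vec] at this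
    exact five d hd (ha (Commute.refl _)) (ha (hcom d))
  · obtain ⟨cc, h1, h2, h3'⟩ := q_two_moves k l j hq
    set d := F.τ * D.q ((0, 1), (0, cc)) * (h' * c) with hdd
    have ed : d * x * d⁻¹ = F.jel (tau4 (tW ((0, 1), (0, cc)) (k, 0, l, j))) := by
      have hτ : ∀ u : V4, F.τ * F.jel u * F.τ⁻¹ = F.jel (tau4 u) := fun u => F.τ_flip.act u
      rw [← hτ, tW,
        ← show D.q ((0, 1), (0, cc)) * F.jel (k, 0, l, j) * (D.q ((0, 1), (0, cc)))⁻¹ = _ from F.q_conj_jel _ _,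
        ← e, hdd]
      group
    revert h1 h2 h3' ed
    generalize tau4 (tW ((0, 1), (0, cc)) (k, 0, l, j)) = v
    obtain ⟨k', a, b, j'⟩ := v
    intro h1 h2 h3' ed
    simp only at h1 h2 h3'
    subst h1
    have em : ∀ (k a b : ZMod 3), F.jel (k, a, b, 0) = D.zz k * D.q (av a b) := fun k a b => by
      show D.zz k * D.q (av a b) * F.y ^ (0 : ZMod 3).val = _
      rw [ZMod.val_zero, pow_zero, mul_one]
    obtain ⟨d', hd' | hd'⟩ := hxa
    · refine F.a1_not_mixed hB h2 h3' (g := d * d') (k := k') ?_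
      rw [← em, ← ed, ← hd']; group
    · refine F.a1_not_mixed hB (neg_ne_zero.mpr h2) (neg_ne_zero.mpr h3') (g := d * d') (k := -k') ?_
      have e3 : F.jel (-k', -a, -b, 0) = (d * x * d⁻¹)⁻¹ := by rw [ed, ← F.jel_neg]; simp
      rw [← em, e3, show x = (d' * D.q (av 1 0) * d'⁻¹)⁻¹ by rw [hd', inv_inv]]
      group

end Setting.Base

end CfsgLib.U6Three
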