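import Mathlib.GroupTheory.Sylow
import Mathlib.Tactic

/-!
An element of order five on twenty-eight points with a regular subgroup off one point: the number of its fixed
points is a multiple of three.
-/

set_option autoImplicit false
set_option linter.style.haveILetI false

namespace CfsgLib.U6Three

universe u

variable {A : Type u} [Group A] [Finite A]

theorem five_mem_norm {g b : A} (h : b * g * b⁻¹ ∈ Subgroup.zpowers g) :
    b ∈ Subgroup.normalizer (Subgroup.zpowers g : Set A) := by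
  have hle : (Subgroup.zpowers g).map (MulAut.conj b).toMonoidHom ≤ Subgroup.zpowers g := by
    rw [MonoidHom.map_zpowers, Subgroup.zpowers_le]
    exact h
  have heq := Subgroup.eq_of_le_of_card_ge hle (by
    rw [Subgroup.card_map_of_injective (MulAut.conj b).injective])
  intro w
  refine ⟨fun hw => hle ⟨w, hw, rfl⟩, fun hw => ?_⟩
  have h2 : b * w * b⁻¹ ∈ (Subgroup.zpowers g).map (MulAut.conj b).toMonoidHom := by rw [heq]; exact hw
  obtain ⟨v, hv, e⟩ := h2
  obtain rfl : v = w := (MulAut.conj b).injective e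
  exact hv

/-- Two elements of order five of a group with Sylow five-subgroups of order five are conjugate up to powers. -/
theorem five_conj {Y : Subgroup A} {g a : A} (hg : g ∈ Y) (h5 : orderOf g = 5) (ha : a⁻¹ * g * a ∈ Y)
    (h25 : ¬ 25 ∣ Nat.card Y) : ∃ y ∈ Y, a * y ∈ Subgroup.normalizer (Subgroup.zpowers g : Set A) := by
  haveI : Fact (Nat.Prime 5) := ⟨by norm_num⟩
  have sy : ∀ w : Y, orderOf (w : A) = 5 → ∃ S : Sylow 5 Y, (S : Subgroup Y) = Subgroup.zpowers w := by
    intro w hw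
    have hc : Nat.card (Subgroup.zpowers w) = 5 ^ 1 := by
      rw [Nat.card_zpowers, ← Subgroup.orderOf_coe, hw, pow_one]
    obtain ⟨S, hS⟩ := (IsPGroup.of_card hc).exists_le_sylow
    refine ⟨S, (Subgroup.eq_of_le_of_card_ge hS ?_).symm⟩
    obtain ⟨k, hk⟩ := IsPGroup.iff_card.mp S.2
    rw [hc, hk]
    refine Nat.pow_le_pow_right (by norm_num) ?_
    by_contra hk1
    exact h25 ((pow_dvd_pow 5 (show 2 ≤ k by omega)).trans (hk ▸ Subgroup.card_subgroup_dvd_card _))
  have h5' : orderOf (a⁻¹ * g * a) = 5 := by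
    have : MulAut.conj a⁻¹ g = a⁻¹ * g * a := by simp
    rw [← this, (MulAut.conj a⁻¹).orderOf_eq, h5]
  obtain ⟨S, hS⟩ := sy ⟨g, hg⟩ h5
  obtain ⟨S', hS'⟩ := sy ⟨_, ha⟩ h5'
  obtain ⟨y, hy⟩ := MulAction.exists_smul_eq Y S S'
  refine ⟨y, y.2, five_mem_norm ?_⟩
  have hm : y * ⟨g, hg⟩ * y⁻¹ ∈ (S' : Subgroup Y) := by
    rw [← hy]
    exact ⟨⟨g, hg⟩, hS ▸ Subgroup.mem_zpowers _, rfl⟩
  rw [hS'] at hm
  obtain ⟨n, hn⟩ := Subgroup.mem_zpowers_iff.mp hm
  have hn' : (a⁻¹ * g * a) ^ n = (y : A) * g * (y : A)⁻¹ := by simpa using congrArg Subtype.val hn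
  refine Subgroup.mem_zpowers_iff.mpr ⟨n, ?_⟩
  have : (a⁻¹ * g * a) ^ n = a⁻¹ * g ^ n * a := by
    have := conj_zpow (a := a⁻¹) (b := g) (i := n)
    rwa [inv_inv] at this
  rw [this] at hn'
  calc g ^ n = a * (a⁻¹ * g ^ n * a) * a⁻¹ := by group
    _ = a * (y : A) * g * (a * (y : A))⁻¹ := by rw [hn']; group

theorem cube_five : ∀ i : Fin 5, (i : ℕ) ^ 3 % 5 = 1 → (i : ℕ) = 1 := by decide

/-- An element of order three in the normaliser of a group of order five centralises it. -/
theorem three_cent_five {g x : A} (h5 : orderOf g = 5) (h3 : x ^ 3 = 1)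
    (hx : x ∈ Subgroup.normalizer (Subgroup.zpowers g : Set A)) : Commute x g := by
  obtain ⟨n, hn⟩ := (Submonoid.mem_powers_iff _ _).mp
    (mem_powers_iff_mem_zpowers.mpr ((hx g).mp (Subgroup.mem_zpowers g)))
  have hg5 : g ^ 5 = 1 := h5 ▸ pow_orderOf_eq_one g
  have hi : g ^ (n % 5) = x * g * x⁻¹ := by rw [← hn, ← pow_eq_pow_mod _ hg5]
  set i := n % 5
  have hit : ∀ m : ℕ, x ^ m * g * (x ^ m)⁻¹ = g ^ (i ^ m) := by
    intro m
    induction m with
    | zero => simp
    | succ m ih =>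
      rw [pow_succ, show x ^ m * x * g * (x ^ m * x)⁻¹ = x ^ m * (x * g * x⁻¹) * (x ^ m)⁻¹ by group, ← hi, ← conj_pow,
        ih, ← pow_mul, pow_succ]
  have h1 := hit 3
  rw [h3, one_mul, inv_one, mul_one] at h1
  have h2 : i ^ 3 % 5 = 1 := by
    have := (pow_eq_pow_iff_modEq.mp (h1.symm.trans (pow_one g).symm))
    rw [h5] at this
    exact this
  have h4 := cube_five ⟨i, Nat.mod_lt _ (by norm_num)⟩ h2
  simp only at h4
  rw [h4, pow_one] at hi
  exact (mul_inv_eq_iff_eq_mul.mp hi.symm)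

/-- The fixed points of an element of order five. -/
theorem five_count (X P : Subgroup A) {g : A} (hg : g ∈ X) (h5 : orderOf g = 5) (h25 : ¬ 25 ∣ Nat.card X)
    (hp : ∀ p ∈ [7, 13, 23], ¬ p ∣ Nat.card X) (hidx : X.index = 28) (hPX : P ≤ X) (hP : Nat.card P = 27)
    (hfree : ∀ a, ∀ e ∈ P, e ≠ 1 → a⁻¹ * e * a ∈ X → a ∈ X) (hmove : ∃ a, a⁻¹ * g * a ∉ X) :
    3 ∣ Nat.card (MulAction.fixedPoints (Subgroup.zpowers g) (A ⧸ X)) ∧ ∃ x : A, x ^ 3 = 1 ∧ x ≠ 1 ∧ Commute x g := by
  classical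
  haveI : Fact (Nat.Prime 5) := ⟨by norm_num⟩
  haveI : Fact (Nat.Prime 3) := ⟨Nat.prime_three⟩
  set Fx := MulAction.fixedPoints (Subgroup.zpowers g) (A ⧸ X) with hFx
  set N := Subgroup.normalizer (Subgroup.zpowers g : Set A) with hN
  have hfix : ∀ a : A, (a : A ⧸ X) ∈ Fx ↔ a⁻¹ * g * a ∈ X := by
    intro a
    constructor
    · intro h
      have h1 : ((g * a : A) : A ⧸ X) = (a : A ⧸ X) := h ⟨g, Subgroup.mem_zpowers g⟩
      have := QuotientGroup.eq.mp h1.symm
      rwa [← mul_assoc] at this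
    · rintro h ⟨w, hw⟩
      obtain ⟨n, rfl⟩ := Subgroup.mem_zpowers_iff.mp hw
      show ((g ^ n * a : A) : A ⧸ X) = (a : A ⧸ X)
      refine (QuotientGroup.eq.mpr ?_).symm
      rw [show a⁻¹ * (g ^ n * a) = (a⁻¹ * g * a⁻¹⁻¹) ^ n by rw [conj_zpow]; group]
      exact X.zpow_mem (by rwa [inv_inv]) n
  have hX28 : Nat.card (A ⧸ X) = 28 := hidx
  have hcard : Nat.card A = 28 * Nat.card X := by rw [← X.index_mul_card, hidx]
  -- congruence
  have hmod : 28 ≡ Nat.card Fx [MOD 5] := by
    have := (IsPGroup.of_card (p := 5) (n := 1) (G := Subgroup.zpowers g)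
      (by rw [Nat.card_zpowers, h5, pow_one])).card_modEq_card_fixedPoints (A ⧸ X)
    rwa [hX28] at this
  have hlt : Nat.card Fx < 28 := by
    rw [← hX28, Nat.card_coe_set_eq]
    refine Set.ncard_lt_card ?_
    intro h
    obtain ⟨a, ha⟩ := hmove
    exact ha ((hfix a).mp (h ▸ Set.mem_univ _))
  -- the normaliser is transitive on the fixed points
  have horb : MulAction.orbit N ((1 : A) : A ⧸ X) = Fx := by
    ext q
    obtain ⟨a, rfl⟩ := QuotientGroup.mk_surjective q
    constructor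
    · rintro ⟨⟨n, hn⟩, e⟩
      show (a : A ⧸ X) ∈ Fx
      rw [← e]
      show ((n * 1 : A) : A ⧸ X) ∈ Fx
      rw [mul_one, hfix]
      have hi : n⁻¹ ∈ N := inv_mem hn
      have := (hi g).mp (Subgroup.mem_zpowers g)
      rw [inv_inv] at this
      exact (Subgroup.zpowers_le.mpr hg) this
    · intro h
      obtain ⟨y, hy, hay⟩ := five_conj hg h5 ((hfix a).mp h) h25
      refine ⟨⟨a * y, hay⟩, ?_⟩
      show ((a * y * 1 : A) : A ⧸ X) = (a : A ⧸ X)
      refine (QuotientGroup.eq.mpr ?_).symm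
      rw [mul_one, inv_mul_cancel_left]
      exact hy
  have hd1 : Nat.card Fx ∣ Nat.card A := by
    rw [← horb, Nat.card_congr (MulAction.orbitEquivQuotientStabilizer N ((1 : A) : A ⧸ X))]
    exact (Subgroup.index_dvd_card _).trans (Subgroup.card_subgroup_dvd_card N)
  -- the second orbit
  have hd2 : Nat.card Fx = 1 ∨ Nat.card Fx - 1 ∣ Nat.card X := by
    by_cases h1 : ∃ a : A, (a : A ⧸ X) ∈ Fx ∧ a ∉ X
    · right
      obtain ⟨a1, ha1, ha1X⟩ := h1
      have hsur : ∀ a : A, a ∉ X → ∃ e ∈ P, ((e * a1 : A) : A ⧸ X) = (a : A ⧸ X) := by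
        let f : P → {q : A ⧸ X // q ≠ ((1 : A) : A ⧸ X)} := fun e => ⟨(((e : A) * a1 : A) : A ⧸ X), fun h => ha1X (by
          have := QuotientGroup.eq.mp h.symm
          rw [inv_one, one_mul] at this
          have := X.mul_mem (X.inv_mem (hPX e.2)) this
          rwa [inv_mul_cancel_left] at this)⟩
        have hf : Function.Injective f := fun e e' h => by
          by_contra hne
          have h2 := QuotientGroup.eq.mp (congrArg Subtype.val h)
          refine ha1X (hfree a1 ((e : A)⁻¹ * e') (P.mul_mem (P.inv_mem e.2) e'.2)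
            (fun hd => hne (Subtype.ext (inv_mul_eq_one.mp hd))) ?_)
          rwa [show a1⁻¹ * ((e : A)⁻¹ * e') * a1 = ((e : A) * a1)⁻¹ * ((e' : A) * a1) by group]
        have hb : Function.Bijective f := (Nat.bijective_iff_injective_and_card f).mpr ⟨hf, by
          have := Nat.card_congr (Equiv.optionSubtypeNe ((1 : A) : A ⧸ X))
          rw [Finite.card_option, hX28] at this
          omega⟩
        intro a ha
        obtain ⟨e, he⟩ := hb.2 ⟨(a : A ⧸ X), fun h => ha (by
          have := QuotientGroup.eq.mp h.symm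
          rwa [inv_one, one_mul] at this)⟩
        exact ⟨e, e.2, congrArg Subtype.val he⟩
      have horb2 : MulAction.orbit (N ⊓ X : Subgroup A) (a1 : A ⧸ X) = Fx \ {((1 : A) : A ⧸ X)} := by
        ext q
        obtain ⟨a, rfl⟩ := QuotientGroup.mk_surjective q
        constructor
        · rintro ⟨⟨n, hn, hnX⟩, e⟩
          refine ⟨?_, fun h1 => ha1X ?_⟩
          · show (a : A ⧸ X) ∈ Fx
            rw [← horb] at ha1 ⊢
            rw [← e]
            obtain ⟨m, hm⟩ := ha1
            exact ⟨⟨n, hn⟩ * m, by simp only at hm ⊢; rw [mul_smul, hm]; rfl⟩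
          · have e' : ((n * a1 : A) : A ⧸ X) = ((1 : A) : A ⧸ X) := e.trans h1
            have := QuotientGroup.eq.mp e'.symm
            rw [inv_one, one_mul] at this
            have := X.mul_mem (X.inv_mem hnX) this
            rwa [inv_mul_cancel_left] at this
        · rintro ⟨h, hne⟩
          have haX : a ∉ X := fun ha => hne (QuotientGroup.eq.mpr (by simpa using X.inv_mem ha))
          obtain ⟨e, he, hea⟩ := hsur a haX
          have heX := hPX he
          -- the stabiliser of both points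
          set Y := X ⊓ X.map (MulAut.conj a1).toMonoidHom with hY
          have hmem : ∀ w : A, w ∈ X.map (MulAut.conj a1).toMonoidHom ↔ a1⁻¹ * w * a1 ∈ X := fun w =>
            ⟨by rintro ⟨v, hv, rfl⟩; simpa [mul_assoc] using hv, fun hw => ⟨_, hw, by simp [mul_assoc]⟩⟩
          have hgY : g ∈ Y := ⟨hg, (hmem g).mpr ((hfix a1).mp ha1)⟩
          have heY : e⁻¹ * g * e ∈ Y := by
            refine ⟨X.mul_mem (X.mul_mem (X.inv_mem heX) hg) heX, (hmem _).mpr ?_⟩
            rw [show a1⁻¹ * (e⁻¹ * g * e) * a1 = (e * a1)⁻¹ * g * (e * a1) by group]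
            refine (hfix _).mp ?_
            rw [hea]; exact h
          obtain ⟨y, hy, hey⟩ := five_conj hgY h5 heY
            (fun hd => h25 (hd.trans (Subgroup.card_dvd_of_le inf_le_left)))
          refine ⟨⟨e * y, hey, X.mul_mem heX hy.1⟩, ?_⟩
          show ((e * y * a1 : A) : A ⧸ X) = (a : A ⧸ X)
          rw [← hea]
          refine QuotientGroup.eq.mpr ?_
          rw [show (e * y * a1)⁻¹ * (e * a1) = (a1⁻¹ * y * a1)⁻¹ by group]
          exact X.inv_mem ((hmem y).mp hy.2)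
      have h1m : ((1 : A) : A ⧸ X) ∈ Fx := (hfix 1).mpr (by simpa using hg)
      have := Subgroup.index_dvd_card (MulAction.stabilizer (N ⊓ X : Subgroup A) (a1 : A ⧸ X))
      rw [MulAction.index_stabilizer, horb2, Set.ncard_sdiff_singleton_of_mem h1m] at this
      rw [Nat.card_coe_set_eq]
      exact this.trans (Subgroup.card_dvd_of_le inf_le_right)
    · left
      rw [Nat.card_coe_set_eq, Set.ncard_eq_one]
      refine ⟨((1 : A) : A ⧸ X), Set.eq_singleton_iff_unique_mem.mpr ⟨(hfix 1).mpr (by simpa using hg), ?_⟩⟩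
      intro q hq
      obtain ⟨a, rfl⟩ := QuotientGroup.mk_surjective q
      exact QuotientGroup.eq.mpr (by simpa using X.inv_mem (not_not.mp fun ha => h1 ⟨a, hq, ha⟩))
  have h3F : 3 ∣ Nat.card Fx := by
    have h13 := hp 13 (by simp)
    have h23 := hp 23 (by simp)
    have h7 := hp 7 (by simp)
    have key : Nat.card Fx = 3 ∨ Nat.card Fx = 8 ∨ Nat.card Fx = 13 ∨ Nat.card Fx = 18 ∨ Nat.card Fx = 23 := by
      unfold Nat.ModEq at hmod; omega
    rcases key with h | h | h | h | h <;> rw [h] at hd1 hd2 ⊢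
    · rcases hd2 with h2 | h2
      · omega
      · exact (h7 h2).elim
    · rw [hcard] at hd1
      exact (h13 (((show Nat.Prime 13 by norm_num).dvd_mul.mp hd1).resolve_left (by norm_num))).elim
    · exact ⟨6, rfl⟩
    · rw [hcard] at hd1
      exact (h23 (((show Nat.Prime 23 by norm_num).dvd_mul.mp hd1).resolve_left (by norm_num))).elim
  refine ⟨h3F, ?_⟩
  have h3N : 3 ∣ Nat.card N := by
    refine h3F.trans ?_
    rw [← horb, Nat.card_congr (MulAction.orbitEquivQuotientStabilizer N ((1 : A) : A ⧸ X))]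
    exact Subgroup.index_dvd_card _
  obtain ⟨x, hx⟩ := exists_prime_orderOf_dvd_card' 3 h3N
  have hx3 : (x : A) ^ 3 = 1 := by
    have := pow_orderOf_eq_one x
    rw [hx] at this
    exact congrArg Subtype.val this
  refine ⟨x, hx3, fun h1 => ?_, three_cent_five h5 hx3 x.2⟩
  rw [show x = 1 from Subtype.ext h1, orderOf_one] at hx
  omega

end CfsgLib.U6Three
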