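import Cfsg.Agent.Lib.U6Three.Small

/-!
The block involution and an element exchanging the central element and the point, commuting with both involutions.
-/

set_option autoImplicit false

namespace CfsgLib.U6Three

universe u

theorem neg_one_four : ((-1 : SL23) * -1 * (-1 * -1) = 1) ∧ ((1 : SL23) * 1 * (1 * 1) = 1) := by decide +kernel

theorem neg_blocks : ∀ v : W4, appP ((-1, 1) : Pr) v = (-v.1, v.2) := by
  intro v
  exact Prod.ext (app2_pm v.1).1 (app2_one v.2)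

namespace Setting

variable {G : Type u} [Group G] (D : Setting G)

/-- The block involution. -/
structure IsBlock (i : G) : Prop where
  acts : D.Acts i (-1, 1)
  sq : i * i = 1

theorem exists_block : ∃ i, D.IsBlock i := by
  obtain ⟨s, hs⟩ := D.acts_lift ((-1, 1) : Pr) neg_one_four.1 neg_one_four.2
  have h2 := hs.mul hs
  rw [show ((-1, 1) : Pr) * (-1, 1) = 1 from Prod.ext (by simp) (by simp)] at h2
  obtain ⟨m, hm⟩ := h2.trivial
  refine ⟨s * D.zz m, ?_, ?_⟩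
  · have := hs.mul (acts_zz (D := D) m)
    rwa [mul_one] at this
  · rw [show s * D.zz m * (s * D.zz m) = s * (D.zz m * s) * D.zz m by group, ← (D.zz_comm hs.1.cz m).eq,
      show s * (s * D.zz m) * D.zz m = s * s * (D.zz m * D.zz m) by group, hm, ← D.zz_add, ← D.zz_add,
      (by decide : ∀ m : ZMod 3, m + (m + m) = 0) m, D.zz_zero]

/-- The chosen block involution. -/
noncomputable def i1 : G := D.exists_block.choose

theorem i1_block : D.IsBlock D.i1 := D.exists_block.choose_spec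

variable {D}

theorem IsBlock.unique {i i' : G} (h : D.IsBlock i) (h' : D.IsBlock i') : i = i' := by
  have h2 := h.acts.mul h'.acts.inv
  rw [mul_inv_cancel] at h2
  obtain ⟨m, hm⟩ := h2.trivial
  have e : i = D.zz m * i' := mul_inv_eq_iff_eq_mul.mp hm
  have h3 : D.zz (m + m) = 1 := by
    have h1 := h.sq
    rw [e, show D.zz m * i' * (D.zz m * i') = D.zz m * (i' * D.zz m) * i' by group, (D.zz_comm h'.acts.1.cz m).eq,
      show D.zz m * (D.zz m * i') * i' = D.zz m * D.zz m * (i' * i') by group, h'.sq, mul_one, ← D.zz_add] at h1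
    exact h1
  have : m = 0 := (by decide : ∀ m : ZMod 3, m + m = 0 → m = 0) m (D.zz_inj (h3.trans D.zz_zero.symm))
  rw [e, this, D.zz_zero, one_mul]

theorem IsBlock.inv {i : G} (h : D.IsBlock i) : i⁻¹ = i := inv_eq_of_mul_eq_one_right h.sq

theorem IsBlock.fix {i : G} (h : D.IsBlock i) {v : W4} (hv : v.1 = 0) : Commute i (D.q v) :=
  h.acts.comm_q (by rw [neg_blocks, hv]; exact Prod.ext (by rw [hv]; exact neg_zero) rfl)

theorem IsBlock.neg {i : G} (h : D.IsBlock i) {v : W4} (hv : v.2 = 0) : i * D.q v * i⁻¹ = D.q (-v) := by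
  rw [h.acts.2, neg_blocks, hv]
  exact congrArg D.q (Prod.ext rfl (by show (0 : V2) = -v.2; rw [hv, neg_zero]))

/-- The action of a levi element on vectors. -/
theorem levi_map {s : G} (hs : D.IsLevi s) : ∃ f : W4 → W4, (∀ v, s * D.q v * s⁻¹ = D.q (f v)) ∧
    (∀ v w, f (v + w) = f v + f w) ∧ ∀ v w, om (f v) (f w) = om v w := by
  obtain ⟨p, hp | hp⟩ := D.levi_cases hs
  · exact ⟨appP p, hp.2, appP_add p, appP_om p⟩
  · exact ⟨fun v => appP p (swapW v), hp.2, fun v w => by show appP p (swapW (v + w)) = _; rw [swapW_add, appP_add],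
      fun v w => by show om (appP p (swapW v)) (appP p (swapW w)) = _; rw [appP_om, swapW_om]⟩

namespace Base

variable (F : D.Base)

theorem block_y : Commute D.i1 F.y := by
  have h := F.acts.conj D.i1_block.acts
  rw [show ((-1, 1) : Pr) * (mU, mU) * ((-1, 1) : Pr)⁻¹ = (mU, mU) from
    Prod.ext (pm_central mU).1 (pm_central mU).2.1] at h
  have h2 := F.acts.inv.mul h
  rw [inv_mul_cancel] at h2
  obtain ⟨m, hm⟩ := h2.trivial
  have e : D.i1 * F.y * D.i1⁻¹ = F.y * D.zz m := by rw [← hm]; group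
  rw [F.tr.shift m (e ▸ F.pt.conj _), D.zz_zero, mul_one, mul_inv_eq_iff_eq_mul] at e
  exact e

theorem conj_jel_i1 (v : V4) : D.i1 * F.jel v * D.i1⁻¹ = F.jel (v.1, -v.2.1, v.2.2.1, v.2.2.2) := by
  obtain ⟨k, i, l, j⟩ := v
  show D.i1 * (D.zz k * D.q (av i l) * F.y ^ j.val) * D.i1⁻¹ = D.zz k * D.q (av (-i) l) * F.y ^ j.val
  rw [show D.i1 * (D.zz k * D.q (av i l) * F.y ^ j.val) * D.i1⁻¹ =
    (D.i1 * D.zz k * D.i1⁻¹) * (D.i1 * D.q (av i l) * D.i1⁻¹) * (D.i1 * F.y ^ j.val * D.i1⁻¹) by group,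
    D.conj_zz D.i1_block.acts.1.cz, D.i1_block.acts.2, (F.block_y.pow_right _).eq, mul_inv_cancel_right, neg_blocks]
  congr 3
  simp [av]

/-- Acting trivially on the centraliser of the coordinates modulo the coordinates. -/
def Triv (h : G) : Prop := ∀ x ∈ F.U, h * x * h⁻¹ * x⁻¹ ∈ F.J

theorem Triv.mem {h : G} (H : F.Triv h) {x : G} (hx : x ∈ F.U) : h * x * h⁻¹ ∈ F.U := by
  have := mul_mem (F.J_le_U (H x hx)) hx
  rwa [show h * x * h⁻¹ * x⁻¹ * x = h * x * h⁻¹ by group] at this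

theorem Triv.mul {a b : G} (ha : F.Triv a) (hb : F.Triv b) : F.Triv (a * b) := fun x hx => by
  rw [show a * b * x * (a * b)⁻¹ * x⁻¹ =
    (a * (b * x * b⁻¹) * a⁻¹ * (b * x * b⁻¹)⁻¹) * (b * x * b⁻¹ * x⁻¹) by group]
  exact mul_mem (ha _ (hb.mem _ hx)) (hb x hx)

theorem Triv.inv [Finite G] {a : G} (ha : F.Triv a) : F.Triv a⁻¹ := fun x hx => by
  let f : F.U → F.U := fun u => ⟨a * u * a⁻¹, ha.mem _ u.2⟩
  obtain ⟨u, hu⟩ := ((Finite.injective_iff_surjective (f := f)).1 fun u v e => Subtype.ext (by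
    have := congrArg Subtype.val e
    simpa [f] using this)) ⟨x, hx⟩
  have e : a * (u : G) * a⁻¹ = x := congrArg Subtype.val hu
  rw [← e]
  have := inv_mem (ha u u.2)
  convert this using 1
  group

theorem triv_q (w : W4) : F.Triv (D.q w) := fun x hx => by
  obtain ⟨c, s, p, hc, hs, hn, rfl⟩ := F.mem_U_iff.mp hx
  have e := D.q_conj_el (k := 0) (u := c) hs w
  rw [D.zz_zero, one_mul, zero_add] at e
  rw [e, mul_inv_rev, show D.zz (cK p c w) * (D.q (cV p c w) * s) * (s⁻¹ * (D.q c)⁻¹) =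
    D.zz (cK p c w) * (D.q (cV p c w) * (D.q c)⁻¹) by group, q_inv, q_mul', ← mul_assoc, ← D.zz_add]
  have hin : InA (cV p c w + -c) := by
    have key : ∀ A : SL23, A = 1 ∨ A = mU ∨ A = mU * mU → ∀ v : V2, (v - app2 A v).2 = 0 := by decide +kernel
    rw [show cV p c w + -c = w - appP p w by rw [cV]; abel]
    exact ⟨key _ hn.1 w.1, key _ hn.2 w.2⟩
  obtain ⟨i, l, e2⟩ := inA_av _ hin
  rw [e2, ← F.jel_zpow, ← F.jel_q]
  exact mul_mem (F.jel_mem _) (F.jel_mem _)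

theorem triv_levi {r : G} {p : Pr} (hr : D.Acts r p) (hp : ∀ A : SL23, p.1 * A * p.1⁻¹ = A ∧ p.2 * A * p.2⁻¹ = A) :
    F.Triv r := fun x hx => by
  obtain ⟨c, s, p', hc, hs, hn, rfl⟩ := F.mem_U_iff.mp hx
  have h1 := (hs.conj hr).mul hs.inv
  rw [show p * p' * p⁻¹ = p' from Prod.ext (hp p'.1).1 (hp p'.2).2, mul_inv_cancel] at h1
  obtain ⟨m, hm⟩ := h1.trivial
  have hpc : InA (appP p c + -c) := by
    have key : ∀ A : SL23, (∀ B : SL23, A * B * A⁻¹ = B) → ∀ a : ZMod 3, (app2 A (a, 0)).2 = 0 := by decide +kernel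
    obtain ⟨i, l, rfl⟩ := inA_av c hc
    rw [av_neg]
    exact InA_add _ _ ⟨key _ (fun B => (hp B).1) i, key _ (fun B => (hp B).2) l⟩ (av_inA _ _)
  rw [show r * (D.q c * s) * r⁻¹ * (D.q c * s)⁻¹ =
    (r * D.q c * r⁻¹) * (r * s * r⁻¹ * s⁻¹) * (D.q c)⁻¹ by group, hr.2, hm, ← (D.zz_q m _).eq, mul_assoc, q_inv,
    q_mul', ← mul_assoc, ← D.zz_add]
  obtain ⟨i, l, e2⟩ := inA_av _ hpc
  rw [e2, ← F.jel_zpow, ← F.jel_q]
  exact mul_mem (F.jel_mem _) (F.jel_mem _)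

/-- An element exchanging the central element and the point. -/
structure IsFlip (τ : G) : Prop where
  act : ∀ v : V4, τ * F.jel v * τ⁻¹ = F.jel (-v.2.2.2, v.2.1, v.2.2.1, -v.1)
  ct : Commute τ D.t
  ci : Commute τ D.i1
  triv : F.Triv τ

theorem exists_flip [Finite G] : ∃ τ, F.IsFlip τ := by
  classical
  obtain ⟨hε, hδ⟩ := And.intro F.tr.ε_ne F.tr.δ_ne
  have hgz : F.g⁻¹ * D.z * F.g = F.y ^ F.δ.val := by
    have h1 : F.g * F.y ^ F.δ.val * F.g⁻¹ = D.z := by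
      rw [conj_pow', F.tr.hy, ← pow_mul, pow_eq_pow_mod _ D.z_cube, ← ZMod.val_mul,
        (by decide : ∀ d : ZMod 3, d ≠ 0 → d * d = 1) _ hδ, show (1 : ZMod 3).val = 1 from rfl, pow_one]
    rw [← h1]; group
  have hgy : F.g * D.z ^ F.ε.val * F.g⁻¹ = F.y := by
    rw [conj_pow', F.tr.hz, ← pow_mul, pow_eq_pow_mod _ F.y_cube, ← ZMod.val_mul,
      (by decide : ∀ d : ZMod 3, d ≠ 0 → d * d = 1) _ hε, show (1 : ZMod 3).val = 1 from rfl, pow_one]
  -- the first translation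
  set T := D.q ((0, 0), (0, 1)) with hT
  have Tact : ∀ k i l j : ZMod 3, T * F.jel (k, i, l, j) * T⁻¹ = F.jel (k - l - j, i, l - j, j) := by
    intro k i l j
    rw [hT, F.q_conj_jel]
    congr 1
    simp only [av, om, det2]
    ext <;> simp only [] <;> ring
  -- the involution seen from the transporter
  set σ := F.g⁻¹ * D.i1 * F.g with hσ
  have hσl : D.IsLevi σ := by
    refine ⟨?_, ?_⟩
    · have := conj_comm' F.g (F.block_y.pow_right F.ε.val)
      rwa [← F.tr.hz, show F.g⁻¹ * (F.g * D.z * F.g⁻¹) * F.g = D.z by group] at this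
    · have := conj_comm' F.g D.i1_block.acts.1.ct
      rwa [show F.g⁻¹ * D.t * F.g = D.t by rw [mul_assoc, ← F.tr.ct.eq]; group] at this
  obtain ⟨e, he, eadd, eom⟩ := levi_map hσl
  have hσy : Commute σ (F.y ^ F.δ.val) := hgz ▸ conj_comm' F.g D.i1_block.acts.1.cz
  -- the preimage of the translated point
  obtain ⟨b, hb, hbq⟩ := F.tr.hA (av 0 (-1)) (av_inA _ _)
  obtain ⟨bi, bl, rfl⟩ := inA_av b hb
  have epre : F.g⁻¹ * F.jel (-1, 0, -1, 1) * F.g = F.jel (F.ε, bi, bl, -F.δ) := by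
    have h1 : F.jel (-1, 0, -1, 1) = F.jel (-1, 0, 0, 0) * F.jel (0, 0, -1, 0) * F.jel (0, 0, 0, 1) := by
      rw [← F.jel_add, ← F.jel_add]; rfl
    have h2 : F.g⁻¹ * F.jel (-1, 0, 0, 0) * F.g = F.jel (0, 0, 0, -F.δ) := by
      rw [F.jel_ypow, F.y_pow_neg, ← hgz, F.jel_zpow, D.zz_neg, D.zz_one]; group
    have h3 : F.g⁻¹ * F.jel (0, 0, 0, 1) * F.g = F.jel (F.ε, 0, 0, 0) := by
      rw [F.jel_y, F.jel_zpow, zz]
      conv_lhs => rw [← hgy]
      group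
    rw [h1, show F.g⁻¹ * (F.jel (-1, 0, 0, 0) * F.jel (0, 0, -1, 0) * F.jel (0, 0, 0, 1)) * F.g =
      (F.g⁻¹ * F.jel (-1, 0, 0, 0) * F.g) * (F.g⁻¹ * F.jel (0, 0, -1, 0) * F.g) *
        (F.g⁻¹ * F.jel (0, 0, 0, 1) * F.g) by group, h2, h3, F.jel_q, hbq, ← F.jel_q, ← F.jel_add, ← F.jel_add]
    congr 1
    simp
  have hpt : D.IsPt (F.jel (F.ε, bi, bl, -F.δ)) := by
    rw [← epre]
    have := ((F.isPt_jel (-1, 0, -1, 1)).mpr ⟨by decide, by decide⟩).conj F.g⁻¹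
    rwa [inv_inv] at this
  obtain ⟨hq, -⟩ := (F.isPt_jel _).mp hpt
  obtain ⟨w, hw⟩ := translate_y _ hq (neg_ne_zero.mpr hδ)
  have trY : ∀ w : W4, D.q w * F.jel (0, 0, 0, -F.δ) * (D.q w)⁻¹ =
      F.jel (-(-F.δ * (w.1.2 * w.1.2 + w.2.2 * w.2.2)), -(-F.δ * w.1.2), -(-F.δ * w.2.2), -F.δ) := by
    intro w
    rw [F.q_conj_jel]
    congr 1
    simp [show av 0 0 = (0 : W4) from rfl, show om w (0 : W4) = 0 by simp [om, det2]]
  have hw' : D.q w * F.jel (0, 0, 0, -F.δ) * (D.q w)⁻¹ = F.jel (F.ε, bi, bl, -F.δ) := by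
    rw [trY]; exact congrArg F.jel hw
  have hew : (e w).1.2 = w.1.2 ∧ (e w).2.2 = w.2.2 := by
    have hfix : σ * F.jel (F.ε, bi, bl, -F.δ) * σ⁻¹ = F.jel (F.ε, bi, bl, -F.δ) := by
      rw [← epre, hσ, show F.g⁻¹ * D.i1 * F.g * (F.g⁻¹ * F.jel (-1, 0, -1, 1) * F.g) * (F.g⁻¹ * D.i1 * F.g)⁻¹ =
        F.g⁻¹ * (D.i1 * F.jel (-1, 0, -1, 1) * D.i1⁻¹) * F.g by group, F.conj_jel_i1, neg_zero]
    have h1 : D.q (e w) * F.jel (0, 0, 0, -F.δ) * (D.q (e w))⁻¹ = F.jel (F.ε, bi, bl, -F.δ) := by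
      have hy : σ * F.jel (0, 0, 0, -F.δ) * σ⁻¹ = F.jel (0, 0, 0, -F.δ) := by
        rw [F.jel_ypow, F.y_pow_neg, hσy.inv_right.eq, mul_inv_cancel_right]
      rw [← he]
      calc σ * D.q w * σ⁻¹ * F.jel (0, 0, 0, -F.δ) * (σ * D.q w * σ⁻¹)⁻¹
          = σ * (D.q w * (σ⁻¹ * F.jel (0, 0, 0, -F.δ) * σ) * (D.q w)⁻¹) * σ⁻¹ := by group
        _ = σ * F.jel (F.ε, bi, bl, -F.δ) * σ⁻¹ := by
          rw [show σ⁻¹ * F.jel (0, 0, 0, -F.δ) * σ = F.jel (0, 0, 0, -F.δ) by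
            conv_lhs => rw [← hy]
            group, hw']
        _ = _ := hfix
    have h2 := F.jel_inj ((trY (e w)).symm.trans (h1.trans (hw'.symm.trans (trY w))))
    simp only [Prod.mk.injEq, neg_inj] at h2
    exact ⟨mul_left_cancel₀ (neg_ne_zero.mpr hδ) h2.2.1, mul_left_cancel₀ (neg_ne_zero.mpr hδ) h2.2.2.1⟩
  set w' := -(w + e w) with hw'def
  have e0 : e 0 = 0 := by
    have := eadd 0 0
    rw [add_zero] at this
    exact add_eq_left.mp this.symm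
  have eneg : ∀ v, e (-v) = -e v := fun v => eq_neg_of_add_eq_zero_left (by rw [← eadd, neg_add_cancel, e0])
  have einv : ∀ v, e (e v) = v := fun v => D.q_injective (by
    rw [← he, ← he]
    have : σ * σ = 1 := by rw [hσ, show F.g⁻¹ * D.i1 * F.g * (F.g⁻¹ * D.i1 * F.g) = F.g⁻¹ * (D.i1 * D.i1) * F.g by group, D.i1_block.sq]; group
    calc σ * (σ * D.q v * σ⁻¹) * σ⁻¹ = σ * σ * D.q v * (σ * σ)⁻¹ := by group
      _ = D.q v := by rw [this]; group)
  have hfixw : e w' = w' := by rw [hw'def, eneg, eadd, einv, add_comm]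
  have hcoord : w'.1.2 = w.1.2 ∧ w'.2.2 = w.2.2 := by
    have h : ∀ x : ZMod 3, -(x + x) = x := by decide
    exact ⟨by simp only [hw'def, Prod.fst_neg, Prod.snd_neg, Prod.fst_add, Prod.snd_add, hew.1, h],
      by simp only [hw'def, Prod.snd_neg, Prod.snd_add, hew.2, h]⟩
  -- the second translation
  set T' := F.g * D.q w' * F.g⁻¹ with hT'
  have T'i : Commute T' D.i1 := by
    have h1 : Commute (D.q w') σ := (mul_inv_eq_iff_eq_mul.mp ((he w').trans (congrArg D.q hfixw))).symm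
    have := conj_comm F.g h1
    rwa [show F.g * σ * F.g⁻¹ = D.i1 by rw [hσ]; group] at this
  have T'z : T' * F.jel (-1, 0, 0, 0) * T'⁻¹ = F.jel (-1, 0, -1, 1) := by
    have h1 : F.jel (-1, 0, 0, 0) = F.g * F.jel (0, 0, 0, -F.δ) * F.g⁻¹ := by
      rw [F.jel_ypow, F.y_pow_neg, ← hgz, F.jel_zpow, D.zz_neg, D.zz_one]; group
    rw [h1, hT', show F.g * D.q w' * F.g⁻¹ * (F.g * F.jel (0, 0, 0, -F.δ) * F.g⁻¹) * (F.g * D.q w' * F.g⁻¹)⁻¹ =
      F.g * (D.q w' * F.jel (0, 0, 0, -F.δ) * (D.q w')⁻¹) * F.g⁻¹ by group, trY, hcoord.1, hcoord.2,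
      congrArg F.jel hw, ← epre]
    group
  have T'y : T' * F.jel (0, 0, 0, 1) * T'⁻¹ = F.jel (0, 0, 0, 1) := by
    rw [F.jel_y]
    conv_lhs => rw [← hgy]
    rw [hT', show F.g * D.q w' * F.g⁻¹ * (F.g * D.z ^ F.ε.val * F.g⁻¹) * (F.g * D.q w' * F.g⁻¹)⁻¹ =
      F.g * (D.q w' * D.z ^ F.ε.val * (D.q w')⁻¹) * F.g⁻¹ by group, ((D.q_z w').pow_right _).eq,
      mul_inv_cancel_right, hgy]
  have T'a : ∀ i l : ZMod 3, ∃ m : ZMod 3, T' * F.jel (0, i, l, 0) * T'⁻¹ = F.jel (0, i, l, m) ∧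
      (l = 0 → m = 0) := by
    intro i l
    obtain ⟨c, -, hcq⟩ := F.tr.hA (av i l) (av_inA _ _)
    have h1 : F.g * D.q c * F.g⁻¹ = D.q (av i l) := by rw [← hcq]; group
    refine ⟨F.ε * om w' c, ?_, fun hl => ?_⟩
    · have h0 : F.g * D.zz (om w' c) * F.g⁻¹ = F.y ^ (F.ε * om w' c).val := by
        rw [zz, conj_pow', F.tr.hz, ← pow_mul, pow_eq_pow_mod _ F.y_cube, ← ZMod.val_mul]
      rw [F.jel_q, ← h1, hT', show F.g * D.q w' * F.g⁻¹ * (F.g * D.q c * F.g⁻¹) * (F.g * D.q w' * F.g⁻¹)⁻¹ =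
        F.g * (D.q w' * D.q c * (D.q w')⁻¹) * F.g⁻¹ by group, D.q_conj,
        show F.g * (D.zz (om w' c) * D.q c) * F.g⁻¹ = (F.g * D.zz (om w' c) * F.g⁻¹) * (F.g * D.q c * F.g⁻¹) by group,
        h0, h1, ← F.jel_q, ← F.jel_ypow, ← F.jel_add]
      congr 1
      simp
    · subst hl
      have hc : e c = -c := D.q_injective (by
        rw [← he, ← hcq, hσ, show F.g⁻¹ * D.i1 * F.g * (F.g⁻¹ * D.q (av i 0) * F.g) * (F.g⁻¹ * D.i1 * F.g)⁻¹ =
          F.g⁻¹ * (D.i1 * D.q (av i 0) * D.i1⁻¹) * F.g by group, D.i1_block.neg rfl, ← D.q_inv, ← D.q_inv, ← hcq]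
        group)
      have h2 := eom w' c
      rw [hfixw, hc, om_neg_right] at h2
      rw [(by decide : ∀ x : ZMod 3, -x = x → x = 0) _ h2, mul_zero]
  have sm : ∀ (c : ZMod 3) (v v' : V4), T' * F.jel v * T'⁻¹ = F.jel v' → T' * F.jel (c • v) * T'⁻¹ = F.jel (c • v') := by
    intro c v v' h
    rcases (by decide : ∀ c : ZMod 3, c = 0 ∨ c = 1 ∨ c = -1) c with rfl | rfl | rfl
    · simp [F.jel_zero]
    · rwa [one_smul, one_smul]
    · rw [neg_smul, one_smul, neg_smul, one_smul, F.jel_neg, F.jel_neg, ← h]; group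
  obtain ⟨μ, hμ, -⟩ := T'a 0 1
  have lin : ∀ k i l j : ZMod 3, T' * F.jel (k, i, l, j) * T'⁻¹ = F.jel (k, i, k + l, -k + μ * l + j) := by
    intro k i l j
    obtain ⟨m, hm, hm0⟩ := T'a 1 0
    rw [hm0 rfl] at hm
    have hv : ((k, i, l, j) : V4) = (-k) • ((-1, 0, 0, 0) : V4) + i • ((0, 1, 0, 0) : V4) + l • ((0, 0, 1, 0) : V4) +
        j • ((0, 0, 0, 1) : V4) := by simp
    rw [hv, F.jel_add, F.jel_add, F.jel_add]
    rw [show T' * (F.jel ((-k) • ((-1, 0, 0, 0) : V4)) * F.jel (i • ((0, 1, 0, 0) : V4)) * F.jel (l • ((0, 0, 1, 0) : V4)) *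
      F.jel (j • ((0, 0, 0, 1) : V4))) * T'⁻¹ = (T' * F.jel ((-k) • ((-1, 0, 0, 0) : V4)) * T'⁻¹) *
      (T' * F.jel (i • ((0, 1, 0, 0) : V4)) * T'⁻¹) * (T' * F.jel (l • ((0, 0, 1, 0) : V4)) * T'⁻¹) *
      (T' * F.jel (j • ((0, 0, 0, 1) : V4)) * T'⁻¹) by group, sm _ _ _ T'z, sm _ _ _ hm, sm _ _ _ hμ, sm _ _ _ T'y,
      ← F.jel_add, ← F.jel_add, ← F.jel_add]
    congr 1
    simp [mul_comm]
  have hμ1 : μ = 1 := by
    have h1 := ((F.isPt_jel (1, 0, 0, 0)).mpr ⟨by decide, by decide⟩).conj T'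
    rw [lin] at h1
    have h2 := h1.conj T'
    rw [lin] at h2
    exact (by decide +kernel : ∀ μ : ZMod 3,
      qJ ((1, 0, 1 + (1 + 0), -1 + μ * (1 + 0) + (-1 + μ * 0 + 0)) : V4) = 0 → μ = 1) μ ((F.isPt_jel _).mp h2).1
  subst hμ1
  have T'iact : ∀ k i l j : ZMod 3, T'⁻¹ * F.jel (k, i, l, j) * T' = F.jel (k, i, l - k, j - l - k) := by
    intro k i l j
    have h1 := lin k i (l - k) (j - l - k)
    rw [show k + (l - k) = l by ring, show -k + 1 * (l - k) + (j - l - k) = j by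
      rw [show -k + 1 * (l - k) + (j - l - k) = j - 3 * k by ring, show (3 : ZMod 3) = 0 from rfl, zero_mul, sub_zero]] at h1
    rw [← h1]; group
  have i2act : ∀ k i l j : ZMod 3, (D.t * D.i1) * F.jel (k, i, l, j) * (D.t * D.i1)⁻¹ = F.jel (k, i, -l, j) := by
    intro k i l j
    rw [show D.t * D.i1 * F.jel (k, i, l, j) * (D.t * D.i1)⁻¹ = D.t * (D.i1 * F.jel (k, i, l, j) * D.i1⁻¹) * D.t⁻¹ by
      group, F.conj_jel_i1]
    show D.t * (D.zz k * D.q (av (-i) l) * F.y ^ j.val) * D.t⁻¹ = D.zz k * D.q (av i (-l)) * F.y ^ j.val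
    rw [show D.t * (D.zz k * D.q (av (-i) l) * F.y ^ j.val) * D.t⁻¹ = (D.t * D.zz k * D.t⁻¹) *
      (D.t * D.q (av (-i) l) * D.t⁻¹) * (D.t * F.y ^ j.val * D.t⁻¹) by group, D.conj_zz D.t_z,
      inv_eq_of_mul_eq_one_right D.t_sq, D.t_q, av_neg, neg_neg, (F.y_t.symm.pow_right _).eq, mul_assoc _ D.t D.t,
      D.t_sq, mul_one]
  set τ0 := D.t * D.i1 * (T * T'⁻¹ * T) with hτ0
  have act0 : ∀ v : V4, τ0 * F.jel v * τ0⁻¹ = F.jel (-v.2.2.2, v.2.1, v.2.2.1, -v.1) := by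
    rintro ⟨k, i, l, j⟩
    rw [hτ0, show D.t * D.i1 * (T * T'⁻¹ * T) * F.jel (k, i, l, j) * (D.t * D.i1 * (T * T'⁻¹ * T))⁻¹ =
      D.t * D.i1 * (T * (T'⁻¹ * (T * F.jel (k, i, l, j) * T⁻¹) * T') * T⁻¹) * (D.t * D.i1)⁻¹ by group, Tact, T'iact,
      Tact, i2act]
    congr 1
    simp only [Prod.mk.injEq]
    exact ⟨(by decide +kernel : ∀ k l j : ZMod 3, k - l - j - (l - j - (k - l - j)) - (j - (l - j) - (k - l - j)) = -j) k l j,
      trivial, (by decide +kernel : ∀ k l j : ZMod 3, -(l - j - (k - l - j) - (j - (l - j) - (k - l - j))) = l) k l j,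
      (by decide +kernel : ∀ k l j : ZMod 3, j - (l - j) - (k - l - j) = -k) k l j⟩
  have hTi : Commute D.i1 T := D.i1_block.fix rfl
  have hti : Commute D.i1 D.t := D.i1_block.acts.1.ct
  have ci0 : Commute τ0 D.i1 :=
    ((hti.symm.mul_left (Commute.refl _)).mul_left ((hTi.symm.mul_left T'i.inv_left).mul_left hTi.symm))
  set x := D.t * τ0 * D.t * τ0⁻¹ with hx
  have hxU : x ∈ F.U := by
    refine Subgroup.mem_centralizer_iff.mpr ?_
    rintro _ ⟨⟨k, i, l, j⟩, rfl⟩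
    have tact : ∀ k i l j : ZMod 3, D.t * F.jel (k, i, l, j) * D.t⁻¹ = F.jel (k, -i, -l, j) := by
      intro k i l j
      have h := i2act k (-i) l j
      rw [show ((k, -i, l, j) : V4) = (k, -i, l, j) from rfl] at h
      rw [← h, show D.t * D.i1 * F.jel (k, -i, l, j) * (D.t * D.i1)⁻¹ = D.t * (D.i1 * F.jel (k, -i, l, j) * D.i1⁻¹) * D.t⁻¹ by
        group, F.conj_jel_i1, neg_neg]
    refine Eq.symm ?_
    rw [← mul_inv_eq_iff_eq_mul]
    have tinv := inv_eq_of_mul_eq_one_right D.t_sq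
    have τinv : τ0⁻¹ * F.jel (k, i, l, j) * τ0 = F.jel (-j, i, l, -k) := by
      have := act0 (-j, i, l, -k)
      simp only [neg_neg] at this
      rw [← this]; group
    calc x * F.jel (k, i, l, j) * x⁻¹ = D.t * (τ0 * (D.t * (τ0⁻¹ * F.jel (k, i, l, j) * τ0) * D.t⁻¹) * τ0⁻¹) * D.t⁻¹ := by
          rw [hx]; group
      _ = _ := by rw [τinv, tact, act0, tact]; simp
  have hxt : D.t * x * D.t = x⁻¹ := by
    have h2 : ∀ a : G, D.t * (D.t * a) = a := fun a => by rw [← mul_assoc, D.t_sq, one_mul]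
    rw [hx]
    simp only [mul_inv_rev, inv_inv, inv_eq_of_mul_eq_one_right D.t_sq, mul_assoc, h2]
  obtain ⟨c, s, p, hc, hs, hn, ex⟩ := F.mem_U_iff.mp hxU
  have hxc : x = D.q c := by
    have h1 : D.zz 0 * (D.q (-c) * s) = D.zz 0 * (D.q (-c) * s⁻¹) := by
      congr 1
      calc D.q (-c) * s = D.t * D.q c * D.t * s := by rw [D.t_q]
        _ = D.t * D.q c * (s * D.t) := by rw [hs.1.ct.eq, mul_assoc]
        _ = D.t * x * D.t := by rw [ex]; group
        _ = x⁻¹ := hxt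
        _ = _ := by
          rw [ex, (hs.comm_q (hn.fix hc)).symm.eq, mul_inv_rev, D.q_inv]
    have h2 : s = s⁻¹ := mul_left_cancel (mul_left_cancel h1)
    have h3 : s = 1 := by
      have h4 := F.nine_cube hs hn
      rwa [pow_three', show s * s = 1 by nth_rewrite 2 [h2]; exact mul_inv_cancel s, one_mul] at h4
    rw [ex, h3, mul_one]
  have hgU := F.NJ_le_NU F.g_mem_NJ
  have trivT' : F.Triv T' := fun u hu => by
    have hu' : F.g⁻¹ * u * F.g ∈ F.U := by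
      have := ((inv_mem hgU : F.g⁻¹ ∈ Subgroup.normalizer (F.U : Set G)) u).mp hu
      simpa using this
    have := F.g_norm_J (F.triv_q w' _ hu')
    convert this using 1
    rw [hT']; group
  have trivt : F.Triv D.t := F.triv_levi D.t_acts fun A => ⟨(pm_central A).1, (pm_central A).1⟩
  have trivi : F.Triv D.i1 := F.triv_levi D.i1_block.acts fun A => ⟨(pm_central A).1, (pm_central A).2.1⟩
  refine ⟨D.q (-c) * τ0, fun v => ?_, ?_, ?_,
    (F.triv_q _).mul F ((trivt.mul F trivi).mul F (((F.triv_q _).mul F (trivT'.inv F)).mul F (F.triv_q _)))⟩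
  · rw [show D.q (-c) * τ0 * F.jel v * (D.q (-c) * τ0)⁻¹ = D.q (-c) * (τ0 * F.jel v * τ0⁻¹) * (D.q (-c))⁻¹ by group,
      act0]
    have hcU : D.q (-c) ∈ F.U := by
      obtain ⟨i, l, rfl⟩ := inA_av c hc
      rw [av_neg, ← F.jel_q]; exact F.jel_mem_U _
    rw [(F.commute_jel hcU _).eq, mul_inv_cancel_right]
  · show D.q (-c) * τ0 * D.t = D.t * (D.q (-c) * τ0)
    have h1 : D.t * τ0 = D.q c * τ0 * D.t := by
      calc D.t * τ0 = x * τ0 * D.t⁻¹ := by rw [hx]; group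
        _ = _ := by rw [hxc, inv_eq_of_mul_eq_one_right D.t_sq]
    have h2 : D.t * D.q (-c) = D.q c * D.t := by
      have := D.t_q (-c)
      rw [neg_neg] at this
      rw [← this, mul_assoc, D.t_sq, mul_one]
    calc D.q (-c) * τ0 * D.t = (D.q c * D.q c) * τ0 * D.t := by
          rw [q_mul', om_self, neg_zero, zz_zero, one_mul, (by decide : ∀ v : W4, v + v = -v) c]
      _ = D.q c * (D.q c * τ0 * D.t) := by group
      _ = D.q c * (D.t * τ0) := by rw [h1]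
      _ = (D.q c * D.t) * τ0 := by group
      _ = _ := by rw [← h2, mul_assoc]
  · refine Commute.mul_left ?_ ci0
    have hxi : Commute x D.i1 := ((hti.symm.mul_left ci0).mul_left hti.symm).mul_left ci0.inv_left
    rw [hxc] at hxi
    rw [← D.q_inv]
    exact hxi.inv_left

end Base

end Setting

end CfsgLib.U6Three
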