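import Cfsg.Agent.Lib.U6Three.Points

/-!
Normal forms for the conjugates outside the core, and the translations of those not centralised by a lift of
the central involution.
-/

set_option autoImplicit false

namespace CfsgLib.U6Three

universe u

theorem smul_q : ∀ v : W4, (0 : ZMod 3) • v = 0 ∧ (1 : ZMod 3) • v = v ∧ (2 : ZMod 3) • v = v + v := by decide

theorem pure_reduce : ∀ v2 : V2, v2 ≠ 0 → ∃ R : SL23, R * R * (R * R) = 1 ∧ app2 R v2 = (1, 0) := sl_vec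

namespace Setting

variable {G : Type u} [Group G] (D : Setting G)

theorem q_smul (i : ZMod 3) (v : W4) : D.q (i • v) = D.q v ^ i.val := by
  rcases (by decide : ∀ i : ZMod 3, i = 0 ∨ i = 1 ∨ i = 2) i with rfl | rfl | rfl
  · rw [(smul_q v).1, D.q_zero, ZMod.val_zero, pow_zero]
  · rw [(smul_q v).2.1, show (1 : ZMod 3).val = 1 from rfl, pow_one]
  · rw [(smul_q v).2.2, show (2 : ZMod 3).val = 2 from rfl, pow_two, q_mul', om_self, neg_zero, zz_zero, one_mul]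

/-- The standard pure form. -/
def Pure (y : G) : Prop := ∃ k s, y = D.zz k * (D.q ea2 * s) ∧ D.Acts s (mU, 1)

/-- The standard diagonal form. -/
def Diag (y : G) : Prop := ∃ k b1 b2 s g, g ∈ [((mU, mU) : Pr), (mU, mU * mU)] ∧
  y = D.zz k * (D.q ((0, b1), (0, b2)) * s) ∧ D.Acts s g

theorem t_conj_q (u : W4) : D.q u * D.t * (D.q u)⁻¹ = D.q (u + u) * D.t := by
  have e : D.t * (D.q u)⁻¹ = D.q u * D.t := by
    have h := D.t_q (-u)
    rw [neg_neg] at h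
    rw [q_inv, ← h, mul_assoc, D.t_sq, mul_one]
  rw [mul_assoc, e, ← mul_assoc, q_mul', om_self, neg_zero, zz_zero, one_mul]

variable {D}

theorem diagA_iff {x : G} : D.DiagA x ↔ ∃ w, Commute x (D.q w * D.t * (D.q w)⁻¹) := by
  constructor
  · rintro ⟨w, h⟩
    refine ⟨-w, ?_⟩
    have := h.map (MulAut.conj (D.q w)⁻¹).toMonoidHom
    simp only [MulEquiv.coe_toMonoidHom, MulAut.conj_apply, inv_inv] at this
    rw [← D.q_inv, inv_inv]
    convert this using 1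
    group
  · rintro ⟨w, h⟩
    refine ⟨-w, ?_⟩
    have := h.map (MulAut.conj (D.q w)⁻¹).toMonoidHom
    simp only [MulEquiv.coe_toMonoidHom, MulAut.conj_apply, inv_inv] at this
    rw [← D.q_inv, inv_inv]
    convert this using 1
    group

theorem DiagA.inv {x : G} (h : D.DiagA x) : D.DiagA x⁻¹ := by
  obtain ⟨w, hw⟩ := diagA_iff.mp h
  exact diagA_iff.mpr ⟨w, hw.inv_left⟩

theorem DiagA.conj {x h : G} (hA : D.DiagA x) (hh : Commute h D.z) : D.DiagA (h * x * h⁻¹) := by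
  obtain ⟨w, hw⟩ := diagA_iff.mp hA
  obtain ⟨u, s, g, he, hg⟩ := D.cases_H (hh.mul_left (D.q_z w))
  have hs : D.IsLevi s := by rcases hg with hg | hg <;> exact hg.1
  refine diagA_iff.mpr ⟨u, ?_⟩
  have := hw.map (MulAut.conj h).toMonoidHom
  have e : h * (D.q w * D.t * (D.q w)⁻¹) * h⁻¹ = D.q u * D.t * (D.q u)⁻¹ := by
    calc h * (D.q w * D.t * (D.q w)⁻¹) * h⁻¹ = (h * D.q w) * D.t * (h * D.q w)⁻¹ := by group
      _ = D.q u * (s * D.t) * s⁻¹ * (D.q u)⁻¹ := by rw [he]; group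
      _ = _ := by rw [hs.ct.eq]; group
  simpa [e] using this

theorem DiagA.of_conj {x h : G} (hA : D.DiagA (h * x * h⁻¹)) (hh : Commute h D.z) : D.DiagA x := by
  have := hA.conj hh.inv_left
  simpa [mul_assoc] using this

theorem DiagA.swap_iff {x : G} : D.swap.DiagA x ↔ D.DiagA x :=
  ⟨fun ⟨w, h⟩ => ⟨swapW w, h⟩, fun ⟨w, h⟩ => ⟨swapW w, h⟩⟩

variable (D)

theorem pure_of {x : G} {k : ZMod 3} {u : W4} {s : G} (hp : D.IsPt x) (hQ : x ∉ D.Q)
    (hx : x = D.zz k * (D.q u * s)) (hs : D.Acts s (mU, 1)) :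
    ∃ h, Commute h D.z ∧ D.Pure (h * x * h⁻¹) := by
  obtain ⟨w, hw⟩ := cV_reduce_pure u
  set u' := cV ((mU, 1) : Pr) u w with hu'
  have e : D.q w * x * (D.q w)⁻¹ = D.zz (k + cK (mU, 1) u w) * (D.q u' * s) := by rw [hx, D.q_conj_el hs]
  have hgood : u'.1.2 = 0 ∧ u'.2 ≠ 0 := by
    by_contra hb
    have hb' : u'.1.2 ≠ 0 ∨ u'.2 = 0 := by
      by_cases h1 : u'.1.2 = 0
      · exact Or.inr (by_contra fun h2 => hb ⟨h1, h2⟩)
      · exact Or.inl h1
    obtain ⟨v, v', a1, a2, a3, a4, a5⟩ := pure_bad u'.1.2 u'.2 hb'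
    have eu : ((0, u'.1.2), u'.2) = u' := by rw [← hw]
    rw [eu] at a3 a4
    have hQ' : D.q w * x * (D.q w)⁻¹ ∉ D.Q := fun h => hQ (by
      have := mul_mem (mul_mem (D.Q.inv_mem (D.q_mem w)) h) (D.q_mem w)
      simpa [mul_assoc] using this)
    exact a5 (D.pt_abelian (hp.conj _) hQ' (e ▸ (D.comm_q_iff hs v).mpr ⟨a1, a3⟩) (e ▸ (D.comm_q_iff hs v').mpr ⟨a2, a4⟩))
  obtain ⟨R, hR, hRv⟩ := sl_vec u'.2 hgood.2
  obtain ⟨r, hr⟩ := D.acts_lift (1, R) (by simp) hR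
  refine ⟨r * D.q w, hr.1.cz.mul_left (D.q_z w), k + cK (mU, 1) u w, r * s * r⁻¹, ?_, ?_⟩
  · have ea : appP (1, R) u' = ea2 := by
      refine Prod.ext ?_ hRv
      rw [show (appP ((1, R) : Pr) u').1 = app2 1 u'.1 from rfl, app2_one]
      exact Prod.ext hw hgood.1
    calc r * D.q w * x * (r * D.q w)⁻¹ = r * (D.q w * x * (D.q w)⁻¹) * r⁻¹ := by group
      _ = (r * D.zz (k + cK (mU, 1) u w) * r⁻¹) * ((r * D.q u' * r⁻¹) * (r * s * r⁻¹)) := by rw [e]; group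
      _ = _ := by rw [D.conj_zz hr.1.cz, hr.2, ea]
  · have := hs.conj hr
    simpa using this

theorem diag_of {x : G} {k : ZMod 3} {u : W4} {s : G} {g : Pr} (hg : g ∈ [((mU, mU) : Pr), (mU, mU * mU)])
    (hx : x = D.zz k * (D.q u * s)) (hs : D.Acts s g) :
    ∃ h, Commute h D.z ∧ D.Diag (h * x * h⁻¹) := by
  obtain ⟨w, h1, h2⟩ := cV_reduce_diag g hg u
  refine ⟨D.q w, D.q_z w, k + cK g u w, (cV g u w).1.2, (cV g u w).2.2, s, g, hg, ?_, hs⟩
  rw [hx, D.q_conj_el hs]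
  congr 3
  exact Prod.ext (Prod.ext h1 rfl) (Prod.ext h2 rfl)

/-- The three normal forms. -/
theorem normal_form {x : G} (hp : D.IsPt x) (hz : Commute x D.z) (hQ : x ∉ D.Q) :
    ∃ h, Commute h D.z ∧ ∃ y, (y = h * x * h⁻¹ ∨ y = (h * x * h⁻¹)⁻¹) ∧ (D.Pure y ∨ D.swap.Pure y ∨ D.Diag y) := by
  obtain ⟨g, hg, h3⟩ := D.ma_three hz hp.cube
  have hne : g.1 ≠ 1 ∨ g.2 ≠ 1 := by
    by_contra h
    push Not at h
    rw [show g = 1 from Prod.ext h.1 h.2] at hg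
    exact hQ hg.mem_Q
  obtain ⟨R1, R2, hR1, hR2, hmem⟩ := pr_forms g.1 g.2 (congrArg Prod.fst h3) (congrArg Prod.snd h3) hne
  obtain ⟨r, hr⟩ := D.acts_lift (R1, R2) hR1 hR2
  have hx1 := (hr.ma.mul hg).mul hr.inv.ma
  have hform : ∀ (D' : Setting G), D'.z = D.z → D'.Q = D.Q → (∀ a, D'.IsPt a ↔ D.IsPt a) → ∀ y p,
      (y = r * x * r⁻¹ ∨ y = (r * x * r⁻¹)⁻¹) → D'.MA y p →
      (p = (mU, 1) → ∃ h, Commute h D.z ∧ D'.Pure (h * y * h⁻¹)) ∧
      (p ∈ [((mU, mU) : Pr), (mU, mU * mU)] → ∃ h, Commute h D.z ∧ D'.Diag (h * y * h⁻¹)) := by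
    intro D' ez eQ eP y p hy hp'
    obtain ⟨u, s, e, hs⟩ := hp'
    have e' : y = D'.zz 0 * (D'.q u * s) := by rw [zz_zero, one_mul, e]
    constructor
    · rintro rfl
      have hyp : D'.IsPt y := (eP y).mpr (by
        rcases hy with rfl | rfl
        exacts [hp.conj r, (hp.conj r).inv])
      have hyQ : y ∉ D'.Q := fun h => by
        rw [eQ] at h
        refine hQ ?_
        have h' : r * x * r⁻¹ ∈ D.Q := by
          rcases hy with rfl | rfl
          exacts [h, D.Q.inv_mem_iff.mp h]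
        have := D.conj_Q hr.1.cz.inv_left h'
        simpa [mul_assoc] using this
      obtain ⟨h, hh, hP⟩ := D'.pure_of hyp hyQ e' hs
      exact ⟨h, ez ▸ hh, hP⟩
    · intro hmem'
      obtain ⟨h, hh, hP⟩ := D'.diag_of hmem' e' hs
      exact ⟨h, ez ▸ hh, hP⟩
  have fin : ∀ y h, Commute h D.z → (y = r * x * r⁻¹ ∨ y = (r * x * r⁻¹)⁻¹) →
      (D.Pure (h * y * h⁻¹) ∨ D.swap.Pure (h * y * h⁻¹) ∨ D.Diag (h * y * h⁻¹)) →
      ∃ h, Commute h D.z ∧ ∃ y, (y = h * x * h⁻¹ ∨ y = (h * x * h⁻¹)⁻¹) ∧ (D.Pure y ∨ D.swap.Pure y ∨ D.Diag y) := by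
    intro y h hh hy hP
    refine ⟨h * r, hh.mul_left hr.1.cz, h * y * h⁻¹, ?_, hP⟩
    rcases hy with rfl | rfl
    · exact Or.inl (by group)
    · exact Or.inr (by group)
  have hinv := hx1.inv
  have hsw : ∀ y (a b : SL23), D.MA y (a, b) → D.swap.MA y (b, a) := by
    rintro y a b ⟨u, s, e, hs⟩
    exact ⟨swapW u, s, e, hs.1 |> fun l => ⟨⟨l.cz, l.ct⟩, fun v =>
      (hs.2 (swapW v)).trans (congrArg D.q (swapW_appP (b, a) v).symm)⟩⟩
  simp only [List.mem_cons, List.not_mem_nil, or_false] at hmem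
  rcases hmem with h | h | h | h | h | h | h | h <;>
    (have hA : D.MA (r * x * r⁻¹) _ := (show ((R1, R2) : Pr) * g * ((R1, R2) : Pr)⁻¹ = _ from h) ▸ hx1)
  · obtain ⟨c, hc, hP⟩ := (hform D rfl rfl (fun _ => Iff.rfl) _ _ (Or.inl rfl) hA).1 rfl
    exact fin _ c hc (Or.inl rfl) (Or.inl hP)
  · have hB := hA.inv; rw [pr_inv.1] at hB
    obtain ⟨c, hc, hP⟩ := (hform D rfl rfl (fun _ => Iff.rfl) _ _ (Or.inr rfl) hB).1 rfl
    exact fin _ c hc (Or.inr rfl) (Or.inl hP)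
  · obtain ⟨c, hc, hP⟩ := (hform D.swap rfl D.swap_Q (fun _ => Iff.rfl) _ _ (Or.inl rfl) (hsw _ _ _ hA)).1 rfl
    exact fin _ c hc (Or.inl rfl) (Or.inr (Or.inl hP))
  · have hB := hA.inv; rw [pr_inv.2.2.2] at hB
    obtain ⟨c, hc, hP⟩ := (hform D.swap rfl D.swap_Q (fun _ => Iff.rfl) _ _ (Or.inr rfl) (hsw _ _ _ hB)).1 rfl
    exact fin _ c hc (Or.inr rfl) (Or.inr (Or.inl hP))
  · obtain ⟨c, hc, hP⟩ := (hform D rfl rfl (fun _ => Iff.rfl) _ _ (Or.inl rfl) hA).2 (by simp)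
    exact fin _ c hc (Or.inl rfl) (Or.inr (Or.inr hP))
  · have hB := hA.inv; rw [pr_inv.2.1] at hB
    obtain ⟨c, hc, hP⟩ := (hform D rfl rfl (fun _ => Iff.rfl) _ _ (Or.inr rfl) hB).2 (by simp)
    exact fin _ c hc (Or.inr rfl) (Or.inr (Or.inr hP))
  · obtain ⟨c, hc, hP⟩ := (hform D rfl rfl (fun _ => Iff.rfl) _ _ (Or.inl rfl) hA).2 (by simp)
    exact fin _ c hc (Or.inl rfl) (Or.inr (Or.inr hP))
  · have hB := hA.inv; rw [pr_inv.2.2.1] at hB
    obtain ⟨c, hc, hP⟩ := (hform D rfl rfl (fun _ => Iff.rfl) _ _ (Or.inr rfl) hB).2 (by simp)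
    exact fin _ c hc (Or.inr rfl) (Or.inr (Or.inr hP))

/-- The translations of a conjugate not centralised by a lift of the central involution. -/
theorem shift {x : G} (hp : D.IsPt x) (hz : Commute x D.z) (hQ : x ∉ D.Q) (hA : ¬ D.DiagA x) :
    ∃ b ∈ D.Q, (∀ k, b ≠ D.zz k) ∧ Commute x b ∧
      ∀ i j : ZMod 3, D.IsPt (x * b ^ i.val * D.zz j) := by
  obtain ⟨h, hh, y, hy, hP⟩ := D.normal_form hp hz hQ
  have hyp : D.IsPt y := by
    rcases hy with rfl | rfl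
    exacts [hp.conj h, (hp.conj h).inv]
  have hyA : ¬ D.DiagA y := fun hd => hA (by
    rcases hy with rfl | rfl
    · exact hd.of_conj hh
    · exact (inv_inv (h * x * h⁻¹) ▸ hd.inv).of_conj hh)
  -- the standard shift
  have core : ∀ (D' : Setting G), D'.Q = D.Q → (∀ k, D'.zz k = D.zz k) → (∀ a, D'.IsPt a ↔ D.IsPt a) → ∀ k u s g a,
      y = D'.zz k * (D'.q u * s) → D'.Acts s g → appP g a = a → a ≠ 0 → om u a = 0 →
      (∀ i l : ZMod 3, ∃ w, cV g u w = u + i • a ∧ cK g u w = l) →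
      ∃ b ∈ D.Q, (∀ k, b ≠ D.zz k) ∧ Commute y b ∧ ∀ i j : ZMod 3, D.IsPt (y * b ^ i.val * D.zz j) := by
    intro D' eQ ezz eP k u s g a e hs ha ha0 hua hsh
    refine ⟨D'.q a, eQ ▸ D'.q_mem a, fun k' e' => ha0 ?_, e ▸ (D'.comm_q_iff hs a).mpr ⟨ha, hua⟩, fun i j => ?_⟩
    · exact (D'.el_inj (k := 0) (v := a) (l := k') (w := 0) (by rw [zz_zero, one_mul, q_zero, mul_one, ezz]; exact e')).2
    obtain ⟨w, hw1, hw2⟩ := hsh i j
    rw [← eP]
    have hia : om u (i • a) = 0 := by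
      rw [show om u (i • a) = i * om u a by simp [om, det2]; ring, hua, mul_zero]
    have := ((eP y).mpr hyp).conj (D'.q w)
    rw [e, D'.q_conj_el hs, hw1, hw2] at this
    have e2 : y * D'.q a ^ i.val * D.zz j = D'.zz (k + j) * (D'.q (u + i • a) * s) := by
      have hc : s * D'.q (i • a) = D'.q (i • a) * s := by
        rw [hs.move D']
        congr 2
        exact (by decide +kernel : ∀ g : SL23, ∀ v : V2, ∀ i : ZMod 3, app2 g v = v → app2 g (i • v) = i • v) g.1 a.1 i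
            (congrArg Prod.fst ha) |> fun p => Prod.ext p
          ((by decide +kernel : ∀ g : SL23, ∀ v : V2, ∀ i : ZMod 3, app2 g v = v → app2 g (i • v) = i • v) g.2 a.2 i
            (congrArg Prod.snd ha))
      rw [e, ← D'.q_smul, ← ezz, show D'.zz k * (D'.q u * s) * D'.q (i • a) * D'.zz j =
        D'.zz k * (D'.q u * (s * D'.q (i • a)) * D'.zz j) by group, hc,
        show D'.q u * (D'.q (i • a) * s) = (D'.q u * D'.q (i • a)) * s by group, q_mul', hia, neg_zero, zz_zero,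
        one_mul, ← (((D'.zz_q j _)).mul_right (hs.1.cz.pow_right _).symm).eq, zz_add, mul_assoc]
    rw [e2]; exact this
  have key : ∃ b ∈ D.Q, (∀ k, b ≠ D.zz k) ∧ Commute y b ∧ ∀ i j : ZMod 3, D.IsPt (y * b ^ i.val * D.zz j) := by
    rcases hP with ⟨k, s, e, hs⟩ | ⟨k, s, e, hs⟩ | ⟨k, b1, b2, s, g, hg, e, hs⟩
    · obtain ⟨h1, h2, h3, h4⟩ := pure_shift
      exact core D rfl (fun _ => rfl) (fun _ => Iff.rfl) k ea2 s _ ea1 e hs h1 h2 h3 h4
    · obtain ⟨h1, h2, h3, h4⟩ := pure_shift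
      exact core D.swap D.swap_Q (fun _ => rfl) (fun _ => Iff.rfl) k ea2 s _ ea1 e hs h1 h2 h3 h4
    · by_cases hb : (b1, b2) = (0, 0)
      · obtain ⟨rfl, rfl⟩ := Prod.mk.inj hb
        exact absurd (e ▸ D.diagA_of_zero hs.1) hyA
      obtain ⟨a, a1, a2, a3, a4⟩ := diag_abelian g hg b1 b2 hb
      exact core D rfl (fun _ => rfl) (fun _ => Iff.rfl) k _ s g a e hs a2 a1 a3 a4
  obtain ⟨b, hbQ, hb0, hbc, hbs⟩ := key
  refine ⟨h⁻¹ * b * h, by simpa using D.conj_Q hh.inv_left hbQ, fun k e => hb0 k ?_, ?_, fun i j => ?_⟩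
  · rw [← D.conj_zz hh k, ← e]; group
  · have := hbc.map (MulAut.conj h⁻¹).toMonoidHom
    rcases hy with rfl | rfl
    · simpa [mul_assoc] using this
    · have := this.inv_left; simpa [mul_assoc] using this
  · have hbj : (h⁻¹ * b * h) ^ i.val = h⁻¹ * b ^ i.val * h := by
      simpa using (conj_pow (a := h⁻¹) (b := b) (i := i.val))
    have ez : h⁻¹ * D.zz j * h = D.zz j := by simpa using D.conj_zz hh.inv_left j
    rcases hy with rfl | rfl
    · have := (hbs i j).conj h⁻¹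
      rw [hbj, ← ez]
      simpa [mul_assoc] using this
    · have hbi : b ^ (-i).val = (b ^ i.val)⁻¹ := by
        refine eq_inv_of_mul_eq_one_left ?_
        rw [← pow_add, pow_eq_pow_mod _ (D.Q_cube hbQ), ← ZMod.val_add, neg_add_cancel, ZMod.val_zero, pow_zero]
      have h2 := (hbs (-i) (-j)).inv.conj h⁻¹
      rw [hbi, zz_neg] at h2
      have hcm : Commute (h * x * h⁻¹) (b ^ i.val) := (hbc.inv_left.pow_right _).symm.symm |> fun c => by
        rwa [inv_inv] at c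
      rw [hbj, ← ez]
      have e3 : ((h * x * h⁻¹)⁻¹ * (b ^ i.val)⁻¹ * (D.zz j)⁻¹)⁻¹ = h * x * h⁻¹ * b ^ i.val * D.zz j := by
        rw [mul_inv_rev, mul_inv_rev, inv_inv, inv_inv, inv_inv, ← hcm.eq]
        have hzj : Commute (h * x * h⁻¹ * b ^ i.val) (D.zz j) :=
          (((hh.mul_left hz).mul_left hh.inv_left).mul_left ((D.Q_z hbQ).pow_left _)).pow_right _
        exact hzj.eq.symm
      rw [e3] at h2
      simpa [mul_assoc] using h2

end Setting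

end CfsgLib.U6Three
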