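import Cfsg.Agent.Lib.U6Three.Planes

/-!
The stabiliser of the rotation has forty cosets over the stabiliser of the first component and is transitive on
the units.
-/

set_option autoImplicit false
set_option linter.style.haveILetI false
set_option synthInstance.maxSize 1024

namespace CfsgLib.U6Three

universe u

/-- Quaternion matrices moving the first line to the four lines. -/
def l4 (l : Fin 4) : SL23 := ![1, rot.sk (1, 0), rot.sk (0, 1), rot.sk (1, 1)] l

theorem l4_four : ∀ l, l4 l * l4 l * (l4 l * l4 l) = 1 := by decide +kernel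

theorem l4_norm : ∀ l l', ((l4 l)⁻¹ * l4 l' * mU * ((l4 l)⁻¹ * l4 l')⁻¹ = mU ∨
    (l4 l)⁻¹ * l4 l' * mU * ((l4 l)⁻¹ * l4 l')⁻¹ = mU⁻¹) → l = l' := by decide +kernel

theorem card_units : Nat.card {v : Vec // qv v = 1} = 120 := by
  rw [Nat.card_eq_fintype_card]; decide +kernel

theorem sp_inj : ∀ i j : ZMod 3, sp i (emb none (1, 0)) = sp j (emb none (1, 0)) → i = j := by decide +kernel

namespace Setting.Base

variable {G : Type u} [Group G] {D : Setting G} (F : D.Base) [Finite G]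

/-- An element of the stabiliser fixing a unit of the first component preserves it. -/
theorem unit_stab {g : G} (hg : g ∈ F.XS) {i j : ZMod 3}
    (h : F.na g (sp i (emb none (1, 0))) = sp j (emb none (1, 0))) : g ∈ F.C1 := by
  refine F.XS_XR_le_C1 hg (F.XR_of_emb hg.1 fun a => ?_)
  obtain rfl | ha := eq_or_ne a 0
  · exact ⟨0, by rw [show emb none (0 : K4) = 0 from rfl, F.na_zero hg.1]⟩
  obtain ⟨k, hk⟩ : ∃ k, emb none a = sp k (sp i (emb none (1, 0))) :=
    (by decide +kernel : ∀ a : K4, a ≠ 0 → ∀ i, ∃ k, emb none a = sp k (sp i (emb none (1, 0)))) a ha i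
  obtain ⟨k', hk'⟩ := F.XS_sp hg k (sp i (emb none (1, 0)))
  refine ⟨(sp k' (sp j (emb none (1, 0)))).1, ?_⟩
  rw [hk, hk', h]
  exact (by decide +kernel : ∀ k j : ZMod 3, sp k (sp j (emb none (1, 0))) = emb none (sp k (sp j (emb none (1, 0)))).1) k' j

/-- The chosen lift. -/
noncomputable def q4 (D : Setting G) (l : Fin 4) : G := (D.acts_lift (1, l4 l) (by simp) (l4_four l)).choose

theorem q4_acts (l : Fin 4) : D.Acts (q4 D l) (1, l4 l) := (D.acts_lift (1, l4 l) (by simp) (l4_four l)).choose_spec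

theorem q4_Mi (l : Fin 4) : q4 D l ∈ Mi (D := D) := mem_Mi.mpr (Quat.comm_i1 ⟨l4 l, l4_four l, q4_acts l⟩)

/-- Transporters onto the planes of the moved part. -/
noncomputable def wm (p : Fin 4 × ZMod 3) : G := q4 D p.1 * trb (D := D) p.2

theorem wm_Mi (p : Fin 4 × ZMod 3) : wm (D := D) p ∈ Mi (D := D) := mul_mem (q4_Mi _) (trb_Mi _)

theorem wm_z (p : Fin 4 × ZMod 3) : Commute (wm (D := D) p) D.z := (q4_acts _).1.cz.mul_left (trb_z _)

theorem wm_inj {p p' : Fin 4 × ZMod 3} (h : ((wm (D := D) p) * F.τ)⁻¹ * (wm (D := D) p' * F.τ) ∈ F.C1) : p = p' := by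
  obtain ⟨l, c⟩ := p
  obtain ⟨l', c'⟩ := p'
  set h0 := (wm (D := D) (l, c))⁻¹ * wm (D := D) (l', c') with h0d
  have hM : h0 ∈ Mi (D := D) := mul_mem (inv_mem (wm_Mi _)) (wm_Mi _)
  have hZ : Commute h0 D.z := (wm_z _).inv_left.mul_left (wm_z _)
  have hfix : ∀ a, ∃ a', F.na h0 (emb (some 0) a) = emb (some 0) a' := fun a => by
    obtain ⟨a', ha⟩ := F.XR_na_R1 (F.C1_le_XR h) a
    refine ⟨a', ?_⟩
    have h0N := F.cent_z_le_N hM hZ
    rw [show ((wm (D := D) (l, c)) * F.τ)⁻¹ * (wm (D := D) (l', c') * F.τ) = F.τ⁻¹ * (h0 * F.τ) by rw [h0d]; group,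
      F.na_mul (inv_mem F.τ_le_N) (mul_mem h0N F.τ_le_N), F.na_mul h0N F.τ_le_N, F.τ_R1_emb] at ha
    rw [← F.τ_R1_emb a', ← ha, F.na_cancel_inv F.τ_le_N]
  have hm : ∀ l c, D.MA (wm (D := D) (l, c)) (1, l4 l) := fun l c => by
    have := (q4_acts (D := D) l).ma.mul (ma_of_Q (D := D) (D.q_mem (((0, 0), (0, c)) : W4)))
    rwa [mul_one] at this
  obtain rfl : l = l' := l4_norm l l' (by
    simpa using F.fix_line hM hZ hfix ((hm l c).inv.mul (hm l' c')))
  have e : h0 = trb (D := D) (-c + c') := by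
    rw [h0d, wm, wm, ← trb_add, ← trb_inv]; group
  obtain ⟨a', ha'⟩ := hfix (1, 0)
  rw [e, na_trb_emb, zero_add] at ha'
  have := (emb_inj _ _ _ _ (by decide) ha').1
  obtain rfl : c = c' := neg_add_eq_zero.mp (Option.some.inj this)
  rfl

/-- Forty cosets. -/
theorem relIndex_C1 : F.C1.relIndex F.XS = 40 := by
  classical
  let Q := F.XS ⧸ F.C1.subgroupOf F.XS
  apply le_antisymm
  · let f : Q × ZMod 3 → {v : Vec // qv v = 1} := fun p =>
      ⟨F.na ((p.1.out : F.XS) : G) (sp p.2 (emb none (1, 0))), by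
        rw [F.na_qv p.1.out.2.1]
        exact (by decide +kernel : ∀ i, qv (sp i (emb none (1, 0))) = 1) _⟩
    have hf : Function.Injective f := by
      rintro ⟨q, i⟩ ⟨q', i'⟩ h
      have h' := congrArg Subtype.val h
      simp only [f] at h'
      have hX : ((q.out : F.XS) : G)⁻¹ * ((q'.out : F.XS) : G) ∈ F.XS := mul_mem (inv_mem q.out.2) q'.out.2
      have e1 : F.na (((q.out : F.XS) : G)⁻¹ * ((q'.out : F.XS) : G)) (sp i' (emb none (1, 0))) =
          sp i (emb none (1, 0)) := by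
        rw [F.na_mul (inv_mem q.out.2.1) q'.out.2.1, ← h', F.na_inv_cancel q.out.2.1]
      have hq : q = q' := by
        rw [← q.out_eq, ← q'.out_eq]
        exact QuotientGroup.eq.mpr (F.unit_stab hX e1)
      subst hq
      rw [inv_mul_cancel, F.na_one] at e1
      rw [sp_inj _ _ e1]
    have hc := Nat.card_le_card_of_injective f hf
    rw [Nat.card_prod, card_units, Nat.card_zmod, show Nat.card Q = F.C1.relIndex F.XS from rfl] at hc
    omega
  · obtain ⟨g, hg, h1, h2⟩ := F.exists_far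
    let f : Option ((Fin 4 × ZMod 3) ⊕ Qm (D := D)) → Q := fun o => o.elim ((1 : F.XS) : Q) fun s => s.elim
      (fun p => ((⟨wm (D := D) p * F.τ, mul_mem (F.cent_z_XS (wm_Mi p) (wm_z p)) F.τ_XS⟩ : F.XS) : Q))
      (fun (e : Qm (D := D)) => ((⟨(e : G) * g, mul_mem (F.C1_le_XS (F.Qm_le_C1 e.2)) hg⟩ : F.XS) : Q))
    -- the first component of the image of the base unit
    let fst' : Q → Prop := fun q => (F.na ((q.out : F.XS) : G) (emb none (1, 0))).1 = 0
    have hC : ∀ {x : G}, x ∈ F.C1 → ∃ a, a ≠ 0 ∧ F.na x (emb none (1, 0)) = emb none a := fun {x} hx => by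
      obtain ⟨a, ha⟩ := F.XR_na_R1 (F.C1_le_XR hx) (1, 0)
      refine ⟨a, fun h0 => ?_, ha⟩
      have := F.na_qv (F.C1_le_N hx) (emb none (1, 0))
      rw [ha, h0] at this
      exact absurd this (by decide +kernel)
    have hwW : ∀ p a, (F.na (wm (D := D) p * F.τ) (emb none a)).1 = 0 := fun p a => by
      rw [F.na_mul (F.cent_z_le_N (wm_Mi p) (wm_z p)) F.τ_le_N, F.τ_R1_emb]
      exact F.XR_na_W (F.C1_le_XR (F.cent_z_C1 (wm_Mi p) (wm_z p))) rfl
    have hbw : ∀ p, ¬ wm (D := D) p * F.τ ∈ F.C1 := fun p hp => by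
      obtain ⟨a, ha0, ha⟩ := hC hp
      have := hwW p (1, 0)
      rw [ha] at this
      exact ha0 this
    have hbe : ∀ e : Qm (D := D), ¬ (e : G) * g ∈ F.C1 := fun e he => by
      have hgC : g ∈ F.C1 := by
        have := mul_mem (inv_mem (F.Qm_le_C1 e.2)) he
        rwa [inv_mul_cancel_left] at this
      obtain ⟨a, -, ha⟩ := hC hgC
      rw [ha] at h2
      exact h2 rfl
    have hwe : ∀ p (e : Qm (D := D)), ¬ (wm (D := D) p * F.τ)⁻¹ * ((e : G) * g) ∈ F.C1 := fun p e hx => by
      obtain ⟨a, -, ha⟩ := hC hx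
      have hwN := mul_mem (F.cent_z_le_N (wm_Mi (D := D) p) (wm_z p)) F.τ_le_N
      have heR := F.C1_le_XR (F.Qm_le_C1 e.2)
      rw [F.na_mul (inv_mem hwN) (mul_mem heR.1 hg.1), F.na_mul heR.1 hg.1] at ha
      have h3 := hwW p a
      rw [← ha, F.na_cancel_inv hwN] at h3
      refine h1 ?_
      have := F.XR_na_W (inv_mem heR) h3
      rwa [F.na_inv_cancel heR.1] at this
    have hee : ∀ e e' : Qm (D := D), ((e : G) * g)⁻¹ * ((e' : G) * g) ∈ F.C1 → e = e' := fun e e' hx => by
      by_contra hne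
      exact F.far_free hg h1 h2 (mul_mem (inv_mem e.2) e'.2)
        (fun hd => hne (Subtype.ext (inv_mul_eq_one.mp hd)))
        (by rwa [show g⁻¹ * ((e : G)⁻¹ * e') * g = ((e : G) * g)⁻¹ * ((e' : G) * g) by group])
    have hf : Function.Injective f := by
      have hsymm : ∀ {x y : G}, x⁻¹ * y ∈ F.C1 → y⁻¹ * x ∈ F.C1 := fun {x y} h => by
        have := inv_mem h
        rwa [mul_inv_rev, inv_inv] at this
      have hq : ∀ {x y : F.XS}, ((QuotientGroup.mk x : Q) = QuotientGroup.mk y) → ((x : G))⁻¹ * (y : G) ∈ F.C1 := fun {x y} h => by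
        have := QuotientGroup.eq.mp h
        exact this
      rintro (_ | p | e) (_ | p' | e') h
      · rfl
      · have := hq h
        exact absurd (by simpa using this) (hbw p')
      · have := hq h
        exact absurd (by simpa using this) (hbe e')
      · have := hq h.symm
        exact absurd (by simpa using this) (hbw p)
      · rw [F.wm_inj (hq h)]
      · exact absurd (hq h) (hwe p e')
      · have := hq h.symm
        exact absurd (by simpa using this) (hbe e)
      · exact absurd (hsymm (hq h)) (hwe p' e)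
      · rw [hee e e' (hq h)]
    have := Nat.card_le_card_of_injective f hf
    rw [Finite.card_option, Nat.card_sum, Nat.card_prod, Nat.card_zmod, Nat.card_fin, card_Qm] at this
    exact this

/-- Transitivity on the units. -/
theorem units_transitive {v : Vec} (hv : qv v = 1) :
    ∃ g ∈ F.XS, ∃ i, F.na g (sp i (emb none (1, 0))) = v := by
  classical
  let Q := F.XS ⧸ F.C1.subgroupOf F.XS
  let f : Q × ZMod 3 → {v : Vec // qv v = 1} := fun p =>
    ⟨F.na ((p.1.out : F.XS) : G) (sp p.2 (emb none (1, 0))), by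
      rw [F.na_qv p.1.out.2.1]
      exact (by decide +kernel : ∀ i, qv (sp i (emb none (1, 0))) = 1) _⟩
  have hf : Function.Injective f := by
    rintro ⟨q, i⟩ ⟨q', i'⟩ h
    have h' := congrArg Subtype.val h
    simp only [f] at h'
    have hX : ((q.out : F.XS) : G)⁻¹ * ((q'.out : F.XS) : G) ∈ F.XS := mul_mem (inv_mem q.out.2) q'.out.2
    have e1 : F.na (((q.out : F.XS) : G)⁻¹ * ((q'.out : F.XS) : G)) (sp i' (emb none (1, 0))) =
        sp i (emb none (1, 0)) := by
      rw [F.na_mul (inv_mem q.out.2.1) q'.out.2.1, ← h', F.na_inv_cancel q.out.2.1]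
    have hq : q = q' := by
      rw [← q.out_eq, ← q'.out_eq]
      exact QuotientGroup.eq.mpr (F.unit_stab hX e1)
    subst hq
    rw [inv_mul_cancel, F.na_one] at e1
    rw [sp_inj _ _ e1]
  have hb : Function.Bijective f := (Nat.bijective_iff_injective_and_card f).mpr ⟨hf, by
    rw [Nat.card_prod, card_units, Nat.card_zmod, show Nat.card Q = F.C1.relIndex F.XS from rfl, F.relIndex_C1]⟩
  obtain ⟨⟨q, i⟩, e⟩ := hb.2 ⟨v, hv⟩
  exact ⟨_, q.out.2, i, congrArg Subtype.val e⟩

end Setting.Base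

end CfsgLib.U6Three
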