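import Cfsg.Agent.Lib.U6Three.Orient

/-!
A standard point with the abelian group of order eighty-one it spans with the central element and the first
coordinate vectors.
-/

set_option autoImplicit false

namespace CfsgLib.U6Three

universe u

/-- Coordinates on the group of order eighty-one. -/
abbrev V4 := ZMod 3 × ZMod 3 × ZMod 3 × ZMod 3

/-- The vector in the span of the first coordinate vectors. -/
def av (i l : ZMod 3) : W4 := ((i, 0), (l, 0))

/-- The quadratic form. -/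
def qJ : V4 → ZMod 3 := fun v => v.1 * v.2.2.2 + v.2.1 * v.2.1 + v.2.2.1 * v.2.2.1

theorem av_add (i l i' l' : ZMod 3) : av i l + av i' l' = av (i + i') (l + l') := by simp [av]

theorem av_inA (i l : ZMod 3) : InA (av i l) := ⟨rfl, rfl⟩

theorem av_om : ∀ i l i' l', om (av i l) (av i' l') = 0 := by decide +kernel

theorem av_inj : ∀ i l i' l', av i l = av i' l' → i = i' ∧ l = l' := by decide +kernel

theorem inA_av : ∀ v : W4, InA v → ∃ i l, v = av i l := by decide +kernel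

theorem av_neg (i l : ZMod 3) : -av i l = av (-i) (-l) := by simp [av]

theorem mUpow_inj : ∀ a b : ZMod 3, mU ^ a.val = mU ^ b.val → a = b := by decide +kernel

theorem cV_mU : ∀ w : W4, cV ((mU, mU) : Pr) 0 w = av (-w.1.2) (-w.2.2) ∧
    cK ((mU, mU) : Pr) 0 w = -(w.1.2 * w.1.2 + w.2.2 * w.2.2) := by decide +kernel

namespace Setting

variable {G : Type u} [Group G] (D : Setting G)

/-- A standard point. -/
structure Base where
  /-- the point -/
  y : G
  acts : D.Acts y (mU, mU)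
  pt : D.IsPt y

theorem exists_base : Nonempty D.Base := by
  obtain ⟨g, hz, hn⟩ := D.nwc
  have hQ : g * D.z * g⁻¹ ∉ D.Q := fun ⟨k, v, e⟩ => hn k v e
  obtain ⟨h, p, hh, hx, hp⟩ := point_form (D := D) ⟨g, Or.inl rfl⟩ hz hQ
  have hpt : D.IsPt (h * (g * D.z * g⁻¹) * h⁻¹) := IsPt.conj (D := D) ⟨g, Or.inl rfl⟩ h
  rcases hp with rfl | rfl
  · exact ⟨⟨_, hx, hpt⟩⟩
  · refine ⟨⟨_, ?_, hpt.inv⟩⟩
    have e : ((mU * mU, mU * mU) : Pr)⁻¹ = (mU, mU) := pr_inv.2.1
    exact e ▸ hx.inv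

variable {D} (F : D.Base)

namespace Base

theorem y_cube : F.y ^ 3 = 1 := F.pt.cube

theorem y_z : Commute F.y D.z := F.acts.1.cz

theorem y_t : Commute F.y D.t := F.acts.1.ct

theorem y_pow_add (a b : ZMod 3) : F.y ^ (a + b).val = F.y ^ a.val * F.y ^ b.val := by
  rw [← pow_add, ZMod.val_add, ← pow_eq_pow_mod _ F.y_cube]

theorem y_pow_neg (a : ZMod 3) : F.y ^ (-a).val = (F.y ^ a.val)⁻¹ :=
  eq_inv_of_mul_eq_one_left (by rw [← F.y_pow_add, neg_add_cancel, ZMod.val_zero, pow_zero])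

theorem y_q {v : W4} (hv : InA v) : Commute F.y (D.q v) :=
  F.acts.comm_q ((DiagP.fix_iff (p := ((mU, mU) : Pr)) (Or.inl rfl) v).mpr hv)

theorem y_ma (j : ZMod 3) : D.MA (F.y ^ j.val) ((mU, mU) ^ j.val) := F.acts.ma.pow _

theorem y_not_Q : F.y ∉ D.Q := F.acts.not_mem_Q fun h => mU_cube.2.1 (congrArg Prod.fst h)

/-- The coordinates. -/
def jel (v : V4) : G := D.zz v.1 * D.q (av v.2.1 v.2.2.1) * F.y ^ v.2.2.2.val

theorem jel_add (v w : V4) : F.jel (v + w) = F.jel v * F.jel w := by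
  obtain ⟨k, i, l, j⟩ := v
  obtain ⟨k', i', l', j'⟩ := w
  have hc : Commute (F.y ^ j.val) (D.zz k' * D.q (av i' l')) :=
    ((F.y_z.pow_left _).pow_right _).mul_right ((F.y_q (av_inA i' l')).pow_left _)
  show D.zz (k + k') * D.q (av (i + i') (l + l')) * F.y ^ (j + j').val =
    D.zz k * D.q (av i l) * F.y ^ j.val * (D.zz k' * D.q (av i' l') * F.y ^ j'.val)
  rw [show D.zz k * D.q (av i l) * F.y ^ j.val * (D.zz k' * D.q (av i' l') * F.y ^ j'.val) =
    D.zz k * D.q (av i l) * (F.y ^ j.val * (D.zz k' * D.q (av i' l'))) * F.y ^ j'.val by group, hc.eq,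
    show D.zz k * D.q (av i l) * (D.zz k' * D.q (av i' l') * F.y ^ j.val) * F.y ^ j'.val =
    D.zz k * D.q (av i l) * (D.zz k' * D.q (av i' l')) * (F.y ^ j.val * F.y ^ j'.val) by group,
    zz_q_pair, av_om, neg_zero, add_zero, av_add, ← F.y_pow_add]

theorem jel_zero : F.jel 0 = 1 := by
  show D.zz 0 * D.q (av 0 0) * F.y ^ (0 : ZMod 3).val = 1
  rw [D.zz_zero, show av 0 0 = (0 : W4) from rfl, D.q_zero, ZMod.val_zero, pow_zero, one_mul, one_mul]

theorem jel_neg (v : V4) : F.jel (-v) = (F.jel v)⁻¹ :=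
  eq_inv_of_mul_eq_one_left (by rw [← F.jel_add, neg_add_cancel, F.jel_zero])

theorem jel_inj {v w : V4} (h : F.jel v = F.jel w) : v = w := by
  have h1 : F.jel (v - w) = 1 := by rw [sub_eq_add_neg, F.jel_add, F.jel_neg, h, mul_inv_cancel]
  obtain ⟨⟨k, i, l, j⟩, e⟩ : ∃ u : V4, u = v - w := ⟨_, rfl⟩
  rw [← e] at h1
  have hQ : D.zz k * D.q (av i l) ∈ D.Q := mul_mem (D.zz_mem k) (D.q_mem _)
  have hy : F.y ^ j.val ∈ D.Q := by
    have : F.y ^ j.val = (D.zz k * D.q (av i l))⁻¹ := eq_inv_of_mul_eq_one_right h1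
    rw [this]; exact D.Q.inv_mem hQ
  have hj : j = 0 := by
    have := (F.y_ma j).unique (ma_of_Q hy)
    exact diag_pow_one mU (Or.inl rfl) j (by simpa using congrArg Prod.fst this)
  subst hj
  have h2 : D.zz k * D.q (av i l) = D.zz 0 * D.q (av 0 0) := by
    have h3 : D.zz k * D.q (av i l) * F.y ^ (0 : ZMod 3).val = 1 := h1
    rw [ZMod.val_zero, pow_zero, mul_one] at h3
    rw [h3, D.zz_zero, show av 0 0 = (0 : W4) from rfl, D.q_zero, one_mul]
  obtain ⟨a, b⟩ := D.el_inj h2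
  obtain ⟨c, d⟩ := av_inj _ _ _ _ b
  subst a c d
  exact sub_eq_zero.mp e.symm

/-- The group of order eighty-one. -/
def J : Subgroup G where
  carrier := {x | ∃ v, x = F.jel v}
  one_mem' := ⟨0, F.jel_zero.symm⟩
  mul_mem' := by rintro _ _ ⟨v, rfl⟩ ⟨w, rfl⟩; exact ⟨v + w, (F.jel_add v w).symm⟩
  inv_mem' := by rintro _ ⟨v, rfl⟩; exact ⟨-v, (F.jel_neg v).symm⟩

theorem jel_mem (v : V4) : F.jel v ∈ F.J := ⟨v, rfl⟩

theorem jel_comm (v w : V4) : Commute (F.jel v) (F.jel w) := by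
  show F.jel v * F.jel w = F.jel w * F.jel v
  rw [← F.jel_add, ← F.jel_add, add_comm]

theorem card_J : Nat.card F.J = 81 := by
  have e : V4 ≃ F.J := Equiv.ofBijective (fun v => ⟨F.jel v, F.jel_mem v⟩)
    ⟨fun v w h => F.jel_inj (congrArg Subtype.val h), fun x => by
      obtain ⟨_, v, rfl⟩ := x
      exact ⟨v, rfl⟩⟩
  rw [← Nat.card_congr e, Nat.card_eq_fintype_card]
  rfl

theorem jel_z : F.jel (1, 0, 0, 0) = D.z := by
  show D.zz 1 * D.q (av 0 0) * F.y ^ (0 : ZMod 3).val = D.z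
  rw [D.zz_one, show av 0 0 = (0 : W4) from rfl, D.q_zero, ZMod.val_zero, pow_zero, mul_one, mul_one]

theorem jel_y : F.jel (0, 0, 0, 1) = F.y := by
  show D.zz 0 * D.q (av 0 0) * F.y ^ (1 : ZMod 3).val = F.y
  rw [D.zz_zero, show av 0 0 = (0 : W4) from rfl, D.q_zero, show (1 : ZMod 3).val = 1 from rfl, pow_one, one_mul,
    one_mul]

theorem jel_zpow (k : ZMod 3) : F.jel (k, 0, 0, 0) = D.zz k := by
  show D.zz k * D.q (av 0 0) * F.y ^ (0 : ZMod 3).val = _
  rw [show av 0 0 = (0 : W4) from rfl, D.q_zero, ZMod.val_zero, pow_zero, mul_one, mul_one]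

theorem jel_ypow (j : ZMod 3) : F.jel (0, 0, 0, j) = F.y ^ j.val := by
  show D.zz 0 * D.q (av 0 0) * F.y ^ j.val = _
  rw [D.zz_zero, show av 0 0 = (0 : W4) from rfl, D.q_zero, one_mul, one_mul]

theorem jel_q (i l : ZMod 3) : F.jel (0, i, l, 0) = D.q (av i l) := by
  show D.zz 0 * D.q (av i l) * F.y ^ (0 : ZMod 3).val = _
  rw [D.zz_zero, ZMod.val_zero, pow_zero, one_mul, mul_one]

/-- The action of the core on the coordinates. -/
theorem q_conj_y (w : W4) : D.q w * F.y * (D.q w)⁻¹ =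
    F.jel (-(w.1.2 * w.1.2 + w.2.2 * w.2.2), -w.1.2, -w.2.2, 1) := by
  have := D.q_conj_el (k := 0) (u := 0) F.acts w
  rw [D.zz_zero, D.q_zero, one_mul, one_mul, zero_add, (cV_mU w).1, (cV_mU w).2, ← mul_assoc] at this
  rw [this]
  show _ = D.zz _ * D.q _ * F.y ^ (1 : ZMod 3).val
  rw [show (1 : ZMod 3).val = 1 from rfl, pow_one]

theorem q_conj_jel (w : W4) (v : V4) : D.q w * F.jel v * (D.q w)⁻¹ =
    F.jel (v.1 + om w (av v.2.1 v.2.2.1) - v.2.2.2 * (w.1.2 * w.1.2 + w.2.2 * w.2.2),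
      v.2.1 - v.2.2.2 * w.1.2, v.2.2.1 - v.2.2.2 * w.2.2, v.2.2.2) := by
  obtain ⟨k, i, l, j⟩ := v
  have hy : D.q w * F.y ^ j.val * (D.q w)⁻¹ =
      F.jel (-(j * (w.1.2 * w.1.2 + w.2.2 * w.2.2)), -(j * w.1.2), -(j * w.2.2), j) := by
    rw [← conj_pow, F.q_conj_y]
    rcases (by decide : ∀ j : ZMod 3, j = 0 ∨ j = 1 ∨ j = 2) j with rfl | rfl | rfl
    · simp [← F.jel_zero]; rfl
    · rw [show (1 : ZMod 3).val = 1 from rfl, pow_one, one_mul, one_mul, one_mul]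
    · rw [show (2 : ZMod 3).val = 2 from rfl, pow_two, ← F.jel_add, Prod.mk_add_mk, Prod.mk_add_mk, Prod.mk_add_mk]
      congr 1
      ext <;> simp only [] <;> ring
  calc D.q w * F.jel (k, i, l, j) * (D.q w)⁻¹
      = (D.q w * D.zz k * (D.q w)⁻¹) * (D.q w * D.q (av i l) * (D.q w)⁻¹) * (D.q w * F.y ^ j.val * (D.q w)⁻¹) := by
        show D.q w * (D.zz k * D.q (av i l) * F.y ^ j.val) * (D.q w)⁻¹ = _
        group
    _ = F.jel (k + om w (av i l), i, l, 0) *
        F.jel (-(j * (w.1.2 * w.1.2 + w.2.2 * w.2.2)), -(j * w.1.2), -(j * w.2.2), j) := by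
        rw [D.conj_zz (D.q_z w), D.q_conj, hy]
        congr 1
        show _ = D.zz _ * D.q _ * F.y ^ (0 : ZMod 3).val
        rw [ZMod.val_zero, pow_zero, mul_one, D.zz_add, mul_assoc]
    _ = _ := by
        rw [← F.jel_add]
        congr 1
        simp [sub_eq_add_neg]

end Base

end Setting

end CfsgLib.U6Three
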