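import Cfsg.Agent.Lib.U6Three.FreePairTI
import Cfsg.Agent.Lib.U6Three.InvolTransfer
import Cfsg.Agent.Lib.TransferApps
import Cfsg.Agent.Lib.PResidual

/-!
The centraliser of both first coordinate vectors normalises the centraliser of the coordinates when the latter is
large.
-/

set_option autoImplicit false
set_option linter.style.haveILetI false

namespace CfsgLib.U6Three

universe u

theorem le_of_grow {G : Type u} [Group G] [Finite G] {p : ℕ} [Fact p.Prime] {P C0 : Subgroup G} (hP : IsPGroup p P)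
    (hC : C0 ≤ P) (h : ∀ x ∈ P, (∀ c ∈ C0, x * c * x⁻¹ ∈ C0) → x ∈ C0) : P ≤ C0 := by
  by_contra hne
  haveI : Group.IsNilpotent P := hP.isNilpotent
  have hlt : C0.subgroupOf P < ⊤ := lt_top_iff_ne_top.mpr fun e => hne (Subgroup.subgroupOf_eq_top.mp e)
  obtain ⟨⟨x, hxP⟩, hn, hnot⟩ := SetLike.exists_of_lt (Group.normalizerCondition_of_isNilpotent _ hlt)
  refine hnot (h x hxP fun c hc => ?_)
  exact (hn ⟨c, hC hc⟩).mp hc

theorem cls_cases : ∀ c : Cls, c = 0 ∨ c = (0, 1) ∨ c = (1, 0) ∨ c = (1, 1) := by decide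

theorem cls_triple : ∀ c : Cls, c + c + c = c := by decide

theorem sign_cube : ∀ a : Multiplicative (ZMod 2), a ^ 3 = 1 → a = 1 := by decide

/-- The first label. -/
def l1 : Cls →+ ZMod 2 := AddMonoidHom.fst _ _

/-- The sum of the labels. -/
def l2 : Cls →+ ZMod 2 := AddMonoidHom.fst _ _ + AddMonoidHom.snd _ _

namespace Setting.Base

variable {G : Type u} [Group G] {D : Setting G} (F : D.Base) [Finite G]

theorem A12_conj_jel {h : G} (hh : h ∈ F.NF) {c : Cls} (hc : F.cls ⟨h, hh⟩ = c) (k i l j : ZMod 3) :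
    h * F.jel (k, i, l, j) * h⁻¹ = F.jel ((clsMap c (k, j)).1, i, l, (clsMap c (k, j)).2) :=
  hc ▸ F.cls_spec ⟨h, hh⟩ k i l j

/-- The elements of an involution class exchanging the pair have small centraliser in the large abelian group. -/
theorem cent_swap_J (hB : D.caseB) {w : G} (hw : w ∈ F.NF) (hc : F.cls ⟨w, hw⟩ = (1, 0)) {x : G} (hx : x ∈ F.U)
    (hcx : Commute w x) : ∃ k i l : ZMod 3, x = F.jel (k, i, l, k) := by
  obtain ⟨⟨k, i, l, j⟩, m, hdec⟩ := F.U_decomp hB hx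
  obtain ⟨hsq, hτA, -, hact, hs0⟩ := F.τ3_facts
  have hwτ : w * F.τ3 ∈ F.NF := mul_mem hw F.τ3_mem
  have hcls : F.cls ⟨w * F.τ3, hwτ⟩ = (0, 1) := by
    rw [show (⟨w * F.τ3, hwτ⟩ : F.NF) = ⟨w, hw⟩ * ⟨F.τ3, F.τ3_mem⟩ from rfl, F.cls_mul, hc, F.cls_τ3]; decide
  have hs : F.s0 ^ m.val ∈ F.U := pow_mem (F.mem_P.mp F.s0_mem_P).1 _
  have hJ : F.s0 ^ m.val ∈ F.J := by
    refine F.inv_pair_coset hwτ hcls hs ?_
    have e1 : w * F.τ3 * F.s0 ^ m.val * (w * F.τ3)⁻¹ = w * F.s0 ^ m.val * w⁻¹ := by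
      rw [show w * F.τ3 * F.s0 ^ m.val * (w * F.τ3)⁻¹ = w * (F.τ3 * F.s0 ^ m.val * F.τ3⁻¹) * w⁻¹ by group,
        (hs0.pow_right _).eq, mul_inv_cancel_right]
    have e2 : w * F.jel (k, i, l, j) * w⁻¹ * (w * F.s0 ^ m.val * w⁻¹) = F.jel (k, i, l, j) * F.s0 ^ m.val := by
      rw [conj_mul, ← hdec, hcx.eq, mul_inv_cancel_right]
    rw [e1, eq_inv_mul_of_mul_eq e2, F.A12_conj_jel hw hc, ← mul_assoc (F.jel _)⁻¹, ← F.jel_neg, ← F.jel_add,
      (F.commute_jel hs _).inv_left.left_comm, inv_mul_cancel, mul_one]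
    exact F.jel_mem _
  rw [F.s0_pow_mem_J hB hJ, ZMod.val_zero, pow_zero, mul_one] at hdec
  subst hdec
  have h2 := F.A12_conj_jel hw hc k i l j
  rw [hcx.eq, mul_inv_cancel_right] at h2
  have h3 := congrArg (fun v : V4 => v.1) (F.jel_inj h2)
  exact ⟨k, i, l, by rw [show k = j from h3]⟩

theorem card_three_swap (hB : D.caseB) {w : G} (hw : w ∈ F.NF) (hc : F.cls ⟨w, hw⟩ = (1, 0)) (P : Subgroup G)
    (hP : IsPGroup 3 P) (hPA : P ≤ A12 (D := D)) (hPw : ∀ x ∈ P, Commute w x) : Nat.card P ≤ 27 := by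
  haveI : Fact (Nat.Prime 3) := ⟨by norm_num⟩
  set C0 := F.U ⊓ Subgroup.centralizer {w} with hC0
  set H := A12 (D := D) ⊓ Subgroup.centralizer {w} with hH
  have hC0U : ∀ {x}, x ∈ C0 → x ∈ F.U ∧ Commute w x := fun {x} hx =>
    ⟨hx.1, (Subgroup.mem_centralizer_singleton_iff.mp hx.2).symm⟩
  have hcard : Nat.card C0 ≤ 27 := by
    refine (Nat.card_le_card_of_injective (β := ZMod 3 × ZMod 3 × ZMod 3) (fun x =>
      ((F.cent_swap_J hB hw hc (hC0U x.2).1 (hC0U x.2).2).choose,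
       (F.cent_swap_J hB hw hc (hC0U x.2).1 (hC0U x.2).2).choose_spec.choose,
       (F.cent_swap_J hB hw hc (hC0U x.2).1 (hC0U x.2).2).choose_spec.choose_spec.choose)) fun x y e => ?_).trans
        (by simp)
    simp only [Prod.mk.injEq] at e
    refine Subtype.ext ?_
    have sx := (F.cent_swap_J hB hw hc (hC0U x.2).1 (hC0U x.2).2).choose_spec.choose_spec.choose_spec
    have sy := (F.cent_swap_J hB hw hc (hC0U y.2).1 (hC0U y.2).2).choose_spec.choose_spec.choose_spec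
    refine sx.trans (Eq.trans ?_ sy.symm)
    exact congrArg F.jel (Prod.ext e.1 (Prod.ext e.2.1 (Prod.ext e.2.2 e.1)))
  have hC0H : C0 ≤ H := inf_le_inf_right _ F.U_le_A12
  have hC0p : IsPGroup 3 (C0.subgroupOf H) := fun x =>
    ⟨1, Subtype.ext (Subtype.ext (by simpa using F.U_cube (hC0U x.2).1))⟩
  obtain ⟨Q, hQ⟩ := hC0p.exists_le_sylow
  obtain ⟨Q', hQ'⟩ := (hP.comap_of_injective H.subtype H.subtype_injective).exists_le_sylow
  have he : (Q : Subgroup H).map H.subtype ≤ C0 := by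
    refine le_of_grow (Q.2.map _) (fun x hx => ⟨⟨x, hC0H hx⟩, hQ hx, rfl⟩) ?_
    rintro _ ⟨⟨x, hxA, hxw⟩, hxQ, rfl⟩ hn
    have hj : F.jel (1, 0, 0, 1) ∈ C0 := ⟨F.jel_mem_U _, Subgroup.mem_centralizer_singleton_iff.mpr (by
      refine (mul_inv_eq_iff_eq_mul.mp ?_).symm
      rw [F.A12_conj_jel hw hc]
      exact congrArg F.jel (by rfl))⟩
    have hxN : x ∈ F.NF := F.plane_TI hB hxA (F.jel_mem_U _) (fun i l e => by simpa using F.jel_inj e) (hn _ hj).1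
    obtain ⟨n, hn3⟩ := Q.2 ⟨_, hxQ⟩
    have h4 : x ^ 3 ^ n = 1 := congrArg (fun z : Q => ((z : H) : G)) hn3
    refine ⟨?_, hxw⟩
    obtain ⟨r, hr⟩ : Odd (3 ^ n) := (by decide : Odd 3).pow
    have h5 : x = (x * x) ^ (r + 1) := by
      rw [← pow_two, ← pow_mul, show 2 * (r + 1) = 3 ^ n + 1 by omega, pow_succ, h4, one_mul]
    show x ∈ F.U
    rw [h5]
    exact pow_mem (F.NF_sq hxN) _
  calc Nat.card P = Nat.card (P.subgroupOf H) := (Nat.card_congr (Subgroup.subgroupOfEquivOfLe (fun x hx =>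
          ⟨hPA hx, Subgroup.mem_centralizer_singleton_iff.mpr (hPw x hx).symm⟩ : P ≤ H)).toEquiv).symm
    _ ≤ Nat.card (Q' : Subgroup H) := Subgroup.card_le_of_le hQ'
    _ = Nat.card (Q : Subgroup H) := by rw [Q'.card_eq_multiplicity, Q.card_eq_multiplicity]
    _ = Nat.card ((Q : Subgroup H).map H.subtype) := (Subgroup.card_map_of_injective H.subtype_injective).symm
    _ ≤ Nat.card C0 := Subgroup.card_le_of_le he
    _ ≤ 27 := hcard

theorem τ3_not_swap (hB : D.caseB) {w : G} (hw : w ∈ F.NF) (hc : F.cls ⟨w, hw⟩ = (1, 0)) {g : G}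
    (hg : g ∈ A12 (D := D)) : g * F.τ3 * g⁻¹ ≠ w := by
  intro e
  obtain ⟨-, -, -, hact, hs0⟩ := F.τ3_facts
  set C := F.U ⊓ Subgroup.centralizer {F.τ3} with hC
  have h81 : 81 ≤ Nat.card C := by
    refine le_of_eq_of_le (by simp) (Nat.card_le_card_of_injective (α := ZMod 3 × ZMod 3 × ZMod 3 × ZMod 3) (fun p =>
      (⟨F.jel (p.1, p.2.1, p.2.2.1, -p.1) * F.s0 ^ p.2.2.2.val,
        mul_mem (F.jel_mem_U _) (pow_mem (F.mem_P.mp F.s0_mem_P).1 _), Subgroup.mem_centralizer_singleton_iff.mpr (by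
          refine (Commute.mul_left ?_ (hs0.symm.pow_left _)).eq
          refine (mul_inv_eq_iff_eq_mul.mp ?_).symm
          rw [hact, neg_neg])⟩ : C)) ?_)
    rintro ⟨a, b, c, d⟩ ⟨a', b', c', d'⟩ h0
    obtain ⟨h1, h2⟩ := F.U_coord_inj hB (congrArg Subtype.val h0)
    simp only [Prod.mk.injEq] at h1
    obtain ⟨rfl, rfl, rfl, -⟩ := h1
    obtain rfl : d = d' := h2
    rfl
  have := F.card_three_swap hB hw hc (C.map (MulAut.conj g).toMonoidHom)
    (IsPGroup.map (fun x => ⟨1, Subtype.ext (by simpa using F.U_cube x.2.1)⟩) _)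
    (by rintro _ ⟨x, hx, rfl⟩; exact mul_mem (mul_mem hg (F.U_le_A12 hx.1)) (inv_mem hg))
    (by rintro _ ⟨x, hx, rfl⟩; exact e ▸ conj_comm g (Subgroup.mem_centralizer_singleton_iff.mp hx.2).symm)
  rw [Subgroup.card_map_of_injective (MulAut.conj g).injective] at this
  omega

/-- Involutions of the flip class are flips. -/
theorem flip_conj {w : G} (hw : w ∈ F.NF) (hw2 : w * w = 1) (hc : F.cls ⟨w, hw⟩ = (1, 1)) :
    ∃ s ∈ F.U, s * F.τ3 * s⁻¹ = w := by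
  obtain ⟨hsq, -⟩ := F.τ3_facts
  have hu : w * F.τ3 ∈ F.U := (F.cls_zero_iff (⟨w, hw⟩ * ⟨F.τ3, F.τ3_mem⟩)).mp (by
    rw [F.cls_mul, hc, F.cls_τ3, cls_double])
  refine ⟨w * F.τ3 * (w * F.τ3), mul_mem hu hu, ?_⟩
  set u := w * F.τ3 with hudef
  have hwu : w = u * F.τ3 := by rw [hudef, mul_assoc, hsq, mul_one]
  have h1 : F.τ3 * u⁻¹ = u * F.τ3 := by
    rw [← hwu, hudef, mul_inv_rev, inv_eq_of_mul_eq_one_right hsq, ← mul_assoc, hsq, one_mul,
      inv_eq_of_mul_eq_one_right hw2]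
  calc u * u * F.τ3 * (u * u)⁻¹ = u * u * (F.τ3 * u⁻¹) * u⁻¹ := by group
    _ = u * u * (u * F.τ3) * u⁻¹ := by rw [h1]
    _ = u * u * u * (F.τ3 * u⁻¹) := by group
    _ = u * u * u * (u * F.τ3) := by rw [h1]
    _ = u * u * u * u * F.τ3 := by group
    _ = w := by rw [show u * u * u = u ^ 3 by rw [pow_three'], F.U_cube hu, one_mul, ← hwu]

/-- The elements normalising, inside. -/
def NFsub : Subgroup (A12 (D := D)) := F.NF.subgroupOf (A12 (D := D))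

/-- The sign of a label. -/
noncomputable def chi (l : Cls →+ ZMod 2) : F.NFsub →* Multiplicative (ZMod 2) :=
  MonoidHom.mk' (fun x => Multiplicative.ofAdd (l (F.cls ⟨((x : A12 (D := D)) : G), x.2⟩))) fun a b => by
    rw [← ofAdd_add, ← map_add, ← F.cls_mul]; rfl

/-- The transferred sign. -/
noncomputable def sgn (l : Cls →+ ZMod 2) : A12 (D := D) →* Multiplicative (ZMod 2) :=
  MonoidHom.transfer (F.chi l)

theorem sgn_U (l : Cls →+ ZMod 2) {x : A12 (D := D)} (hx : (x : G) ∈ F.U) : F.sgn l x = 1 :=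
  sign_cube _ (by rw [← map_pow, show x ^ 3 = 1 from Subtype.ext (F.U_cube hx), map_one])

theorem sgn_cls (l : Cls →+ ZMod 2) {x y : A12 (D := D)} (hx : (x : G) ∈ F.NF) (hy : (y : G) ∈ F.NF)
    (h : F.cls ⟨x, hx⟩ = F.cls ⟨y, hy⟩) : F.sgn l x = F.sgn l y := by
  have hu : ((x * y : A12 (D := D)) : G) ∈ F.U := (F.cls_zero_iff (⟨x, hx⟩ * ⟨y, hy⟩)).mp (by
    rw [F.cls_mul, h, cls_double])
  have := F.sgn_U l hu
  rw [map_mul] at this
  exact (by decide : ∀ a b : Multiplicative (ZMod 2), a * b = 1 → a = b) _ _ this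

theorem sgn_conj (l : Cls →+ ZMod 2) (g x : A12 (D := D)) : F.sgn l (g⁻¹ * x * g) = F.sgn l x := by
  rw [map_mul, map_mul, map_inv, mul_comm (F.sgn l g)⁻¹, inv_mul_cancel_right]

theorem sgn_τ3 (hB : D.caseB) :
    F.sgn l1 ⟨F.τ3, F.τ3_facts.2.1⟩ = Multiplicative.ofAdd (1 : ZMod 2) := by
  classical
  haveI := Fintype.ofFinite (A12 (D := D) ⧸ F.NFsub)
  rw [sgn, transfer_invol_single (F.chi l1) (Subtype.ext F.τ3_facts.1) (show (⟨F.τ3, _⟩ : A12 (D := D)) ∈ F.NFsub from F.τ3_mem)]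
  · show Multiplicative.ofAdd (l1 (F.cls ⟨F.τ3, F.τ3_mem⟩)) = _
    rw [F.cls_τ3]; rfl
  · intro g hm hg
    show Multiplicative.ofAdd (l1 (F.cls ⟨_, hm⟩)) = 1
    rcases cls_cases (F.cls ⟨_, hm⟩) with e | e | e | e
    · rw [e]; rfl
    · rw [e]; rfl
    · exact absurd (by simp) (F.τ3_not_swap hB hm e (inv_mem g.2))
    · exfalso
      obtain ⟨s, hs, hs'⟩ := F.flip_conj hm (by
        show (g : G)⁻¹ * F.τ3 * g * ((g : G)⁻¹ * F.τ3 * g) = 1
        rw [show (g : G)⁻¹ * F.τ3 * g * ((g : G)⁻¹ * F.τ3 * g) = (g : G)⁻¹ * (F.τ3 * F.τ3) * g by group,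
          F.τ3_facts.1]; group) e
      refine hg (show (g : G) ∈ F.NF from ?_)
      have hc : Commute ((g : G) * s) F.τ3 := mul_inv_eq_iff_eq_mul.mp (by
        rw [show (g : G) * s * F.τ3 * ((g : G) * s)⁻¹ = (g : G) * (s * F.τ3 * s⁻¹) * (g : G)⁻¹ by group, hs']
        simp [mul_assoc])
      have := F.cent_τ3 hB (mul_mem g.2 (F.U_le_A12 hs)) hc
      simpa using mul_mem this (inv_mem (F.U_le_NF hs))

/-- Only the trivial and the exchanging class survive in the kernel. -/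
theorem ker_cls (hB : D.caseB) {x : A12 (D := D)} (hx : (x : G) ∈ F.NF) (h1 : F.sgn l1 x = 1) (h2 : F.sgn l2 x = 1) :
    F.cls ⟨x, hx⟩ = 0 ∨ F.cls ⟨x, hx⟩ = (1, 0) := by
  classical
  haveI := Fintype.ofFinite (A12 (D := D) ⧸ F.NFsub)
  set T : A12 (D := D) := ⟨F.τ3, F.τ3_facts.2.1⟩ with hT
  have hT1 : F.sgn l1 T = Multiplicative.ofAdd (1 : ZMod 2) := F.sgn_τ3 hB
  have hne : (Multiplicative.ofAdd (1 : ZMod 2)) ≠ 1 := by decide
  rcases cls_cases (F.cls ⟨x, hx⟩) with e | e | e | e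
  · exact Or.inl e
  · exfalso
    have sq : ∀ {y : A12 (D := D)}, (y : G) ∈ F.NF → y ^ 3 * y ^ 3 = 1 := fun {y} hy => by
      refine Subtype.ext ?_
      show (y : G) ^ 3 * (y : G) ^ 3 = 1
      rw [← pow_add, show 3 + 3 = 2 * 3 from rfl, pow_mul, pow_two, F.U_cube (F.NF_sq hy)]
    have c3 : ∀ {y : A12 (D := D)} (hy : (y : G) ∈ F.NF), F.cls ⟨_, pow_mem hy 3⟩ = F.cls ⟨y, hy⟩ := fun {y} hy => by
      rw [show (⟨(y : G) ^ 3, pow_mem hy 3⟩ : F.NF) = ⟨y, hy⟩ * ⟨y, hy⟩ * ⟨y, hy⟩ from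
        Subtype.ext (pow_three' _), F.cls_mul, F.cls_mul, cls_triple]
    set ι := x ^ 3 with hι
    have hι2 : ι * ι = 1 := sq hx
    have hι1 : F.sgn l1 ι = 1 := by rw [hι, map_pow, h1, one_pow]
    have hιN : (ι : G) ∈ F.NF := pow_mem hx 3
    have hιc : F.cls ⟨ι, hιN⟩ = (0, 1) := (c3 hx).trans e
    have hcN : ((ι * T : A12 (D := D)) : G) ∈ F.NF := mul_mem hιN F.τ3_mem
    set c := (ι * T) ^ 3 with hc
    have hcc : F.cls ⟨c, pow_mem hcN 3⟩ = (1, 0) := by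
      refine (c3 hcN).trans ?_
      rw [show (⟨_, hcN⟩ : F.NF) = ⟨ι, hιN⟩ * ⟨F.τ3, F.τ3_mem⟩ from rfl, F.cls_mul, hιc, F.cls_τ3]; decide
    have hcl : ∀ l, F.sgn l c = F.sgn l ι * F.sgn l T := fun l => by
      rw [← map_mul]; exact F.sgn_cls l (pow_mem hcN 3) hcN (c3 hcN)
    have hc1 : F.sgn l1 c = Multiplicative.ofAdd (1 : ZMod 2) := by rw [hcl, hι1, hT1, one_mul]
    have hc2 : F.sgn l2 c = F.sgn l1 c := by
      rw [sgn, sgn, transfer_invol_congr (F.chi l2) (F.chi l1) (sq hcN)]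
      intro g hm
      show Multiplicative.ofAdd (l2 (F.cls ⟨_, hm⟩)) = Multiplicative.ofAdd (l1 (F.cls ⟨_, hm⟩))
      rcases cls_cases (F.cls ⟨_, hm⟩) with e' | e' | e' | e'
      · rw [e']; rfl
      · exfalso
        have := (F.sgn_cls l1 (show ((g⁻¹ * c * g : A12 (D := D)) : G) ∈ F.NF from hm) hιN (e'.trans hιc.symm)).symm.trans (F.sgn_conj l1 g c)
        rw [hι1, hc1] at this
        exact hne this.symm
      · rw [e']; rfl
      · exfalso
        obtain ⟨s, hs, hs'⟩ := F.flip_conj hm (by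
          show ((g⁻¹ * c * g * (g⁻¹ * c * g) : A12 (D := D)) : G) = ((1 : A12 (D := D)) : G)
          rw [show g⁻¹ * c * g * (g⁻¹ * c * g) = g⁻¹ * (c * c) * g by group, sq hcN]; simp) e'
        refine F.τ3_not_swap hB (pow_mem hcN 3) hcc (mul_mem g.2 (F.U_le_A12 hs)) ?_
        rw [show (g : G) * s * F.τ3 * ((g : G) * s)⁻¹ = (g : G) * (s * F.τ3 * s⁻¹) * (g : G)⁻¹ by group, hs']
        show (g : G) * ((g : G)⁻¹ * (c : G) * g) * (g : G)⁻¹ = (c : G)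
        group
    have hT2 : F.sgn l2 T = 1 := by
      refine transfer_invol_one (F.chi l2) (Subtype.ext F.τ3_facts.1) fun g hm => ?_
      show Multiplicative.ofAdd (l2 (F.cls ⟨_, hm⟩)) = 1
      rcases cls_cases (F.cls ⟨_, hm⟩) with e' | e' | e' | e'
      · rw [e']; rfl
      · exfalso
        have := (F.sgn_cls l1 (show ((g⁻¹ * T * g : A12 (D := D)) : G) ∈ F.NF from hm) hιN (e'.trans hιc.symm)).symm.trans (F.sgn_conj l1 g T)
        rw [hι1, hT1] at this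
        exact hne this.symm
      · exact absurd (by simp [hT]) (F.τ3_not_swap hB hm e' (inv_mem g.2))
      · rw [e']; decide
    have hι2' : F.sgn l2 ι = 1 := by rw [hι, map_pow, h2, one_pow]
    have := hcl l2
    rw [hc2, hc1, hι2', hT2, one_mul] at this
    exact hne this
  · exact Or.inr e
  · exfalso
    have := F.sgn_cls l1 hx (show ((T : A12 (D := D)) : G) ∈ F.NF from F.τ3_mem) (e.trans F.cls_τ3.symm)
    rw [h1, hT1] at this
    exact hne this.symm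

/-- The kernel of both signs. -/
noncomputable def K0 : Subgroup G := ((F.sgn l1).ker ⊓ (F.sgn l2).ker).map (A12 (D := D)).subtype

theorem mem_K0 {x : G} : x ∈ F.K0 ↔ ∃ h : x ∈ A12 (D := D), F.sgn l1 ⟨x, h⟩ = 1 ∧ F.sgn l2 ⟨x, h⟩ = 1 := by
  constructor
  · rintro ⟨y, ⟨h1, h2⟩, rfl⟩; exact ⟨y.2, h1, h2⟩
  · rintro ⟨h, h1, h2⟩; exact ⟨⟨x, h⟩, ⟨h1, h2⟩, rfl⟩

theorem U_le_K0 : F.U ≤ F.K0 := fun _ hx => F.mem_K0.mpr ⟨F.U_le_A12 hx, F.sgn_U _ hx, F.sgn_U _ hx⟩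

theorem K0_cls (hB : D.caseB) {x : G} (hx : x ∈ F.K0) (hn : x ∈ F.NF) :
    F.cls ⟨x, hn⟩ = 0 ∨ F.cls ⟨x, hn⟩ = (1, 0) := by
  obtain ⟨h, h1, h2⟩ := F.mem_K0.mp hx
  exact F.ker_cls hB (x := ⟨x, h⟩) hn h1 h2

theorem card_inverted (hB : D.caseB) {c : G} (hcN : c ∈ F.NF) (hc2 : c * c = 1)
    (hcc : F.cls ⟨c, hcN⟩ = (1, 0)) (T0 : Subgroup G) (hT0 : ∀ x, x ∈ T0 ↔ x ∈ F.U ∧ c * x * c⁻¹ = x⁻¹) :
    Nat.card T0 = 9 := by
  have hcU : ∀ {x : G}, x ∈ F.U → c * x * c⁻¹ ∈ F.U := fun hx => (hcN.2 _).mp hx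
  let f : F.U →* F.U := MonoidHom.mk' (fun s => s * (⟨c * s * c⁻¹, hcU s.2⟩)⁻¹) (fun a b => Subtype.ext (by
    show (a : G) * b * (c * ((a : G) * b) * c⁻¹)⁻¹ = (a : G) * (c * a * c⁻¹)⁻¹ * ((b : G) * (c * b * c⁻¹)⁻¹)
    have h1 := F.U_comm (inv_mem (hcU a.2)) (mul_mem b.2 (inv_mem (hcU b.2)))
    rw [show (a : G) * b * (c * ((a : G) * b) * c⁻¹)⁻¹ = (a : G) * ((b : G) * (c * b * c⁻¹)⁻¹ * (c * a * c⁻¹)⁻¹) by group,
      ← h1.eq]
    group))
  have hker : Nat.card f.ker = 27 := by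
    rw [← Nat.card_eq_of_bijective (α := ZMod 3 × ZMod 3 × ZMod 3) (fun p =>
      (⟨⟨F.jel (p.1, p.2.1, p.2.2, p.1), F.jel_mem_U _⟩, MonoidHom.mem_ker.mpr (Subtype.ext (by
        show F.jel (p.1, p.2.1, p.2.2, p.1) * (c * F.jel (p.1, p.2.1, p.2.2, p.1) * c⁻¹)⁻¹ = 1
        rw [F.A12_conj_jel hcN hcc, show clsMap (1, 0) (p.1, p.1) = (p.1, p.1) from rfl, mul_inv_cancel]))⟩ : f.ker))]
    · simp
    · refine ⟨fun p q e => ?_, fun ⟨⟨x, hx⟩, he⟩ => ?_⟩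
      · have := F.jel_inj (congrArg (fun z : f.ker => ((z : F.U) : G)) e)
        simp only [Prod.mk.injEq] at this
        exact Prod.ext this.1 (Prod.ext this.2.1 this.2.2.1)
      · obtain ⟨k, i, l, rfl⟩ := F.cent_swap_J hB hcN hcc hx (by
          have h0 : x * (c * x * c⁻¹)⁻¹ = 1 := congrArg Subtype.val (MonoidHom.mem_ker.mp he)
          exact (mul_inv_eq_iff_eq_mul.mp (mul_inv_eq_one.mp h0).symm))
        exact ⟨(k, i, l), rfl⟩
  have hrange : f.range.map F.U.subtype = T0 := by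
    refine le_antisymm ?_ fun x hx => ?_
    · rintro _ ⟨_, ⟨s, rfl⟩, rfl⟩
      refine (hT0 _).mpr ⟨mul_mem s.2 (inv_mem (hcU s.2)), ?_⟩
      show c * ((s : G) * (c * s * c⁻¹)⁻¹) * c⁻¹ = ((s : G) * (c * s * c⁻¹)⁻¹)⁻¹
      rw [show c * ((s : G) * (c * s * c⁻¹)⁻¹) * c⁻¹ = (c * s * c⁻¹) * (c * c * (s : G)⁻¹ * (c * c)⁻¹) by group,
        hc2, one_mul, inv_one, mul_one, mul_inv_rev, inv_inv]
    · obtain ⟨hxU, hxc⟩ := (hT0 x).mp hx
      refine ⟨_, ⟨⟨x * x, mul_mem hxU hxU⟩, rfl⟩, ?_⟩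
      show x * x * (c * (x * x) * c⁻¹)⁻¹ = x
      rw [← conj_mul, hxc]
      calc x * x * (x⁻¹ * x⁻¹)⁻¹ = x ^ 3 * x := by simp only [pow_three', mul_inv_rev, inv_inv, mul_assoc]
        _ = x := by rw [F.U_cube hxU, one_mul]
  have h := Subgroup.card_eq_card_quotient_mul_card_subgroup f.ker
  rw [Nat.card_congr (QuotientGroup.quotientKerEquivRange f).toEquiv, F.card_U_eq hB, hker,
    ← Subgroup.card_map_of_injective (K := f.range) F.U.subtype_injective, hrange] at h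
  omega

/-- The residual is in the normaliser. -/
theorem residual_NF (hB : D.caseB) {R : Subgroup G} (hR : R ≤ F.K0) {c : G} (hcK : c ∈ F.K0) (hcN : c ∈ F.NF)
    (hc2 : c * c = 1) (hcc : F.cls ⟨c, hcN⟩ = (1, 0)) (hRT : ∀ x, x ∈ F.U ∧ x ∈ R ↔ x ∈ F.U ∧ c * x * c⁻¹ = x⁻¹) :
    R ≤ F.NF := by
  set T0 := F.U ⊓ R with hT0
  have hT : ∀ {x}, x ∈ T0 ↔ x ∈ F.U ∧ c * x * c⁻¹ = x⁻¹ := fun {x} => hRT x
  have hA : ∀ {x}, x ∈ R → x ∈ A12 (D := D) := fun hx => (F.mem_K0.mp (hR hx)).1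
  have off : ∀ {x}, x ∈ T0 → x ≠ 1 → ∀ i l : ZMod 3, x ≠ F.jel (0, i, l, 0) := by
    intro x hx hne i l e
    obtain ⟨hxU, hxc⟩ := hT.mp hx
    rw [e, (F.jel_A_fix hcN.1 i l).eq, mul_inv_cancel_right, ← e] at hxc
    refine hne ?_
    have h3 := F.U_cube hxU
    rw [pow_three', show x * x = 1 by nth_rewrite 2 [hxc]; exact mul_inv_cancel x, one_mul] at h3
    exact h3
  set e0 := F.jel (1, 0, 0, 2) with he0
  have he : e0 ∈ T0 := hT.mpr ⟨F.jel_mem_U _, by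
    rw [he0, F.A12_conj_jel hcN hcc, ← F.jel_neg]; exact congrArg F.jel (by decide)⟩
  have he1 : e0 ≠ 1 := fun e => by
    have := F.jel_inj (e.trans F.jel_zero.symm)
    exact absurd this (by decide)
  have toNF : ∀ {h a}, h ∈ R → a ∈ T0 → a ≠ 1 → h * a * h⁻¹ ∈ F.U → h ∈ F.NF := fun hh ha hne him =>
    F.plane_TI hB (hA hh) ha.1 (off ha hne) him
  have nrm : ∀ {h}, h ∈ R → h ∈ F.NF → h ∈ Subgroup.normalizer (T0 : Set G) := by
    intro h hh hn x
    exact ⟨fun hx => ⟨(hn.2 x).mp hx.1, R.mul_mem (R.mul_mem hh hx.2) (R.inv_mem hh)⟩, fun hx => ⟨(hn.2 x).mpr hx.1, by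
      have := R.mul_mem (R.mul_mem (R.inv_mem hh) hx.2) hh
      simpa [mul_assoc] using this⟩⟩
  suffices hN : R ≤ Subgroup.normalizer (T0 : Set G) by
    intro h hh
    exact toNF hh he he1 ((hN hh _).mp he).1
  refine CfsgLib.Sym9Three.le_normalizer_of_quotient R ⊥ T0 bot_le inf_le_right (fun z hz h _ => by
    rw [Subgroup.mem_bot.mp hz, mul_one, one_mul]) ?_ ?_ ?_ ?_ ?_ ?_ ?_
  · rw [Subgroup.card_bot, mul_one]
    exact F.card_inverted hB hcN hc2 hcc T0 fun x => hT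
  · intro a ha; exact Subgroup.mem_bot.mpr (F.U_cube ha.1)
  · intro a ha b hb
    rw [Subgroup.mem_bot, (F.U_comm ha.1 hb.1).eq, mul_inv_cancel_right, mul_inv_cancel]
  · intro h hh hcm
    have hfix : h * e0 * h⁻¹ = e0 := mul_inv_eq_one.mp (Subgroup.mem_bot.mp (hcm _ he))
    have hn := toNF hh he he1 (by rw [hfix]; exact he.1)
    rcases F.K0_cls hB (hR hh) hn with e | e
    · exact ⟨(F.cls_zero_iff ⟨h, hn⟩).mp e, hh⟩
    · exfalso
      rw [he0, F.A12_conj_jel hn e] at hfix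
      exact absurd (F.jel_inj hfix) (by decide)
  · intro h hh a ha hne hcm
    have hfix : h * a * h⁻¹ = a := mul_inv_eq_one.mp (Subgroup.mem_bot.mp hcm)
    exact nrm hh (toNF hh ha (fun e => hne (e ▸ one_mem _)) (by rw [hfix]; exact ha.1))
  · intro h hh hn
    exact ⟨F.NF_sq (toNF hh he he1 ((hn _).mp he).1), mul_mem hh hh⟩
  · set L := R ⊓ Subgroup.normalizer (T0 : Set G) with hL
    have hLN : L ≤ F.NF := fun h hh => toNF hh.1 he he1 ((hh.2 _).mp he).1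
    let f : L →* Multiplicative Cls := MonoidHom.mk' (fun x => Multiplicative.ofAdd (F.cls ⟨x, hLN x.2⟩)) (fun a b => by
      rw [← ofAdd_add, ← F.cls_mul]; rfl)
    have hker : Nat.card f.ker ∣ 9 := by
      rw [← F.card_inverted hB hcN hc2 hcc T0 fun x => hT, ← Subgroup.card_map_of_injective (K := f.ker) L.subtype_injective]
      refine Subgroup.card_dvd_of_le ?_
      rintro _ ⟨x, hx, rfl⟩
      exact ⟨(F.cls_zero_iff ⟨x, hLN x.2⟩).mp (Multiplicative.ofAdd.injective (MonoidHom.mem_ker.mp hx)), x.2.1⟩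
    have hr : Nat.card f.range ∣ 4 := (Subgroup.card_subgroup_dvd_card _).trans (by simp)
    have hm := Subgroup.card_eq_card_quotient_mul_card_subgroup f.ker
    rw [Nat.card_congr (QuotientGroup.quotientKerEquivRange f).toEquiv] at hm
    rw [hm, Subgroup.card_bot]
    exact (Nat.mul_dvd_mul hr hker).trans (by norm_num)

/-- The centraliser of both first vectors normalises the centraliser of the coordinates. -/
theorem A12_le_NF (hB : D.caseB) : A12 (D := D) ≤ F.NF := by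
  haveI : Fact (Nat.Prime 3) := ⟨by norm_num⟩
  have hUp : IsPGroup 3 (F.U.subgroupOf F.K0) := fun x =>
    ⟨1, Subtype.ext (Subtype.ext (by simpa using F.U_cube x.2))⟩
  let T : Sylow 3 F.K0 :=
    { toSubgroup := F.U.subgroupOf F.K0
      isPGroup' := hUp
      is_maximal' := fun {Q} hQ hle => le_antisymm (fun x hx => by
        refine le_of_grow (hQ.map F.K0.subtype) (fun u hu => ⟨⟨u, F.U_le_K0 hu⟩, hle hu, rfl⟩) ?_ ⟨x, hx, rfl⟩
        rintro _ ⟨y, hy, rfl⟩ hn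
        have hyN : (y : G) ∈ F.NF := ⟨(F.mem_K0.mp y.2).1, F.mem_norm_U hn⟩
        obtain ⟨n, hn3⟩ := hQ ⟨y, hy⟩
        obtain ⟨r, hr⟩ : Odd (3 ^ n) := (by decide : Odd 3).pow
        have h5 : (y : G) = ((y : G) * y) ^ (r + 1) := by
          rw [← pow_two, ← pow_mul, show 2 * (r + 1) = 3 ^ n + 1 by omega, pow_succ,
            show (y : G) ^ 3 ^ n = 1 from congrArg (fun z : Q => ((z : F.K0) : G)) hn3, one_mul]
        show (y : G) ∈ F.U
        rw [h5]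
        exact pow_mem (F.NF_sq hyN) _) hle }
  have hTab : IsMulCommutative (T : Subgroup F.K0) :=
    ⟨⟨fun a b => Subtype.ext (Subtype.ext (F.U_comm a.2 b.2).eq)⟩⟩
  have hfoc := CfsgLib.TransferApps.inf_pResidual_eq_of_abelian T hTab
  set R' := Cfsg.pResidual 3 F.K0 with hR'
  haveI hRn : R'.Normal := CfsgLib.PResidual.pResidual_normal
  have memT : ∀ {x : F.K0}, x ∈ (T : Subgroup F.K0) ↔ (x : G) ∈ F.U := Iff.rfl
  have hNT : ∀ {n : F.K0}, n ∈ Subgroup.normalizer ((T : Subgroup F.K0) : Set F.K0) → (n : G) ∈ F.NF := fun {n} hn =>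
    ⟨(F.mem_K0.mp n.2).1, F.mem_norm_U fun x hx => memT.mp ((hn ⟨x, F.U_le_K0 hx⟩).mp hx)⟩
  have hRR : R'.map F.K0.subtype ≤ F.NF := by
    by_cases hex : ∃ n : F.K0, ∃ hn : (n : G) ∈ F.NF, F.cls ⟨n, hn⟩ = (1, 0)
    · obtain ⟨n, hn, hnc⟩ := hex
      have hcN : (n : G) ^ 3 ∈ F.NF := pow_mem hn 3
      have hcc : F.cls ⟨_, hcN⟩ = (1, 0) := by
        rw [show (⟨_, hcN⟩ : F.NF) = ⟨n, hn⟩ * ⟨n, hn⟩ * ⟨n, hn⟩ from Subtype.ext (pow_three' _), F.cls_mul,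
          F.cls_mul, cls_triple, hnc]
      have hc2 : (n : G) ^ 3 * (n : G) ^ 3 = 1 := by
        rw [← pow_add, show 3 + 3 = 2 * 3 from rfl, pow_mul, pow_two, F.U_cube (F.NF_sq hn)]
      refine F.residual_NF hB (Subgroup.map_subtype_le _) (pow_mem n.2 3) hcN hc2 hcc fun x => ⟨?_, ?_⟩
      · rintro ⟨hxU, y, hy, rfl⟩
        refine ⟨hxU, ?_⟩
        have hmem : y ∈ (T : Subgroup F.K0) ⊓ R' := ⟨memT.mpr hxU, hy⟩
        rw [hfoc] at hmem
        let S : Subgroup F.K0 :=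
          { carrier := {y | (y : G) ∈ F.U ∧ (n : G) ^ 3 * y * ((n : G) ^ 3)⁻¹ = (y : G)⁻¹}
            one_mem' := ⟨one_mem _, by simp⟩
            mul_mem' := fun {a b} ha hb => ⟨mul_mem ha.1 hb.1, by
              show (n : G) ^ 3 * ((a : G) * b) * ((n : G) ^ 3)⁻¹ = ((a : G) * b)⁻¹
              rw [← conj_mul, ha.2, hb.2, (F.U_comm ha.1 hb.1).eq, mul_inv_rev]⟩
            inv_mem' := fun {a} ha => ⟨inv_mem ha.1, by
              show (n : G) ^ 3 * (a : G)⁻¹ * ((n : G) ^ 3)⁻¹ = ((a : G)⁻¹)⁻¹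
              rw [← conj_inv, ha.2]⟩ }
        refine ((Subgroup.commutator_le (H₃ := S)).mpr (fun a ha b hb => ?_) hmem).2
        have hbN := hNT hb
        have hbU : (b : G) * (a : G)⁻¹ * (b : G)⁻¹ ∈ F.U := (hbN.2 _).mp (inv_mem (memT.mp ha))
        refine ⟨by
          show (a : G) * b * (a : G)⁻¹ * (b : G)⁻¹ ∈ F.U
          rw [show (a : G) * b * (a : G)⁻¹ * (b : G)⁻¹ = (a : G) * ((b : G) * (a : G)⁻¹ * (b : G)⁻¹) by group]
          exact mul_mem (memT.mp ha) hbU, ?_⟩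
        show (n : G) ^ 3 * ((a : G) * b * (a : G)⁻¹ * (b : G)⁻¹) * ((n : G) ^ 3)⁻¹ =
          ((a : G) * b * (a : G)⁻¹ * (b : G)⁻¹)⁻¹
        rcases F.K0_cls hB b.2 hbN with e | e
        · rw [show (a : G) * b * (a : G)⁻¹ * (b : G)⁻¹ = 1 by
            rw [(F.U_comm (memT.mp ha) ((F.cls_zero_iff _).mp e)).eq]; group]
          simp
        · set c := (n : G) ^ 3
          have hu : (b : G) * c ∈ F.U := (F.cls_zero_iff (⟨b, hbN⟩ * ⟨c, hcN⟩)).mp (by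
            rw [F.cls_mul, e, hcc, cls_double])
          have e1 : (b : G) * (a : G)⁻¹ * (b : G)⁻¹ = c * (a : G)⁻¹ * c⁻¹ := by
            have hcU : c * (a : G)⁻¹ * c⁻¹ ∈ F.U := (hcN.2 _).mp (inv_mem (memT.mp ha))
            calc (b : G) * (a : G)⁻¹ * (b : G)⁻¹
                = (b : G) * (c * c) * (a : G)⁻¹ * (c * c)⁻¹ * (b : G)⁻¹ := by rw [hc2]; simp
              _ = ((b : G) * c) * (c * (a : G)⁻¹ * c⁻¹) * ((b : G) * c)⁻¹ := by group
              _ = _ := by rw [(F.U_comm hu hcU).eq, mul_inv_cancel_right]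
          rw [show (a : G) * b * (a : G)⁻¹ * (b : G)⁻¹ = (a : G) * ((b : G) * (a : G)⁻¹ * (b : G)⁻¹) by group, e1]
          calc c * ((a : G) * (c * (a : G)⁻¹ * c⁻¹)) * c⁻¹
              = (c * a * c⁻¹) * ((c * c) * (a : G)⁻¹ * (c * c)⁻¹) := by group
            _ = _ := by rw [hc2]; group
      · rintro ⟨hxU, hx⟩
        refine ⟨hxU, ⟨x, F.U_le_K0 hxU⟩, ?_, rfl⟩
        have hmem : (⟨x, F.U_le_K0 hxU⟩ : F.K0) ∈ (T : Subgroup F.K0) ⊓ R' := by
          rw [hfoc]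
          have hN : (⟨_, pow_mem n.2 3⟩ : F.K0) ∈ Subgroup.normalizer ((T : Subgroup F.K0) : Set F.K0) :=
            fun y => hcN.2 (y : G)
          convert Subgroup.commutator_mem_commutator (show (⟨x * x, F.U_le_K0 (mul_mem hxU hxU)⟩ : F.K0) ∈
            (T : Subgroup F.K0) from mul_mem hxU hxU) hN using 1
          refine Subtype.ext ?_
          show x = x * x * (n : G) ^ 3 * (x * x)⁻¹ * ((n : G) ^ 3)⁻¹
          rw [show x * x * (n : G) ^ 3 * (x * x)⁻¹ * ((n : G) ^ 3)⁻¹ =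
            x * x * ((n : G) ^ 3 * (x * x) * ((n : G) ^ 3)⁻¹)⁻¹ by group, ← conj_mul, hx]
          calc x = x ^ 3 * x := by rw [F.U_cube hxU, one_mul]
            _ = _ := by simp only [pow_three', mul_inv_rev, inv_inv, mul_assoc]
        exact hmem.2
    · have hbot : (T : Subgroup F.K0) ⊓ R' = ⊥ := by
        rw [hfoc, eq_bot_iff, Subgroup.commutator_le]
        intro a ha b hb
        rcases F.K0_cls hB b.2 (hNT hb) with e | e
        · rw [Subgroup.mem_bot, commutatorElement_eq_one_iff_mul_comm]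
          exact Subtype.ext (F.U_comm (memT.mp ha) ((F.cls_zero_iff _).mp e)).eq
        · exact absurd ⟨b, hNT hb, e⟩ hex
      have hcop : (Nat.card R').Coprime 3 := by
        refine ((Nat.Prime.coprime_iff_not_dvd (by norm_num)).mpr fun hd => ?_).symm
        obtain ⟨x, hx⟩ := exists_prime_orderOf_dvd_card' (G := R') 3 hd
        have hp : IsPGroup 3 (Subgroup.zpowers (x : F.K0)) := IsPGroup.of_card (n := 1) (by
          rw [Nat.card_zpowers, Subgroup.orderOf_coe, hx, pow_one])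
        obtain ⟨P, hP⟩ := hp.exists_le_sylow
        obtain ⟨g, hg⟩ := MulAction.exists_smul_eq F.K0 P T
        have h1 : g * (x : F.K0) * g⁻¹ ∈ (T : Subgroup F.K0) ⊓ R' := by
          refine ⟨?_, hRn.conj_mem _ x.2 g⟩
          rw [← hg]
          exact ⟨_, hP (Subgroup.mem_zpowers _), rfl⟩
        rw [hbot, Subgroup.mem_bot, mul_inv_eq_one, mul_eq_left] at h1
        rw [show x = 1 from Subtype.ext h1, orderOf_one] at hx
        omega
      rw [F.signal (R'.map F.K0.subtype) (by rwa [Subgroup.card_map_of_injective F.K0.subtype_injective]) ?_]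
      · exact bot_le
      intro u hu y
      constructor
      · rintro ⟨r, hr, rfl⟩
        exact ⟨_, hRn.conj_mem r hr ⟨u, F.U_le_K0 hu⟩, rfl⟩
      · rintro ⟨r, hr, e⟩
        refine ⟨_, hRn.conj_mem r hr ⟨u, F.U_le_K0 hu⟩⁻¹, ?_⟩
        show u⁻¹ * (r : G) * u⁻¹⁻¹ = y
        rw [show (r : G) = u * y * u⁻¹ from e]; group
  have hK : F.K0 ≤ F.NF := by
    intro x hx
    have htop := CfsgLib.Transfer.sylow_sup_pResidual T
    have : (⊤ : Subgroup F.K0) ≤ F.NF.subgroupOf F.K0 :=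
      htop ▸ sup_le (fun y hy => F.U_le_NF hy) fun y hy => hRR ⟨y, hy, rfl⟩
    exact this (Subgroup.mem_top ⟨x, hx⟩)
  intro g hg
  refine ⟨hg, F.mem_norm_U fun x hx => ?_⟩
  have hgx : g * x * g⁻¹ ∈ F.K0 := by
    refine F.mem_K0.mpr ⟨mul_mem (mul_mem hg (F.U_le_A12 hx)) (inv_mem hg), ?_, ?_⟩ <;>
    · show F.sgn _ (⟨g, hg⟩ * ⟨x, F.U_le_A12 hx⟩ * ⟨g, hg⟩⁻¹) = 1
      rw [map_mul, map_mul, F.sgn_U _ (x := ⟨x, F.U_le_A12 hx⟩) hx, mul_one, map_inv, mul_inv_cancel]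
  exact F.NF_three (hK hgx) (by rw [conj_pow, F.U_cube hx]; group)

end Setting.Base

end CfsgLib.U6Three
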