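import Cfsg.Agent.Lib.U6Three.InvUni
import Cfsg.Agent.Lib.U6Three.FiveFree

/-!
The elements centralising both first coordinate vectors and normalising the centraliser of the coordinates: the four
classes by their action on the two standard points.
-/

set_option autoImplicit false
set_option linter.style.haveILetI false

namespace CfsgLib.U6Three

universe u

/-- The labels of the classes: exchanging, inverting. -/
abbrev Cls := ZMod 2 × ZMod 2

/-- The action of a class on the pair of exponents. -/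
def clsMap (c : Cls) (p : ZMod 3 × ZMod 3) : ZMod 3 × ZMod 3 :=
  let q := if c.1 = 0 then p else (p.2, p.1)
  if c.2 = 0 then q else (-q.1, -q.2)

theorem clsMap_comp : ∀ a b : Cls, ∀ p, clsMap a (clsMap b p) = clsMap (a + b) p := by decide +kernel

theorem clsMap_inj : ∀ a b : Cls, clsMap a (1, 0) = clsMap b (1, 0) → a = b := by decide +kernel

theorem keep_A : ∀ p ∈ ptList, ∀ q ∈ ptList, KeepPts (0, 1, 0, 0) (0, 0, 1, 0) (1, 0, 0, 0) (0, 0, 0, 1) p q →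
    ∃ c : Cls, p = ((clsMap c (1, 0)).1, 0, 0, (clsMap c (1, 0)).2) ∧
      q = ((clsMap c (0, 1)).1, 0, 0, (clsMap c (0, 1)).2) := by decide +kernel

theorem clsMap_lin : ∀ c : Cls, ∀ k j : ZMod 3,
    k • ((clsMap c (1, 0)).1, (0 : ZMod 3), (0 : ZMod 3), (clsMap c (1, 0)).2) +
      j • ((clsMap c (0, 1)).1, (0 : ZMod 3), (0 : ZMod 3), (clsMap c (0, 1)).2) =
    ((clsMap c (k, j)).1, 0, 0, (clsMap c (k, j)).2) := by decide +kernel

namespace Setting.Base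

variable {G : Type u} [Group G] {D : Setting G} (F : D.Base)

/-- The centraliser of both first coordinate vectors. -/
def A12 : Subgroup G := Subgroup.centralizer ({D.q (av 1 0), a2 D} : Set G)

theorem mem_A12 {x : G} : x ∈ A12 (D := D) ↔ Commute x (D.q (av 1 0)) ∧ Commute x (a2 D) := by
  simp only [A12, Subgroup.mem_centralizer_iff]
  refine ⟨fun h => ⟨(h _ (by simp)).symm, (h _ (by simp)).symm⟩, ?_⟩
  rintro ⟨h1, h2⟩ w (rfl | rfl)
  exacts [h1.symm, h2.symm]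

/-- Those normalising the centraliser of the coordinates. -/
def NF : Subgroup G := A12 (D := D) ⊓ Subgroup.normalizer (F.U : Set G)

variable [Finite G]

theorem U_le_A12 : F.U ≤ A12 (D := D) := fun _ hx =>
  mem_A12.mpr ⟨F.U_q hx (av_inA 1 0), F.U_q hx (av_inA 0 1)⟩

theorem U_le_NF : F.U ≤ F.NF := le_inf F.U_le_A12 Subgroup.le_normalizer

theorem jel_A_fix {h : G} (hh : h ∈ A12 (D := D)) (i l : ZMod 3) : Commute h (F.jel (0, i, l, 0)) := by
  obtain ⟨h1, h2⟩ := mem_A12.mp hh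
  rw [show ((0, i, l, 0) : V4) = i • (0, 1, 0, 0) + l • (0, 0, 1, 0) by simp, F.jel_add, F.jel_smul,
    F.jel_smul, F.jel_q, F.jel_q]
  exact (h1.pow_right _).mul_right (h2.pow_right _)

theorem exists_cls {h : G} (hh : h ∈ F.NF) : ∃ c : Cls, ∀ k i l j : ZMod 3,
    h * F.jel (k, i, l, j) * h⁻¹ = F.jel ((clsMap c (k, j)).1, i, l, (clsMap c (k, j)).2) := by
  obtain ⟨hA, hn⟩ := hh
  obtain ⟨φ, hφ, hmem, hkp, hlin⟩ := F.exists_lin_fix (F.NU_le_NJ hn) freeLine_A (F.jel_A_fix hA 1 0) (F.jel_A_fix hA 0 1)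
  obtain ⟨hp, hq⟩ := List.mem_product.mp hmem
  obtain ⟨c, e1, e2⟩ := keep_A _ hp _ hq hkp
  refine ⟨c, fun k i l j => ?_⟩
  have hv : ((k, i, l, j) : V4) = k • (1, 0, 0, 0) + j • (0, 0, 0, 1) + i • (0, 1, 0, 0) + l • (0, 0, 1, 0) := by simp
  rw [hφ, hv, hlin, e1, e2, clsMap_lin]
  simp

/-- The class of an element. -/
noncomputable def cls (h : F.NF) : Cls := (F.exists_cls h.2).choose

theorem cls_spec (h : F.NF) (k i l j : ZMod 3) :
    (h : G) * F.jel (k, i, l, j) * (h : G)⁻¹ = F.jel ((clsMap (F.cls h) (k, j)).1, i, l, (clsMap (F.cls h) (k, j)).2) :=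
  (F.exists_cls h.2).choose_spec k i l j

theorem cls_eq (h : F.NF) {c : Cls}
    (hz : (h : G) * D.z * (h : G)⁻¹ = F.jel ((clsMap c (1, 0)).1, 0, 0, (clsMap c (1, 0)).2)) : F.cls h = c := by
  rw [← F.jel_z, F.cls_spec] at hz
  have := F.jel_inj hz
  simp only [Prod.mk.injEq, true_and] at this
  exact clsMap_inj _ _ (Prod.ext this.1 this.2)

theorem cls_mul (a b : F.NF) : F.cls (a * b) = F.cls a + F.cls b := by
  refine F.cls_eq _ ?_
  rw [Subgroup.coe_mul, show (a : G) * b * D.z * ((a : G) * b)⁻¹ = a * (b * D.z * (b : G)⁻¹) * (a : G)⁻¹ by group,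
    ← F.jel_z, F.cls_spec, F.cls_spec, ← clsMap_comp]

theorem cls_zero_iff (h : F.NF) : F.cls h = 0 ↔ (h : G) ∈ F.U := by
  constructor
  · intro e
    refine F.fix_J_mem_U fun w => mul_inv_eq_iff_eq_mul.mp ?_
    obtain ⟨k, i, l, j⟩ := w
    rw [F.cls_spec, e]
    rfl
  · intro hU
    refine F.cls_eq h ?_
    rw [(F.U_z hU).eq, mul_inv_cancel_right]
    exact F.jel_z.symm

theorem cls_double (c : Cls) : c + c = 0 := by revert c; decide

theorem NF_sq {h : G} (hh : h ∈ F.NF) : h * h ∈ F.U :=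
  (F.cls_zero_iff (⟨h, hh⟩ * ⟨h, hh⟩)).mp (by rw [F.cls_mul, cls_double])

theorem NF_three {h : G} (hh : h ∈ F.NF) (h3 : h ^ 3 = 1) : h ∈ F.U := by
  have := mul_mem (F.NF_sq hh) (F.NF_sq hh)
  rwa [show h * h * (h * h) = h * h ^ 3 by rw [pow_three]; group, h3, mul_one] at this

/-- An involutive version of the flip. -/
noncomputable def τ3 : G := F.τ * (F.τ * F.τ)

theorem τ3_facts : F.τ3 * F.τ3 = 1 ∧ F.τ3 ∈ A12 (D := D) ∧ Commute F.τ3 D.i1 ∧
    (∀ v : V4, F.τ3 * F.jel v * F.τ3⁻¹ = F.jel (-v.2.2.2, v.2.1, v.2.2.1, -v.1)) ∧ Commute F.τ3 F.s0 := by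
  have hTT : F.τ * F.τ ∈ F.U := F.fix_J_mem_U fun w => by
    refine mul_inv_eq_iff_eq_mul.mp ?_
    calc F.τ * F.τ * F.jel w * (F.τ * F.τ)⁻¹ = F.τ * (F.τ * F.jel w * F.τ⁻¹) * F.τ⁻¹ := by group
      _ = _ := by rw [F.τ_flip.act, F.τ_flip.act]; simp
  refine ⟨?_, ?_, ?_, fun v => ?_, ?_⟩
  · rw [τ3, show F.τ * (F.τ * F.τ) * (F.τ * (F.τ * F.τ)) = (F.τ * F.τ) * (F.τ * F.τ) * (F.τ * F.τ) by group,
      ← pow_three']
    exact F.U_cube hTT
  · exact mem_A12.mpr ⟨(F.τ_q 1).mul_left ((F.τ_q 1).mul_left (F.τ_q 1)), F.τ_a2.mul_left (F.τ_a2.mul_left F.τ_a2)⟩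
  · exact F.τ_flip.ci.mul_left (F.τ_flip.ci.mul_left F.τ_flip.ci)
  · rw [τ3, show F.τ * (F.τ * F.τ) * F.jel v * (F.τ * (F.τ * F.τ))⁻¹ =
      F.τ * ((F.τ * F.τ) * F.jel v * (F.τ * F.τ)⁻¹) * F.τ⁻¹ by group, (F.commute_jel hTT v).eq, mul_inv_cancel_right,
      F.τ_flip.act]
  · have h : Commute F.τ F.s0 := (F.mem_P.mp F.s0_mem_P).2.1.symm
    exact h.mul_left (h.mul_left h)

theorem τ3_mem : F.τ3 ∈ F.NF := by
  obtain ⟨-, hA, -, hact, -⟩ := F.τ3_facts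
  refine ⟨hA, F.NJ_le_NU (F.mem_norm_J ?_)⟩
  rintro _ ⟨v, rfl⟩
  rw [hact]
  exact F.jel_mem _

theorem cls_τ3 : F.cls ⟨F.τ3, F.τ3_mem⟩ = (1, 1) := by
  refine F.cls_eq _ ?_
  show F.τ3 * D.z * F.τ3⁻¹ = _
  rw [← F.jel_z, F.τ3_facts.2.2.2.1]
  exact congrArg F.jel (by decide)

/-- The elements of the centraliser of the coordinates off the coordinates. -/
theorem U_decomp_any {x : G} (hx : x ∈ F.U) : ∃ v, ∃ m : ZMod 3, x = F.jel v * F.s0 ^ m.val := by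
  obtain ⟨k, l, j, h⟩ := F.U_reps hx
  obtain ⟨i, m, e⟩ := F.P_cases h
  refine ⟨(k, i, l, j), m, ?_⟩
  rw [inv_mul_eq_iff_eq_mul.mp e, ← mul_assoc, ← F.jel_q, ← F.jel_add]
  simp

/-- The decomposition, in the large case. -/
theorem U_decomp (_hB : D.caseB) {x : G} (hx : x ∈ F.U) : ∃ v, ∃ m : ZMod 3, x = F.jel v * F.s0 ^ m.val :=
  F.U_decomp_any hx

theorem s0_pow_mem_J (hB : D.caseB) {m : ZMod 3} (h : F.s0 ^ m.val ∈ F.J) : m = 0 := by
  obtain ⟨⟨k, i, l, j⟩, e⟩ := h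
  have h1 : D.MA (F.jel (k, i, l, j)) (((mU, mU) : Pr) ^ j.val) := by
    have := (ma_of_Q (D := D) (mul_mem (D.zz_mem k) (D.q_mem (av i l)))).mul (F.y_ma j)
    rwa [one_mul] at this
  have h2 := h1.unique (e ▸ (F.s0_acts hB).ma.pow m.val)
  exact (by decide +kernel : ∀ j m : ZMod 3, ((mU, mU) : Pr) ^ j.val = ((mU, 1) : Pr) ^ m.val → m = 0) j m h2

theorem s0_cube : F.s0 ^ 3 = 1 := F.U_cube (F.mem_P.mp F.s0_mem_P).1

theorem s0_pow_add (a b : ZMod 3) : F.s0 ^ (a + b).val = F.s0 ^ a.val * F.s0 ^ b.val := by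
  rw [← pow_add, ZMod.val_add, ← pow_eq_pow_mod _ F.s0_cube]

theorem U_coord_inj (hB : D.caseB) {v w : V4} {m n : ZMod 3}
    (e : F.jel v * F.s0 ^ m.val = F.jel w * F.s0 ^ n.val) : v = w ∧ m = n := by
  have h1 : F.s0 ^ (m + -n).val ∈ F.J := by
    refine ⟨-v + w, ?_⟩
    rw [F.s0_pow_add, F.jel_add, F.jel_neg, show F.s0 ^ (-n).val = (F.s0 ^ n.val)⁻¹ from
      eq_inv_of_mul_eq_one_left (by rw [← F.s0_pow_add, neg_add_cancel, ZMod.val_zero, pow_zero]),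
      inv_mul_eq_iff_eq_mul.mpr ?_]
    rw [← mul_assoc, e, mul_inv_cancel_right]
  obtain rfl : m = n := add_neg_eq_zero.mp (F.s0_pow_mem_J hB h1)
  exact ⟨F.jel_inj (mul_right_cancel e), rfl⟩

theorem card_U_eq (hB : D.caseB) : Nat.card F.U = 243 := by
  have hb : Function.Bijective (fun p : V4 × ZMod 3 =>
      (⟨F.jel p.1 * F.s0 ^ p.2.val, mul_mem (F.jel_mem_U _) (pow_mem (F.mem_P.mp F.s0_mem_P).1 _)⟩ : F.U)) := by
    refine ⟨fun p q e => ?_, fun ⟨x, hx⟩ => ?_⟩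
    · obtain ⟨h1, h2⟩ := F.U_coord_inj hB (congrArg Subtype.val e)
      exact Prod.ext h1 h2
    · obtain ⟨v, m, rfl⟩ := F.U_decomp hB hx
      exact ⟨(v, m), rfl⟩
  rw [← Nat.card_eq_of_bijective _ hb, Nat.card_prod, Nat.card_zmod, Nat.card_eq_fintype_card]
  rfl

/-- A coset of the coordinates fixed by an element inverting the pair is the coordinates themselves. -/
theorem inv_pair_coset {x : G} (hx : x ∈ F.NF) (hc : F.cls ⟨x, hx⟩ = (0, 1)) {s : G} (hs : s ∈ F.U)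
    (hfix : s⁻¹ * (x * s * x⁻¹) ∈ F.J) : s ∈ F.J := by
  obtain ⟨hA, hn⟩ := id hx
  obtain ⟨h1, h2⟩ := mem_A12.mp hA
  have hz : x * D.z * x⁻¹ = D.z⁻¹ := by
    rw [← F.jel_z, F.cls_spec ⟨x, hx⟩, hc, ← F.jel_neg]; exact congrArg F.jel (by decide)
  have hy : x * F.y * x⁻¹ = F.y⁻¹ := by
    rw [← F.jel_y, F.cls_spec ⟨x, hx⟩, hc, ← F.jel_neg]; exact congrArg F.jel (by decide)
  set s' := x * s * x⁻¹ with hs'
  have hs'U : s' ∈ F.U := (hn _).mp hs
  have hxx : x * s' * x⁻¹ = s := by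
    rw [hs', show x * (x * s * x⁻¹) * x⁻¹ = x * x * s * (x * x)⁻¹ by group, (F.U_comm (F.NF_sq hx) hs).eq,
      mul_inv_cancel_right]
  have hcm : Commute x (s * s') := by
    refine mul_inv_eq_iff_eq_mul.mp ?_
    rw [show x * (s * s') * x⁻¹ = (x * s * x⁻¹) * (x * s' * x⁻¹) by group, hxx, ← hs', (F.U_comm hs'U hs).eq]
  have hm := F.inv_pair_fix_J h1 h2 hz hy (mul_mem hs hs'U) hcm
  have h3 := mul_mem hm (inv_mem hfix)
  rw [show s * s' * (s⁻¹ * s')⁻¹ = s * s by group] at h3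
  have h4 := inv_mem h3
  rwa [show (s * s)⁻¹ = s by
    rw [inv_eq_iff_mul_eq_one, mul_assoc, ← pow_three, F.U_cube hs]] at h4

end Setting.Base

end CfsgLib.U6Three
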