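import Cfsg.Agent.Lib.U6Three.FreePairCls
import Mathlib.Data.ZMod.QuotientGroup

/-!
Fused elements off the first coordinate plane inside the centraliser of that plane, and the centraliser of the
involutive flip there.
-/

set_option autoImplicit false
set_option linter.style.haveILetI false

namespace CfsgLib.U6Three

universe u

theorem plane_point : ∀ k j : ZMod 3, (k, j) ≠ (0, 0) → ∃ i l : ZMod 3,
    qJ (k, i, l, j) = 0 ∧ ((k, i, l, j) : V4) ≠ 0 ∧
      ∀ x y z : ZMod 3, x • ((k, i, l, j) : V4) + y • (0, 1, 0, 0) + z • (0, 0, 1, 0) = 0 →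
        x = 0 ∧ y = 0 ∧ z = 0 := by decide +kernel

theorem z2_cases : ∀ e : ZMod 2, e = 0 ∨ e = 1 := by decide

theorem cls_fix_mixed : ∀ c : Cls, clsMap c (1, -1) = (1, -1) → c = 0 ∨ c = (1, 1) := by decide +kernel

namespace Setting.Base

variable {G : Type u} [Group G] {D : Setting G} (F : D.Base) [Finite G]

theorem mem_norm_U {h : G} (hh : ∀ x ∈ F.U, h * x * h⁻¹ ∈ F.U) : h ∈ Subgroup.normalizer (F.U : Set G) := by
  classical
  intro x
  refine ⟨hh x, fun hx => ?_⟩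
  let f : F.U → F.U := fun a => ⟨h * a * h⁻¹, hh a a.2⟩
  obtain ⟨a, ha⟩ := ((Finite.injective_iff_surjective (f := f)).1 fun a b e => Subtype.ext (by
    have := congrArg Subtype.val e
    simpa [f] using this)) ⟨_, hx⟩
  have : (a : G) = x := by
    have h2 : h * (a : G) * h⁻¹ = h * x * h⁻¹ := congrArg Subtype.val ha
    simpa using h2
  exact this ▸ a.2

theorem cent_elem (hB : D.caseB) {g : G} (hg : g ∈ A12 (D := D)) (h3 : g ^ 3 = 1) {e : G} (he : e ∈ F.U)
    (hne : ∀ i l : ZMod 3, e ≠ F.jel (0, i, l, 0)) (hc : Commute g e) : g ∈ F.U := by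
  obtain ⟨⟨k, i, l, j⟩, m, rfl⟩ := F.U_decomp hB he
  by_cases hm : m = 0
  · subst hm
    rw [ZMod.val_zero, pow_zero, mul_one] at hne hc
    obtain ⟨i', l', hq, h0, hind⟩ := plane_point k j (fun h => hne i l (by
      obtain ⟨rfl, rfl⟩ := Prod.mk.inj h; rfl))
    refine (F.point_plane hq h0 hind ?_ (F.jel_A_fix hg 1 0) (F.jel_A_fix hg 0 1)).2 h3
    have := hc.mul_right (F.jel_A_fix hg (i' - i) (l' - l))
    rwa [← F.jel_add, show ((k, i, l, j) : V4) + (0, i' - i, l' - l, 0) = (k, i', l', j) by simp] at this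
  · set e := F.jel (k, i, l, j) * F.s0 ^ m.val with hedef
    have pA : ∀ a b : ZMod 3, e ^ (a + b).val = e ^ a.val * e ^ b.val := fun a b => by
      rw [← pow_add, ZMod.val_add, ← pow_eq_pow_mod _ (F.U_cube he)]
    have cA : ∀ (i l : ZMod 3) (n : ℕ), Commute (e ^ n) (F.jel (0, i, l, 0)) := fun i l n =>
      (F.U_comm he (F.jel_mem_U _)).pow_left n
    let S : Subgroup G :=
      { carrier := {x | ∃ i l n : ZMod 3, x = F.jel (0, i, l, 0) * e ^ n.val}
        one_mem' := ⟨0, 0, 0, by rw [ZMod.val_zero, pow_zero, mul_one]; exact F.jel_zero.symm⟩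
        mul_mem' := by
          rintro _ _ ⟨i, l, n, rfl⟩ ⟨i', l', n', rfl⟩
          refine ⟨i + i', l + l', n + n', ?_⟩
          rw [pA, show ((0, i + i', l + l', 0) : V4) = (0, i, l, 0) + (0, i', l', 0) by simp, F.jel_add,
            show F.jel (0, i, l, 0) * e ^ n.val * (F.jel (0, i', l', 0) * e ^ n'.val) =
              F.jel (0, i, l, 0) * (e ^ n.val * F.jel (0, i', l', 0)) * e ^ n'.val by group, (cA i' l' n.val).eq]
          group
        inv_mem' := by
          rintro _ ⟨i, l, n, rfl⟩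
          refine ⟨-i, -l, -n, ?_⟩
          rw [mul_inv_rev, (show ((0, -i, -l, 0) : V4) = -(0, i, l, 0) by simp), F.jel_neg,
            show e ^ (-n).val = (e ^ n.val)⁻¹ from eq_inv_of_mul_eq_one_left (by
              rw [← pA, neg_add_cancel, ZMod.val_zero, pow_zero]), (cA i l n.val).inv_inv.eq] }
    have hpm : ∀ n : ZMod 3, ∃ w, e ^ n.val = F.jel w * F.s0 ^ (m * n).val := fun n => by
      refine ⟨n • (k, i, l, j), ?_⟩
      rw [hedef, (F.U_comm (F.jel_mem_U _) (F.mem_P.mp F.s0_mem_P).1 |>.pow_right _).mul_pow, F.jel_smul, ← pow_mul,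
        ZMod.val_mul, ← pow_eq_pow_mod _ F.s0_cube]
    have hS : Subgroup.centralizer (S : Set G) ≤ Subgroup.normalizer (F.U : Set G) := by
      refine F.free_le freeLine_A S ?_ ⟨1, 0, 0, by rw [ZMod.val_zero, pow_zero, mul_one]⟩
        ⟨0, 1, 0, by rw [ZMod.val_zero, pow_zero, mul_one]⟩ ?_ ?_
      · rintro _ ⟨i', l', n, rfl⟩
        exact mul_mem (F.jel_mem_U _) (pow_mem he _)
      · intro x hx
        obtain ⟨v, n, rfl⟩ := F.U_decomp hB hx
        obtain ⟨w, hw⟩ := hpm (m * n)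
        rw [show m * (m * n) = n by
          rw [← mul_assoc, (by decide : ∀ m : ZMod 3, m ≠ 0 → m * m = 1) m hm, one_mul]] at hw
        refine ⟨e ^ (m * n).val, ⟨0, 0, m * n, by rw [show ((0, 0, 0, 0) : V4) = 0 from rfl, F.jel_zero, one_mul]⟩,
          v + -w, ?_⟩
        rw [(F.U_comm (pow_mem he _) (F.jel_mem_U _)).eq, F.jel_add, F.jel_neg, mul_assoc, hw, inv_mul_cancel_left]
      · have hb : Function.Bijective (fun p : ZMod 3 × ZMod 3 × ZMod 3 =>
            (⟨F.jel (0, p.1, p.2.1, 0) * e ^ p.2.2.val, ⟨p.1, p.2.1, p.2.2, rfl⟩⟩ : S)) := by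
          refine ⟨fun p q h => ?_, fun ⟨x, a, b, n, hx⟩ => ⟨(a, b, n), Subtype.ext hx.symm⟩⟩
          obtain ⟨a, b, n⟩ := p
          obtain ⟨a', b', n'⟩ := q
          obtain ⟨w, hw⟩ := hpm n
          obtain ⟨w', hw'⟩ := hpm n'
          have h1 := congrArg Subtype.val h
          dsimp only at h1
          rw [hw, hw', ← mul_assoc, ← F.jel_add, ← mul_assoc, ← F.jel_add] at h1
          obtain ⟨-, h3⟩ := F.U_coord_inj hB h1
          obtain rfl : n = n' := mul_left_cancel₀ hm h3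
          have h4 := congrArg Subtype.val h
          dsimp only at h4
          have := F.jel_inj (mul_right_cancel h4)
          simp only [Prod.mk.injEq, true_and, and_true] at this
          rw [this.1, this.2]
        rw [F.card_U_eq hB, ← Nat.card_eq_of_bijective _ hb]
        simp
    have hgS : g ∈ Subgroup.centralizer (S : Set G) := by
      refine Subgroup.mem_centralizer_iff.mpr ?_
      rintro _ ⟨i', l', n, rfl⟩
      exact ((F.jel_A_fix hg i' l').mul_right (hc.pow_right _)).eq.symm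
    exact F.NF_three ⟨hg, hS hgS⟩ h3

/-- Fusion off the plane is in the normaliser. -/
theorem plane_TI (hB : D.caseB) {h e : G} (hh : h ∈ A12 (D := D)) (he : e ∈ F.U)
    (hne : ∀ i l : ZMod 3, e ≠ F.jel (0, i, l, 0)) (him : h * e * h⁻¹ ∈ F.U) : h ∈ F.NF := by
  refine ⟨hh, F.mem_norm_U fun x hx => ?_⟩
  refine F.cent_elem hB (mul_mem (mul_mem hh (F.U_le_A12 hx)) (inv_mem hh)) ?_ him (fun i l h0 => hne i l ?_)
    (conj_comm h (F.U_comm hx he))
  · rw [conj_pow, F.U_cube hx]; group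
  · calc e = h⁻¹ * (h * e * h⁻¹) * h := by group
      _ = h⁻¹ * F.jel (0, i, l, 0) * h := by rw [h0]
      _ = _ := by rw [(F.jel_A_fix hh i l).inv_left.eq, inv_mul_cancel_right]

/-- The centraliser of the involutive flip. -/
theorem cent_τ3 (hB : D.caseB) {g : G} (hg : g ∈ A12 (D := D)) (hc : Commute g F.τ3) : g ∈ F.NF := by
  classical
  obtain ⟨hsq, hτA, -, hact, hs0⟩ := F.τ3_facts
  have hs0U := (F.mem_P.mp F.s0_mem_P).1
  let pe : ZMod 2 → G := fun e => F.τ3 ^ e.val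
  have pe_add : ∀ a b : ZMod 2, pe (a + b) = pe a * pe b := fun a b => by
    simp only [pe]; rw [← pow_add, ZMod.val_add, ← pow_eq_pow_mod _ (by rw [pow_two, hsq])]
  let fU : ZMod 3 → ZMod 3 → ZMod 3 → ZMod 3 → G := fun k i l m => F.jel (k, i, l, -k) * F.s0 ^ m.val
  have fU_mem : ∀ k i l m, fU k i l m ∈ F.U := fun k i l m => mul_mem (F.jel_mem_U _) (pow_mem hs0U _)
  have fU_comm : ∀ k i l m, Commute (fU k i l m) F.τ3 := fun k i l m => by
    refine Commute.mul_left ?_ (hs0.symm.pow_left _)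
    refine (mul_inv_eq_iff_eq_mul.mp ?_).symm
    rw [hact, neg_neg]
  have fU_all : ∀ x ∈ F.U, Commute x F.τ3 → ∃ k i l m, x = fU k i l m := fun x hx hxt => by
    obtain ⟨⟨k, i, l, j⟩, m, rfl⟩ := F.U_decomp hB hx
    refine ⟨k, i, l, m, ?_⟩
    have h1 : Commute (F.jel (k, i, l, j)) F.τ3 := by
      simpa using hxt.mul_left (hs0.symm.pow_left m.val).inv_left
    have h2 := hact (k, i, l, j)
    rw [h1.symm.eq, mul_inv_cancel_right] at h2
    have h3 := congrArg (fun v : V4 => v.1) (F.jel_inj h2)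
    have h4 : j = -k := by
      simp only at h3
      rw [h3, neg_neg]
    rw [h4]
  let φA : Multiplicative ((ZMod 3 × ZMod 3 × ZMod 3 × ZMod 3) × ZMod 2) →* G := MonoidHom.mk'
    (fun p => fU p.toAdd.1.1 p.toAdd.1.2.1 p.toAdd.1.2.2.1 p.toAdd.1.2.2.2 * pe p.toAdd.2) (by
      rintro ⟨⟨k, i, l, m⟩, e⟩ ⟨⟨k', i', l', m'⟩, e'⟩
      show fU (k + k') (i + i') (l + l') (m + m') * pe (e + e') = fU k i l m * pe e * (fU k' i' l' m' * pe e')
      rw [show fU k i l m * pe e * (fU k' i' l' m' * pe e') = fU k i l m * (pe e * fU k' i' l' m') * pe e' by group,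
        ((fU_comm k' i' l' m').symm.pow_left e.val).eq, pe_add]
      have : fU (k + k') (i + i') (l + l') (m + m') = fU k i l m * fU k' i' l' m' := by
        simp only [fU]
        rw [F.s0_pow_add, show ((k + k', i + i', l + l', -(k + k')) : V4) = (k, i, l, -k) + (k', i', l', -k') by
          simp [add_comm], F.jel_add,
          show F.jel (k, i, l, -k) * F.s0 ^ m.val * (F.jel (k', i', l', -k') * F.s0 ^ m'.val) =
            F.jel (k, i, l, -k) * (F.s0 ^ m.val * F.jel (k', i', l', -k')) * F.s0 ^ m'.val by group,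
          ((F.commute_jel hs0U _).pow_left m.val).eq]
        group
      rw [this]; simp only [pe]; group)
  let ψ : Multiplicative ((ZMod 3 × ZMod 3) × ZMod 2) →* Multiplicative ((ZMod 3 × ZMod 3 × ZMod 3 × ZMod 3) × ZMod 2) :=
    MonoidHom.mk' (fun p => Multiplicative.ofAdd ((0, p.toAdd.1.1, p.toAdd.1.2, 0), p.toAdd.2)) (by
      intro p q
      rw [← ofAdd_add]
      congr 1)
  have pe3 : ∀ e : ZMod 2, (pe e) ^ 3 = 1 → e = 0 := fun e h3 => by
    rcases z2_cases e with rfl | rfl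
    · rfl
    · exfalso
      simp only [pe] at h3
      rw [show (1 : ZMod 2).val = 1 from rfl, pow_one, pow_three', hsq, one_mul] at h3
      have := hact (1, 0, 0, 0)
      rw [h3, one_mul, inv_one, mul_one] at this
      exact (by decide : ((1, 0, 0, 0) : V4) ≠ (-0, 0, 0, -1)) (F.jel_inj this)
  have hinj : Function.Injective φA := by
    rw [injective_iff_map_eq_one]
    rintro ⟨⟨k, i, l, m⟩, e⟩ h1
    change fU k i l m * pe e = 1 at h1
    have he : e = 0 := pe3 e (by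
      rw [eq_inv_of_mul_eq_one_right h1, inv_pow, F.U_cube (fU_mem k i l m), inv_one])
    subst he
    rw [show pe 0 = 1 from by simp [pe], mul_one] at h1
    have h2 : F.jel (k, i, l, -k) * F.s0 ^ m.val = F.jel 0 * F.s0 ^ (0 : ZMod 3).val := by
      rw [F.jel_zero, ZMod.val_zero, pow_zero, one_mul]; exact h1
    obtain ⟨h3, rfl⟩ := F.U_coord_inj hB h2
    simp only [Prod.mk_eq_zero] at h3
    obtain ⟨rfl, rfl, rfl, -⟩ := h3
    rfl
  have hinjZ : Function.Injective (φA.comp ψ) := hinj.comp fun p q h => by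
    have := congrArg Multiplicative.toAdd h
    simp only [ψ, MonoidHom.mk'_apply, toAdd_ofAdd, Prod.mk.injEq, true_and, and_true] at this
    exact Multiplicative.toAdd.injective (Prod.ext (Prod.ext this.1.1 this.1.2) this.2)
  set A := φA.range with hA
  set Z := (φA.comp ψ).range with hZdef
  set H := A12 (D := D) ⊓ Subgroup.centralizer {F.τ3} with hH
  have memH : ∀ {x : G}, x ∈ H ↔ x ∈ A12 (D := D) ∧ Commute x F.τ3 := fun {x} => by
    rw [hH, Subgroup.mem_inf, Subgroup.mem_centralizer_singleton_iff]; rfl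
  have memA : ∀ {x : G}, x ∈ A ↔ ∃ k i l m e, x = fU k i l m * pe e := fun {x} =>
    ⟨fun ⟨⟨⟨k, i, l, m⟩, e⟩, h⟩ => ⟨k, i, l, m, e, h.symm⟩,
      fun ⟨k, i, l, m, e, h⟩ => ⟨Multiplicative.ofAdd ((k, i, l, m), e), h.symm⟩⟩
  have memZ : ∀ {x : G}, x ∈ Z → ∃ i l e, x = F.jel (0, i, l, 0) * pe e := fun {x} ⟨⟨⟨i, l⟩, e⟩, h⟩ =>
    ⟨i, l, e, by rw [← h]; show fU 0 i l 0 * pe e = _; simp [fU]⟩
  have hU3 : ∀ {x : G}, x ∈ A → x ^ 3 = 1 → x ∈ F.U ∧ Commute x F.τ3 := fun {x} hx h3 => by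
    obtain ⟨k, i, l, m, e, rfl⟩ := memA.mp hx
    have he : e = 0 := pe3 e (by
      rw [((fU_comm k i l m).pow_right e.val).mul_pow, F.U_cube (fU_mem k i l m), one_mul] at h3
      exact h3)
    subst he
    rw [show pe 0 = 1 from by simp [pe], mul_one]
    exact ⟨fU_mem k i l m, fU_comm k i l m⟩
  have hnormA : ∀ {h : G}, h ∈ H → h ∈ F.NF → ∀ a ∈ A, h * a * h⁻¹ ∈ A := fun {h} hh hn a ha => by
    obtain ⟨k, i, l, m, e, rfl⟩ := memA.mp ha
    obtain ⟨-, hht⟩ := memH.mp hh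
    obtain ⟨k', i', l', m', e1⟩ := fU_all _ ((hn.2 _).mp (fU_mem k i l m))
      ((hht.mul_left (fU_comm k i l m)).mul_left hht.inv_left)
    refine memA.mpr ⟨k', i', l', m', e, ?_⟩
    rw [show h * (fU k i l m * pe e) * h⁻¹ = (h * fU k i l m * h⁻¹) * (h * pe e * h⁻¹) by group, e1,
      show h * pe e * h⁻¹ = pe e by rw [(hht.pow_right e.val).eq, mul_inv_cancel_right]]
  have hNF : ∀ {h : G}, h ∈ H → h ∈ Subgroup.normalizer (A : Set G) → h ∈ F.NF := fun {h} hh hn => by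
    obtain ⟨hhA, hht⟩ := memH.mp hh
    have hx : F.jel (1, 0, 0, -1) ∈ A := memA.mpr ⟨1, 0, 0, 0, 0, by simp [fU, pe]⟩
    refine F.plane_TI hB hhA (F.jel_mem_U (1, 0, 0, -1)) (fun i l h0 => by simpa using F.jel_inj h0) (hU3 ((hn _).mp hx) ?_).1
    rw [conj_pow, F.U_cube (F.jel_mem_U _)]; group
  have hZA : Z ≤ A := by rw [hZdef, hA, MonoidHom.range_comp]; exact Subgroup.map_le_range _ _
  have hgen : A ≤ H := fun x hx => by
    obtain ⟨k, i, l, m, e, rfl⟩ := memA.mp hx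
    exact memH.mpr ⟨mul_mem (F.U_le_A12 (fU_mem k i l m)) (pow_mem hτA _),
      (fU_comm k i l m).mul_left ((Commute.refl F.τ3).pow_left _)⟩
  suffices hmain : H ≤ Subgroup.normalizer (A : Set G) from hNF (memH.mpr ⟨hg, hc⟩) (hmain (memH.mpr ⟨hg, hc⟩))
  refine CfsgLib.Sym9Three.le_normalizer_of_quotient H Z A ?_ hgen ?_ ?_ ?_ ?_ ?_ ?_ ?_ ?_
  · exact hZA
  · intro z hz h hh
    obtain ⟨i, l, e, rfl⟩ := memZ hz
    exact ((F.jel_A_fix (memH.mp hh).1 i l).mul_right ((memH.mp hh).2.pow_right _)).eq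
  · rw [hA, hZdef, ← Nat.card_congr (MonoidHom.ofInjective hinj).toEquiv,
      ← Nat.card_congr (MonoidHom.ofInjective hinjZ).toEquiv]
    simp [Nat.card_prod]
  · intro a ha
    obtain ⟨k, i, l, m, e, rfl⟩ := memA.mp ha
    rw [((fU_comm k i l m).pow_right e.val).mul_pow, F.U_cube (fU_mem k i l m), one_mul]
    exact ⟨Multiplicative.ofAdd ((0, 0), 3 * e), by
      show fU 0 0 0 0 * pe (3 * e) = _
      rcases z2_cases e with rfl | rfl
      · simp [fU, pe, show ((0, 0, 0, 0) : V4) = 0 from rfl, F.jel_zero]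
      · simp [fU, pe, show ((0, 0, 0, 0) : V4) = 0 from rfl, F.jel_zero, show (3 : ZMod 2) = 1 from rfl,
          show (1 : ZMod 2).val = 1 from rfl, pow_three', hsq]⟩
  · intro a ha b hb
    obtain ⟨p, rfl⟩ := ha
    obtain ⟨q, rfl⟩ := hb
    rw [← map_inv, ← map_inv, ← map_mul, ← map_mul, ← map_mul, mul_comm p q, mul_inv_cancel_right, mul_inv_cancel,
      map_one]
    exact one_mem _
  · intro h hh hcomm
    have hn : h ∈ F.NF := by
      have hx : F.jel (1, 0, 0, -1) ∈ A := memA.mpr ⟨1, 0, 0, 0, 0, by simp [fU, pe]⟩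
      have h1 : h * F.jel (1, 0, 0, -1) * h⁻¹ ∈ A := by
        have := mul_mem (hZA (hcomm _ hx)) hx
        rwa [inv_mul_cancel_right] at this
      refine F.plane_TI hB (memH.mp hh).1 (F.jel_mem_U (1, 0, 0, -1)) (fun i l h0 => by simpa using F.jel_inj h0) (hU3 h1 ?_).1
      rw [conj_pow, F.U_cube (F.jel_mem_U _)]; group
    have hx : F.jel (1, 0, 0, -1) ∈ A := memA.mpr ⟨1, 0, 0, 0, 0, by simp [fU, pe]⟩
    obtain ⟨i, l, e, h1⟩ := memZ (hcomm _ hx)
    have h2 := F.cls_spec ⟨h, hn⟩ 1 0 0 (-1)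
    rw [show h * F.jel (1, 0, 0, -1) * h⁻¹ = F.jel (0, i, l, 0) * pe e * F.jel (1, 0, 0, -1) by rw [← h1]; group] at h2
    have he : e = 0 := pe3 e (by
      have : pe e = (F.jel (0, i, l, 0))⁻¹ * F.jel ((clsMap (F.cls ⟨h, hn⟩) (1, -1)).1, 0, 0,
          (clsMap (F.cls ⟨h, hn⟩) (1, -1)).2) * (F.jel (1, 0, 0, -1))⁻¹ := by rw [← h2]; group
      rw [this]
      exact F.U_cube (mul_mem (mul_mem (inv_mem (F.jel_mem_U _)) (F.jel_mem_U _)) (inv_mem (F.jel_mem_U _))))
    subst he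
    rw [show pe 0 = 1 from by simp [pe], mul_one, ← F.jel_add] at h2
    have h3 := F.jel_inj h2
    simp only [Prod.mk_add_mk, zero_add, add_zero, Prod.mk.injEq] at h3
    have hht := (memH.mp hh).2
    rcases cls_fix_mixed (F.cls ⟨h, hn⟩) (Prod.ext h3.1.symm h3.2.2.2.symm) with hc0 | hc1
    · obtain ⟨k', i', l', m', e1⟩ := fU_all h ((F.cls_zero_iff _).mp hc0) hht
      exact memA.mpr ⟨k', i', l', m', 0, by rw [e1]; simp [pe]⟩
    · have hu : h * F.τ3 ∈ F.U := (F.cls_zero_iff (⟨h, hn⟩ * ⟨F.τ3, F.τ3_mem⟩)).mp (by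
        rw [F.cls_mul, hc1, F.cls_τ3, cls_double])
      obtain ⟨k', i', l', m', e1⟩ := fU_all _ hu (hht.mul_left (Commute.refl _))
      exact memA.mpr ⟨k', i', l', m', 1, by
        rw [← e1]; simp only [pe]; rw [show (1 : ZMod 2).val = 1 from rfl, pow_one, mul_assoc, hsq, mul_one]⟩
  · intro h hh a ha haZ hcm
    obtain ⟨k, i, l, m, e, rfl⟩ := memA.mp ha
    obtain ⟨hhA, hht⟩ := memH.mp hh
    have hu : h * fU k i l m * h⁻¹ ∈ A := by
      have h1 := mul_mem (hZA hcm) (memA.mpr ⟨k, i, l, m, 0, rfl⟩)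
      have hp : h * pe e * h⁻¹ = pe e := by rw [(hht.pow_right e.val).eq, mul_inv_cancel_right]
      rw [show h * (fU k i l m * pe e) * h⁻¹ * (fU k i l m * pe e)⁻¹ =
        (h * fU k i l m * h⁻¹) * ((h * pe e * h⁻¹) * (pe e)⁻¹) * (fU k i l m)⁻¹ by group, hp, mul_inv_cancel,
        mul_one, show pe 0 = 1 from by simp [pe], mul_one, inv_mul_cancel_right] at h1
      exact h1
    have hn : h ∈ F.NF := F.plane_TI hB hhA (fU_mem k i l m) (fun i' l' h0 => haZ (by
      have h2 : F.jel (k, i, l, -k) * F.s0 ^ m.val = F.jel (0, i', l', 0) * F.s0 ^ (0 : ZMod 3).val := by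
        rw [ZMod.val_zero, pow_zero, mul_one]; exact h0
      obtain ⟨h3, rfl⟩ := F.U_coord_inj hB h2
      simp only [Prod.mk.injEq] at h3
      obtain ⟨rfl, -⟩ := h3
      exact ⟨Multiplicative.ofAdd ((i, l), e), rfl⟩)) (hU3 hu (by rw [conj_pow, F.U_cube (fU_mem k i l m)]; group)).1
    intro x
    refine ⟨hnormA hh hn x, fun hx => ?_⟩
    have hh' : h⁻¹ ∈ H := inv_mem hh
    have := hnormA hh' (inv_mem hn) _ hx
    simpa [mul_assoc] using this
  · intro h hh hn
    obtain ⟨k', i', l', m', e1⟩ := fU_all _ (F.NF_sq (hNF hh hn)) ((memH.mp hh).2.mul_left (memH.mp hh).2)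
    exact memA.mpr ⟨k', i', l', m', 0, by rw [e1]; simp [pe]⟩
  · set K := H ⊓ Subgroup.normalizer (A : Set G) with hK
    have hKN : K ≤ F.NF := fun x hx => hNF hx.1 hx.2
    let f : K →* Multiplicative Cls := MonoidHom.mk' (fun x => Multiplicative.ofAdd (F.cls ⟨x, hKN x.2⟩)) (fun a b => by
      rw [← ofAdd_add, ← F.cls_mul]; rfl)
    have hker : Nat.card f.ker ∣ 81 := by
      have hsurj : Function.Surjective (fun p : ZMod 3 × ZMod 3 × ZMod 3 × ZMod 3 =>
          (⟨⟨fU p.1 p.2.1 p.2.2.1 p.2.2.2, by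
              refine ⟨memH.mpr ⟨F.U_le_A12 (fU_mem _ _ _ _), fU_comm _ _ _ _⟩, ?_⟩
              exact Subgroup.le_normalizer (memA.mpr ⟨p.1, p.2.1, p.2.2.1, p.2.2.2, 0, by simp [pe]⟩)⟩, by
            rw [MonoidHom.mem_ker]
            exact congrArg Multiplicative.ofAdd ((F.cls_zero_iff _).mpr (fU_mem _ _ _ _))⟩ : f.ker)) := by
        rintro ⟨⟨x, hx⟩, hf⟩
        obtain ⟨k', i', l', m', e1⟩ := fU_all x ((F.cls_zero_iff ⟨x, hKN hx⟩).mp
          (Multiplicative.ofAdd.injective (MonoidHom.mem_ker.mp hf))) (memH.mp hx.1).2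
        exact ⟨(k', i', l', m'), Subtype.ext (Subtype.ext e1.symm)⟩
      have hinj' : Function.Injective (fun p : ZMod 3 × ZMod 3 × ZMod 3 × ZMod 3 => fU p.1 p.2.1 p.2.2.1 p.2.2.2) := by
        rintro ⟨a, b, c, d⟩ ⟨a', b', c', d'⟩ h0
        obtain ⟨h1, h2⟩ := F.U_coord_inj hB h0
        simp only [Prod.mk.injEq] at h1
        obtain ⟨rfl, rfl, rfl, -⟩ := h1
        obtain rfl : d = d' := h2
        rfl
      rw [← Nat.card_eq_of_bijective _ ⟨fun p q h0 => hinj' (congrArg (fun z : f.ker => ((z : K) : G)) h0), hsurj⟩]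
      simp
    have hr : Nat.card f.range ∣ 4 := by
      refine (Subgroup.card_subgroup_dvd_card _).trans ?_
      simp
    have hm := Subgroup.card_eq_card_quotient_mul_card_subgroup f.ker
    rw [Nat.card_congr (QuotientGroup.quotientKerEquivRange f).toEquiv] at hm
    rw [hm, show Nat.card Z = 18 by
      rw [hZdef, ← Nat.card_congr (MonoidHom.ofInjective hinjZ).toEquiv]; simp [Nat.card_prod]]
    exact (Nat.mul_dvd_mul hr hker).trans (by norm_num)

end Setting.Base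

end CfsgLib.U6Three
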