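import Cfsg.Agent.Lib.U6Three.NEq

/-!
Fusion of elements of order three with known centralisers, and the conjugates of a unit representative centralised
by such elements.
-/

set_option autoImplicit false
set_option linter.style.haveILetI false
set_option synthInstance.maxSize 1024

namespace CfsgLib.U6Three

universe u

theorem sl_cent_four : ∀ A R : SL23, A * A * A = 1 → R * R * (R * R) = 1 → R * R ≠ 1 → A * R = R * A → A = 1 := by
  decide +kernel

theorem sl_two_dep : ∀ A B : SL23, A * A * A = 1 → B * B * B = 1 → A * B = B * A →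
    ∃ i j : ZMod 3, (i, j) ≠ (0, 0) ∧ A ^ i.val * B ^ j.val = 1 := by decide +kernel

theorem sl_nz_four : ∀ R : SL23, R * R * (R * R) = 1 → c4 R ≠ 0 → R * R ≠ 1 := by decide +kernel

theorem pow_three_group {G : Type u} [Group G] {e : G} (h : e ^ 3 = 1) : IsPGroup 3 (Subgroup.zpowers e) :=
  fun w => ⟨1, by
    obtain ⟨n, hn⟩ := Subgroup.mem_zpowers_iff.mp w.2
    refine Subtype.ext ?_
    show (w : G) ^ 3 ^ 1 = 1
    rw [pow_one, ← hn, ← zpow_natCast, ← zpow_mul, mul_comm, zpow_mul, zpow_natCast, h, one_zpow]⟩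

theorem four_three_one {G : Type u} [Group G] {x : G} (h4 : x ^ 4 = 1) (h3 : x ^ 3 = 1) : x = 1 := by
  rwa [pow_succ, h3, one_mul] at h4

namespace Setting.Base

variable {G : Type u} [Group G] {D : Setting G} (F : D.Base) [Finite G]

theorem N_le_XS : F.N ≤ F.XS := F.N_eq_XS.le

theorem R1_rep {r : G} (hr : r ∈ D.R1) (h0 : cR (D := D) r ≠ 0) : ∃ i, F.kap r = sp i (emb none (1, 0)) := by
  rw [F.R1_emb hr]; exact R1_unit _ h0

/-- Conjugate to a power of the central element or to the second vector. -/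
def Gd (e : G) : Prop := ∃ c ∈ F.N, Pm D.z (c * e * c⁻¹) ∨ c * e * c⁻¹ = a2 D

/-- These elements control fusion. -/
theorem gd_fusion {e g : G} (he : F.Gd e) (hg : g ∈ Mi (D := D)) (h : g * e * g⁻¹ ∈ F.N) : g ∈ F.N := by
  obtain ⟨c, hc, hw⟩ := he
  suffices g * c⁻¹ ∈ F.N by
    have := mul_mem this hc
    rwa [inv_mul_cancel_right] at this
  have hgM : g * c⁻¹ ∈ Mi (D := D) := mul_mem hg (inv_mem (F.N_le_Mi hc))
  have h' : g * c⁻¹ * (c * e * c⁻¹) * (g * c⁻¹)⁻¹ ∈ F.N := by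
    rwa [show g * c⁻¹ * (c * e * c⁻¹) * (g * c⁻¹)⁻¹ = g * e * g⁻¹ by group]
  rcases hw with (hw | hw) | hw <;> rw [hw] at h'
  · exact F.N_z_fusion hgM h'
  · refine F.N_z_fusion hgM ?_
    have := inv_mem h'
    rwa [← conj_inv, inv_inv] at this
  · exact F.N_a2_fusion hgM h'

theorem gd_z : F.Gd D.z := ⟨1, one_mem _, Or.inl (Or.inl (by group))⟩

theorem gd_y : F.Gd F.y := ⟨F.τ, F.τ_le_N, Or.inl (Or.inr F.τ_conj_y)⟩

theorem gd_a2 : F.Gd (a2 D) := ⟨1, one_mem _, Or.inr (by group)⟩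

theorem gd_Qm {e : G} (he : e ∈ Qm (D := D)) (hne : e ≠ 1) : F.Gd e := by
  obtain ⟨c, hc, hcz, hw⟩ := good_Qm he hne
  exact ⟨c, F.cent_z_le_N hc hcz, hw⟩

/-- A unit representative of the first component in the centraliser of the involution. -/
theorem R1_Mi {r : G} (hr : r ∈ D.R1) : r ∈ Mi (D := D) := mem_Mi.mpr (mem_R1.mp hr).2.2.2

include F in
/-- The elements of order three centralising a unit of the first component move into the centraliser of the central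
element. -/
theorem cent_r_sylow {r : G} (hr : r ∈ D.R1) (h0 : cR (D := D) r ≠ 0) (E : Subgroup G) (hE : IsPGroup 3 E)
    (hEM : E ≤ Mi (D := D)) (hEr : ∀ e ∈ E, Commute e r) :
    ∃ h ∈ Mi (D := D), Commute h r ∧ ∀ e ∈ E, Commute (h * e * h⁻¹) D.z := by
  classical
  haveI : Fact (Nat.Prime 3) := ⟨Nat.prime_three⟩
  set Cr := Mi (D := D) ⊓ Subgroup.centralizer {r} with hCr
  have hmr : ∀ {g}, g ∈ Cr ↔ g ∈ Mi (D := D) ∧ Commute g r := fun {g} => by
    rw [hCr, Subgroup.mem_inf, Subgroup.mem_centralizer_singleton_iff]; rfl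
  set C := Cr ⊓ Subgroup.centralizer {D.z} with hCd
  have hmem : ∀ {g}, g ∈ C ↔ (g ∈ Mi (D := D) ∧ Commute g r) ∧ Commute g D.z := fun {g} => by
    rw [hCd, Subgroup.mem_inf, hmr, Subgroup.mem_centralizer_singleton_iff]; rfl
  have hzC : D.z ∈ C := hmem.mpr ⟨⟨mem_Mi.mpr D.i1_block.acts.1.cz.symm, (mem_R1.mp hr).2.1.symm⟩, Commute.refl _⟩
  obtain ⟨S⟩ : Nonempty (Sylow 3 C) := inferInstance
  haveI hn : (Subgroup.zpowers (⟨D.z, hzC⟩ : C)).Normal := ⟨fun x hx g => by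
    obtain ⟨n, rfl⟩ := Subgroup.mem_zpowers_iff.mp hx
    have hc : Commute g (⟨D.z, hzC⟩ : C) := Subtype.ext (hmem.mp g.2).2.eq
    rw [(hc.zpow_right n).eq, mul_inv_cancel_right]
    exact Subgroup.mem_zpowers_iff.mpr ⟨n, rfl⟩⟩
  have hpZ : IsPGroup 3 (Subgroup.zpowers (⟨D.z, hzC⟩ : C)) :=
    pow_three_group (Subtype.ext (by simpa using D.z_cube))
  have hzS' : (⟨D.z, hzC⟩ : C) ∈ (S : Subgroup C) :=
    (S.3 (S.2.to_sup_of_normal_right hpZ) le_sup_left).le (Subgroup.mem_sup_right (Subgroup.mem_zpowers _))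
  set S0 := (S : Subgroup C).map C.subtype with hS0
  have hS0C : S0 ≤ C := Subgroup.map_subtype_le _
  have hCC : C ≤ Cr := inf_le_left
  have hzS : D.z ∈ S0 := ⟨_, hzS', rfl⟩
  obtain ⟨T, hT⟩ := ((S.2.map C.subtype).comap_of_injective Cr.subtype Cr.subtype_injective).exists_le_sylow
  set P := (T : Subgroup Cr).map Cr.subtype with hP
  have hSP : S0 ≤ P := fun g hg => ⟨⟨g, hCC (hS0C hg)⟩, hT hg, rfl⟩
  have hPS : P ≤ S0 := by
    refine le_of_grow (T.2.map _) hSP fun x hx hn => ?_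
    obtain ⟨hxM, hxr⟩ := hmr.mp (Subgroup.map_subtype_le _ hx)
    have hw := hmem.mp (hS0C (hn _ hzS))
    have hxN : x ∈ F.N := F.N_z_fusion hxM (F.cent_z_le_N hw.1.1 hw.2)
    obtain ⟨i, hi⟩ := F.R1_rep hr h0
    have hxC : x ∈ F.C1 := F.unit_stab (F.N_le_XS hxN) (i := i) (j := i) (by
      rw [← hi, F.na_kap hxN (F.R1_le_K hr), hxr.eq, mul_inv_cancel_right])
    obtain ⟨w, hw1, hk⟩ := F.C1_conj_z hxC
    have hk1 : x * D.z * x⁻¹ * w⁻¹ = 1 := by
      refine four_three_one (F.K_four hk) ?_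
      have hc : Commute (x * D.z * x⁻¹) w⁻¹ := (hw1.comm hw.2).inv_right
      rw [hc.mul_pow, conj_pow, D.z_cube, mul_one, mul_inv_cancel, one_mul, inv_pow]
      rcases hw1 with e | e <;> rw [e]
      · rw [D.z_cube, inv_one]
      · rw [inv_pow, D.z_cube, inv_one, inv_one]
    have hxz : Commute x D.z := by
      have e := mul_inv_eq_one.mp hk1
      rcases hw1 with e1 | e1 <;> rw [e1] at e
      · exact mul_inv_eq_iff_eq_mul.mp e
      exfalso
      obtain ⟨m, hm⟩ := (T.2.map Cr.subtype) ⟨x, hx⟩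
      have h4 := conj_odd (show x ^ 3 ^ m = 1 from congrArg Subtype.val hm) e
      have := D.z_cube
      rw [pow_three', show D.z * D.z = 1 from by nth_rw 1 [← h4]; exact inv_mul_cancel _, one_mul] at this
      exact D.z_ne this
    have hle : (S : Subgroup C) ≤ P.subgroupOf C := fun g hg => hSP ⟨g, hg, rfl⟩
    have heq := S.3 ((T.2.map _).comap_of_injective C.subtype C.subtype_injective) hle
    exact ⟨⟨x, hmem.mpr ⟨⟨hxM, hxr⟩, hxz⟩⟩, heq.le (show x ∈ P from hx), rfl⟩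
  have hECr : E ≤ Cr := fun e he => hmr.mpr ⟨hEM he, hEr e he⟩
  obtain ⟨T', hT'⟩ := (hE.comap_of_injective Cr.subtype Cr.subtype_injective).exists_le_sylow
  obtain ⟨h, hh⟩ := MulAction.exists_smul_eq Cr T' T
  refine ⟨h, (hmr.mp h.2).1, (hmr.mp h.2).2, fun e he => (hmem.mp (hS0C (hPS ?_))).2⟩
  exact ⟨h * ⟨e, hECr he⟩ * h⁻¹, hh ▸ ⟨_, hT' (show ((⟨e, hECr he⟩ : Cr) : G) ∈ E from he), rfl⟩, rfl⟩

/-- The elements of order three centralising the central element and a unit of the first component. -/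
theorem second_of_cent {r : G} (hr : r ∈ D.R1) (h0 : cR (D := D) r ≠ 0) {x : G} (hx : x ∈ Mi (D := D))
    (hz : Commute x D.z) (hc : Commute x r) (h3 : x ^ 3 = 1) :
    ∃ B : SL23, D.MA x (1, B) ∧ B * B * B = 1 ∧ (B = 1 → x ≠ 1 → F.Gd x) := by
  obtain ⟨v, s, p, e, hs⟩ := cent_z_form hz (mem_Mi.mp hx)
  have hm : D.MA x p := ⟨_, s, e, hs⟩
  obtain ⟨g, hg, hg3⟩ := D.ma_three hz h3
  obtain rfl := hm.unique hg
  obtain ⟨R, hR, hrA⟩ := (mem_R1_def.mp hr).2
  have hR2 : R * R ≠ 1 := sl_nz_four R hR (by rwa [← cR_eq hr hrA.ma])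
  have h1 := (hm.mul hrA.ma).unique (hc.eq ▸ hrA.ma.mul hm)
  have hp1 : p.1 = 1 := sl_cent_four _ R (congrArg Prod.fst hg3) hR hR2 (congrArg Prod.fst h1)
  refine ⟨p.2, ?_, congrArg Prod.snd hg3, fun hB hne => F.gd_Qm ⟨?_, hx⟩ hne⟩
  · rwa [show ((1 : SL23), p.2) = p from Prod.ext hp1.symm rfl]
  · exact MA.mem_Q (D := D) (show D.MA x 1 by rwa [show (1 : Pr) = p from Prod.ext hp1.symm hB.symm])

include F in
/-- Without the large case the second part is trivial. -/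
theorem second_trivial (hB : ¬ D.caseB) {x : G} {B : SL23} (h : D.MA x (1, B)) (h3 : B * B * B = 1) : B = 1 := by
  by_contra hne
  refine hB (F.caseB_of_swap ?_)
  obtain ⟨u, s, -, hs⟩ := h
  rcases sl_to_mU B h3 with rfl | ⟨R, hR, hRB⟩
  · exact absurd rfl hne
  obtain ⟨r, hr⟩ := D.acts_lift (1, R) (by simp) hR
  have h1 := hs.conj hr
  rw [show ((1, R) : Pr) * (1, B) * (1, R)⁻¹ = (1, R * B * R⁻¹) from Prod.ext (by simp) rfl] at h1
  rcases hRB with e | e <;> rw [e] at h1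
  · exact ⟨_, swap_acts.mpr h1⟩
  · have h2 := h1.mul h1
    rw [show ((1, mU * mU) : Pr) * (1, mU * mU) = (1, mU) from by decide +kernel] at h2
    exact ⟨_, swap_acts.mpr h2⟩

/-- The general criterion. -/
theorem unit_K_of_group {r : G} (hr : r ∈ D.R1) (h0 : cR (D := D) r ≠ 0) {g : G} (hg : g ∈ Mi (D := D))
    (E : Subgroup G) (hE : IsPGroup 3 E) (hEN : E ≤ F.N) (hc : ∀ e ∈ E, Commute e (g * r * g⁻¹))
    (hgd : ∀ h ∈ Mi (D := D), (∀ e ∈ E, Commute (h * e * h⁻¹) D.z ∧ Commute (h * e * h⁻¹) r) →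
      ∃ e ∈ E, F.Gd e ∨ F.Gd (h * e * h⁻¹)) :
    g * r * g⁻¹ ∈ F.K := by
  have hEM : E.map (MulAut.conj g⁻¹).toMonoidHom ≤ Mi (D := D) := by
    rintro _ ⟨e, he, rfl⟩
    exact mul_mem (mul_mem (inv_mem hg) (F.N_le_Mi (hEN he))) (inv_mem (inv_mem hg))
  have hEr : ∀ x ∈ E.map (MulAut.conj g⁻¹).toMonoidHom, Commute x r := by
    rintro _ ⟨e, he, rfl⟩
    have := conj_comm g⁻¹ (hc e he)
    rwa [show g⁻¹ * (g * r * g⁻¹) * g⁻¹⁻¹ = r by group] at this
  obtain ⟨h, hh, hhr, hz⟩ := F.cent_r_sylow hr h0 _ (hE.map _) hEM hEr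
  set h' := h * g⁻¹ with hh'
  have hh'M : h' ∈ Mi (D := D) := mul_mem hh (inv_mem hg)
  have hall : ∀ e ∈ E, Commute (h' * e * h'⁻¹) D.z ∧ Commute (h' * e * h'⁻¹) r := fun e he => by
    have e1 : h' * e * h'⁻¹ = h * (g⁻¹ * e * g⁻¹⁻¹) * h⁻¹ := by rw [hh']; group
    refine ⟨e1 ▸ hz _ ⟨e, he, rfl⟩, ?_⟩
    rw [e1]
    have := conj_comm h (hEr _ ⟨e, he, rfl⟩)
    rwa [hhr.eq, mul_inv_cancel_right] at this
  have hN : ∀ e ∈ E, h' * e * h'⁻¹ ∈ F.N := fun e he =>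
    F.cent_z_le_N (mul_mem (mul_mem hh'M (F.N_le_Mi (hEN he))) (inv_mem hh'M)) (hall e he).1
  have hh'N : h' ∈ F.N := by
    obtain ⟨e, he, hd | hd⟩ := hgd h' hh'M hall
    · exact F.gd_fusion hd hh'M (hN e he)
    · refine inv_mem_iff.mp (F.gd_fusion hd (inv_mem hh'M) ?_)
      rw [show h'⁻¹ * (h' * e * h'⁻¹) * h'⁻¹⁻¹ = e by group]
      exact hEN he
  have := F.N_conj_K (inv_mem hh'N) (F.R1_le_K hr)
  rwa [show h'⁻¹ * r * h'⁻¹⁻¹ = g * (h⁻¹ * r * h) * g⁻¹ by rw [hh']; group,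
    show h⁻¹ * r * h = r by rw [mul_assoc, ← hhr.eq, inv_mul_cancel_left]] at this

/-- One element conjugate to a power of the central element or to the second vector suffices. -/
theorem unit_K_of_gd {r : G} (hr : r ∈ D.R1) (h0 : cR (D := D) r ≠ 0) {g : G} (hg : g ∈ Mi (D := D)) {e : G}
    (he : e ∈ F.N) (h3 : e ^ 3 = 1) (hd : F.Gd e) (hc : Commute e (g * r * g⁻¹)) : g * r * g⁻¹ ∈ F.K :=
  F.unit_K_of_group hr h0 hg _ (pow_three_group h3) (Subgroup.zpowers_le.mpr he)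
    (fun x hx => by
      obtain ⟨n, rfl⟩ := Subgroup.mem_zpowers_iff.mp hx
      exact hc.zpow_left n)
    fun _ _ _ => ⟨e, Subgroup.mem_zpowers e, Or.inl hd⟩

/-- Without the large case any element of order three suffices. -/
theorem unit_K_of_three (hB : ¬ D.caseB) {r : G} (hr : r ∈ D.R1) (h0 : cR (D := D) r ≠ 0) {g : G}
    (hg : g ∈ Mi (D := D)) {e : G} (he : e ∈ F.N) (h3 : e ^ 3 = 1) (hne : e ≠ 1)
    (hc : Commute e (g * r * g⁻¹)) : g * r * g⁻¹ ∈ F.K :=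
  F.unit_K_of_group hr h0 hg _ (pow_three_group h3) (Subgroup.zpowers_le.mpr he)
    (fun x hx => by
      obtain ⟨n, rfl⟩ := Subgroup.mem_zpowers_iff.mp hx
      exact hc.zpow_left n)
    fun h hh hall => by
      obtain ⟨h1, h2⟩ := hall e (Subgroup.mem_zpowers e)
      obtain ⟨B, hm, hB3, hgd⟩ := F.second_of_cent hr h0 (mul_mem (mul_mem hh (F.N_le_Mi he)) (inv_mem hh)) h1 h2
        (by rw [conj_pow, h3]; group)
      exact ⟨e, Subgroup.mem_zpowers e, Or.inr (hgd (F.second_trivial hB hm hB3)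
        fun h' => hne (conj_eq_one_iff.mp h'))⟩

/-- Two independent commuting elements of order three suffice. -/
theorem unit_K_of_pair {r : G} (hr : r ∈ D.R1) (h0 : cR (D := D) r ≠ 0) {g : G} (hg : g ∈ Mi (D := D)) {e e' : G}
    (he : e ∈ F.N) (he' : e' ∈ F.N) (h3 : e ^ 3 = 1) (h3' : e' ^ 3 = 1) (hee : Commute e e')
    (hind : ∀ i j : ZMod 3, e ^ i.val * e' ^ j.val = 1 → (i, j) = (0, 0)) (hc : Commute e (g * r * g⁻¹))
    (hc' : Commute e' (g * r * g⁻¹)) : g * r * g⁻¹ ∈ F.K := by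
  haveI : Fact (Nat.Prime 3) := ⟨Nat.prime_three⟩
  have hp : IsPGroup 3 (Subgroup.closure ({e, e'} : Set G)) := fun w => ⟨1, by
    refine Subtype.ext ?_
    show (w : G) ^ 3 ^ 1 = 1
    obtain ⟨m, n, hw⟩ : ∃ m n : ℤ, e ^ m * e' ^ n = (w : G) := by
      refine Subgroup.closure_induction (p := fun x _ => ∃ m n : ℤ, e ^ m * e' ^ n = x) ?_ ⟨0, 0, by simp⟩ ?_ ?_ w.2
      · rintro x (rfl | rfl)
        exacts [⟨1, 0, by simp⟩, ⟨0, 1, by simp⟩]
      · rintro _ _ - - ⟨m, n, rfl⟩ ⟨m', n', rfl⟩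
        exact ⟨m + m', n + n', by rw [zpow_add, zpow_add, (hee.zpow_zpow m' n).mul_mul_mul_comm]⟩
      · rintro _ - ⟨m, n, rfl⟩
        exact ⟨-m, -n, by rw [zpow_neg, zpow_neg, mul_inv_rev, (hee.zpow_zpow m n).inv_inv.eq]⟩
    rw [pow_one, ← hw, (hee.zpow_zpow m n).mul_pow, ← zpow_natCast, ← zpow_natCast (e' ^ n), ← zpow_mul, ← zpow_mul,
      mul_comm m, mul_comm n, zpow_mul, zpow_mul, zpow_natCast, zpow_natCast, h3, h3', one_zpow, one_zpow, one_mul]⟩
  refine F.unit_K_of_group hr h0 hg _ hp ((Subgroup.closure_le _).mpr ?_) (fun x hx => ?_) fun h hh hall => ?_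
  · rintro x (rfl | rfl)
    exacts [he, he']
  · refine (Subgroup.mem_centralizer_singleton_iff.mp (((Subgroup.closure_le _).mpr ?_) hx) :)
    rintro x (rfl | rfl) <;> rw [SetLike.mem_coe, Subgroup.mem_centralizer_singleton_iff]
    exacts [hc.eq, hc'.eq]
  · have hm : e ∈ Subgroup.closure ({e, e'} : Set G) := Subgroup.subset_closure (by simp)
    have hm' : e' ∈ Subgroup.closure ({e, e'} : Set G) := Subgroup.subset_closure (by simp)
    have hM := fun {x : G} (hx : x ∈ F.N) => mul_mem (mul_mem hh (F.N_le_Mi hx)) (inv_mem hh)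
    obtain ⟨B, hmA, hB3, -⟩ := F.second_of_cent hr h0 (hM he) (hall e hm).1 (hall e hm).2 (by rw [conj_pow, h3]; group)
    obtain ⟨B', hmA', hB3', -⟩ := F.second_of_cent hr h0 (hM he') (hall e' hm').1 (hall e' hm').2
      (by rw [conj_pow, h3']; group)
    have hcomm : B * B' = B' * B := by
      have h1 := (hmA.mul hmA').unique ((conj_comm h hee).eq ▸ hmA'.mul hmA)
      exact congrArg Prod.snd h1
    obtain ⟨i, j, hij, hB⟩ := sl_two_dep B B' hB3 hB3' hcomm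
    have hx : e ^ i.val * e' ^ j.val ∈ Subgroup.closure ({e, e'} : Set G) := mul_mem (pow_mem hm _) (pow_mem hm' _)
    have hx3 : (e ^ i.val * e' ^ j.val) ^ 3 = 1 := by
      rw [(hee.pow_pow _ _).mul_pow, ← pow_mul, ← pow_mul, mul_comm, pow_mul, h3, mul_comm, pow_mul, h3', one_pow,
        one_pow, one_mul]
    obtain ⟨C, hmC, -, hgd⟩ := F.second_of_cent hr h0 (hM (mul_mem (pow_mem he _) (pow_mem he' _)))
      (hall _ hx).1 (hall _ hx).2 (by rw [conj_pow, hx3]; group)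
    have hC : C = 1 := by
      have e1 : h * (e ^ i.val * e' ^ j.val) * h⁻¹ = (h * e * h⁻¹) ^ i.val * (h * e' * h⁻¹) ^ j.val := by
        rw [conj_pow, conj_pow]; group
      have h1 := hmC.unique (e1 ▸ (hmA.pow i.val).mul (hmA'.pow j.val))
      have := congrArg Prod.snd h1
      simpa [hB] using this
    exact ⟨_, hx, Or.inr (hgd hC fun h' => hij (hind i j (conj_eq_one_iff.mp h')))⟩

end Setting.Base

end CfsgLib.U6Three
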