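import Cfsg.Agent.Lib.U6Three.Singular
import Cfsg.Agent.Lib.U6Chz.Aut.Transfer

/-!
In the large case an element inverting the central element lies outside a subgroup of index two.
-/

set_option autoImplicit false
set_option linter.style.haveILetI false
set_option synthInstance.maxSize 1024

namespace CfsgLib.U6Three

universe u

theorem three_sums : ∀ u1 u2 u3 : Vec, u1 = emb none (1, 0) → u2 = emb none (0, 1) → u3 = emb (some 0) (1, 0) →
    u1 ≠ 0 ∧ u2 ≠ 0 ∧ u3 ≠ 0 ∧ u1 + u2 ≠ 0 ∧ u1 + u3 ≠ 0 ∧ u2 + u3 ≠ 0 ∧ u1 + u2 + u3 ≠ 0 ∧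
      u1 ≠ u2 ∧ u1 ≠ u3 ∧ u2 ≠ u3 ∧ u1 + u2 ≠ u1 + u3 ∧ u1 ≠ u2 + u3 ∧ u2 ≠ u1 + u3 ∧ u3 ≠ u1 + u2 := by
  rintro u1 u2 u3 rfl rfl rfl
  decide +kernel

/-- A subgroup has the same index in its product with a normal subgroup as its trace there. -/
theorem relIndex_sup_eq {H : Type u} [Group H] [Finite H] (C K : Subgroup H) [K.Normal] :
    C.relIndex (C ⊔ K) = C.relIndex K := by
  have e1 := Subgroup.relIndex_mul_relIndex (⊥ : Subgroup H) (C ⊓ K) K bot_le inf_le_right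
  have e2 := Subgroup.relIndex_mul_relIndex (⊥ : Subgroup H) (C ⊓ K) C bot_le inf_le_left
  have e3 := Subgroup.relIndex_mul_relIndex (⊥ : Subgroup H) K (C ⊔ K) bot_le le_sup_right
  have e4 := Subgroup.relIndex_mul_relIndex (⊥ : Subgroup H) C (C ⊔ K) bot_le le_sup_left
  simp only [Subgroup.relIndex_bot_left, Subgroup.inf_relIndex_right, Subgroup.inf_relIndex_left,
    Subgroup.relIndex_sup_right] at e1 e2 e3 e4
  have hpos : 0 < Nat.card C := Nat.card_pos
  refine Nat.eq_of_mul_eq_mul_left hpos ?_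
  calc Nat.card C * C.relIndex (C ⊔ K) = Nat.card K * K.relIndex C := e4.trans e3.symm
    _ = Nat.card (C ⊓ K : Subgroup H) * C.relIndex K * K.relIndex C := by rw [e1]
    _ = _ := by rw [← e2]; ring

namespace Setting.Base

variable {G : Type u} [Group G] {D : Setting G} (F : D.Base) [Finite G]

/-- An involution with a class of size 270 in the normaliser lies in the two-group. -/
theorem K_of_class {v : G} (hvN : v ∈ F.N) (hidx : ((Mi (D := D) ⊓ Subgroup.centralizer {v}).subgroupOf F.N).index = 270) :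
    v ∈ F.K := by
  classical
  set C := (Mi (D := D) ⊓ Subgroup.centralizer {v}).subgroupOf F.N with hC
  let K' : Subgroup F.N := F.K.subgroupOf F.N
  haveI hKn : K'.Normal := ⟨fun k hk g => F.N_conj_K g.2 hk⟩
  have hr : C.relIndex K' ∣ 2 := by
    have h1 : C.relIndex K' ∣ C.index := by
      rw [← relIndex_sup_eq C K', ← Subgroup.relIndex_mul_index (H := C) (K := C ⊔ K') le_sup_left]
      exact Dvd.intro _ rfl
    have h2 : C.relIndex K' ∣ Nat.card K' := Subgroup.index_dvd_card _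
    rw [hidx] at h1
    rw [Nat.card_congr (Subgroup.subgroupOfEquivOfLe F.K_le_N).toEquiv, F.card_K] at h2
    exact Nat.dvd_gcd h1 h2
  have hmem : ∀ {k : G} (hk : k ∈ F.K), (⟨⟨k, F.K_le_N hk⟩, hk⟩ : K') ∈ C.subgroupOf K' ↔ Commute k v := fun {k} hk => by
    simp only [Subgroup.mem_subgroupOf, hC, Subgroup.mem_inf, Subgroup.mem_centralizer_singleton_iff]
    exact ⟨fun h => h.2, fun h => ⟨F.K_le_Mi hk, h⟩⟩
  -- the fixed vectors
  have hA : ∀ {k : G} (hk : k ∈ F.K), Commute k v → F.na v (F.kap k) = F.kap k := fun {k} hk hc => by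
    rw [F.na_kap hvN hk, ← hc.eq, mul_inv_cancel_right]
  have hfix : ∀ x y : Vec, F.na v x ≠ x → F.na v y ≠ y → F.na v (x + y) = x + y := by
    intro x y hx hy
    have h1 : ¬ Commute (F.sec x) v := fun h => hx (by simpa [F.kap_sec] using hA (F.sec_mem x) h)
    have h2 : ¬ Commute (F.sec y) v := fun h => hy (by simpa [F.kap_sec] using hA (F.sec_mem y) h)
    have hi : (C.subgroupOf K').index = 2 :=
      ((Nat.dvd_prime Nat.prime_two).mp hr).resolve_left fun e => h1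
        ((hmem (F.sec_mem x)).mp (Subgroup.index_eq_one.mp e ▸ Subgroup.mem_top _))
    have h3 : Commute (F.sec x * F.sec y) v := (hmem (mul_mem (F.sec_mem x) (F.sec_mem y))).mp
      ((Subgroup.mul_mem_iff_of_index_two hi (a := ⟨⟨_, F.K_le_N (F.sec_mem x)⟩, F.sec_mem x⟩)
        (b := ⟨⟨_, F.K_le_N (F.sec_mem y)⟩, F.sec_mem y⟩)).mpr
        (iff_of_false (fun h => h1 ((hmem (F.sec_mem x)).mp h)) (fun h => h2 ((hmem (F.sec_mem y)).mp h))))
    have := hA (mul_mem (F.sec_mem x) (F.sec_mem y)) h3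
    rwa [F.kap_mul (F.sec_mem x) (F.sec_mem y), F.kap_sec, F.kap_sec] at this
  by_cases hl : F.Lin v
  · refine F.K_of_na hvN fun x => by_contra fun hx => ?_
    have hsx : F.na v (sg x) ≠ sg x := fun h => hx (by
      rw [hl] at h
      have := congrArg sg (congrArg sg h)
      rwa [sg_cube, sg_cube] at this)
    have h := hfix x (sg x) hx hsx
    have e : x + sg x = sg (sg x) := by
      have := sg_triple x
      calc x + sg x = x + sg x + sg (sg x) + sg (sg x) := by rw [add_assoc (x + sg x), vec_two, add_zero]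
        _ = _ := by rw [this, zero_add]
    rw [e, hl, hl] at h
    refine hx ?_
    have := congrArg sg h
    rwa [sg_cube, sg_cube] at this
  · exfalso
    have ha : F.Anti v := (F.N_le_XS hvN).2.resolve_left hl
    -- at most one nonzero fixed vector
    have hone : ∀ a b : Vec, a ≠ 0 → b ≠ 0 → F.na v a = a → F.na v b = b → a = b := by
      intro a b ha0 hb0 hfa hfb
      have hn : ∀ c : Vec, c ≠ 0 → F.na v c = c → F.na v (sg c) ≠ sg c := fun c hc0 hfc h => hc0 (by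
        rw [ha, hfc] at h
        have e := sg_triple c
        rw [h, add_assoc, vec_two, add_zero] at e
        exact e)
      by_contra hab
      have hab0 : a + b ≠ 0 := fun h => hab (by
        calc a = a + (b + b) := by rw [vec_two, add_zero]
          _ = b := by rw [← add_assoc, h, zero_add])
      refine hn (a + b) hab0 (by rw [F.na_add hvN, hfa, hfb]) ?_
      rw [sg_add]
      exact hfix _ _ (hn a ha0 hfa) (hn b hb0 hfb)
    obtain ⟨n1, n2, n3, n12, n13, n23, -, d12, d13, d23, d1213, d123, d213, d312⟩ := three_sums _ _ _ rfl rfl rfl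
    set u1 := emb none (1, 0)
    set u2 := emb none (0, 1)
    set u3 := emb (some 0) (1, 0)
    by_cases f1 : F.na v u1 = u1 <;> by_cases f2 : F.na v u2 = u2
    · exact d12 (hone _ _ n1 n2 f1 f2)
    · by_cases f3 : F.na v u3 = u3
      · exact d13 (hone _ _ n1 n3 f1 f3)
      · exact d123 (hone _ _ n1 n23 f1 (hfix _ _ f2 f3))
    · by_cases f3 : F.na v u3 = u3
      · exact d23 (hone _ _ n2 n3 f2 f3)
      · exact d213 (hone _ _ n2 n13 f2 (hfix _ _ f1 f3))
    · by_cases f3 : F.na v u3 = u3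
      · exact d312 (hone _ _ n3 n12 f3 (hfix _ _ f1 f2))
      · exact d1213 (hone _ _ n12 n13 (hfix _ _ f1 f2) (hfix _ _ f1 f3))

theorem s0_conj {g : G} (hg : g ∈ F.N) (hB : D.caseB) :
    (g ∈ F.XL → g * F.s0 * g⁻¹ * F.s0⁻¹ ∈ F.K) ∧ (g ∉ F.XL → g * F.s0 * g⁻¹ * F.s0 ∈ F.K) := by
  obtain ⟨hs, hna⟩ := F.s0_facts hB
  have hc := mul_mem (mul_mem hg hs) (inv_mem hg)
  refine ⟨fun hl => F.K_of_na (mul_mem hc (inv_mem hs)) fun v => ?_, fun hl => F.K_of_na (mul_mem hc hs) fun v => ?_⟩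
  · rw [F.na_mul hc (inv_mem hs), F.na_mul (mul_mem hg hs) (inv_mem hg), F.na_mul hg hs, hna, hl.2,
      F.na_cancel_inv hg, ← hna, F.na_cancel_inv hs]
  · have h1 : F.na g (sg (F.na g⁻¹ (sg v))) = sg (sg (F.na g (F.na g⁻¹ (sg v)))) := F.anti_of hg hl _
    rw [F.na_mul hc hs, F.na_mul (mul_mem hg hs) (inv_mem hg), F.na_mul hg hs, hna, hna, h1,
      F.na_cancel_inv hg, sg_cube]

/-- The elements pulled back from centralisers of involutions of the two-group are linear. -/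
theorem pulled_lin (hB : D.caseB) {x : G} (hxK : x * D.i1 * x⁻¹ ∈ F.K) (hne : x * D.i1 * x⁻¹ ≠ D.i1) {e : G}
    (he : e ∈ F.K) (hc : Commute e (x * D.i1 * x⁻¹)) (hm : x⁻¹ * e * x ∈ Mi (D := D)) : x⁻¹ * e * x ∈ F.XL := by
  classical
  set w := x * D.i1 * x⁻¹ with hw
  set v := x⁻¹ * D.i1 * x with hv
  have hMN : Mi (D := D) = F.N := F.Mi_eq_N
  have hwi : Commute w D.i1 := mem_Mi.mp (F.K_le_Mi hxK)
  have hxw : x⁻¹ * w * x = D.i1 := by rw [hw]; group
  have hvi : Commute D.i1 v := by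
    have := conj_comm' x hwi
    rwa [hxw] at this
  have hvN : v ∈ F.N := hMN ▸ mem_Mi.mpr hvi.symm
  have hw2 : w * w = 1 := by
    rw [hw, show x * D.i1 * x⁻¹ * (x * D.i1 * x⁻¹) = x * (D.i1 * D.i1) * x⁻¹ by group, D.i1_block.sq]; group
  have hwq : qv (F.kap w) = 0 ∧ F.kap w ≠ 0 := by
    refine ⟨?_, fun h => ?_⟩
    · have h2 := F.kap_sq hxK
      rw [hw2] at h2
      exact (ip_inj (D := D) (show ip (D := D) 0 = ip (D := D) (qv (F.kap w)) by rw [← h2]; exact if_pos rfl)).symm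
    · rcases mem_Ic.mp ((F.kap_zero hxK).mp h) with e' | e'
      · refine i1_ne (D := D) ?_
        rw [← hxw, e']; group
      · exact hne e'
  -- conjugation identifies the two centralisers
  have hC : ∀ g : G, g ∈ Mi (D := D) ⊓ Subgroup.centralizer {v} ↔ x * g * x⁻¹ ∈ Mi (D := D) ⊓ Subgroup.centralizer {w} := by
    intro g
    have e1 : x * v * x⁻¹ = D.i1 := by rw [hv]; group
    simp only [Subgroup.mem_inf, Subgroup.mem_centralizer_singleton_iff]
    refine ⟨fun ⟨h1, h2⟩ => ⟨mem_Mi.mpr ?_, (conj_comm x (mem_Mi.mp h1)).eq⟩, fun ⟨h1, h2⟩ => ⟨mem_Mi.mpr ?_, ?_⟩⟩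
    · have := conj_comm x (show Commute g v from h2)
      rwa [e1] at this
    · have := conj_comm' x (show Commute (x * g * x⁻¹) w from h2)
      rwa [hxw, show x⁻¹ * (x * g * x⁻¹) * x = g by group] at this
    · have := conj_comm' x (mem_Mi.mp h1)
      rwa [← hv, show x⁻¹ * (x * g * x⁻¹) * x = g by group] at this
  have hidx : ((Mi (D := D) ⊓ Subgroup.centralizer {v}).subgroupOf F.N).index = 270 := by
    rw [← F.class_index hxK hwq.1 hwq.2]
    set A := (Mi (D := D) ⊓ Subgroup.centralizer {v}).subgroupOf F.N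
    set B := (Mi (D := D) ⊓ Subgroup.centralizer {w}).subgroupOf F.N
    have hle : ∀ y : G, Mi (D := D) ⊓ Subgroup.centralizer {y} ≤ F.N := fun y => inf_le_left.trans hMN.le
    have hcard : Nat.card A = Nat.card B := by
      rw [Nat.card_congr (Subgroup.subgroupOfEquivOfLe (hle v)).toEquiv,
        Nat.card_congr (Subgroup.subgroupOfEquivOfLe (hle w)).toEquiv]
      exact Nat.card_congr ((MulAut.conj x).toEquiv.subtypeEquiv fun g => hC g)
    have h1 := A.card_mul_index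
    rw [← B.card_mul_index, hcard] at h1
    exact Nat.eq_of_mul_eq_mul_left Nat.card_pos h1
  have hvK := F.K_of_class hvN hidx
  have hv2 : v * v = 1 := by
    rw [hv, show x⁻¹ * D.i1 * x * (x⁻¹ * D.i1 * x) = x⁻¹ * (D.i1 * D.i1) * x by group, D.i1_block.sq]; group
  have hv0 : F.kap v ≠ 0 := fun h => by
    rcases mem_Ic.mp ((F.kap_zero hvK).mp h) with e' | e'
    · refine i1_ne (D := D) ?_
      rw [show D.i1 = x * v * x⁻¹ by rw [hv]; group, e']; group
    · refine hne ?_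
      have h1 : x⁻¹ * D.i1 * x = D.i1 := hv ▸ e'
      calc w = x * D.i1 * x⁻¹ := hw
        _ = x * (x⁻¹ * D.i1 * x) * x⁻¹ := by rw [h1]
        _ = D.i1 := by group
  have hvq : qv (F.kap v) = 0 := by
    have h2 := F.kap_sq hvK
    rw [hv2] at h2
    exact (ip_inj (D := D) (show ip (D := D) 0 = ip (D := D) (qv (F.kap v)) by rw [← h2]; exact if_pos rfl)).symm
  obtain ⟨n, hn, hnv⟩ := F.singular_fixer hB hvK hvq hv0
  obtain ⟨hd, hd3, -, hds⟩ := F.d0_facts hB
  set ev := n⁻¹ * F.d0 * n with hev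
  by_contra hml
  set m := x⁻¹ * e * x with hmd
  have hmN : m ∈ F.N := hMN ▸ hm
  have hevN : ev ∈ F.N := mul_mem (mul_mem (inv_mem hn) hd.1) hn
  set c := m * ev * m⁻¹ * ev⁻¹ with hcd
  -- the commutator has order dividing four
  have hc4 : c ^ 4 = 1 := by
    set f := x * ev * x⁻¹ with hfd
    have hf : f ∈ Mi (D := D) ⊓ Subgroup.centralizer {w} := (hC ev).mp
      ⟨F.N_le_Mi hevN, Subgroup.mem_centralizer_singleton_iff.mpr hnv.eq⟩
    have hfN : f ∈ F.N := hMN ▸ hf.1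
    have hK : e * (f * e⁻¹ * f⁻¹) ∈ F.K := mul_mem he (F.N_conj_K hfN (inv_mem he))
    have := F.K_four hK
    rw [show c = x⁻¹ * (e * (f * e⁻¹ * f⁻¹)) * x⁻¹⁻¹ by rw [hcd, hmd, hfd]; group, conj_pow, this]; group
  -- but it is a power of the pure element modulo the product
  let H : Subgroup F.N := F.LK.subgroupOf F.N
  haveI : H.Normal := ⟨fun h hh g => F.LK_conj g.2 hh⟩
  let π : F.N →* F.N ⧸ H := QuotientGroup.mk' H
  have hπ : ∀ a : F.N, π a = 1 ↔ (a : G) ∈ F.LK := fun a => (QuotientGroup.eq_one_iff a).trans Iff.rfl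
  set σ := π ⟨F.s0, F.s0_N⟩ with hσ
  have hKLK : ∀ {a : F.N}, (a : G) ∈ F.K → π a = 1 := fun h => (hπ _).mpr (F.K_le_LK h)
  have hcj : ∀ g : F.N, ((g : G) ∈ F.XL → π g * σ * (π g)⁻¹ = σ) ∧ ((g : G) ∉ F.XL → π g * σ * (π g)⁻¹ = σ⁻¹) :=
    fun g => ⟨fun h => mul_inv_eq_one.mp (by
      rw [← map_mul, ← map_inv, ← map_mul, ← map_inv, ← map_mul]
      exact hKLK ((F.s0_conj g.2 hB).1 h)), fun h => eq_inv_of_mul_eq_one_left (by
      rw [← map_mul, ← map_inv, ← map_mul, ← map_mul]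
      exact hKLK ((F.s0_conj g.2 hB).2 h))⟩
  have hd0 : π ⟨F.d0, hd.1⟩ = σ := mul_inv_eq_one.mp (by
    rw [← map_inv, ← map_mul]; exact (hπ _).mpr hds)
  set E := π ⟨ev, hevN⟩ with hEd
  have hE : E = σ ∨ E = σ⁻¹ := by
    have hEe : E = (π ⟨n⁻¹, inv_mem hn⟩) * σ * (π ⟨n⁻¹, inv_mem hn⟩)⁻¹ := by
      rw [hEd, ← hd0, ← map_inv, ← map_mul, ← map_mul]
      exact congrArg π (Subtype.ext (by show ev = n⁻¹ * F.d0 * n⁻¹⁻¹; rw [inv_inv]))
    by_cases hnl : n⁻¹ ∈ F.XL
    · exact Or.inl (hEe.trans ((hcj _).1 hnl))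
    · exact Or.inr (hEe.trans ((hcj _).2 hnl))
  have hmE : π ⟨m, hmN⟩ * E * (π ⟨m, hmN⟩)⁻¹ = E⁻¹ := by
    have h := (hcj ⟨m, hmN⟩).2 hml
    rcases hE with h' | h' <;> rw [h']
    · exact h
    · rw [← conj_inv, h]
  have hcN : c ∈ F.N := mul_mem (mul_mem (mul_mem hmN hevN) (inv_mem hmN)) (inv_mem hevN)
  have hC' : π ⟨c, hcN⟩ = E⁻¹ * E⁻¹ := by
    conv_rhs => arg 1; rw [← hmE]
    rw [hEd, ← map_inv, ← map_inv, ← map_mul, ← map_mul, ← map_mul]
    exact congrArg π (Subtype.ext rfl)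
  have hE3 : E ^ 3 = 1 := by
    have h3 : σ ^ 3 = 1 := by
      rw [hσ, ← map_pow]
      exact (hπ _).mpr (by rw [SubmonoidClass.coe_pow]; show F.s0 ^ 3 ∈ F.LK; rw [F.s0_cube]; exact one_mem _)
    rcases hE with h | h <;> rw [h]
    · exact h3
    · rw [inv_pow, h3, inv_one]
  have h4 : (E⁻¹ * E⁻¹) ^ 4 = 1 := by
    rw [← hC', ← map_pow, show (⟨c, hcN⟩ : F.N) ^ 4 = 1 from Subtype.ext hc4, map_one]
  have hE1 : E = 1 := by
    rw [← pow_two, ← pow_mul, inv_pow, inv_eq_one, show 2 * 4 = 3 * 2 + 2 from rfl, pow_add, pow_mul, hE3, one_pow,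
      one_mul] at h4
    rw [show E = E ^ 3 * (E ^ 2)⁻¹ by group, hE3, h4, inv_one, mul_one]
  have hσ1 : σ = 1 := by
    rcases hE with h | h <;> rw [hE1] at h
    · exact h.symm
    · exact inv_eq_one.mp h.symm
  exact F.s0_not_LK hB ((hπ _).mp hσ1)

/-- The linear part extends to a subgroup of index two. -/
theorem exists_index_two (hB : D.caseB) (hI : D.Inv) :
    ∃ G0 : Subgroup G, G0.index = 2 ∧ ∀ h ∈ Mi (D := D), h ∈ G0 ↔ h ∈ F.XL := by
  obtain ⟨G0, h1, h2⟩ := CfsgLib.U6Chz.Aut.exists_index_two (z := D.i1)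
    (orderOf_eq_prime (by rw [pow_two, D.i1_block.sq]) (i1_ne (D := D))) (E := F.K)
    (fun k hk => Subgroup.mem_centralizer_singleton_iff.mpr (mem_Mi.mp (F.K_le_Mi hk)).eq)
    (F.Ic_le_K (Subgroup.mem_zpowers _))
    (fun g hg k hk => F.N_conj_K (F.Mi_eq_N ▸ (hg : g ∈ Mi (D := D))) hk) F.extraspecial_K
    (fun g hg => F.CK_le_K ⟨mem_Mi.mpr (Subgroup.mem_centralizer_iff.mp hg _ (F.Ic_le_K (Subgroup.mem_zpowers _))).symm, hg⟩)
    (k := 9) F.card_K (by norm_num) (F.XL.subgroupOf (Mi (D := D))) (by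
      rw [← F.XL_index_two hI]
      have hM := F.Mi_eq_N
      show F.XL.relIndex (Mi (D := D)) = F.XL.relIndex F.N
      rw [hM])
    (fun x hx hne e he hc hm => F.pulled_lin hB hx hne he hc hm)
  exact ⟨G0, h1, fun h hh => h2 h hh⟩

end Setting.Base

end CfsgLib.U6Three
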