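import Cfsg.Agent.Lib.U6Three.GoodFus

/-!
Involutions of the normaliser on the coordinates: planes, and lifts centralised by the coordinates centralising their
image.
-/

set_option autoImplicit false
set_option linter.style.haveILetI false
set_option synthInstance.maxSize 1024

namespace CfsgLib.U6Three

universe u

theorem sp_emb : ∀ (c : ZMod 3) (i : Option (ZMod 3)) (a : K4), sp c (emb i a) = emb i (rotn c a) := by decide +kernel

theorem rotn_reach : ∀ a a0 : K4, a ≠ 0 → a0 ≠ 0 → ∃ c : ZMod 3, a = rotn c a0 := by decide +kernel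

theorem emb_zero : ∀ i : Option (ZMod 3), emb i 0 = 0 := by decide +kernel

theorem sp_one (v : Vec) : sp 1 v = sg v := rfl

theorem sg_triple : ∀ v : Vec, v + sg v + sg (sg v) = 0 := by decide +kernel

theorem Ic_comm_Mi {G : Type u} [Group G] {D : Setting G} [Finite G] {i g : G} (hi : i ∈ Setting.Base.Ic (D := D))
    (hg : g ∈ Setting.Base.Mi (D := D)) : Commute g i := by
  rcases Setting.Base.mem_Ic.mp hi with e | e <;> rw [e]
  exacts [Commute.one_right _, Setting.Base.mem_Mi.mp hg]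

namespace Setting.Base

variable {G : Type u} [Group G] {D : Setting G} (F : D.Base) [Finite G]

theorem sq_involutive {k : G} (hk : k ∈ F.N) (h2 : k * k ∈ Ic (D := D)) (v : Vec) : F.na k (F.na k v) = v := by
  rw [← F.na_mul hk hk, F.na_K (F.Ic_le_K h2)]

theorem sq_inv {k : G} (hk : k ∈ F.N) (h2 : k * k ∈ Ic (D := D)) (v : Vec) : F.na k⁻¹ v = F.na k v := by
  refine F.na_inj hk ?_
  rw [F.na_cancel_inv hk, F.sq_involutive hk h2]

theorem kap_Ic {x : G} (hx : x ∈ Ic (D := D)) : F.kap x = 0 := (F.kap_zero (F.Ic_le_K hx)).mpr hx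

/-- The square of a translate. -/
theorem sq_translate {k x : G} (hk : k ∈ F.N) (h2 : k * k ∈ Ic (D := D)) (hx : x ∈ F.K) :
    k * x * (k * x) ∈ Ic (D := D) ↔ F.na k (F.kap x) = F.kap x := by
  have e : k * x * (k * x) = k * x * k⁻¹ * (k * k) * x := by group
  have h1 := F.N_conj_K hk hx
  have h3 := F.Ic_le_K h2
  rw [e, ← F.kap_zero (mul_mem (mul_mem h1 h3) hx), F.kap_mul (mul_mem h1 h3) hx, F.kap_mul h1 h3, F.kap_Ic h2,
    add_zero, ← F.na_kap hk hx]
  refine ⟨fun h => ?_, fun h => by rw [h, vec_two]⟩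
  rw [← add_zero (F.na k (F.kap x)), ← vec_two (F.kap x), ← add_assoc, h, zero_add]

/-- The elements commuting with the action of a given element. -/
def Cna (k : G) : Subgroup G where
  carrier := {e | e ∈ F.N ∧ ∀ v, F.na e (F.na k v) = F.na k (F.na e v)}
  one_mem' := ⟨one_mem _, fun v => by rw [F.na_one, F.na_one]⟩
  mul_mem' := fun {a b} ha hb => ⟨mul_mem ha.1 hb.1, fun v => by
    rw [F.na_mul ha.1 hb.1, F.na_mul ha.1 hb.1, hb.2, ha.2]⟩
  inv_mem' := fun {a} ha => ⟨inv_mem ha.1, fun v => F.na_inj ha.1 (by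
    rw [F.na_cancel_inv ha.1, ha.2, F.na_cancel_inv ha.1])⟩

theorem mem_Cna {k e : G} : e ∈ F.Cna k ↔ e ∈ F.N ∧ ∀ v, F.na e (F.na k v) = F.na k (F.na e v) := Iff.rfl

/-- A conjugate of an involution centralised by the coordinates commuting with its image. -/
theorem comm_conj {k : G} (hk : k ∈ F.N) (h2 : k * k ∈ Ic (D := D))
    (H1 : ∀ v, F.na k v = v → ∃ w, F.na k w + w = v) :
    ∃ x ∈ F.K, ∀ e ∈ F.U, e ∈ F.Cna k → Commute e (x * k * x⁻¹) := by
  classical
  haveI : Fact (Nat.Prime 3) := ⟨Nat.prime_three⟩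
  haveI : Fact (Nat.Prime 2) := ⟨Nat.prime_two⟩
  set E := F.U ⊓ F.Cna k with hE
  let T := {y : G // k⁻¹ * y ∈ F.K ∧ y * y ∈ Ic (D := D)}
  have hmemT : ∀ (e : E) (y : T), k⁻¹ * ((e : G) * y.1 * (e : G)⁻¹) ∈ F.K ∧
      (e : G) * y.1 * (e : G)⁻¹ * ((e : G) * y.1 * (e : G)⁻¹) ∈ Ic (D := D) := by
    rintro ⟨e, heU, heN, hec⟩ ⟨y, hy1, hy2⟩
    refine ⟨?_, ?_⟩
    · have hw : k⁻¹ * e * k * e⁻¹ ∈ F.K := F.K_of_na
        (mul_mem (mul_mem (mul_mem (inv_mem hk) heN) hk) (inv_mem heN)) fun v => by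
          rw [F.na_mul (mul_mem (mul_mem (inv_mem hk) heN) hk) (inv_mem heN),
            F.na_mul (mul_mem (inv_mem hk) heN) hk, F.na_mul (inv_mem hk) heN, hec, F.na_inv_cancel hk,
            F.na_cancel_inv heN]
      have := mul_mem hw (F.N_conj_K heN hy1)
      rwa [show k⁻¹ * e * k * e⁻¹ * (e * (k⁻¹ * y) * e⁻¹) = k⁻¹ * (e * y * e⁻¹) by group] at this
    · rw [show e * y * e⁻¹ * (e * y * e⁻¹) = e * (y * y) * e⁻¹ by group,
        (Ic_comm_Mi hy2 (F.N_le_Mi heN)).eq, mul_inv_cancel_right]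
      exact hy2
  letI : MulAction E T :=
    { smul := fun e y => ⟨(e : G) * y.1 * (e : G)⁻¹, hmemT e y⟩
      one_smul := fun y => Subtype.ext (by show (1 : G) * y.1 * (1 : G)⁻¹ = y.1; group)
      mul_smul := fun a b y => Subtype.ext (by
        show ((a : G) * b) * y.1 * ((a : G) * b)⁻¹ = (a : G) * ((b : G) * y.1 * (b : G)⁻¹) * (a : G)⁻¹; group) }
  let S : Subgroup G :=
    { carrier := {x | x ∈ F.K ∧ F.na k (F.kap x) = F.kap x}
      one_mem' := ⟨one_mem _, by rw [F.kap_Ic (one_mem _), F.na_zero hk]⟩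
      mul_mem' := fun {a b} ha hb => ⟨mul_mem ha.1 hb.1, by rw [F.kap_mul ha.1 hb.1, F.na_add hk, ha.2, hb.2]⟩
      inv_mem' := fun {a} ha => ⟨inv_mem ha.1, by rw [F.kap_inv ha.1, ha.2]⟩ }
  have hS : IsPGroup 2 S := F.K_pgroup.to_le fun x hx => hx.1
  obtain ⟨m, hm⟩ := IsPGroup.iff_card.mp hS
  let eqv : S ≃ T :=
    { toFun := fun x => ⟨k * x.1, by rw [inv_mul_cancel_left]; exact x.2.1, (F.sq_translate hk h2 x.2.1).mpr x.2.2⟩
      invFun := fun y => ⟨k⁻¹ * y.1, y.2.1, (F.sq_translate hk h2 y.2.1).mp (by rw [mul_inv_cancel_left]; exact y.2.2)⟩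
      left_inv := fun x => Subtype.ext (inv_mul_cancel_left _ _)
      right_inv := fun y => Subtype.ext (mul_inv_cancel_left _ _) }
  have hE3 : IsPGroup 3 E := fun e => ⟨1, Subtype.ext (by simpa using F.U_cube e.2.1)⟩
  have hmod := hE3.card_modEq_card_fixedPoints T
  have hne : Nonempty (MulAction.fixedPoints E T) := by
    by_contra hcon
    rw [not_nonempty_iff] at hcon
    rw [Nat.card_of_isEmpty (α := MulAction.fixedPoints E T), ← Nat.card_congr eqv, hm] at hmod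
    have h3 := (Nat.prime_three.dvd_of_dvd_pow (Nat.modEq_zero_iff_dvd.mp hmod))
    omega
  obtain ⟨⟨y, hy⟩⟩ := hne
  have hv := (F.sq_translate hk h2 y.2.1).mp (by rw [mul_inv_cancel_left]; exact y.2.2)
  obtain ⟨w, hw⟩ := H1 _ hv
  set x := F.sec w
  have hx : x ∈ F.K := F.sec_mem w
  refine ⟨x, hx, fun e heU hec => ?_⟩
  have hxk : k⁻¹ * x * k ∈ F.K := by
    have := F.N_conj_K (inv_mem hk) hx
    rwa [inv_inv] at this
  have hd : (k⁻¹ * y.1)⁻¹ * (k⁻¹ * (x * k * x⁻¹)) ∈ Ic (D := D) := by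
    have e1 : k⁻¹ * (x * k * x⁻¹) = k⁻¹ * x * k * x⁻¹ := by group
    rw [e1, ← F.kap_congr y.2.1 (mul_mem hxk (inv_mem hx)), F.kap_mul hxk (inv_mem hx), F.kap_inv hx, ← hw]
    congr 1
    · have := F.na_kap (inv_mem hk) hx
      rw [inv_inv, F.sq_inv hk h2, F.kap_sec] at this
      exact this
    · exact (F.kap_sec w).symm
  have he : Commute e y.1 := mul_inv_eq_iff_eq_mul.mp (congrArg Subtype.val (hy (⟨e, heU, hec⟩ : E)))
  have h3 : x * k * x⁻¹ = y.1 * ((k⁻¹ * y.1)⁻¹ * (k⁻¹ * (x * k * x⁻¹))) := by group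
  rw [h3]
  exact he.mul_right (Ic_comm_Mi hd (F.N_le_Mi hec.1))

theorem anti_sp {g : G} (h : F.Anti g) (c : ZMod 3) (v : Vec) : F.na g (sp c v) = sp (2 * c) (F.na g v) := by
  rcases (by decide : ∀ i : ZMod 3, i = 0 ∨ i = 1 ∨ i = 2) c with rfl | rfl | rfl
  · rfl
  · exact h v
  · show F.na g (sg (sg v)) = sg (F.na g v)
    rw [h, h, sg_cube]

/-- The image of one unit of a component determines the image of the component. -/
theorem plane_map {k : G} (hk : k ∈ F.N) {i j : Option (ZMod 3)} {a0 : K4} (ha0 : a0 ≠ 0)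
    (h : ∃ b, F.na k (emb i a0) = emb j b) (a : K4) : ∃ b, F.na k (emb i a) = emb j b := by
  obtain ⟨b, hb⟩ := h
  obtain rfl | ha := eq_or_ne a 0
  · exact ⟨0, by rw [emb_zero, emb_zero, F.na_zero hk]⟩
  obtain ⟨c, rfl⟩ := rotn_reach a a0 ha ha0
  obtain ⟨c', hc⟩ := F.XS_sp (F.N_le_XS hk) c (emb i a0)
  exact ⟨rotn c' b, by rw [← sp_emb, hc, hb, sp_emb]⟩

/-- An involution maps the components back. -/
theorem plane_back {k : G} (hk : k ∈ F.N) (h2 : k * k ∈ Ic (D := D)) {i j : Option (ZMod 3)}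
    (h : ∀ a, ∃ b, F.na k (emb i a) = emb j b) (a : K4) : ∃ b, F.na k (emb j a) = emb i b := by
  obtain ⟨b, hb⟩ := h (1, 0)
  refine F.plane_map hk (a0 := b) ?_ ⟨(1, 0), by rw [← hb, F.sq_involutive hk h2]⟩ a
  rintro rfl
  rw [emb_zero, ← F.na_zero hk] at hb
  exact absurd (F.na_inj hk hb) ((by decide +kernel : ∀ i : Option (ZMod 3), emb i (1, 0) ≠ 0) i)

/-- Commutation from the exponents on the components. -/
theorem comm_of_exp {k e : G} (hk : k ∈ F.N) (he : e ∈ F.N) {π : Option (ZMod 3) → Option (ZMod 3)}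
    (hπ : ∀ i a, ∃ b, F.na k (emb i a) = emb (π i) b) {ε : ZMod 3}
    (hε : ∀ c v, F.na k (sp c v) = sp (ε * c) (F.na k v)) {ex : Option (ZMod 3) → ZMod 3}
    (hex : ∀ i a, F.na e (emb i a) = emb i (rotn (ex i) a)) (h : ∀ i, ex (π i) = ε * ex i) : e ∈ F.Cna k := by
  have key : ∀ i a, F.na e (F.na k (emb i a)) = F.na k (F.na e (emb i a)) := fun i a => by
    obtain ⟨b, hb⟩ := hπ i a
    rw [hb, hex, hex, ← sp_emb (ex i), hε, hb, ← sp_emb (ex (π i)), h]
  refine ⟨he, fun v => ?_⟩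
  rw [emb_split v]
  simp only [F.na_add hk, F.na_add he, key]

end Setting.Base

end CfsgLib.U6Three
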