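import Cfsg.Agent.Lib.U6Three.Swap

/-!
An element centralising both first coordinate vectors and inverting the two standard points fixes no element of the
centraliser of the coordinates outside the coordinates.
-/

set_option autoImplicit false
set_option linter.style.haveILetI false

namespace CfsgLib.U6Three

universe u

theorem nine_rot : ∀ (R R' : SL23) (a : ZMod 3), R * R * (R * R) = 1 → R * R ≠ 1 → R' * R' * (R' * R') = 1 →
    R' * R' ≠ 1 → mU ^ a.val * R' * (mU ^ a.val)⁻¹ = (mU ^ a.val)⁻¹ * R' * mU ^ a.val → a = 0 := by decide +kernel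

namespace Setting

variable {G : Type u} [Group G] {D : Setting G}

theorem R1_inj {r r' : G} (hr : r ∈ D.R1) (hr' : r' ∈ D.R1) {p : Pr} (h : D.Acts r p) (h' : D.Acts r' p) :
    r = r' := by
  have hm := D.R1.mul_mem hr (D.R1.inv_mem hr')
  have h1 := h.mul h'.inv
  rw [mul_inv_cancel] at h1
  obtain ⟨m, hm'⟩ := h1.trivial
  have h4 := (mem_R1_def.mp hm).1
  rw [hm', zz, ← pow_mul, zz_nat] at h4
  have : m = 0 := (by decide : ∀ m : ZMod 3, (((m.val * 4 : ℕ) : ZMod 3) = 0 → m = 0)) m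
    (D.zz_inj (h4.trans D.zz_zero.symm))
  rw [this, D.zz_zero, mul_inv_eq_one] at hm'
  exact hm'

theorem R1_pr {r : G} (hr : r ∈ D.R1) : ∃ R : SL23, R * R * (R * R) = 1 ∧ D.Acts r (R, 1) := (mem_R1_def.mp hr).2

theorem exists_R1_four : ∃ r ∈ D.R1, ∃ R : SL23, R * R * (R * R) = 1 ∧ R * R ≠ 1 ∧ D.Acts r (R, 1) := by
  obtain ⟨R, hR, hR2⟩ := sl_i_four
  obtain ⟨r0, hr0⟩ := D.swap.acts_lift (1, R) (by simp) hR
  obtain ⟨m, h4, hr⟩ := quat_adjust hR hr0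
  exact ⟨_, mem_R1_def.mpr ⟨h4, R, hR, swap_acts.mp hr⟩, R, hR, hR2, swap_acts.mp hr⟩

theorem nine_block_comm {s : G} {p : Pr} (hs : D.Acts s p) : Commute D.i1 s := by
  have h := hs.conj D.i1_block.acts
  rw [show ((-1, 1) : Pr) * p * ((-1, 1) : Pr)⁻¹ = p from Prod.ext (pm_central p.1).1 (pm_central p.2).2.1] at h
  have h2 := hs.inv.mul h
  rw [inv_mul_cancel] at h2
  obtain ⟨m, hm⟩ := h2.trivial
  have e : D.i1 * s * D.i1⁻¹ = s * D.zz m := by rw [← hm]; group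
  have e2 : s = s * D.zz (m + m) := by
    calc s = D.i1 * D.i1 * s * (D.i1 * D.i1)⁻¹ := by rw [D.i1_block.sq]; group
      _ = D.i1 * (D.i1 * s * D.i1⁻¹) * D.i1⁻¹ := by group
      _ = D.i1 * (s * D.zz m) * D.i1⁻¹ := by rw [e]
      _ = D.i1 * s * D.i1⁻¹ * (D.i1 * D.zz m * D.i1⁻¹) := by group
      _ = _ := by rw [e, D.conj_zz D.i1_block.acts.1.cz, mul_assoc, ← D.zz_add]
  have hm0 : m = 0 := (by decide : ∀ m : ZMod 3, m + m = 0 → m = 0) m (D.zz_inj (by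
    rw [D.zz_zero]; exact mul_eq_left.mp e2.symm))
  rw [hm0, D.zz_zero, mul_one, mul_inv_eq_iff_eq_mul] at e
  exact e

namespace Base

variable (F : D.Base) [Finite G]

/-- Elements inverted by the block involution. -/
theorem U_inverted {e : G} (he : e ∈ F.U) (h : D.i1 * e * D.i1 = e⁻¹) : ∃ a : ZMod 3, e = D.q (av a 0) := by
  obtain ⟨c, s, p, hc, hs, hp, rfl⟩ := F.mem_U_iff.mp he
  have hc0 : Commute (D.q c) s := (hs.comm_q (hp.fix hc)).symm
  have h1 : D.q (appP (-1, 1) c) * s = D.q (-c) * s⁻¹ := by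
    calc D.q (appP (-1, 1) c) * s = D.i1 * D.q c * D.i1⁻¹ * (D.i1 * s * D.i1⁻¹) := by
          rw [D.i1_block.acts.2, (nine_block_comm hs).eq, mul_inv_cancel_right]
      _ = D.i1 * (D.q c * s) * D.i1⁻¹ := by group
      _ = D.i1 * (D.q c * s) * D.i1 := by rw [D.i1_block.inv]
      _ = (D.q c * s)⁻¹ := h
      _ = _ := by rw [← D.q_inv, mul_inv_rev, hc0.inv_inv.eq]
  have hm := ((ma_of_Q (D := D) (D.q_mem (appP (-1, 1) c))).mul hs.ma)
  have hm' := ((ma_of_Q (D := D) (D.q_mem (-c))).mul hs.inv.ma)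
  rw [one_mul] at hm hm'
  have hp1 : p = 1 := by
    have e2 := hm.unique (h1 ▸ hm')
    have h3 := hp.cube
    rw [show p * p = 1 by nth_rewrite 2 [e2]; exact mul_inv_cancel p, one_mul] at h3
    exact h3
  obtain ⟨k, rfl⟩ := Acts.trivial (D := D) (hp1 ▸ hs)
  rw [← D.zz_neg, ← (D.zz_q k _).eq, ← (D.zz_q (-k) _).eq] at h1
  obtain ⟨hk, hv⟩ := D.el_inj h1
  obtain rfl : k = 0 := (by decide : ∀ k : ZMod 3, k = -k → k = 0) k hk
  obtain ⟨i, l, rfl⟩ := inA_av c hc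
  refine ⟨i, ?_⟩
  rw [D.zz_zero, mul_one, (by decide +kernel : ∀ i l : ZMod 3, appP ((-1, 1) : Pr) (av i l) = -av i l → l = 0) i l hv]

theorem swapB_U : F.swapB.U = F.U := by
  ext x
  constructor <;> intro hx <;> refine Subgroup.mem_centralizer_iff.mpr ?_ <;> rintro _ ⟨⟨k, i, l, j⟩, rfl⟩
  · rw [← F.swapB_jel k l i j]; exact (F.swapB.commute_jel hx _).eq.symm
  · rw [F.swapB_jel]; exact (F.commute_jel hx _).eq.symm

/-- An element whose commutator with the block involution is in the centraliser of the coordinates. -/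
theorem comm_block_U {x : G} (hact : ∀ v : V4, x * F.jel v * x⁻¹ = F.jel (-v.1, v.2.1, v.2.2.1, -v.2.2.2)) :
    x * D.i1 * x⁻¹ * D.i1 ∈ F.U := by
  have hinv : ∀ v : V4, x⁻¹ * F.jel v * x = F.jel (-v.1, v.2.1, v.2.2.1, -v.2.2.2) := by
    intro v
    have := hact (-v.1, v.2.1, v.2.2.1, -v.2.2.2)
    simp only [neg_neg] at this
    rw [← this]; group
  refine F.fix_J_mem_U fun w => ?_
  obtain ⟨k, i, l, j⟩ := w
  refine mul_inv_eq_iff_eq_mul.mp ?_
  calc x * D.i1 * x⁻¹ * D.i1 * F.jel (k, i, l, j) * (x * D.i1 * x⁻¹ * D.i1)⁻¹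
      = x * (D.i1 * (x⁻¹ * (D.i1 * F.jel (k, i, l, j) * D.i1⁻¹) * x) * D.i1⁻¹) * x⁻¹ := by group
    _ = _ := by rw [F.conj_jel_i1, hinv, F.conj_jel_i1, hact]; simp

theorem pair_act {x : G} (h1 : Commute x (D.q (av 1 0))) (h2 : Commute x (a2 D)) (hz : x * D.z * x⁻¹ = D.z⁻¹)
    (hy : x * F.y * x⁻¹ = F.y⁻¹) (v : V4) : x * F.jel v * x⁻¹ = F.jel (-v.1, v.2.1, v.2.2.1, -v.2.2.2) := by
  obtain ⟨k, i, l, j⟩ := v
  have hA : Commute x (D.q (av i l)) := by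
    rw [← F.jel_q, show ((0, i, l, 0) : V4) = i • (0, 1, 0, 0) + l • (0, 0, 1, 0) by simp, F.jel_add, F.jel_smul,
      F.jel_smul, F.jel_q, F.jel_q]
    exact (h1.pow_right _).mul_right (h2.pow_right _)
  show x * (D.zz k * D.q (av i l) * F.y ^ j.val) * x⁻¹ = D.zz (-k) * D.q (av i l) * F.y ^ (-j).val
  rw [show x * (D.zz k * D.q (av i l) * F.y ^ j.val) * x⁻¹ =
    (x * D.zz k * x⁻¹) * (x * D.q (av i l) * x⁻¹) * (x * F.y ^ j.val * x⁻¹) by group, hA.eq, mul_inv_cancel_right,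
    zz, conj_pow', hz, conj_pow', hy, inv_pow, inv_pow, ← F.y_pow_neg, show (D.z ^ k.val)⁻¹ = (D.zz k)⁻¹ from rfl,
    ← D.zz_neg]

theorem adjust_block {x : G} (h1 : Commute x (D.q (av 1 0))) (h2 : Commute x (a2 D)) (hz : x * D.z * x⁻¹ = D.z⁻¹)
    (hy : x * F.y * x⁻¹ = F.y⁻¹) : ∃ a : ZMod 3, Commute (D.q (av a 0) * x) D.i1 := by
  set e := x * D.i1 * x⁻¹ * D.i1 with he
  obtain ⟨a, ha⟩ := F.U_inverted (F.comm_block_U (F.pair_act h1 h2 hz hy)) (by
    rw [mul_inv_rev, mul_inv_rev, mul_inv_rev, inv_inv, D.i1_block.inv]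
    simp only [mul_assoc, D.i1_block.sq, mul_one])
  rw [← he] at ha
  refine ⟨a, ?_⟩
  show D.q (av a 0) * x * D.i1 = D.i1 * (D.q (av a 0) * x)
  have hx : x * D.i1 = e * D.i1 * x := by
    rw [he, mul_assoc _ D.i1 D.i1, D.i1_block.sq, mul_one, inv_mul_cancel_right]
  have hi : D.i1 * D.q (av a 0) = D.q (-av a 0) * D.i1 := mul_inv_eq_iff_eq_mul.mp (D.i1_block.neg rfl)
  calc D.q (av a 0) * x * D.i1 = D.q (av a 0) * D.q (av a 0) * D.i1 * x := by rw [mul_assoc, hx, ha]; group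
    _ = D.q (-av a 0) * D.i1 * x := by
      rw [D.q_mul', om_self, neg_zero, D.zz_zero, one_mul, (by decide : ∀ v : W4, v + v = -v) (av a 0)]
    _ = _ := by rw [← hi, mul_assoc]

/-- The action on the first block of a fixed element is trivial. -/
theorem fix_first {x s : G} {p : Pr} (hx1 : Commute x D.i1) (h2 : Commute x (a2 D)) (hz : x * D.z * x⁻¹ = D.z⁻¹)
    (hy : x * F.y * x⁻¹ = F.y⁻¹) (hs : D.Acts s p) (hp : Nine p) (hxs : Commute x s) : p.1 = 1 := by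
  obtain ⟨r, hr, R, hR, hR2, hrA⟩ := exists_R1_four (D := D)
  obtain ⟨a, ha⟩ := nine_pow _ hp.1
  have hR1 : ∀ w ∈ D.R1, x * w * x⁻¹ ∈ D.R1 := by
    intro w hw
    obtain ⟨h4, hwz, hwa, hwi⟩ := mem_R1.mp hw
    have hz' := conj_comm x hwz
    rw [hz] at hz'
    exact mem_R1.mpr ⟨by rw [conj_pow, h4]; group, Commute.inv_right_iff.mp hz', (h2.mul_left hwa).mul_left h2.inv_left,
      (hx1.mul_left hwi).mul_left hx1.inv_left⟩
  have hyi : Commute F.y D.i1 := F.block_y.symm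
  have hsU : s ∈ F.U := F.acts_mem_U hs hp
  -- the two conjugates agree
  have he : F.y ^ a.val * r * (F.y ^ a.val)⁻¹ = s * r * s⁻¹ := by
    have m1 := F.R1_conj_U (pow_mem (F.jel_y ▸ F.jel_mem_U _ : F.y ∈ F.U) a.val) (hyi.pow_left _) hr
    have m2 := F.R1_conj_U hsU (nine_block_comm hs).symm hr
    obtain ⟨S1, -, h1A⟩ := R1_pr m1
    obtain ⟨S2, -, h2A⟩ := R1_pr m2
    have e1 := h1A.ma.unique (((F.y_ma a).mul hrA.ma).mul (F.y_ma a).inv)
    have e2 := h2A.ma.unique ((hs.ma.mul hrA.ma).mul hs.ma.inv)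
    refine R1_inj m1 m2 (h1A) ?_
    rw [show ((S1, 1) : Pr) = (S2, 1) from Prod.ext (by
      have := congrArg Prod.fst e1
      have := congrArg Prod.fst e2
      simp_all) rfl]
    exact h2A
  obtain ⟨R', hR', hR'A⟩ := R1_pr (hR1 r hr)
  have hR'2 : R' * R' ≠ 1 := fun h0 => by
    have hrr : x * (r * r) * x⁻¹ = 1 := by
      have m := mul_mem (hR1 r hr) (hR1 r hr)
      have h3 := hR'A.mul hR'A
      rw [show ((R', 1) : Pr) * (R', 1) = 1 from Prod.ext (by simpa using h0) (by simp)] at h3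
      have := R1_inj m (one_mem _) h3 acts_one
      rw [← this]; group
    rw [conj_eq_one_iff] at hrr
    have := (hrA.mul hrA).unique (hrr ▸ acts_one)
    exact hR2 (by simpa using congrArg Prod.fst this)
  have hyn : x * F.y ^ a.val * x⁻¹ = (F.y ^ a.val)⁻¹ := by rw [conj_pow', hy, inv_pow]
  have key : (F.y ^ a.val)⁻¹ * (x * r * x⁻¹) * F.y ^ a.val = s * (x * r * x⁻¹) * s⁻¹ := by
    calc (F.y ^ a.val)⁻¹ * (x * r * x⁻¹) * F.y ^ a.val
        = (x * F.y ^ a.val * x⁻¹) * (x * r * x⁻¹) * (x * F.y ^ a.val * x⁻¹)⁻¹ := by rw [hyn, inv_inv]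
      _ = x * (F.y ^ a.val * r * (F.y ^ a.val)⁻¹) * x⁻¹ := by group
      _ = x * (s * r * s⁻¹) * x⁻¹ := by rw [he]
      _ = (x * s * x⁻¹) * (x * r * x⁻¹) * (x * s * x⁻¹)⁻¹ := by group
      _ = _ := by rw [hxs.eq, mul_inv_cancel_right]
  have k1 := ((F.y_ma a).inv.mul hR'A.ma).mul (F.y_ma a)
  have k2 := (hs.ma.mul hR'A.ma).mul hs.ma.inv
  rw [← key] at k2
  have k3 := congrArg Prod.fst (k1.unique k2)
  simp only [Prod.fst_mul, Prod.fst_inv, Prod.pow_fst, ha] at k3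
  rw [ha, nine_rot R R' a hR hR2 hR' hR'2 k3.symm, ZMod.val_zero, pow_zero]

/-- Fixed elements lie among the coordinates. -/
theorem inv_pair_fix_J {x s : G} (h1 : Commute x (D.q (av 1 0))) (h2 : Commute x (a2 D))
    (hz : x * D.z * x⁻¹ = D.z⁻¹) (hy : x * F.y * x⁻¹ = F.y⁻¹) (hs : s ∈ F.U) (hxs : Commute x s) : s ∈ F.J := by
  obtain ⟨c, r, p, hc, hr, hp, rfl⟩ := F.mem_U_iff.mp hs
  obtain ⟨a, ha⟩ := F.adjust_block h1 h2 hz hy
  obtain ⟨b, hb⟩ := F.swapB.adjust_block (x := x) h2 h1 hz hy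
  have hxr : Commute x r := by
    obtain ⟨i, l, rfl⟩ := inA_av c hc
    have hA : Commute x (D.q (av i l)) := by
      have := F.pair_act h1 h2 hz hy (0, i, l, 0)
      rw [F.jel_q] at this
      simp only [neg_zero] at this
      rw [F.jel_q] at this
      exact mul_inv_eq_iff_eq_mul.mp this
    simpa using hA.inv_right.mul_right hxs
  have key : ∀ w : W4, InA w → Commute (D.q w * x) (D.q (av 1 0)) ∧ Commute (D.q w * x) (a2 D) ∧
      (D.q w * x) * D.z * (D.q w * x)⁻¹ = D.z⁻¹ ∧ (D.q w * x) * F.y * (D.q w * x)⁻¹ = F.y⁻¹ ∧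
      Commute (D.q w * x) r := by
    intro w hw
    have hU : D.q w ∈ F.U := by
      obtain ⟨i, l, rfl⟩ := inA_av w hw
      rw [← F.jel_q]; exact F.jel_mem_U _
    refine ⟨(F.U_q hU (av_inA 1 0)).mul_left h1, (F.U_q hU (av_inA 0 1)).mul_left h2, ?_, ?_,
      (F.U_comm hU (F.acts_mem_U hr hp)).mul_left hxr⟩
    · rw [show D.q w * x * D.z * (D.q w * x)⁻¹ = D.q w * (x * D.z * x⁻¹) * (D.q w)⁻¹ by group, hz,
        (F.U_z hU).inv_right.eq, mul_inv_cancel_right]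
    · rw [show D.q w * x * F.y * (D.q w * x)⁻¹ = D.q w * (x * F.y * x⁻¹) * (D.q w)⁻¹ by group, hy,
        (F.U_y hU).inv_right.eq, mul_inv_cancel_right]
  obtain ⟨-, k2, kz, ky, ks⟩ := key (av a 0) (av_inA _ _)
  have hp1 := F.fix_first ha k2 kz ky hr hp ks
  obtain ⟨k1, -, kz', ky', ks'⟩ := key (av 0 b) (av_inA _ _)
  have hp2 := F.swapB.fix_first (x := D.q (av 0 b) * x) (p := (p.2, p.1)) hb k1 kz' ky'
    (swap_acts.mpr hr) ⟨hp.2, hp.1⟩ ks'
  obtain ⟨k, rfl⟩ := Acts.trivial (D := D) ((show p = 1 from Prod.ext hp1 hp2) ▸ hr)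
  obtain ⟨i, l, rfl⟩ := inA_av c hc
  rw [← F.jel_q, ← F.jel_zpow]
  exact mul_mem (F.jel_mem _) (F.jel_mem _)

end Base

end Setting

end CfsgLib.U6Three
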