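import Cfsg.Agent.Lib.U6Three.Forms

/-!
Involutions in the centraliser of the central element, and commutation tests in the normal form.
-/

set_option autoImplicit false

namespace CfsgLib.U6Three

universe u

/-- The diagonal pairs in standard position. -/
def DiagP (p : Pr) : Prop :=
  p = (mU, mU) ∨ p = (mU * mU, mU * mU) ∨ p = (mU, mU * mU) ∨ p = (mU * mU, mU)

instance (p : Pr) : Decidable (DiagP p) := inferInstanceAs (Decidable (_ ∨ _))

/-- The span of the first coordinate vectors. -/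
def InA (v : W4) : Prop := v.1.2 = 0 ∧ v.2.2 = 0

instance (v : W4) : Decidable (InA v) := inferInstanceAs (Decidable (_ ∧ _))

theorem sl_inv_sq : ∀ A : SL23, A * A = 1 → A = 1 ∨ A = -1 := by decide +kernel

theorem app2_pm : ∀ v : V2, app2 (-1) v = -v ∧ app2 1 v = v ∧ (v = -v → v = 0) := by decide +kernel

theorem DiagP.inv {p : Pr} (h : DiagP p) : DiagP p⁻¹ := by
  rcases h with rfl | rfl | rfl | rfl <;> decide +kernel

theorem DiagP.swap {p : Pr} (h : DiagP p) : DiagP (p.2, p.1) := by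
  rcases h with rfl | rfl | rfl | rfl <;> simp [DiagP]

theorem DiagP.fix_iff {p : Pr} (h : DiagP p) (v : W4) : appP p v = v ↔ InA v := by
  have key : ∀ A : SL23, A = mU ∨ A = mU * mU → ∀ v : V2, app2 A v = v ↔ v.2 = 0 := by decide +kernel
  rcases h with rfl | rfl | rfl | rfl <;>
    simp only [appP, Prod.ext_iff (x := (app2 _ _, app2 _ _)), InA] <;>
    rw [key _ (by simp), key _ (by simp)]

theorem DiagP.ne {p : Pr} (h : DiagP p) : p.1 ≠ 1 ∧ p.2 ≠ 1 := by
  rcases h with rfl | rfl | rfl | rfl <;> exact ⟨by decide +kernel, by decide +kernel⟩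

/-- The three-elements commuting with a diagonal pair. -/
theorem DiagP.cent {p B : Pr} (h : DiagP p) (hB : B * B * B = 1) (hc : B * p = p * B) :
    (B.1 = 1 ∨ B.1 = mU ∨ B.1 = mU * mU) ∧ (B.2 = 1 ∨ B.2 = mU ∨ B.2 = mU * mU) := by
  have key : ∀ A B : SL23, (A = mU ∨ A = mU * mU) → B * A = A * B → B * B * B = 1 →
      B = 1 ∨ B = mU ∨ B = mU * mU := by decide +kernel
  rcases h with rfl | rfl | rfl | rfl <;>
    exact ⟨key _ _ (by simp) (congrArg Prod.fst hc) (congrArg Prod.fst hB),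
      key _ _ (by simp) (congrArg Prod.snd hc) (congrArg Prod.snd hB)⟩

theorem conj_comm {G : Type*} [Group G] (g : G) {a b : G} (h : Commute a b) :
    Commute (g * a * g⁻¹) (g * b * g⁻¹) := h.map (MulAut.conj g).toMonoidHom

theorem conj_comm' {G : Type*} [Group G] (g : G) {a b : G} (h : Commute a b) :
    Commute (g⁻¹ * a * g) (g⁻¹ * b * g) := by simpa using conj_comm g⁻¹ h

namespace Setting

variable {G : Type u} [Group G] (D : Setting G)

theorem el_unique {k l : ZMod 3} {u v : W4} {s s' : G} (hs : D.IsLevi s) (hs' : D.IsLevi s')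
    (h : D.zz k * (D.q u * s) = D.zz l * (D.q v * s')) : u = v := by
  have hl : D.IsLevi (D.zz l * s' * s⁻¹ * (D.zz k)⁻¹) :=
    (((D.isLevi_zz l).mul D hs').mul D (hs.inv D)).mul D ((D.isLevi_zz k).inv D)
  have h2 : D.zz (om u (-v) * 0) * (D.q (-v + u) * 1) = D.zz (om (-v) u) * (D.zz l * s' * s⁻¹ * (D.zz k)⁻¹) := by
    have e : D.q (-v + u) = D.zz (om (-v) u) * (D.q (-v) * D.q u) := by
      rw [q_mul', ← mul_assoc, ← zz_add, add_neg_cancel, zz_zero, one_mul]
    rw [mul_zero, zz_zero, one_mul, mul_one, e, ← q_inv]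
    congr 1
    have h3 : D.q u * s = (D.zz k)⁻¹ * D.zz l * (D.q v * s') := by rw [mul_assoc, ← h]; group
    have hc : Commute (D.q v)⁻¹ ((D.zz k)⁻¹ * D.zz l) :=
      ((D.zz_q k v).inv_left.mul_left (D.zz_q l v)).symm.inv_left
    calc (D.q v)⁻¹ * D.q u = (D.q v)⁻¹ * (D.q u * s) * s⁻¹ := by group
      _ = ((D.q v)⁻¹ * ((D.zz k)⁻¹ * D.zz l)) * D.q v * s' * s⁻¹ := by rw [h3]; group
      _ = (D.zz k)⁻¹ * (D.zz l * s' * s⁻¹) := by rw [hc.eq]; group
      _ = _ := by
        have : Commute (D.zz k)⁻¹ (D.zz l * s' * s⁻¹) :=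
          ((((D.isLevi_zz l).mul D hs').mul D (hs.inv D)).cz.symm.pow_left _).inv_left
        exact this.eq
  have := D.t_fix D.isLevi_one (h2 ▸ ((D.isLevi_zz _).mul D hl).ct)
  rw [neg_add_eq_zero] at this
  exact this.symm

theorem q_pow_ea (v : W4) (i : ZMod 3) : D.q v ^ i.val = D.q (i • v) := (D.q_smul i v).symm

variable {D}

theorem MS.conj_MA {h x : G} {g p : Pr} (H : D.MS h g) (H' : D.MA x p) :
    D.MA (h * x * h⁻¹) (g * (p.2, p.1) * g⁻¹) := by
  obtain ⟨u, σ, rfl, hσ⟩ := H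
  obtain ⟨w, s, rfl, hs⟩ := H'
  have h1 : D.MA (σ * D.q w * σ⁻¹) 1 := ma_of_Q (by rw [hσ.2]; exact D.q_mem _)
  have h2 : D.Acts (σ * s * σ⁻¹) (g * (p.2, p.1) * g⁻¹) := by
    refine ⟨(hσ.1.mul D hs.1).mul D (hσ.1.inv D), fun v => ?_⟩
    have e : σ⁻¹ * D.q v * σ = D.q (swapW (appP g⁻¹ v)) := by
      have := hσ.2 (swapW (appP g⁻¹ v))
      rw [swapW_swapW, ← appP_mul, mul_inv_cancel, appP_one] at this
      rw [← this]; group
    rw [show σ * s * σ⁻¹ * D.q v * (σ * s * σ⁻¹)⁻¹ = σ * (s * (σ⁻¹ * D.q v * σ) * s⁻¹) * σ⁻¹ by group, e,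
      hs.2, hσ.2, swapW_appP, swapW_swapW, ← appP_mul, ← appP_mul]
  have hu : D.MA (D.q u) 1 := ma_of_Q (D.q_mem u)
  have h3 := (hu.mul (h1.mul h2.ma)).mul hu.inv
  rw [one_mul, one_mul, inv_one, mul_one] at h3
  convert h3 using 1
  group

variable (D)

/-- Involutions of the centraliser. -/
theorem inv_forms {a : G} (hz : Commute a D.z) (h2 : a * a = 1) (h1 : a ≠ 1) :
    (∃ g, D.MS a g ∧ g.1 * g.2 = 1) ∨ ((∃ u, a = D.q u * D.t) ∧ D.MA a (-1, -1)) ∨ D.MA a (-1, 1) ∨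
      D.MA a (1, -1) := by
  obtain ⟨u, s, g, e, hg | hg⟩ := D.cases_H hz
  · have hA : D.MA a g := ⟨u, s, e, hg⟩
    have hh := hA.mul hA
    rw [h2] at hh
    have hu := hh.unique ma_one
    rcases sl_inv_sq _ (congrArg Prod.fst hu) with e1 | e1 <;> rcases sl_inv_sq _ (congrArg Prod.snd hu) with e2 | e2 <;>
      rw [show g = (g.1, g.2) from rfl, e1, e2] at hA hg
    · exfalso
      have h3 := D.Q_cube hA.mem_Q
      rw [pow_three', h2, one_mul] at h3
      exact h1 h3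
    · exact Or.inr (Or.inr (Or.inr hA))
    · exact Or.inr (Or.inr (Or.inl hA))
    · refine Or.inr (Or.inl ⟨?_, hA⟩)
      have ht : D.Acts (D.t * s) 1 := by
        have := D.t_acts.mul hg
        rwa [show (((-1, -1) : Pr) * (-1, -1)) = 1 from Prod.ext (by simp) (by simp)] at this
      obtain ⟨m, hm⟩ := ht.trivial
      have hs : s = D.t * D.zz m := by rw [← hm, ← mul_assoc, D.t_sq, one_mul]
      have hsq : D.zz (m + m) = 1 := by
        have htm : Commute D.t (D.zz m) := D.zz_comm D.t_z m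
        have hqt : D.q u * D.t * (D.q u * D.t) = 1 := by
          rw [show D.q u * D.t * (D.q u * D.t) = D.q u * (D.t * D.q u * D.t) by group, D.t_q, ← D.q_inv,
            mul_inv_cancel]
        rw [e, hs] at h2
        calc D.zz (m + m) = D.q u * D.t * (D.q u * D.t) * (D.zz m * D.zz m) := by rw [hqt, one_mul, zz_add]
          _ = D.q u * D.t * (D.q u * (D.t * D.zz m)) * D.zz m := by group
          _ = D.q u * (D.t * D.zz m) * (D.q u * (D.t * D.zz m)) := by
            have hc : Commute (D.q u * (D.t * D.zz m)) (D.zz m) :=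
              ((D.zz_q m u).symm).mul_left (htm.mul_left (Commute.refl _))
            rw [mul_assoc (D.q u * D.t), hc.eq]; group
          _ = 1 := h2
      have hm0 : m = 0 := by
        have := D.zz_inj (hsq.trans D.zz_zero.symm)
        exact (by decide : ∀ m : ZMod 3, m + m = 0 → m = 0) m this
      exact ⟨u, by rw [e, hs, hm0, zz_zero, mul_one]⟩
  · have hS : D.MS a g := ⟨u, s, e, hg⟩
    have hh := hS.mul_MS hS
    rw [h2] at hh
    exact Or.inl ⟨g, hS, congrArg Prod.fst (hh.unique ma_one)⟩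

/-- A conjugate of the central element fixed by the involution is diagonal. -/
theorem pt_levi {y : G} (hp : D.IsPt y) (hQ : y ∉ D.Q) (hy : D.IsLevi y) :
    ∃ g, D.Acts y g ∧ g * g * g = 1 ∧ g.1 ≠ 1 ∧ g.2 ≠ 1 := by
  obtain ⟨g, hg⟩ := D.levi_cases hy
  obtain ⟨g', hg', h3⟩ := D.ma_three hy.cz hp.cube
  rcases hg with hg | hg
  swap
  · exact absurd ⟨0, y, by rw [q_zero, one_mul], hg⟩ hg'.not_MS
  obtain rfl := hg'.unique hg.ma
  have e : y = D.zz 0 * (D.q 0 * y) := by rw [zz_zero, q_zero, one_mul, one_mul]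
  refine ⟨g', hg, h3, fun h1 => ?_, fun h1 => ?_⟩
  · have hv : ∀ v : V2, Commute y (D.q (v, 0)) := fun v => by
      rw [e]
      refine (D.comm_q_iff hg _).mpr ⟨?_, by simp [om, det2]⟩
      simp [appP, h1, app2_one, app2]
    exact (by decide : om ((1, 0), (0 : V2)) ((0, 1), 0) ≠ 0) (D.pt_abelian hp hQ (hv _) (hv _))
  · have hv : ∀ v : V2, Commute y (D.q (0, v)) := fun v => by
      rw [e]
      refine (D.comm_q_iff hg _).mpr ⟨?_, by simp [om, det2]⟩
      simp [appP, h1, app2_one, app2]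
    exact (by decide : om ((0 : V2), (1, 0)) ((0 : V2), (0, 1)) ≠ 0) (D.pt_abelian hp hQ (hv _) (hv _))

/-- Two points of the centraliser related by conjugation. -/
theorem partner {g : G} (hz : Commute (g * D.z * g⁻¹) D.z) (hQ : g * D.z * g⁻¹ ∉ D.Q) :
    D.IsPt (g⁻¹ * D.z * g) ∧ Commute (g⁻¹ * D.z * g) D.z ∧ g⁻¹ * D.z * g ∉ D.Q := by
  have hp : D.IsPt (g⁻¹ * D.z * g) := ⟨g⁻¹, Or.inl (by rw [inv_inv])⟩
  refine ⟨hp, ?_, fun h => hQ ?_⟩
  · have := conj_comm' g hz.symm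
    simpa [mul_assoc] using this
  obtain ⟨k, hk⟩ := hp.mem_Q h
  have e : D.z = g * D.zz k * g⁻¹ := by rw [← hk]; group
  rcases (by decide : ∀ k : ZMod 3, k = 0 ∨ k = 1 ∨ k = -1) k with rfl | rfl | rfl
  · exact absurd (by rw [e, zz_zero]; group) D.z_ne
  · rw [zz_one] at e; rw [← e, ← D.zz_one]; exact D.zz_mem 1
  · rw [zz_neg, zz_one] at e
    rw [← D.Q.inv_mem_iff, show (g * D.z * g⁻¹)⁻¹ = g * D.z⁻¹ * g⁻¹ by group, ← e, ← D.zz_one]
    exact D.zz_mem 1

end Setting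

end CfsgLib.U6Three
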