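import Cfsg.Agent.Lib.U6Three.KShape
import Cfsg.Agent.Lib.SymplecticTypeP

/-!
The product is extraspecial; elements trivial modulo its centre are inner; fixed points of the unipotent group.
-/

set_option autoImplicit false
set_option linter.style.haveILetI false

namespace CfsgLib.U6Three

open scoped commutatorElement

universe u

theorem cf_dual : ∀ p q : ZMod 2, ∀ a : K4, cf ((q, p) : K4) a = a.1 * p + a.2 * q := by decide

theorem bv_nondeg : ∀ v : Vec, (∀ w : Vec, bv v w = 0) → v = 0 := by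
  intro v h
  have key : ∀ a : K4, (∀ b : K4, cf a b = 0) → a = 0 := by decide
  have h1 := key v.1 fun b => by simpa [bv, cf] using h (b, 0, 0, 0)
  have h2 := key v.2.1 fun b => by simpa [bv, cf] using h (0, b, 0, 0)
  have h3 := key v.2.2.1 fun b => by simpa [bv, cf] using h (0, 0, b, 0)
  have h4 := key v.2.2.2 fun b => by simpa [bv, cf] using h (0, 0, 0, b)
  exact Prod.ext h1 (Prod.ext h2 (Prod.ext h3 h4))

theorem bv_dual (φ : Vec → ZMod 2) (hφ : ∀ v w, φ (v + w) = φ v + φ w) : ∃ v0, ∀ v, bv v0 v = φ v := by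
  refine ⟨((φ ((0, 1), 0, 0, 0), φ ((1, 0), 0, 0, 0)), (φ (0, (0, 1), 0, 0), φ (0, (1, 0), 0, 0)),
    (φ (0, 0, (0, 1), 0), φ (0, 0, (1, 0), 0)), (φ (0, 0, 0, (0, 1)), φ (0, 0, 0, (1, 0)))), fun v => ?_⟩
  have h0 : φ 0 = 0 := by have := hφ 0 0; rwa [add_zero, left_eq_add] at this
  have sc : ∀ (e : ZMod 2) (w : Vec), φ (e • w) = e * φ w := fun e w => by
    rcases (by decide : ∀ e : ZMod 2, e = 0 ∨ e = 1) e with rfl | rfl
    · rw [zero_smul, h0, zero_mul]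
    · rw [one_smul, one_mul]
  obtain ⟨⟨a, b⟩, ⟨c, d⟩, ⟨e, f⟩, ⟨g, i⟩⟩ := v
  have e1 : (((a, b), (c, d), (e, f), (g, i)) : Vec) = a • ((1, 0), 0, 0, 0) + b • ((0, 1), 0, 0, 0) +
      (c • (0, (1, 0), 0, 0) + d • (0, (0, 1), 0, 0)) + (e • (0, 0, (1, 0), 0) + f • (0, 0, (0, 1), 0)) +
      (g • (0, 0, 0, (1, 0)) + i • (0, 0, 0, (0, 1))) := by simp [Prod.smul_mk]
  conv_rhs => rw [e1]
  rw [hφ, hφ, hφ, hφ, hφ, hφ, hφ, sc, sc, sc, sc, sc, sc, sc, sc]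
  simp only [bv, cf]
  ring

theorem bv_one : bv ((1, 0), 0, 0, 0) ((0, 1), 0, 0, 0) ≠ 0 := by decide

namespace Setting.Base

variable {G : Type u} [Group G] {D : Setting G} (F : D.Base) [Finite G]

theorem exists_ip {x : G} (hx : x ∈ Ic (D := D)) : ∃ e, x = ip (D := D) e := by
  rcases mem_Ic.mp hx with h | h
  · exact ⟨0, h.trans (by simp [ip])⟩
  · exact ⟨1, h.trans (by simp [ip])⟩

theorem ip_Ic (e : ZMod 2) : ip (D := D) e ∈ Ic (D := D) := by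
  rw [ip]; split_ifs
  exacts [one_mem _, Subgroup.mem_zpowers _]

/-- Elements trivial on the product modulo its centre are inner. -/
theorem inner {g : G} (hg : g ∈ Mi (D := D)) (h : ∀ x ∈ F.K, g * x * g⁻¹ * x⁻¹ ∈ Ic (D := D)) : g ∈ F.K := by
  choose x hx ex using F.kap_surj
  choose φ hφ using fun v => exists_ip (h (x v) (hx v))
  have hval : ∀ y ∈ F.K, g * y * g⁻¹ = ip (D := D) (φ (F.kap y)) * y := by
    intro y hy
    set y0 := x (F.kap y) with hy0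
    obtain ⟨e, he⟩ := exists_ip ((F.kap_zero (mul_mem (inv_mem (hx (F.kap y))) hy)).mp (by
      rw [F.kap_mul (inv_mem (hx _)) hy, F.kap_inv (hx _), ex, vec_two]))
    have hy1 : y = y0 * ip (D := D) e := by rw [← he, mul_inv_cancel_left]
    have h0 : g * y0 * g⁻¹ = ip (D := D) (φ (F.kap y)) * y0 := mul_inv_eq_iff_eq_mul.mp (hφ (F.kap y))
    calc g * y * g⁻¹ = (g * y0 * g⁻¹) * (g * ip (D := D) e * g⁻¹) := by rw [hy1]; group
      _ = ip (D := D) (φ (F.kap y)) * (y0 * ip (D := D) e) := by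
        rw [h0, (ip_comm (mem_Mi.mp hg) e).eq, mul_inv_cancel_right, mul_assoc]
      _ = _ := by rw [← hy1]
  have hadd : ∀ v w, φ (v + w) = φ v + φ w := by
    intro v w
    have hy := mul_mem (hx v) (hx w)
    have h1 := hval _ hy
    rw [show g * (x v * x w) * g⁻¹ = (g * x v * g⁻¹) * (g * x w * g⁻¹) by group, hval _ (hx v), hval _ (hx w),
      F.kap_mul (hx v) (hx w), ex, ex] at h1
    rw [show ip (D := D) (φ v) * x v * (ip (D := D) (φ w) * x w) =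
        ip (D := D) (φ v) * (x v * ip (D := D) (φ w)) * x w by group,
      (ip_comm (mem_Mi.mp (F.K_le_Mi (hx v))) _).eq,
      show ip (D := D) (φ v) * (ip (D := D) (φ w) * x v) * x w =
        (ip (D := D) (φ v) * ip (D := D) (φ w)) * (x v * x w) by group, ← ip_add] at h1
    exact (ip_inj (mul_right_cancel h1)).symm
  obtain ⟨v0, hv0⟩ := bv_dual φ hadd
  set k := x v0
  have hck : k⁻¹ * g ∈ F.CK := by
    refine ⟨Subgroup.mul_mem _ (Subgroup.inv_mem _ (F.K_le_Mi (hx v0))) hg, Subgroup.mem_centralizer_iff.mpr fun y hy => ?_⟩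
    have h2 : k⁻¹ * g * y * (k⁻¹ * g)⁻¹ = y := by
      have hs := F.kap_swap hy (hx v0)
      rw [ex, bv_comm, hv0] at hs
      calc k⁻¹ * g * y * (k⁻¹ * g)⁻¹ = k⁻¹ * (g * y * g⁻¹) * k := by group
        _ = k⁻¹ * (ip (D := D) (φ (F.kap y)) * (y * k)) := by rw [hval y hy]; group
        _ = _ := by rw [← hs, inv_mul_cancel_left]
    exact (mul_inv_eq_iff_eq_mul.mp h2).symm
  have := mul_mem (hx v0) (F.CK_le_K hck)
  rwa [mul_inv_cancel_left] at this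

theorem extraspecial_K : Cfsg.IsExtraspecial 2 F.K := by
  haveI : Fact (Nat.Prime 2) := ⟨Nat.prime_two⟩
  have hi : D.i1 ∈ F.K := F.Ic_le_K (Subgroup.mem_zpowers _)
  have key : ∀ g : F.K, (g : G) ∈ Ic (D := D) → g ∈ Subgroup.zpowers (⟨D.i1, hi⟩ : F.K) := fun g hg => by
    rcases mem_Ic.mp hg with h | h
    · rw [show g = 1 from Subtype.ext h]; exact one_mem _
    · rw [show g = ⟨D.i1, hi⟩ from Subtype.ext h]; exact Subgroup.mem_zpowers _
  refine CfsgLib.SymplecticTypeP.isExtraspecial_of F.K_pgroup (z := ⟨D.i1, hi⟩) ?_ ?_ ?_ ?_ ?_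
  · rw [← Subgroup.orderOf_coe]
    exact orderOf_eq_prime (p := 2) (by rw [pow_two, D.i1_block.sq]) (i1_ne (D := D))
  · intro g
    refine key _ ?_
    rw [SubgroupClass.coe_pow, pow_two, F.kap_sq g.2]
    exact ip_Ic _
  · intro g h
    refine key _ ((F.kap_zero (⁅g, h⁆).2).mp ?_)
    simp only [commutatorElement_def, Subgroup.coe_mul, InvMemClass.coe_inv]
    rw [F.kap_mul (mul_mem (mul_mem g.2 h.2) (inv_mem g.2)) (inv_mem h.2), F.kap_inv h.2,
      F.kap_mul (mul_mem g.2 h.2) (inv_mem g.2), F.kap_inv g.2, F.kap_mul g.2 h.2,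
      add_comm (F.kap g) (F.kap h), add_assoc (F.kap h), vec_two, add_zero, vec_two]
  · intro g hg
    refine key _ ((F.kap_zero g.2).mp (bv_nondeg _ fun w => ?_))
    obtain ⟨y, hy, rfl⟩ := F.kap_surj w
    exact (F.kap_comm g.2 hy).mp (congrArg Subtype.val (hg ⟨y, hy⟩).eq)
  · obtain ⟨a, ha, ea⟩ := F.kap_surj ((1, 0), 0, 0, 0)
    obtain ⟨b, hb, eb⟩ := F.kap_surj ((0, 1), 0, 0, 0)
    refine ⟨⟨a, ha⟩, ⟨b, hb⟩, fun h => ?_⟩
    have := (F.kap_comm ha hb).mp (congrArg Subtype.val h.eq)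
    rw [ea, eb] at this
    exact bv_one this

theorem kap_jel {x : G} (hx : x ∈ F.K) (k l j : ZMod 3) :
    F.kap (F.jel (k, 0, l, j) * x * (F.jel (k, 0, l, j))⁻¹) =
      vmk (rotn j (F.kap x).1) fun b => rotn (eb k l j b) (vb (F.kap x) b) :=
  F.kap_eq (IsCo.conj F (F.kap_co hx) k l j)

theorem mem_R1_kap {x : G} (hx : x ∈ F.K) (h : ∀ b, vb (F.kap x) b = 0) : x ∈ D.R1 := by
  obtain ⟨r, hr, s, hs, ex, ev⟩ := F.kap_co hx
  have hI : ∀ b, s b ∈ D.R1 := fun b => by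
    have h0 : F.cB b (s b) = 0 := by have := h b; rwa [ev, vb_vmk] at this
    rcases mem_Ic.mp ((F.cB_zero (hs b)).mp h0) with e | e
    · rw [e]; exact one_mem _
    · rw [e]; exact i1_mem_R1
  rw [ex]
  exact mul_mem (mul_mem (mul_mem hr (hI 0)) (hI 1)) (hI 2)

theorem K_cent_z {x : G} (hx : x ∈ F.K) (hc : Commute x D.z) : x ∈ D.R1 := by
  refine F.mem_R1_kap hx fun b => ?_
  have h := F.kap_jel hx 1 0 0
  rw [F.jel_z, hc.symm.eq, mul_inv_cancel_right] at h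
  have h2 := congrArg (fun v => vb v b) h
  simp only [vb_vmk] at h2
  exact rotn_facts.2.2.1 _ _ ((by decide : ∀ b : ZMod 3, eb 1 0 0 b ≠ 0) b) h2.symm

theorem K_cent_a2 {x : G} (hx : x ∈ F.K) (hc : Commute x (a2 D)) : x ∈ F.N0 := by
  have h := F.kap_jel hx 0 1 0
  rw [show F.jel (0, 0, 1, 0) = a2 D from F.jel_q 0 1, hc.symm.eq, mul_inv_cancel_right] at h
  have hb : ∀ b : ZMod 3, b ≠ 0 → vb (F.kap x) b = 0 := fun b hb => by
    have h2 := congrArg (fun v => vb v b) h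
    simp only [vb_vmk] at h2
    exact rotn_facts.2.2.1 _ _ ((by decide : ∀ b : ZMod 3, b ≠ 0 → eb 0 1 0 b ≠ 0) b hb) h2.symm
  obtain ⟨r, hr, s, hs, ex, ev⟩ := F.kap_co hx
  have hI : ∀ b, b ≠ 0 → s b ∈ D.R1 := fun b hb0 => by
    have h0 : F.cB b (s b) = 0 := by have := hb b hb0; rwa [ev, vb_vmk] at this
    rcases mem_Ic.mp ((F.cB_zero (hs b)).mp h0) with e | e
    · rw [e]; exact one_mem _
    · rw [e]; exact i1_mem_R1
  rw [ex]
  exact mul_mem (mul_mem (mul_mem (F.R1_le_N0 hr) (F.Ry_le_N0 (F.Rb_zero ▸ hs 0)))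
    (F.R1_le_N0 (hI 1 (by decide)))) (F.R1_le_N0 (hI 2 (by decide)))

/-- The elements centralising a set modulo the centre of the product. -/
def Cen (S : Set G) : Subgroup G where
  carrier := {g | g ∈ Mi (D := D) ∧ ∀ d ∈ S, d⁻¹ * (g * d * g⁻¹) ∈ Ic (D := D)}
  one_mem' := ⟨one_mem _, fun d _ => by simp⟩
  mul_mem' := fun {a b} ha hb => ⟨mul_mem ha.1 hb.1, fun d hd => by
    have h2 : a * (d⁻¹ * (b * d * b⁻¹)) * a⁻¹ = d⁻¹ * (b * d * b⁻¹) := by
      rcases mem_Ic.mp (hb.2 d hd) with e | e <;> rw [e]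
      · group
      · rw [(mem_Mi.mp ha.1).eq, mul_inv_cancel_right]
    rw [show d⁻¹ * (a * b * d * (a * b)⁻¹) = (d⁻¹ * (a * d * a⁻¹)) * (a * (d⁻¹ * (b * d * b⁻¹)) * a⁻¹) by group, h2]
    exact mul_mem (ha.2 d hd) (hb.2 d hd)⟩
  inv_mem' := fun {a} ha => ⟨inv_mem ha.1, fun d hd => by
    have h1 := inv_mem (ha.2 d hd)
    have h2 : a⁻¹ * (d⁻¹ * (a * d * a⁻¹))⁻¹ * a = (d⁻¹ * (a * d * a⁻¹))⁻¹ := by
      rcases mem_Ic.mp h1 with e | e <;> rw [e]
      · group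
      · rw [mul_assoc, ← (mem_Mi.mp ha.1).eq, inv_mul_cancel_left]
    rw [show d⁻¹ * (a⁻¹ * d * a⁻¹⁻¹) = a⁻¹ * (a * d⁻¹ * a⁻¹ * d) * a by group,
      show a * d⁻¹ * a⁻¹ * d = (d⁻¹ * (a * d * a⁻¹))⁻¹ by group, h2]
    exact h1⟩

theorem mem_Cen {S : Set G} {g : G} : g ∈ Cen (D := D) S ↔
    g ∈ Mi (D := D) ∧ ∀ d ∈ S, d⁻¹ * (g * d * g⁻¹) ∈ Ic (D := D) := Iff.rfl

end Setting.Base

end CfsgLib.U6Three
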