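import Cfsg.Agent.Lib.U6Three.Levi

/-!
The coordinates for the product of four quaternion groups modulo the centre: four pairs over the field of two
elements with the squaring form.
-/

set_option autoImplicit false

namespace CfsgLib.U6Three

/-- A quaternion group modulo its centre. -/
abbrev K4 := ZMod 2 × ZMod 2

/-- The four components. -/
abbrev Vec := K4 × K4 × K4 × K4

/-- The component at a translated point. -/
def vb (v : Vec) (b : ZMod 3) : K4 := if b = 0 then v.2.1 else if b = 1 then v.2.2.1 else v.2.2.2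

/-- A vector from its components. -/
def vmk (a : K4) (f : ZMod 3 → K4) : Vec := (a, f 0, f 1, f 2)

theorem vb_ext {v w : Vec} (h1 : v.1 = w.1) (h : ∀ b, vb v b = vb w b) : v = w := by
  have h0 := h 0; have h2 := h 1; have h3 := h 2
  simp only [vb, show (1 : ZMod 3) ≠ 0 from by decide, show (2 : ZMod 3) ≠ 0 from by decide,
    show (2 : ZMod 3) ≠ 1 from by decide, if_true, if_false] at h0 h2 h3
  exact Prod.ext h1 (Prod.ext h0 (Prod.ext h2 h3))

theorem vb_vmk (a : K4) (f : ZMod 3 → K4) (b : ZMod 3) : vb (vmk a f) b = f b := by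
  rcases (by decide : ∀ b : ZMod 3, b = 0 ∨ b = 1 ∨ b = 2) b with rfl | rfl | rfl <;> rfl

theorem vmk_fst (a : K4) (f : ZMod 3 → K4) : (vmk a f).1 = a := rfl

theorem vb_add (v w : Vec) (b : ZMod 3) : vb (v + w) b = vb v b + vb w b := by
  simp only [vb]; split_ifs <;> rfl

theorem vb_zero (b : ZMod 3) : vb (0 : Vec) b = 0 := by simp only [vb]; split_ifs <;> rfl

/-- The squaring map on a component. -/
def nz (a : K4) : ZMod 2 := a.1 + a.2 + a.1 * a.2

/-- The commutator form on a component. -/
def cf (a b : K4) : ZMod 2 := a.1 * b.2 + a.2 * b.1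

/-- The squaring form. -/
def qv (v : Vec) : ZMod 2 := nz v.1 + nz v.2.1 + nz v.2.2.1 + nz v.2.2.2

/-- The commutator form. -/
def bv (v w : Vec) : ZMod 2 := cf v.1 w.1 + cf v.2.1 w.2.1 + cf v.2.2.1 w.2.2.1 + cf v.2.2.2 w.2.2.2

theorem nz_add : ∀ a b : K4, nz (a + b) = nz a + nz b + cf a b := by decide

theorem qv_add (v w : Vec) : qv (v + w) = qv v + qv w + bv v w := by
  simp only [qv, bv, Prod.fst_add, Prod.snd_add, nz_add]; ring

theorem bv_comm (v w : Vec) : bv v w = bv w v := by simp only [bv, cf]; ring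

theorem bv_add_left (u v w : Vec) : bv (u + v) w = bv u w + bv v w := by
  simp only [bv, cf, Prod.fst_add, Prod.snd_add]; ring

theorem vec_two (v : Vec) : v + v = 0 := by
  have h : ∀ a : K4, a + a = 0 := by decide
  exact Prod.ext (h _) (Prod.ext (h _) (Prod.ext (h _) (h _)))

/-- The rotation induced by an element of order three. -/
def rot (a : K4) : K4 := c4 (mU * sk a * mU⁻¹)
where
  /-- A representative in the quaternion group. -/
  sk (a : K4) : SL23 :=
    if a = (1, 0) then ⟨!![0, 2; 1, 0], by decide⟩ else if a = (0, 1) then ⟨!![1, 1; 1, 2], by decide⟩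
    else if a = (1, 1) then ⟨!![2, 1; 1, 1], by decide⟩ else 1
  /-- The class of a quaternion element modulo the centre. -/
  c4 (R : SL23) : K4 :=
    if R.1 1 0 = 0 then (0, 0) else if R.1 0 0 = 0 then (1, 0) else if R.1 0 0 = R.1 1 0 then (0, 1) else (1, 1)

/-- A power of the rotation. -/
def rotn (e : ZMod 3) (a : K4) : K4 := if e = 0 then a else if e = 1 then rot a else rot (rot a)

/-- The class of a quaternion element modulo the centre. -/
abbrev c4 := rot.c4

theorem c4_mul : ∀ R S : SL23, R * R * (R * R) = 1 → S * S * (S * S) = 1 → c4 (R * S) = c4 R + c4 S := by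
  decide +kernel

theorem c4_zero : ∀ R : SL23, R * R * (R * R) = 1 → (c4 R = 0 ↔ R = 1 ∨ R = -1) := by decide +kernel

theorem c4_surj : ∀ a : K4, ∃ R : SL23, R * R * (R * R) = 1 ∧ c4 R = a := by decide +kernel

theorem c4_sq : ∀ R : SL23, R * R * (R * R) = 1 → R * R = if nz (c4 R) = 1 then -1 else 1 := by decide +kernel

theorem c4_conj : ∀ A R : SL23, R * R * (R * R) = 1 → c4 (A * R * A⁻¹) = rotn (th A) (c4 R) := by decide +kernel

theorem rotn_facts : (∀ e : ZMod 3, rotn e 0 = 0) ∧ (∀ e : ZMod 3, ∀ a b : K4, rotn e (a + b) = rotn e a + rotn e b) ∧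
    (∀ e : ZMod 3, ∀ a : K4, e ≠ 0 → rotn e a = a → a = 0) ∧ (∀ a : K4, rotn 0 a = a) ∧
    (∀ e e' : ZMod 3, ∀ a : K4, rotn e (rotn e' a) = rotn (e + e') a) ∧
    (∀ e : ZMod 3, ∀ a : K4, nz (rotn e a) = nz a) := by decide +kernel

theorem nz_one : ∀ a : K4, nz a = 1 ↔ a ≠ 0 := by decide

/-- The rotation exponent of an element of the unipotent group on the component of a translated point. -/
def eb (k l j c : ZMod 3) : ZMod 3 := -k - c * l + c * c * j

end CfsgLib.U6Three
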