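import Cfsg.Agent.Lib.U6Three.CentA2
import Cfsg.Agent.Lib.Elementary

/-!
The product of the four mutually commuting quaternion groups at the points of a frame, and its normaliser inside
the centraliser of the block involution.
-/

set_option autoImplicit false
set_option linter.style.haveILetI false

namespace CfsgLib.U6Three

universe u

theorem second_fix : ∀ v : V2, (∀ w : V2, om (((0, 0), v) : W4) ((0, 0), w) = 0) → v = 0 := by decide +kernel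

theorem first_neg : ∀ u : W4, appP ((-1, 1) : Pr) u = u → u.1 = 0 := by decide +kernel

theorem q8_cent : ∀ A : SL23, (∀ R : SL23, R * R * (R * R) = 1 → A * R = R * A) → A = 1 ∨ A = -1 := by
  decide +kernel

theorem app2_all : ∀ B : SL23, (∀ v : V2, app2 B v = v) → B = 1 := by decide +kernel

namespace Setting.Base

variable {G : Type u} [Group G] {D : Setting G} (F : D.Base) [Finite G]

/-- The centraliser of the block involution. -/
noncomputable def Mi : Subgroup G := Subgroup.centralizer {D.i1}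

theorem mem_Mi {x : G} : x ∈ Mi (D := D) ↔ Commute x D.i1 := Subgroup.mem_centralizer_singleton_iff

theorem Mc_le_Mi : Mc (D := D) ≤ Mi (D := D) := fun _ hx => mem_Mi.mpr (mem_Mc.mp hx).2

/-- The shape of the centraliser of the central element in the centraliser of the involution. -/
theorem cent_z_form {g : G} (hz : Commute g D.z) (hi : Commute g D.i1) :
    ∃ (v : V2) (s : G) (p : Pr), g = D.q ((0, 0), v) * s ∧ D.Acts s p := by
  obtain ⟨u, s, p, e, hs | hs⟩ := D.cases_H hz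
  · obtain ⟨u1, v⟩ := u
    have h1 : D.q (appP (-1, 1) (u1, v)) = D.q (u1, v) := by
      have h2 : D.i1 * g * D.i1⁻¹ = g := by rw [hi.symm.eq, mul_inv_cancel_right]
      rw [e, show D.i1 * (D.q (u1, v) * s) * D.i1⁻¹ = (D.i1 * D.q (u1, v) * D.i1⁻¹) * (D.i1 * s * D.i1⁻¹) by group,
        D.i1_block.acts.2, (nine_block_comm hs).eq, mul_inv_cancel_right] at h2
      exact mul_right_cancel h2
    obtain rfl : u1 = (0, 0) := first_neg (u1, v) (D.q_injective h1)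
    exact ⟨v, s, p, e, hs⟩
  · exfalso
    have h1 := MS.conj_MA (D := D) ⟨u, s, e, hs⟩ D.i1_block.acts.ma
    rw [hi.eq, mul_inv_cancel_right] at h1
    have h2 := congrArg Prod.fst (D.i1_block.acts.ma.unique h1)
    simp only [Prod.fst_mul, Prod.fst_inv, mul_one, mul_inv_cancel] at h2
    exact absurd h2 (by decide +kernel)

theorem second_comm_R1 {r : G} (hr : r ∈ D.R1) (v : V2) : Commute r (D.q ((0, 0), v)) := by
  obtain ⟨-, R, -, hrA⟩ := mem_R1_def.mp hr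
  exact hrA.comm_q (Prod.ext ((by decide +kernel : ∀ A : SL23, app2 A (0, 0) = (0, 0)) R) (app2_one v))

theorem R1_normal {g r : G} (hz : Commute g D.z) (hi : Commute g D.i1) (hr : r ∈ D.R1) : g * r * g⁻¹ ∈ D.R1 := by
  obtain ⟨v, s, p, rfl, hs⟩ := cent_z_form hz hi
  obtain ⟨h4, R, hR, hrA⟩ := mem_R1_def.mp hr
  have hm : s * r * s⁻¹ ∈ D.R1 := by
    refine mem_R1_def.mpr ⟨by rw [conj_pow, h4]; group, p.1 * R * p.1⁻¹, ?_, ?_⟩
    · rw [show p.1 * R * p.1⁻¹ * (p.1 * R * p.1⁻¹) * (p.1 * R * p.1⁻¹ * (p.1 * R * p.1⁻¹)) =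
        p.1 * (R * R * (R * R)) * p.1⁻¹ by group, hR]
      group
    · have := hrA.conj hs
      rwa [show p * ((R, 1) : Pr) * p⁻¹ = (p.1 * R * p.1⁻¹, 1) from Prod.ext rfl (by simp)] at this
  rw [show D.q ((0, 0), v) * s * r * (D.q ((0, 0), v) * s)⁻¹ = D.q ((0, 0), v) * (s * r * s⁻¹) * (D.q ((0, 0), v))⁻¹ by
    group, ← (second_comm_R1 hm v).eq, mul_inv_cancel_right]
  exact hm

/-- The translations along the second block. -/
def trb (b : ZMod 3) : G := D.q ((0, 0), (0, b))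

theorem trb_zero : trb (D := D) 0 = 1 := D.q_zero

theorem trb_add (b c : ZMod 3) : trb (D := D) b * trb (D := D) c = trb (D := D) (b + c) := by
  rw [trb, trb, trb, D.q_mul', show om (((0, 0), (0, b)) : W4) ((0, 0), (0, c)) = 0 by simp [om, det2], neg_zero,
    D.zz_zero, one_mul]
  simp

theorem trb_inv (b : ZMod 3) : (trb (D := D) b)⁻¹ = trb (D := D) (-b) :=
  inv_eq_of_mul_eq_one_right (by rw [trb_add, add_neg_cancel, trb_zero])

theorem trb_Mi (b : ZMod 3) : trb (D := D) b ∈ Mi (D := D) := mem_Mi.mpr (D.i1_block.fix rfl).symm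

theorem trb_z (b : ZMod 3) : Commute (trb (D := D) b) D.z := D.q_z _

theorem trb_a2 (b : ZMod 3) : trb (D := D) b * a2 D * (trb (D := D) b)⁻¹ = D.zz (-b) * a2 D := by
  rw [trb, a2, D.q_conj]
  congr 2
  revert b; decide +kernel

theorem trb_y (b : ZMod 3) : trb (D := D) b * F.y * (trb (D := D) b)⁻¹ = F.jel (-(b * b), 0, -b, 1) := by
  rw [trb, F.q_conj_y]
  simp

/-- The conjugating element for the point of index `b`. -/
noncomputable def fr (b : ZMod 3) : G := trb (D := D) b * F.τ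

theorem fr_Mi (b : ZMod 3) : F.fr b ∈ Mi (D := D) := mul_mem (trb_Mi b) (mem_Mi.mpr F.τ_flip.ci)

theorem fr_z (b : ZMod 3) : F.fr b * D.z * (F.fr b)⁻¹ = (F.jel (-(b * b), 0, -b, 1))⁻¹ := by
  rw [fr, show trb (D := D) b * F.τ * D.z * (trb (D := D) b * F.τ)⁻¹ = trb (D := D) b * (F.τ * D.z * F.τ⁻¹) * (trb (D := D) b)⁻¹ by group, F.τ_conj_z,
    ← F.trb_y b]
  group

/-- The quaternion group of index `b`. -/
noncomputable def Rb (b : ZMod 3) : Subgroup G := D.R1.map (MulAut.conj (F.fr b)).toMonoidHom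

theorem mem_Rb {b : ZMod 3} {x : G} : x ∈ F.Rb b ↔ ∃ r ∈ D.R1, x = F.fr b * r * (F.fr b)⁻¹ := by
  constructor
  · rintro ⟨r, hr, rfl⟩; exact ⟨r, hr, rfl⟩
  · rintro ⟨r, hr, rfl⟩; exact ⟨r, hr, rfl⟩

theorem Rb_zero : F.Rb 0 = F.Ry := by rw [Rb, fr, trb_zero, one_mul, Ry]

theorem Rb_move {h : G} (hh : h ∈ Mi (D := D)) {b c : ZMod 3}
    (e : h * F.jel (-(b * b), 0, -b, 1) * h⁻¹ = F.jel (-(c * c), 0, -c, 1)) {x : G} (hx : x ∈ F.Rb b) :
    h * x * h⁻¹ ∈ F.Rb c := by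
  obtain ⟨r, hr, rfl⟩ := F.mem_Rb.mp hx
  set k := (F.fr c)⁻¹ * (h * F.fr b) with hk
  have hkz : Commute k D.z := by
    have h1 : h * F.fr b * D.z * (h * F.fr b)⁻¹ = F.fr c * D.z * (F.fr c)⁻¹ := by
      rw [F.fr_z c, show h * F.fr b * D.z * (h * F.fr b)⁻¹ = h * (F.fr b * D.z * (F.fr b)⁻¹) * h⁻¹ by group, F.fr_z b,
        ← conj_inv, e]
    refine mul_inv_eq_iff_eq_mul.mp ?_
    calc k * D.z * k⁻¹ = (F.fr c)⁻¹ * (h * F.fr b * D.z * (h * F.fr b)⁻¹) * F.fr c := by rw [hk]; group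
      _ = D.z := by rw [h1]; group
  have hki : Commute k D.i1 := mem_Mi.mp (mul_mem (inv_mem (F.fr_Mi c)) (mul_mem hh (F.fr_Mi b)))
  exact F.mem_Rb.mpr ⟨k * r * k⁻¹, R1_normal hkz hki hr, by rw [hk]; group⟩

theorem trb_point (b c : ZMod 3) : trb (D := D) c * F.jel (-(b * b), 0, -b, 1) * (trb (D := D) c)⁻¹ =
    F.jel (-((b + c) * (b + c)), 0, -(b + c), 1) := by
  rw [← F.trb_y b, ← F.trb_y (b + c), add_comm b c, ← trb_add]
  group

theorem trb_Rb {b c : ZMod 3} {x : G} (hx : x ∈ F.Rb b) :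
    trb (D := D) c * x * (trb (D := D) c)⁻¹ ∈ F.Rb (b + c) :=
  F.Rb_move (trb_Mi c) (F.trb_point b c) hx

theorem UM_Rb {u : G} (hu : u ∈ F.UM) {b : ZMod 3} {x : G} (hx : x ∈ F.Rb b) : u * x * u⁻¹ ∈ F.Rb b :=
  F.Rb_move (mem_Mi.mpr (F.mem_UM.mp hu).2) (by rw [(F.commute_jel (F.mem_UM.mp hu).1 _).eq, mul_inv_cancel_right]) hx

theorem τ_Rb {b : ZMod 3} (hb : b ≠ 0) {x : G} (hx : x ∈ F.Rb b) : F.τ * x * F.τ⁻¹ ∈ F.Rb b := by
  refine F.Rb_move (mem_Mi.mpr F.τ_flip.ci) ?_ hx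
  rw [F.τ_flip.act]
  refine congrArg F.jel (Prod.ext ?_ (Prod.ext rfl (Prod.ext rfl ?_)))
  · exact ((by decide : ∀ b : ZMod 3, b ≠ 0 → (-1 : ZMod 3) = -(b * b)) b hb)
  · exact ((by decide : ∀ b : ZMod 3, b ≠ 0 → -(-(b * b)) = (1 : ZMod 3)) b hb)

theorem R1_Rb {r x : G} (hr : r ∈ D.R1) {b : ZMod 3} (hx : x ∈ F.Rb b) : Commute r x := by
  have h := F.trb_Rb (c := -b) hx
  rw [add_neg_cancel, F.Rb_zero, ← trb_inv, inv_inv] at h
  have h1 := conj_comm (trb (D := D) b) (F.R1_Ry_comm hr h)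
  rwa [show trb (D := D) b * r * (trb (D := D) b)⁻¹ = r by
      rw [trb, ← (second_comm_R1 hr _).eq, mul_inv_cancel_right],
    show trb (D := D) b * ((trb (D := D) b)⁻¹ * x * trb (D := D) b) * (trb (D := D) b)⁻¹ = x by group] at h1

theorem Rb_Rb {b c : ZMod 3} (hbc : b ≠ c) {x w : G} (hx : x ∈ F.Rb b) (hw : w ∈ F.Rb c) : Commute x w := by
  have hx' := F.trb_Rb (c := -b) hx
  have hw' := F.trb_Rb (c := -b) hw
  rw [add_neg_cancel, F.Rb_zero] at hx'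
  obtain ⟨r, hr, e⟩ := hx'
  have hd : c + -b ≠ 0 := fun h => hbc (add_neg_eq_zero.mp h).symm
  have h0 : F.τ⁻¹ * (trb (D := D) (-b) * w * (trb (D := D) (-b))⁻¹) * F.τ ∈ F.Rb (c + -b) := by
    have h1 := F.Rb_move (h := F.τ⁻¹) (b := c + -b) (c := c + -b) (inv_mem (mem_Mi.mpr F.τ_flip.ci)) ?_ hw'
    · rwa [inv_inv] at h1
    · have h2 : F.τ * F.jel (-((c + -b) * (c + -b)), 0, -(c + -b), 1) * F.τ⁻¹ =
          F.jel (-((c + -b) * (c + -b)), 0, -(c + -b), 1) := by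
        rw [F.τ_flip.act]
        refine congrArg F.jel (Prod.ext ?_ (Prod.ext rfl (Prod.ext rfl ?_)))
        · exact ((by decide : ∀ b : ZMod 3, b ≠ 0 → (-1 : ZMod 3) = -(b * b)) _ hd)
        · exact ((by decide : ∀ b : ZMod 3, b ≠ 0 → -(-(b * b)) = (1 : ZMod 3)) _ hd)
      conv_lhs => rw [← h2]
      group
  have h1 := conj_comm F.τ (F.R1_Rb hr h0)
  rw [show F.τ * (F.τ⁻¹ * (trb (D := D) (-b) * w * (trb (D := D) (-b))⁻¹) * F.τ) * F.τ⁻¹ = trb (D := D) (-b) * w * (trb (D := D) (-b))⁻¹ by group,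
    show F.τ * r * F.τ⁻¹ = trb (D := D) (-b) * x * (trb (D := D) (-b))⁻¹ from e] at h1
  have h2 := conj_comm' (trb (D := D) (-b)) h1
  simpa [mul_assoc] using h2

/-- The product of the four quaternion groups. -/
noncomputable def K : Subgroup G := D.R1 ⊔ F.Rb 0 ⊔ F.Rb 1 ⊔ F.Rb 2

theorem R1_le_K : D.R1 ≤ F.K := le_sup_of_le_left (le_sup_of_le_left le_sup_left)

theorem Rb_le_K (b : ZMod 3) : F.Rb b ≤ F.K := by
  rcases (by decide : ∀ b : ZMod 3, b = 0 ∨ b = 1 ∨ b = 2) b with rfl | rfl | rfl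
  · exact le_sup_of_le_left (le_sup_of_le_left le_sup_right)
  · exact le_sup_of_le_left le_sup_right
  · exact le_sup_right

theorem K_le {H : Subgroup G} (h1 : D.R1 ≤ H) (h : ∀ b, F.Rb b ≤ H) : F.K ≤ H :=
  sup_le (sup_le (sup_le h1 (h 0)) (h 1)) (h 2)

theorem N0_le_K : F.N0 ≤ F.K := sup_le F.R1_le_K (F.Rb_zero ▸ F.Rb_le_K 0)

theorem sup_normal_of_comm {A B : Subgroup G} (h : ∀ a ∈ A, ∀ b ∈ B, Commute a b) :
    B ≤ Subgroup.normalizer (A : Set G) := fun b hb =>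
  Subgroup.centralizer_le_normalizer _ (Subgroup.mem_centralizer_iff.mpr fun a ha => (h a ha b hb).eq)

theorem exists_K {x : G} (hx : x ∈ F.K) :
    ∃ r ∈ D.R1, ∃ s0 ∈ F.Rb 0, ∃ s1 ∈ F.Rb 1, ∃ s2 ∈ F.Rb 2, x = r * s0 * s1 * s2 := by
  have d : ∀ {A B : Subgroup G}, (∀ a ∈ A, ∀ b ∈ B, Commute a b) → ∀ {x : G}, x ∈ A ⊔ B →
      ∃ a ∈ A, ∃ b ∈ B, x = a * b := by
    intro A B h x hx
    rw [← SetLike.mem_coe, Subgroup.coe_mul_of_right_le_normalizer_left _ _ (sup_normal_of_comm h)] at hx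
    obtain ⟨a, ha, b, hb, e⟩ := hx
    exact ⟨a, ha, b, hb, e.symm⟩
  have c01 : ∀ a ∈ D.R1, ∀ b ∈ F.Rb 0, Commute a b := fun a ha b hb => F.R1_Rb ha hb
  have c2 : ∀ {c : ZMod 3}, c = 1 → ∀ a ∈ D.R1 ⊔ F.Rb 0, ∀ b ∈ F.Rb c, Commute a b := by
    rintro c rfl a ha b hb
    obtain ⟨r, hr, s, hs, rfl⟩ := d c01 ha
    exact (F.R1_Rb hr hb).mul_left (F.Rb_Rb (by decide) hs hb)
  have c3 : ∀ a ∈ D.R1 ⊔ F.Rb 0 ⊔ F.Rb 1, ∀ b ∈ F.Rb 2, Commute a b := by
    intro a ha b hb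
    obtain ⟨t, ht, u, hu, rfl⟩ := d (c2 rfl) ha
    obtain ⟨r, hr, s, hs, rfl⟩ := d c01 ht
    exact ((F.R1_Rb hr hb).mul_left (F.Rb_Rb (by decide) hs hb)).mul_left (F.Rb_Rb (by decide) hu hb)
  obtain ⟨t, ht, s2, hs2, rfl⟩ := d c3 hx
  obtain ⟨t', ht', s1, hs1, rfl⟩ := d (c2 rfl) ht
  obtain ⟨r, hr, s0, hs0, rfl⟩ := d c01 ht'
  exact ⟨r, hr, s0, hs0, s1, hs1, s2, hs2, rfl⟩

theorem K_four {x : G} (hx : x ∈ F.K) : x ^ 4 = 1 := by
  obtain ⟨r, hr, s0, hs0, s1, hs1, s2, hs2, rfl⟩ := F.exists_K hx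
  have four : ∀ {b : ZMod 3} {s : G}, s ∈ F.Rb b → s ^ 4 = 1 := fun {b s} hs => by
    obtain ⟨r, hr, rfl⟩ := F.mem_Rb.mp hs
    rw [conj_pow, (mem_R1_def.mp hr).1]; group
  have e2 : Commute (r * s0) s1 := (F.R1_Rb hr hs1).mul_left (F.Rb_Rb (by decide) hs0 hs1)
  have e3 : Commute (r * s0 * s1) s2 :=
    ((F.R1_Rb hr hs2).mul_left (F.Rb_Rb (by decide) hs0 hs2)).mul_left (F.Rb_Rb (by decide) hs1 hs2)
  rw [e3.mul_pow, e2.mul_pow, (F.R1_Rb hr hs0).mul_pow, (mem_R1_def.mp hr).1, four hs0, four hs1, four hs2]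
  simp

theorem K_pgroup : IsPGroup 2 F.K := fun x => ⟨2, Subtype.ext (by simpa using F.K_four x.2)⟩

theorem K_coprime : (Nat.card F.K).Coprime 3 := by
  haveI : Fact (Nat.Prime 2) := ⟨Nat.prime_two⟩
  obtain ⟨n, hn⟩ := IsPGroup.iff_card.mp F.K_pgroup
  rw [hn]
  exact Nat.Coprime.pow_left _ (by decide)

theorem K_le_Mi : F.K ≤ Mi (D := D) := by
  refine F.K_le (fun r hr => mem_Mi.mpr (mem_R1.mp hr).2.2.2) fun b => ?_
  rintro _ ⟨r, hr, rfl⟩
  exact mul_mem (mul_mem (F.fr_Mi b) (mem_Mi.mpr (mem_R1.mp hr).2.2.2)) (inv_mem (F.fr_Mi b))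

theorem norm_K_of {g : G} (h1 : ∀ r ∈ D.R1, g * r * g⁻¹ ∈ F.K) (h2 : ∀ b, ∀ x ∈ F.Rb b, g * x * g⁻¹ ∈ F.K) :
    g ∈ Subgroup.normalizer (F.K : Set G) :=
  norm_of_conj fun x hx =>
    (F.K_le (H := F.K.comap (MulAut.conj g).toMonoidHom) (fun r hr => h1 r hr) (fun b w hw => h2 b w hw)) hx

theorem UM_norm_K {u : G} (hu : u ∈ F.UM) : u ∈ Subgroup.normalizer (F.K : Set G) :=
  F.norm_K_of (fun _ hr => F.R1_le_K (F.R1_conj_U (F.mem_UM.mp hu).1 (F.mem_UM.mp hu).2 hr))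
    fun b _ hx => F.Rb_le_K b (F.UM_Rb hu hx)

theorem trb_norm_K (c : ZMod 3) : trb (D := D) c ∈ Subgroup.normalizer (F.K : Set G) := by
  refine F.norm_K_of (fun r hr => F.R1_le_K ?_) fun b x hx => F.Rb_le_K _ (F.trb_Rb hx)
  rw [trb, ← (second_comm_R1 hr _).eq, mul_inv_cancel_right]
  exact hr

theorem a2_mem_UM : a2 D ∈ F.UM := by
  rw [show a2 D = F.jel (0, 0, 1, 0) from (F.jel_q 0 1).symm]
  exact F.jel_mem_UM _ _ _

/-- Subgroups of order prime to three of the centraliser of the second vector normalised by the central element. -/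
theorem prime_z_le_N0 (W : Subgroup G) (hW : W ≤ Mc (D := D)) (hc : (Nat.card W).Coprime 3)
    (hz : D.z ∈ Subgroup.normalizer (W : Set G)) : W ≤ F.N0 := by
  intro k hk
  have hco : ∀ {k : G}, k ∈ W → (orderOf k).Coprime 3 := fun hk =>
    hc.coprime_dvd_left (Subgroup.orderOf_dvd_natCard W hk)
  have hkG := F.Mc_eq_G0 (hW hk)
  have hzG : D.z ∈ F.G0 := F.NT_le_G0 (F.UM_le_NT F.z_mem_UM)
  have hw : k * D.z * k⁻¹ * D.z⁻¹ ∈ W := by
    rw [show k * D.z * k⁻¹ * D.z⁻¹ = k * (D.z * k⁻¹ * D.z⁻¹) by group]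
    exact W.mul_mem hk ((hz _).mp (W.inv_mem hk))
  have hg0 : F.gcls (⟨k, hkG⟩ * ⟨D.z, hzG⟩ * ⟨k, hkG⟩⁻¹ * ⟨D.z, hzG⟩⁻¹) = 0 := by
    rw [F.gcls_mul, F.gcls_conj, ← F.gcls_mul, mul_inv_cancel, F.gcls_N0 (one_mem _)]
  have hwN : k * D.z * k⁻¹ * D.z⁻¹ ∈ F.N0 := coprime_cube_mem (hco hw) (F.gcls_zero_cube hg0)
  obtain ⟨x0, hx0, n, hn, e⟩ := F.mem_G0 hkG
  have hnz : Commute n D.z := by
    have h1 : n * D.z * n⁻¹ * D.z⁻¹ ∈ F.UM := mul_mem ((hn.2 _).mp F.z_mem_UM) (inv_mem F.z_mem_UM)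
    have h2 : n * D.z * n⁻¹ * D.z⁻¹ ∈ F.N0 := by
      have e1 : n * D.z * n⁻¹ * D.z⁻¹ = x0⁻¹ * (k * D.z * k⁻¹ * D.z⁻¹) * (D.z * x0 * D.z⁻¹) := by rw [e]; group
      rw [e1]
      exact mul_mem (mul_mem (inv_mem hx0) hwN) (F.NT_conj_N0 (F.UM_le_NT F.z_mem_UM) hx0)
    have h3 : n * D.z * n⁻¹ * D.z⁻¹ = 1 := orderOf_eq_one_iff.mp (Nat.eq_one_of_dvd_coprimes
      (by decide : Nat.Coprime 4 3) (orderOf_dvd_of_pow_eq_one (F.N0_four h2))
      (orderOf_dvd_of_pow_eq_one (F.NT_cube h1)))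
    exact mul_inv_eq_iff_eq_mul.mp (mul_inv_eq_one.mp h3)
  refine coprime_cube_mem (hco hk) ?_
  refine F.gcls_zero_cube (g := ⟨k, hkG⟩) ?_
  rw [F.gcls_eq hx0 (n := ⟨n, hn⟩) e]
  refine F.ncls_eq _ ?_
  show n * D.z * n⁻¹ = _
  rw [hnz.eq, mul_inv_cancel_right]
  exact F.jel_z.symm

/-- Subgroups of order prime to three normalised by the central element and the second vector. -/
theorem maximal_K (W : Subgroup G) (hW : W ≤ Mi (D := D)) (hc : (Nat.card W).Coprime 3)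
    (hz : D.z ∈ Subgroup.normalizer (W : Set G)) (ha : a2 D ∈ Subgroup.normalizer (W : Set G)) : W ≤ F.K := by
  have hco : ∀ {k : G}, k ∈ W → (orderOf k).Coprime 3 := fun hk =>
    hc.coprime_dvd_left (Subgroup.orderOf_dvd_natCard W hk)
  have ha3 : (a2 D) ^ 3 = 1 := F.NT_cube F.a2_mem_UM
  have hab : Commute D.z (a2 D) := (D.q_z _).symm
  have hba : a2 D ∉ Subgroup.zpowers D.z := fun h => by
    rw [← (mem_powers_iff_mem_zpowers : a2 D ∈ Submonoid.powers D.z ↔ _)] at h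
    obtain ⟨n, hn⟩ := h
    have h2 : D.zz 0 * D.q (av 0 1) = D.zz (n : ZMod 3) * D.q 0 := by
      rw [D.zz_zero, one_mul, D.q_zero, mul_one, ← D.zz_nat]; exact hn.symm
    exact absurd (D.el_inj h2).2 (by decide)
  rw [gen_pair D.z_cube ha3 hab D.z_ne hba W hc hz ha]
  refine iSup₂_le fun c hcm k hk => ?_
  obtain ⟨hkW, hkc⟩ := Subgroup.mem_inf.mp hk
  have hkc' : Commute k c := Subgroup.mem_centralizer_singleton_iff.mp hkc
  have hkM := mem_Mi.mp (hW hkW)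
  obtain ⟨α, β, e⟩ := mem_pair D.z_cube ha3 hab hcm.1
  by_cases hβ : β = 0
  · subst hβ
    rw [ZMod.val_zero, pow_zero, mul_one] at e
    have hα : α ≠ 0 := by
      rintro rfl
      exact hcm.2 (by rw [e, ZMod.val_zero, pow_zero])
    have hkz : Commute k D.z := commute_zk hα (show Commute k (D.zz α) by rw [e] at hkc'; exact hkc')
    have h1 : k * a2 D * k⁻¹ * (a2 D)⁻¹ ∈ W := by
      rw [show k * a2 D * k⁻¹ * (a2 D)⁻¹ = k * (a2 D * k⁻¹ * (a2 D)⁻¹) by group]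
      exact W.mul_mem hkW ((ha _).mp (W.inv_mem hkW))
    have h2 : k * a2 D * k⁻¹ * (a2 D)⁻¹ ∈ D.Q := D.Q.mul_mem (D.conj_Q hkz (D.q_mem _)) (D.Q.inv_mem (D.q_mem _))
    have h3 : k * a2 D * k⁻¹ * (a2 D)⁻¹ = 1 := orderOf_eq_one_iff.mp
      (Nat.eq_one_of_dvd_coprimes (hco h1) dvd_rfl (orderOf_dvd_of_pow_eq_one (D.Q_cube h2)))
    have hka : Commute k (a2 D) := mul_inv_eq_iff_eq_mul.mp (mul_inv_eq_one.mp h3)
    obtain ⟨r, hr, u, hu, e'⟩ := F.cent_z (mem_Mc.mpr ⟨hka, hkM⟩) hkz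
    refine F.R1_le_K (coprime_cube_mem (hco hkW) ?_)
    have h1 := F.R1_conj_U (F.mem_UM.mp hu).1 (F.mem_UM.mp hu).2 hr
    have h2 := F.R1_conj_U (F.mem_UM.mp hu).1 (F.mem_UM.mp hu).2 h1
    rw [e', show (r * u) ^ 3 = r * (u * r * u⁻¹) * (u * (u * r * u⁻¹) * u⁻¹) * u ^ 3 by rw [pow_three', pow_three']; group,
      F.NT_cube hu, mul_one]
    exact mul_mem (mul_mem hr h1) h2
  · set b := -(α * β) with hb
    have e2 : trb (D := D) b * a2 D * (trb (D := D) b)⁻¹ = D.zz (α * β) * a2 D := by rw [trb_a2, hb, neg_neg]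
    have hka : Commute k (trb (D := D) b * a2 D * (trb (D := D) b)⁻¹) := by
      rw [e2]
      rcases (by decide : ∀ β : ZMod 3, β ≠ 0 → β = 1 ∨ β = 2) β hβ with rfl | rfl
      · rw [mul_one]
        rw [e, show (1 : ZMod 3).val = 1 from rfl, pow_one] at hkc'
        exact hkc'
      · have h2 := hkc'.mul_right hkc'
        rw [e, show (2 : ZMod 3).val = 2 from rfl] at h2
        have e3 : D.z ^ α.val * a2 D ^ 2 * (D.z ^ α.val * a2 D ^ 2) = D.zz (α * 2) * a2 D := by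
          rw [(hab.pow_pow α.val 2).symm.mul_mul_mul_comm, ← pow_add, ← pow_add, show 2 + 2 = 3 + 1 from rfl,
            pow_succ (a2 D) 3, ha3, one_mul, ← two_mul, D.zz_nat]
          congr 1
          push_cast [ZMod.natCast_val, ZMod.cast_id]
          ring_nf
        rwa [e3] at h2
    set W' := W.map (MulAut.conj (trb (D := D) b)⁻¹).toMonoidHom with hW'
    have hconj : ∀ {w x : G}, x ∈ Subgroup.normalizer (W : Set G) → trb (D := D) b * w * (trb (D := D) b)⁻¹ = x →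
        w ∈ Subgroup.normalizer (W' : Set G) := by
      intro w x hx ex
      refine norm_of_conj ?_
      rintro _ ⟨v, hv, rfl⟩
      refine ⟨x * v * x⁻¹, (hx _).mp hv, ?_⟩
      rw [← ex]
      show (trb (D := D) b)⁻¹ * (trb (D := D) b * w * (trb (D := D) b)⁻¹ * v * (trb (D := D) b * w * (trb (D := D) b)⁻¹)⁻¹) * (trb (D := D) b)⁻¹⁻¹ =
        w * ((trb (D := D) b)⁻¹ * v * (trb (D := D) b)⁻¹⁻¹) * w⁻¹
      group
    have hza : trb (D := D) b * a2 D * (trb (D := D) b)⁻¹ ∈ Subgroup.normalizer (W : Set G) := by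
      rw [e2]
      exact Subgroup.mul_mem _ (Subgroup.pow_mem _ hz _) ha
    have hW'z : D.z ∈ Subgroup.normalizer (W' : Set G) :=
      hconj hz (by rw [(trb_z b).eq, mul_inv_cancel_right])
    have hW'a : a2 D ∈ Subgroup.normalizer (W' : Set G) := hconj hza rfl
    have hW'c : (Nat.card W').Coprime 3 := by
      rwa [hW', Subgroup.card_map_of_injective (MulAut.conj (trb (D := D) b)⁻¹).injective]
    have hW'M : W' ≤ Mi (D := D) := by
      rintro _ ⟨v, hv, rfl⟩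
      exact mul_mem (mul_mem (inv_mem (trb_Mi b)) (hW hv)) (inv_mem (inv_mem (trb_Mi b)))
    have hk' : (trb (D := D) b)⁻¹ * k * trb (D := D) b ∈ F.K := by
      refine F.N0_le_K (F.prime_z_le_N0 (W' ⊓ Subgroup.centralizer {a2 D}) ?_ ?_ ?_ ⟨⟨k, hkW, by
        show (trb (D := D) b)⁻¹ * k * (trb (D := D) b)⁻¹⁻¹ = (trb (D := D) b)⁻¹ * k * trb (D := D) b
        rw [inv_inv]⟩, ?_⟩)
      · exact fun v hv => mem_Mc.mpr ⟨Subgroup.mem_centralizer_singleton_iff.mp hv.2, mem_Mi.mp (hW'M hv.1)⟩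
      · exact hW'c.coprime_dvd_left (Subgroup.card_dvd_of_le inf_le_left)
      · refine norm_of_conj fun v hv => ⟨(hW'z _).mp hv.1, Subgroup.mem_centralizer_singleton_iff.mpr ?_⟩
        exact ((hab.mul_left (Subgroup.mem_centralizer_singleton_iff.mp hv.2)).mul_left hab.inv_left).eq
      · have h2 := conj_comm' (trb (D := D) b) hka
        rw [show (trb (D := D) b)⁻¹ * (trb (D := D) b * a2 D * (trb (D := D) b)⁻¹) * trb (D := D) b = a2 D by group] at h2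
        exact Subgroup.mem_centralizer_singleton_iff.mpr h2.eq
    have := (F.trb_norm_K b _).mp hk'
    rwa [show trb (D := D) b * ((trb (D := D) b)⁻¹ * k * trb (D := D) b) * (trb (D := D) b)⁻¹ = k by group] at this

/-- The normaliser of the product in the centraliser of the involution. -/
noncomputable def N : Subgroup G := Mi (D := D) ⊓ Subgroup.normalizer (F.K : Set G)

theorem N_of_conj {g : G} (hg : g ∈ Mi (D := D)) (hz : g⁻¹ * D.z * g ∈ Subgroup.normalizer (F.K : Set G))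
    (ha : g⁻¹ * a2 D * g ∈ Subgroup.normalizer (F.K : Set G)) : g ∈ F.N := by
  refine ⟨hg, norm_of_conj fun x hx => ?_⟩
  refine F.maximal_K (F.K.map (MulAut.conj g).toMonoidHom) ?_ ?_ ?_ ?_ ⟨x, hx, rfl⟩
  · rintro _ ⟨v, hv, rfl⟩
    exact mul_mem (mul_mem hg (F.K_le_Mi hv)) (inv_mem hg)
  · rw [Subgroup.card_map_of_injective (MulAut.conj g).injective]; exact F.K_coprime
  · refine norm_of_conj ?_
    rintro _ ⟨v, hv, rfl⟩
    exact ⟨_, (hz _).mp hv, by show g * (g⁻¹ * D.z * g * v * (g⁻¹ * D.z * g)⁻¹) * g⁻¹ = D.z * (g * v * g⁻¹) * D.z⁻¹; group⟩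
  · refine norm_of_conj ?_
    rintro _ ⟨v, hv, rfl⟩
    exact ⟨_, (ha _).mp hv, by show g * (g⁻¹ * a2 D * g * v * (g⁻¹ * a2 D * g)⁻¹) * g⁻¹ = a2 D * (g * v * g⁻¹) * (a2 D)⁻¹; group⟩

theorem UM_le_N : F.UM ≤ F.N := fun _ hu => ⟨mem_Mi.mpr (F.mem_UM.mp hu).2, F.UM_norm_K hu⟩

theorem second_le_N (v : V2) : D.q ((0, 0), v) ∈ F.N := by
  refine ⟨mem_Mi.mpr (D.i1_block.fix rfl).symm, ?_⟩
  obtain ⟨a, b⟩ := v
  have e : D.q (((0, 0), (a, b)) : W4) =
      D.zz (om (((0, 0), (a, 0)) : W4) ((0, 0), (0, b))) * (D.q (((0, 0), (a, 0)) : W4) * trb (D := D) b) := by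
    rw [trb, D.q_mul', ← mul_assoc, ← D.zz_add, add_neg_cancel, D.zz_zero, one_mul]
    simp
  rw [e]
  refine Subgroup.mul_mem _ (Subgroup.pow_mem _ (F.UM_norm_K F.z_mem_UM) _)
    (Subgroup.mul_mem _ (F.UM_norm_K ?_) (F.trb_norm_K b))
  rw [show (((0, 0), (a, 0)) : W4) = av 0 a from rfl, ← F.jel_q]
  exact F.jel_mem_UM _ _ _

/-- The centraliser of the central element normalises the product. -/
theorem cent_z_le_N {g : G} (hg : g ∈ Mi (D := D)) (hz : Commute g D.z) : g ∈ F.N := by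
  refine F.N_of_conj hg ?_ ?_
  · rw [mul_assoc, hz.symm.eq, inv_mul_cancel_left]
    exact F.UM_norm_K F.z_mem_UM
  · obtain ⟨v, s, p, e, hs⟩ := cent_z_form (hz.inv_left) (mem_Mi.mp (inv_mem hg))
    rw [show g⁻¹ * a2 D * g = g⁻¹ * a2 D * g⁻¹⁻¹ by rw [inv_inv], e,
      show D.q ((0, 0), v) * s * a2 D * (D.q ((0, 0), v) * s)⁻¹ =
        D.q ((0, 0), v) * (s * a2 D * s⁻¹) * (D.q ((0, 0), v))⁻¹ by group, a2, hs.2]
    refine Subgroup.mul_mem _ (Subgroup.mul_mem _ (F.second_le_N v).2 ?_) (Subgroup.inv_mem _ (F.second_le_N v).2)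
    rw [show appP p (av 0 1) = ((0, 0), app2 p.2 (1, 0)) from
      Prod.ext ((by decide +kernel : ∀ A : SL23, app2 A (0, 0) = (0, 0)) p.1) rfl]
    exact (F.second_le_N _).2

theorem τ_le_N : F.τ ∈ F.N := by
  refine F.N_of_conj (mem_Mi.mpr F.τ_flip.ci) ?_ ?_
  · rw [show F.τ⁻¹ * D.z * F.τ = F.y⁻¹ by
      have h := F.τ_conj_y
      calc F.τ⁻¹ * D.z * F.τ = F.τ⁻¹ * (D.z⁻¹)⁻¹ * F.τ := by rw [inv_inv]
        _ = _ := by rw [← h]; group]
    exact Subgroup.inv_mem _ (F.UM_norm_K F.y_mem_UM)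
  · rw [mul_assoc, F.τ_a2.symm.eq, inv_mul_cancel_left]
    exact F.UM_norm_K F.a2_mem_UM

theorem NT_le_N : F.NT ≤ F.N := fun g hg => by
  have h : ∀ u ∈ F.UM, g⁻¹ * u * g ∈ F.UM := fun u hu => by
    have := ((inv_mem hg : g⁻¹ ∈ F.NT).2 u).mp hu
    rwa [inv_inv] at this
  exact F.N_of_conj (Mc_le_Mi hg.1) (F.UM_norm_K (h _ F.z_mem_UM)) (F.UM_norm_K (h _ F.a2_mem_UM))

theorem K_le_N : F.K ≤ F.N := fun _ hx => ⟨F.K_le_Mi hx, Subgroup.le_normalizer hx⟩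

theorem Mc_le_N : Mc (D := D) ≤ F.N := fun _ hx =>
  (sup_le (F.N0_le_K.trans F.K_le_N) F.NT_le_N : F.G0 ≤ F.N) (F.Mc_eq_G0 hx)

theorem L_le_N : F.L ≤ F.N := by
  rw [L, Subgroup.closure_le]
  have key : ∀ {x : G}, x ∈ BGen D → x ∈ F.N := fun hx =>
    F.cent_z_le_N (mem_Mi.mpr (BGen.comm_i1 hx)) (BGen.comm_z hx)
  rintro _ (hx | ⟨x, hx, rfl⟩)
  · exact key hx
  · exact mul_mem (mul_mem F.τ_le_N (key hx)) (inv_mem F.τ_le_N)

/-- The centraliser of the product. -/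
noncomputable def CK : Subgroup G := Mi (D := D) ⊓ Subgroup.centralizer (F.K : Set G)

theorem CK_comm {g x : G} (hg : g ∈ F.CK) (hx : x ∈ F.K) : Commute x g := Subgroup.mem_centralizer_iff.mp hg.2 x hx

theorem N_conj_CK {n g : G} (hn : n ∈ F.N) (hg : g ∈ F.CK) : n * g * n⁻¹ ∈ F.CK := by
  refine ⟨Subgroup.mul_mem _ (Subgroup.mul_mem _ hn.1 hg.1) (Subgroup.inv_mem _ hn.1), Subgroup.mem_centralizer_iff.mpr fun x hx => ?_⟩
  have h1 : n⁻¹ * x * n ∈ F.K := by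
    have := ((Subgroup.inv_mem _ hn.2 : n⁻¹ ∈ Subgroup.normalizer (F.K : Set G)) x).mp hx
    rwa [inv_inv] at this
  have := conj_comm n (F.CK_comm hg h1)
  rw [show n * (n⁻¹ * x * n) * n⁻¹ = x by group] at this
  exact this.eq

theorem CK_not_UM {u : G} {v : V4} (e : u = F.jel v) (hu : u ∈ F.CK) : v.1 = 0 ∧ v.2.2.2 = 0 := by
  obtain ⟨k, i, l, j⟩ := v
  obtain ⟨r, hr, R, hR, hR2, hrA⟩ := exists_R1_four (D := D)
  have hm : D.MA u (((mU, mU) : Pr) ^ j.val) := by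
    have := (ma_of_Q (D := D) (mul_mem (D.zz_mem k) (D.q_mem (av i l)))).mul (F.y_ma j)
    rwa [one_mul, ← show u = D.zz k * D.q (av i l) * F.y ^ j.val from e] at this
  have hj : j = 0 := by
    refine q8_y_free R hR hR2 j ?_
    have h := (F.CK_comm hu (F.R1_le_K hr))
    have h4 := (hm.mul hrA.ma).unique (h.symm.eq ▸ hrA.ma.mul hm)
    simpa using congrArg Prod.fst h4
  subst hj
  refine ⟨?_, rfl⟩
  have hτu := F.N_conj_CK F.τ_le_N hu
  rw [e, F.τ_flip.act] at hτu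
  have hm' : D.MA (F.jel (-(0 : ZMod 3), i, l, -k)) (((mU, mU) : Pr) ^ (-k).val) := by
    have := (ma_of_Q (D := D) (mul_mem (D.zz_mem (-(0 : ZMod 3))) (D.q_mem (av i l)))).mul (F.y_ma (-k))
    rwa [one_mul] at this
  refine neg_eq_zero.mp (q8_y_free R hR hR2 (-k) ?_)
  have h := (F.CK_comm hτu (F.R1_le_K hr))
  have h4 := (hm'.mul hrA.ma).unique (h.symm.eq ▸ hrA.ma.mul hm')
  simpa using congrArg Prod.fst h4

theorem CK_cent_z {g : G} (hg : g ∈ F.CK) (hz : Commute g D.z) : g ∈ Ic (D := D) := by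
  obtain ⟨v, s, p, e, hs⟩ := cent_z_form hz (mem_Mi.mp hg.1)
  -- the second block is centralised
  have hq : ∀ w : V2, Commute g (D.q ((0, 0), w)) := by
    intro w
    have h1 : g * D.q ((0, 0), w) * g⁻¹ * (D.q ((0, 0), w))⁻¹ ∈ F.CK := by
      rw [show g * D.q ((0, 0), w) * g⁻¹ * (D.q ((0, 0), w))⁻¹ =
        g * (D.q ((0, 0), w) * g⁻¹ * (D.q ((0, 0), w))⁻¹) by group]
      exact mul_mem hg (F.N_conj_CK (F.second_le_N w) (inv_mem hg))
    have h2 : ∃ (k : ZMod 3) (a b : ZMod 3),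
        g * D.q ((0, 0), w) * g⁻¹ * (D.q ((0, 0), w))⁻¹ = D.zz k * D.q (((0, 0), (a, b)) : W4) := by
      rw [e, show D.q ((0, 0), v) * s * D.q ((0, 0), w) * (D.q ((0, 0), v) * s)⁻¹ =
        D.q ((0, 0), v) * (s * D.q ((0, 0), w) * s⁻¹) * (D.q ((0, 0), v))⁻¹ by group, hs.2, D.q_conj, D.q_inv,
        mul_assoc, D.q_mul', ← mul_assoc, ← D.zz_add]
      refine ⟨_, _, _, congrArg (fun t => D.zz _ * D.q t) (Prod.ext ?_ rfl)⟩
      show app2 p.1 (0, 0) + -(0, 0) = (0, 0)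
      rw [(by decide +kernel : ∀ A : SL23, app2 A (0, 0) = (0, 0)) p.1]
      simp
    obtain ⟨k, a, b, h3⟩ := h2
    rw [h3] at h1
    have hb : b = 0 := by
      by_contra hb
      have hp : D.zz k * D.q (((0, 0), (a, b)) : W4) = D.zz (k + om (((0, 0), (a, 0)) : W4) ((0, 0), (0, b))) *
          (D.q (av 0 a) * trb (D := D) b) := by
        rw [trb, show av 0 a = (((0, 0), (a, 0)) : W4) from rfl, D.q_mul', ← mul_assoc, ← D.zz_add,
          add_neg_cancel_right]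
        simp
      set c := D.zz k * D.q (((0, 0), (a, b)) : W4)
      obtain ⟨r, hr, R, hR, hR2, hrA⟩ := exists_R1_four (D := D)
      have hx : F.τ * r * F.τ⁻¹ ∈ F.Rb 0 := F.Rb_zero ▸ ⟨r, hr, rfl⟩
      have hu : D.zz (k + om (((0, 0), (a, 0)) : W4) ((0, 0), (0, b))) * D.q (av 0 a) ∈ F.UM :=
        mul_mem (pow_mem F.z_mem_UM _) (by rw [← F.jel_q]; exact F.jel_mem_UM _ _ _)
      have h4 := F.UM_Rb hu (F.trb_Rb (c := b) hx)
      rw [zero_add, show D.zz (k + om (((0, 0), (a, 0)) : W4) ((0, 0), (0, b))) * D.q (av 0 a) *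
        (trb (D := D) b * (F.τ * r * F.τ⁻¹) * (trb (D := D) b)⁻¹) * (D.zz (k + om (((0, 0), (a, 0)) : W4) ((0, 0), (0, b))) * D.q (av 0 a))⁻¹ =
        c * (F.τ * r * F.τ⁻¹) * c⁻¹ by rw [hp]; group, ← (F.CK_comm h1 (F.Rb_le_K 0 hx)).eq,
        mul_inv_cancel_right] at h4
      have hself := F.Rb_Rb (b := 0) (c := b) (Ne.symm hb) (F.Rb_zero ▸ ⟨_, hr, rfl⟩ : F.τ * r * F.τ⁻¹ ∈ F.Rb 0) h4
      have all : ∀ w ∈ D.R1, Commute (F.τ * w * F.τ⁻¹) (F.τ * r * F.τ⁻¹) := fun w hw =>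
        F.Rb_Rb (b := 0) (c := b) (Ne.symm hb) (F.Rb_zero ▸ ⟨_, hw, rfl⟩) h4
      obtain ⟨R', hR', hne⟩ := (by decide +kernel : ∀ R : SL23, R * R * (R * R) = 1 → R * R ≠ 1 →
        ∃ R' : SL23, R' * R' * (R' * R') = 1 ∧ R' * R ≠ R * R') R hR hR2
      obtain ⟨w, hw, hwA⟩ := R1_lift (D := D) hR'
      have h5 : Commute w r := by
        have := conj_comm' F.τ (all w hw)
        simpa [mul_assoc] using this
      have h9 := (hwA.ma.mul hrA.ma).unique (h5.eq ▸ hrA.ma.mul hwA.ma)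
      exact hne (by simpa using congrArg Prod.fst h9)
    subst hb
    have h6 : D.zz k * D.q (((0, 0), (a, 0)) : W4) = F.jel (k, 0, a, 0) := by
      rw [show ((k, 0, a, 0) : V4) = (k, 0, 0, 0) + (0, 0, a, 0) by simp, F.jel_add, F.jel_zpow, F.jel_q]
      rfl
    have hk : k = 0 := (F.CK_not_UM h6 h1).1
    subst hk
    have ha : a = 0 := by
      have h7 := F.N_conj_CK (show trb (D := D) 1 ∈ F.N from ⟨trb_Mi 1, F.trb_norm_K 1⟩) h1
      rw [D.zz_zero, one_mul] at h7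
      have h8 : trb (D := D) 1 * D.q (((0, 0), (a, 0)) : W4) * (trb (D := D) 1)⁻¹ = F.jel (-a, 0, a, 0) := by
        rw [trb, D.q_conj, show ((-a, 0, a, 0) : V4) = (-a, 0, 0, 0) + (0, 0, a, 0) by simp, F.jel_add, F.jel_zpow,
          F.jel_q]
        congr 2
        exact (by decide +kernel : ∀ a : ZMod 3, om (((0, 0), (0, 1)) : W4) ((0, 0), (a, 0)) = -a) a
      exact neg_eq_zero.mp (F.CK_not_UM h8 h7).1
    subst ha
    rw [show (((0, 0), (0, 0)) : W4) = 0 from rfl, D.q_zero, mul_one, D.zz_zero] at h3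
    exact mul_inv_eq_iff_eq_mul.mp (mul_inv_eq_one.mp h3)
  -- so the element acts on the first block only
  have e' : g = D.zz 0 * (D.q ((0, 0), v) * s) := by rw [D.zz_zero, one_mul, e]
  have hfix : ∀ w : V2, appP p ((0, 0), w) = ((0, 0), w) ∧ om (((0, 0), v) : W4) ((0, 0), w) = 0 := fun w =>
    (D.comm_q_iff hs _).mp (e' ▸ hq w)
  have hv : v = 0 := second_fix v fun w => (hfix w).2
  subst hv
  rw [show (((0, 0), 0) : W4) = 0 from rfl, D.q_zero, one_mul] at e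
  subst e
  have hp2 : p.2 = 1 := app2_all p.2 fun w => congrArg Prod.snd (hfix w).1
  have hp1 : p.1 = 1 ∨ p.1 = -1 := q8_cent p.1 fun R hR => by
    obtain ⟨w, hw, hwA⟩ := R1_lift (D := D) hR
    have h := (F.CK_comm hg (F.R1_le_K hw)).symm
    have h4 := (hs.ma.mul hwA.ma).unique (h.eq ▸ hwA.ma.mul hs.ma)
    simpa using congrArg Prod.fst h4
  obtain ⟨i, hi, hiA⟩ : ∃ i ∈ Ic (D := D), D.Acts i p := by
    rcases hp1 with h | h
    · exact ⟨1, one_mem _, (show p = 1 from Prod.ext h hp2) ▸ acts_one⟩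
    · exact ⟨D.i1, Subgroup.mem_zpowers _, (show p = (-1, 1) from Prod.ext h hp2) ▸ D.i1_block.acts⟩
  have h2 := hs.mul hiA.inv
  rw [mul_inv_cancel] at h2
  obtain ⟨k, hk⟩ := h2.trivial
  have hkC : D.zz k ∈ F.CK := by
    rw [← hk]
    refine mul_mem hg (inv_mem ?_)
    rcases mem_Ic.mp hi with h | h <;> rw [h]
    · exact one_mem _
    · exact ⟨mem_Mi.mpr (Commute.refl _), Subgroup.mem_centralizer_iff.mpr fun x hx => (mem_Mi.mp (F.K_le_Mi hx)).eq⟩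
  obtain rfl : k = 0 := (F.CK_not_UM (v := (k, 0, 0, 0)) (F.jel_zpow k).symm hkC).1
  rw [D.zz_zero, mul_inv_eq_one] at hk
  rw [hk]; exact hi

/-- The product contains its centraliser. -/
theorem CK_le_K : F.CK ≤ F.K := by
  haveI : Fact (Nat.Prime 3) := ⟨Nat.prime_three⟩
  have hzN : D.z ∈ F.N := F.UM_le_N F.z_mem_UM
  have hnorm : ∀ {n : G}, n ∈ F.N → n ∈ Subgroup.normalizer (F.CK : Set G) := fun hn =>
    norm_of_conj fun g hg => F.N_conj_CK hn hg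
  refine F.maximal_K F.CK inf_le_left ?_ (hnorm hzN) (hnorm (F.UM_le_N F.a2_mem_UM))
  refine ((Nat.Prime.coprime_iff_not_dvd Nat.prime_three).mpr fun hd => ?_).symm
  set H := F.CK ⊔ Subgroup.zpowers D.z with hH
  have hzH : D.z ∈ H := Subgroup.mem_sup_right (Subgroup.mem_zpowers _)
  have hCH : F.CK ≤ H := le_sup_left
  haveI hn : (F.CK.subgroupOf H).Normal := ⟨fun x hx g => (((sup_le Subgroup.le_normalizer
    (Subgroup.zpowers_le.mpr (hnorm hzN))) g.2) _).mp hx⟩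
  have hzp : IsPGroup 3 (Subgroup.zpowers (⟨D.z, hzH⟩ : H)) := IsPGroup.of_card (n := 1) (by
    rw [Nat.card_zpowers, pow_one]
    exact orderOf_eq_prime (p := 3) (Subtype.ext D.z_cube) (fun h => D.z_ne (congrArg Subtype.val h)))
  obtain ⟨P, hP⟩ := hzp.exists_le_sylow
  have hne : ((F.CK.subgroupOf H).subgroupOf (P : Subgroup H)) ≠ ⊥ := by
    intro hbot
    obtain ⟨c, hc⟩ := exists_prime_orderOf_dvd_card' (G := F.CK) 3 hd
    have hcp : IsPGroup 3 (Subgroup.zpowers (⟨c, hCH c.2⟩ : H)) := IsPGroup.of_card (n := 1) (by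
      rw [Nat.card_zpowers, pow_one, ← Subgroup.orderOf_coe, Subgroup.coe_mk, Subgroup.orderOf_coe, hc])
    obtain ⟨P', hP'⟩ := hcp.exists_le_sylow
    obtain ⟨g, hg⟩ := MulAction.exists_smul_eq H P' P
    have h1 : g * ⟨c, hCH c.2⟩ * g⁻¹ ∈ (P : Subgroup H) := hg ▸ ⟨_, hP' (Subgroup.mem_zpowers _), rfl⟩
    have h2 : g * (⟨c, hCH c.2⟩ : H) * g⁻¹ ∈ F.CK.subgroupOf H := hn.conj_mem _ c.2 g
    have h3 : (⟨_, h1⟩ : (P : Subgroup H)) ∈ (F.CK.subgroupOf H).subgroupOf (P : Subgroup H) := h2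
    rw [hbot, Subgroup.mem_bot] at h3
    have h4 := congrArg Subtype.val h3
    simp only [OneMemClass.coe_one, conj_eq_one_iff] at h4
    have h5 : c = 1 := Subtype.ext (congrArg (fun t : H => (t : G)) h4)
    rw [h5, orderOf_one] at hc
    omega
  haveI hn' : ((F.CK.subgroupOf H).subgroupOf (P : Subgroup H)).Normal := Subgroup.Normal.subgroupOf hn _
  obtain ⟨x, hx, hxc, hx1⟩ : ∃ x : (P : Subgroup H), x ∈ (F.CK.subgroupOf H).subgroupOf (P : Subgroup H) ∧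
      x ∈ Subgroup.center (P : Subgroup H) ∧ x ≠ 1 := by
    haveI : Group.IsNilpotent (P : Subgroup H) := P.2.isNilpotent
    have hlt := CfsgLib.inf_center_ne_bot_of_nilpotent hne
    obtain ⟨x, hx, hx1⟩ := (Subgroup.bot_or_exists_ne_one _).resolve_left hlt
    exact ⟨x, hx.1, hx.2, hx1⟩
  have hxz : Commute (((x : H) : G)) D.z := by
    have := Subgroup.mem_center_iff.mp hxc ⟨⟨D.z, hzH⟩, hP (Subgroup.mem_zpowers _)⟩
    exact (congrArg (fun t : (P : Subgroup H) => ((t : H) : G)) this).symm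
  have hI := F.CK_cent_z hx hxz
  obtain ⟨m, hm⟩ := P.2 x
  have hm' : ((x : H) : G) ^ 3 ^ m = 1 := congrArg (fun t : (P : Subgroup H) => ((t : H) : G)) hm
  rcases mem_Ic.mp hI with h | h
  · exact hx1 (Subtype.ext (Subtype.ext h))
  · obtain ⟨r, hr⟩ : Odd (3 ^ m) := (by decide : Odd 3).pow
    rw [show ((x : H) : G) = D.i1 from h, hr, pow_succ, pow_mul, pow_two, D.i1_block.sq, one_pow, one_mul] at hm'
    exact F.i1_not_U (hm' ▸ one_mem _)

end Setting.Base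

end CfsgLib.U6Three
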