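import Cfsg.Agent.Lib.U6Three.KModel
import Cfsg.Agent.Lib.U6Three.KStar

/-!
Coordinates on the product of the four quaternion groups.
-/

set_option autoImplicit false
set_option linter.style.haveILetI false

namespace CfsgLib.U6Three

universe u

theorem neg_one_ne : (-1 : SL23) ≠ 1 ∧ (((-1 : SL23), (1 : SL23)) : Pr) ≠ 1 := by decide +kernel

theorem th_pow : ∀ e : ZMod 3, th (mU ^ e.val) = e := by decide +kernel

theorem triple_kill : ∀ a : K4, rotn 1 a + a = 0 → a = 0 := by decide +kernel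

theorem eb_kill : ∀ e : ZMod 3, e ≠ 0 → ∀ a : K4, rotn e a + a = 0 → a = 0 := by decide +kernel

namespace Setting.Base

variable {G : Type u} [Group G] {D : Setting G} (F : D.Base) [Finite G]

/-- The class of an element of the first quaternion group modulo the centre. -/
noncomputable def cR (x : G) : K4 := by
  classical
  exact if h : x ∈ D.R1 then c4 (mem_R1_def.mp h).2.choose else 0

theorem cR_eq {x : G} (hx : x ∈ D.R1) {R : SL23} (hA : D.MA x (R, 1)) : cR (D := D) x = c4 R := by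
  rw [cR, dif_pos hx]
  have h := (mem_R1_def.mp hx).2.choose_spec
  exact congrArg c4 (congrArg Prod.fst (h.2.ma.unique hA))

theorem cR_mul {x y : G} (hx : x ∈ D.R1) (hy : y ∈ D.R1) : cR (D := D) (x * y) = cR (D := D) x + cR (D := D) y := by
  obtain ⟨R, hR, hA⟩ := (mem_R1_def.mp hx).2
  obtain ⟨S, hS, hB⟩ := (mem_R1_def.mp hy).2
  rw [cR_eq (mul_mem hx hy) (R := R * S) (by simpa using (hA.mul hB).ma), cR_eq hx hA.ma, cR_eq hy hB.ma,
    c4_mul R S hR hS]

theorem cR_one : cR (D := D) 1 = 0 := by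
  have h := cR_mul (D := D) (one_mem D.R1) (one_mem D.R1)
  rwa [one_mul, left_eq_add] at h

theorem cR_zero {x : G} (hx : x ∈ D.R1) : cR (D := D) x = 0 ↔ x ∈ Ic (D := D) := by
  obtain ⟨R, hR, hA⟩ := (mem_R1_def.mp hx).2
  rw [cR_eq hx hA.ma, c4_zero R hR]
  refine ⟨fun h => R1_pm hx hA.ma h, fun h => ?_⟩
  rcases mem_Ic.mp h with e | e
  · left; exact congrArg Prod.fst (hA.unique (e ▸ acts_one))
  · right; exact congrArg Prod.fst (hA.unique (e ▸ D.i1_block.acts))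

theorem cR_surj (a : K4) : ∃ x ∈ D.R1, cR (D := D) x = a := by
  obtain ⟨R, hR, rfl⟩ := c4_surj a
  obtain ⟨x, hx, hA⟩ := R1_lift (D := D) hR
  exact ⟨x, hx, cR_eq hx hA.ma⟩

theorem i1_ne : D.i1 ≠ 1 := fun h => by
  have := D.i1_block.acts
  rw [h] at this
  exact neg_one_ne.2 (this.unique acts_one)

/-- The powers of the block involution. -/
noncomputable def ip (e : ZMod 2) : G := if e = 0 then 1 else D.i1

theorem ip_add (e e' : ZMod 2) : ip (D := D) (e + e') = ip (D := D) e * ip (D := D) e' := by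
  rcases (by decide : ∀ e : ZMod 2, e = 0 ∨ e = 1) e with rfl | rfl <;>
  rcases (by decide : ∀ e : ZMod 2, e = 0 ∨ e = 1) e' with rfl | rfl
  all_goals simp [ip, show (1 : ZMod 2) + 1 = 0 from by decide, D.i1_block.sq]

theorem ip_inj {e e' : ZMod 2} (h : ip (D := D) e = ip (D := D) e') : e = e' := by
  rcases (by decide : ∀ e : ZMod 2, e = 0 ∨ e = 1) e with rfl | rfl <;>
  rcases (by decide : ∀ e : ZMod 2, e = 0 ∨ e = 1) e' with rfl | rfl
  all_goals first
    | rfl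
    | exact absurd (by simpa [ip] using h) (i1_ne (D := D))
    | exact absurd (by simpa [ip] using h.symm) (i1_ne (D := D))

theorem ip_comm {x : G} (hx : Commute x D.i1) (e : ZMod 2) : Commute x (ip (D := D) e) := by
  rw [ip]; split_ifs
  exacts [Commute.one_right x, hx]

theorem cR_sq {x : G} (hx : x ∈ D.R1) : x * x = ip (D := D) (nz (cR (D := D) x)) := by
  obtain ⟨R, hR, hA⟩ := (mem_R1_def.mp hx).2
  rw [cR_eq hx hA.ma]
  have h2 := hA.mul hA
  rcases (by decide : ∀ e : ZMod 2, e = 0 ∨ e = 1) (nz (c4 R)) with e | e <;> rw [e, ip]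
  · rw [if_pos rfl]
    exact R1_inj (mul_mem hx hx) (one_mem _) h2 (by
      have h1 : R * R = 1 := by rw [c4_sq R hR, e]; simp
      rw [show ((R, 1) : Pr) * (R, 1) = 1 from Prod.ext h1 (mul_one _)]
      exact acts_one)
  · rw [if_neg one_ne_zero]
    exact R1_inj (mul_mem hx hx) i1_mem_R1 h2 (by
      have h1 : R * R = -1 := by rw [c4_sq R hR, e]; simp
      rw [show ((R, 1) : Pr) * (R, 1) = (-1, 1) from Prod.ext h1 (mul_one _)]
      exact D.i1_block.acts)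

/-- Elements centralising the central element and the involution rotate the first component. -/
theorem cR_conj {k : G} (hz : Commute k D.z) (hi : Commute k D.i1) :
    ∀ {p : Pr}, D.MA k p → ∀ x ∈ D.R1, cR (D := D) (k * x * k⁻¹) = rotn (th p.1) (cR (D := D) x) := by
  intro p hp x hx
  obtain ⟨R, hR, hA⟩ := (mem_R1_def.mp hx).2
  rw [cR_eq hx hA.ma, ← c4_conj p.1 R hR, cR_eq (R1_normal hz hi hx) ((hp.mul hA.ma).mul hp.inv |> fun h => by
    rwa [show p * ((R, 1) : Pr) * p⁻¹ = (p.1 * R * p.1⁻¹, 1) from Prod.ext rfl (by simp)] at h)]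

/-- The class on the component at a translated point. -/
noncomputable def cB (b : ZMod 3) (x : G) : K4 := cR (D := D) ((F.fr b)⁻¹ * x * F.fr b)

theorem pull_Rb {b : ZMod 3} {x : G} (hx : x ∈ F.Rb b) : (F.fr b)⁻¹ * x * F.fr b ∈ D.R1 := by
  obtain ⟨r, hr, rfl⟩ := F.mem_Rb.mp hx
  rwa [show (F.fr b)⁻¹ * (F.fr b * r * (F.fr b)⁻¹) * F.fr b = r by group]

theorem cB_mul {b : ZMod 3} {x y : G} (hx : x ∈ F.Rb b) (hy : y ∈ F.Rb b) :
    F.cB b (x * y) = F.cB b x + F.cB b y := by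
  rw [cB, cB, cB, ← cR_mul (F.pull_Rb hx) (F.pull_Rb hy)]
  congr 1
  group

theorem cB_one (b : ZMod 3) : F.cB b 1 = 0 := by rw [cB, mul_one, inv_mul_cancel, cR_one]

theorem cB_zero {b : ZMod 3} {x : G} (hx : x ∈ F.Rb b) : F.cB b x = 0 ↔ x ∈ Ic (D := D) := by
  rw [cB, cR_zero (F.pull_Rb hx)]
  have hc : Commute (F.fr b) D.i1 := mem_Mi.mp (F.fr_Mi b)
  refine ⟨fun h => ?_, fun h => ?_⟩ <;> rcases mem_Ic.mp h with e | e
  · rw [show x = F.fr b * ((F.fr b)⁻¹ * x * F.fr b) * (F.fr b)⁻¹ by group, e, mul_one, mul_inv_cancel]; exact one_mem _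
  · rw [show x = F.fr b * ((F.fr b)⁻¹ * x * F.fr b) * (F.fr b)⁻¹ by group, e, hc.eq, mul_inv_cancel_right]
    exact Subgroup.mem_zpowers _
  · rw [e, mul_one, inv_mul_cancel]; exact one_mem _
  · rw [e, mul_assoc, ← hc.eq, inv_mul_cancel_left]; exact Subgroup.mem_zpowers _

theorem cB_surj (b : ZMod 3) (a : K4) : ∃ x ∈ F.Rb b, F.cB b x = a := by
  obtain ⟨r, hr, rfl⟩ := cR_surj (D := D) a
  refine ⟨_, F.mem_Rb.mpr ⟨r, hr, rfl⟩, ?_⟩
  rw [cB]; congr 1; group

theorem cB_sq {b : ZMod 3} {x : G} (hx : x ∈ F.Rb b) : x * x = ip (D := D) (nz (F.cB b x)) := by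
  have h := cR_sq (F.pull_Rb hx)
  calc x * x = F.fr b * (((F.fr b)⁻¹ * x * F.fr b) * ((F.fr b)⁻¹ * x * F.fr b)) * (F.fr b)⁻¹ := by group
    _ = F.fr b * ip (D := D) (nz (F.cB b x)) * (F.fr b)⁻¹ := by rw [h]; rfl
    _ = _ := by rw [(ip_comm (mem_Mi.mp (F.fr_Mi b)) _).eq, mul_inv_cancel_right]

/-- The translations permute the components. -/
theorem cB_trb (b c : ZMod 3) (x : G) : F.cB (b + c) (trb (D := D) c * x * (trb (D := D) c)⁻¹) = F.cB b x := by
  rw [cB, cB]; congr 1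
  rw [fr, fr, add_comm b c, ← trb_add]
  group

/-- The unipotent group rotates each component. -/
theorem jel_cR (k l j : ZMod 3) {x : G} (hx : x ∈ D.R1) :
    cR (D := D) (F.jel (k, 0, l, j) * x * (F.jel (k, 0, l, j))⁻¹) = rotn j (cR (D := D) x) := by
  have hU := F.mem_UM.mp (F.jel_mem_UM k l j)
  have hm : D.MA (F.jel (k, 0, l, j)) (((mU, mU) : Pr) ^ j.val) := by
    have := (ma_of_Q (D := D) (mul_mem (D.zz_mem k) (D.q_mem (av 0 l)))).mul (F.y_ma j)
    rwa [one_mul] at this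
  rw [cR_conj (F.U_z hU.1) hU.2 hm x hx, Prod.pow_fst, th_pow]

theorem jel_cB (k l j b : ZMod 3) {x : G} (hx : x ∈ F.Rb b) :
    F.cB b (F.jel (k, 0, l, j) * x * (F.jel (k, 0, l, j))⁻¹) = rotn (eb k l j b) (F.cB b x) := by
  have e : (F.fr b)⁻¹ * F.jel (k, 0, l, j) * F.fr b = F.jel (-j, 0, l + b * j, eb k l j b) := by
    have h1 : trb (D := D) (-b) * F.jel (k, 0, l, j) * (trb (D := D) (-b))⁻¹ = F.jel (k + b * l - b * b * j, 0, l + b * j, j) := by
      rw [trb, F.q_conj_jel]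
      refine congrArg F.jel ?_
      exact (by decide +kernel : ∀ k l j b : ZMod 3,
        ((k + om (((0, 0), (0, -b)) : W4) (av 0 l) - j * (0 * 0 + (-b) * (-b)),
          0 - j * 0, l - j * (-b), j) : V4) = (k + b * l - b * b * j, 0, l + b * j, j)) k l j b
    have h2 := F.τ_flip.act (-j, 0, l + b * j, eb k l j b)
    rw [fr, show (trb (D := D) b * F.τ)⁻¹ * F.jel (k, 0, l, j) * (trb (D := D) b * F.τ) =
      F.τ⁻¹ * ((trb (D := D) b)⁻¹ * F.jel (k, 0, l, j) * trb (D := D) b) * F.τ by group,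
      show (trb (D := D) b)⁻¹ * F.jel (k, 0, l, j) * trb (D := D) b = F.jel (k + b * l - b * b * j, 0, l + b * j, j) by
        rw [← h1, ← trb_inv, inv_inv],
      show F.jel (k + b * l - b * b * j, 0, l + b * j, j) = F.τ * F.jel (-j, 0, l + b * j, eb k l j b) * F.τ⁻¹ by
        rw [h2]; refine congrArg F.jel ?_; simp [eb]; ring]
    group
  have := F.jel_cR (-j) (l + b * j) (eb k l j b) (F.pull_Rb hx)
  rw [← e] at this
  rw [cB, cB, ← this]
  congr 1
  group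

/-- Coordinates for an element of the product. -/
def IsCo (x : G) (v : Vec) : Prop := ∃ r ∈ D.R1, ∃ s : ZMod 3 → G, (∀ b, s b ∈ F.Rb b) ∧
  x = r * s 0 * s 1 * s 2 ∧ v = vmk (cR (D := D) r) (fun b => F.cB b (s b))

theorem prod_mul {r r' : G} {s s' : ZMod 3 → G} (hr' : r' ∈ D.R1) (hs : ∀ b, s b ∈ F.Rb b)
    (hs' : ∀ b, s' b ∈ F.Rb b) :
    r * s 0 * s 1 * s 2 * (r' * s' 0 * s' 1 * s' 2) = r * r' * (s 0 * s' 0) * (s 1 * s' 1) * (s 2 * s' 2) := by
  have a2 : Commute (s 2) r' := (F.R1_Rb hr' (hs 2)).symm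
  have a1 : Commute (s 1) r' := (F.R1_Rb hr' (hs 1)).symm
  have a0 : Commute (s 0) r' := (F.R1_Rb hr' (hs 0)).symm
  have b20 : Commute (s 2) (s' 0) := F.Rb_Rb (by decide) (hs 2) (hs' 0)
  have b10 : Commute (s 1) (s' 0) := F.Rb_Rb (by decide) (hs 1) (hs' 0)
  have b21 : Commute (s 2) (s' 1) := F.Rb_Rb (by decide) (hs 2) (hs' 1)
  calc r * s 0 * s 1 * s 2 * (r' * s' 0 * s' 1 * s' 2) = r * s 0 * s 1 * (s 2 * r') * s' 0 * s' 1 * s' 2 := by
        simp only [mul_assoc]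
    _ = r * s 0 * (s 1 * r') * (s 2 * s' 0) * s' 1 * s' 2 := by rw [a2.eq]; simp only [mul_assoc]
    _ = r * (s 0 * r') * (s 1 * s' 0) * (s 2 * s' 1) * s' 2 := by rw [a1.eq, b20.eq]; simp only [mul_assoc]
    _ = _ := by rw [a0.eq, b10.eq, b21.eq]; simp only [mul_assoc]

theorem IsCo.mul {x y : G} {v w : Vec} (hx : F.IsCo x v) (hy : F.IsCo y w) : F.IsCo (x * y) (v + w) := by
  obtain ⟨r, hr, s, hs, rfl, rfl⟩ := hx
  obtain ⟨r', hr', s', hs', rfl, rfl⟩ := hy
  exact ⟨r * r', mul_mem hr hr', fun b => s b * s' b, fun b => mul_mem (hs b) (hs' b), F.prod_mul hr' hs hs', by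
    simp only [vmk, cR_mul hr hr', F.cB_mul (hs _) (hs' _), Prod.mk_add_mk]⟩

theorem isCo_one : F.IsCo 1 0 :=
  ⟨1, one_mem _, fun _ => 1, fun _ => one_mem _, by simp, by simp [vmk, cR_one, F.cB_one]; rfl⟩

theorem IsCo.conj {x : G} {v : Vec} (hx : F.IsCo x v) (k l j : ZMod 3) :
    F.IsCo (F.jel (k, 0, l, j) * x * (F.jel (k, 0, l, j))⁻¹)
      (vmk (rotn j v.1) fun b => rotn (eb k l j b) (vb v b)) := by
  obtain ⟨r, hr, s, hs, rfl, rfl⟩ := hx
  set u := F.jel (k, 0, l, j)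
  have hu := F.jel_mem_UM k l j
  refine ⟨u * r * u⁻¹, F.R1_conj_U (F.mem_UM.mp hu).1 (F.mem_UM.mp hu).2 hr, fun b => u * s b * u⁻¹,
    fun b => F.UM_Rb hu (hs b), by group, ?_⟩
  simp only [vmk_fst, vb_vmk, u, F.jel_cR k l j hr]
  exact congrArg (vmk _) (funext fun b => (F.jel_cB k l j b (hs b)).symm)

theorem exists_co {x : G} (hx : x ∈ F.K) : ∃ v, F.IsCo x v := by
  obtain ⟨r, hr, s0, h0, s1, h1, s2, h2, rfl⟩ := F.exists_K hx
  refine ⟨_, r, hr, fun b => if b = 0 then s0 else if b = 1 then s1 else s2, fun b => ?_, ?_, rfl⟩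
  · rcases (by decide : ∀ b : ZMod 3, b = 0 ∨ b = 1 ∨ b = 2) b with rfl | rfl | rfl
    · simpa using h0
    · simpa using h1
    · simpa [show (2 : ZMod 3) ≠ 0 from by decide, show (2 : ZMod 3) ≠ 1 from by decide] using h2
  · simp [show (2 : ZMod 3) ≠ 0 from by decide, show (2 : ZMod 3) ≠ 1 from by decide]

theorem IsCo.mem {x : G} {v : Vec} (hx : F.IsCo x v) : x ∈ F.K := by
  obtain ⟨r, hr, s, hs, rfl, -⟩ := hx
  exact mul_mem (mul_mem (mul_mem (F.R1_le_K hr) (F.Rb_le_K 0 (hs 0))) (F.Rb_le_K 1 (hs 1))) (F.Rb_le_K 2 (hs 2))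

theorem IsCo.to_Ic {x : G} (hx : F.IsCo x 0) : x ∈ Ic (D := D) := by
  obtain ⟨r, hr, s, hs, rfl, e⟩ := hx
  have h0 : ∀ b, s b ∈ Ic (D := D) := fun b => (F.cB_zero (hs b)).mp (by
    have := congrArg (fun v => vb v b) e
    simp only [vb_vmk, vb_zero] at this
    exact this.symm)
  exact mul_mem (mul_mem (mul_mem ((cR_zero hr).mp (congrArg Prod.fst e).symm) (h0 0)) (h0 1)) (h0 2)

theorem IsCo.comm_i1 {x : G} {v : Vec} (hx : F.IsCo x v) : Commute x D.i1 := mem_Mi.mp (F.K_le_Mi (IsCo.mem F hx))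

theorem IsCo.step {x : G} (hI : x ∈ Ic (D := D)) {v : Vec} (hx : F.IsCo x v) (k l j : ZMod 3) :
    F.IsCo 1 (vmk (rotn j v.1 + v.1) fun b => rotn (eb k l j b) (vb v b) + vb v b) := by
  have h := IsCo.mul F (IsCo.conj F hx k l j) (IsCo.mul F hx F.isCo_one)
  have hu : Commute (F.jel (k, 0, l, j)) x := Ic_comm hI (F.UM_le_Mc (F.jel_mem_UM k l j))
  rw [hu.eq, mul_inv_cancel_right, mul_one, add_zero] at h
  have hsq : x * x = 1 := by rcases mem_Ic.mp hI with e | e <;> simp [e, D.i1_block.sq]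
  rw [hsq] at h
  convert h using 1
  exact vb_ext rfl fun b => by simp only [vb_vmk, vb_add]

/-- Coordinates of central elements vanish. -/
theorem IsCo.zero {x : G} (hI : x ∈ Ic (D := D)) {v : Vec} (hx : F.IsCo x v) : v = 0 := by
  have key : ∀ k1 l1 j1 k2 l2 j2 k3 l3 j3 : ZMod 3, ∀ c : ZMod 3, j1 = 0 ∨ j2 = 0 ∨ j3 = 0 →
      (∀ b, b ≠ c → eb k1 l1 j1 b = 0 ∨ eb k2 l2 j2 b = 0 ∨ eb k3 l3 j3 b = 0) →
      eb k1 l1 j1 c ≠ 0 → eb k2 l2 j2 c ≠ 0 → eb k3 l3 j3 c ≠ 0 → vb v c = 0 := by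
    intro k1 l1 j1 k2 l2 j2 k3 l3 j3 c hj hb e1 e2 e3
    have h := IsCo.step F (one_mem _) (IsCo.step F (one_mem _) (IsCo.step F hI hx k1 l1 j1) k2 l2 j2) k3 l3 j3
    simp only [vmk_fst, vb_vmk] at h
    obtain ⟨r, hr, s, hs, ex, ev⟩ := h
    have z0 : ∀ e : ZMod 3, rotn e (0 : K4) + 0 = 0 := fun e => by rw [rotn_facts.1 e, add_zero]
    have hrI : r ∈ Ic (D := D) := (cR_zero hr).mp (by
      have := congrArg Prod.fst ev
      simp only [vmk_fst] at this
      rw [← this]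
      rcases hj with rfl | rfl | rfl
      · rw [rotn_facts.2.2.2.1 v.1, vec_K4 v.1, z0, z0]
      · rw [rotn_facts.2.2.2.1, vec_K4, z0]
      · rw [rotn_facts.2.2.2.1, vec_K4])
    have hsI : ∀ b, b ≠ c → s b ∈ Ic (D := D) := fun b hbc => (F.cB_zero (hs b)).mp (by
      have := congrArg (fun v => vb v b) ev
      simp only [vb_vmk] at this
      rw [← this]
      rcases hb b hbc with e | e | e <;> rw [e]
      · rw [rotn_facts.2.2.2.1 (vb v b), vec_K4 (vb v b), z0, z0]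
      · rw [rotn_facts.2.2.2.1, vec_K4, z0]
      · rw [rotn_facts.2.2.2.1, vec_K4])
    have hcI : s c ∈ Ic (D := D) := by
      have hc : ∀ b, b ≠ c → Commute (s b) (s c) := fun b hbc => F.Rb_Rb hbc (hs b) (hs c)
      rcases (by decide : ∀ b : ZMod 3, b = 0 ∨ b = 1 ∨ b = 2) c with rfl | rfl | rfl
      · rw [show s 0 = r⁻¹ * (r * s 0 * s 1 * s 2) * (s 2)⁻¹ * (s 1)⁻¹ by group, ← ex]
        exact mul_mem (mul_mem (mul_mem (inv_mem hrI) (one_mem _)) (inv_mem (hsI 2 (by decide)))) (inv_mem (hsI 1 (by decide)))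
      · rw [show s 1 = (r * s 0)⁻¹ * (r * s 0 * s 1 * s 2) * (s 2)⁻¹ by group, ← ex]
        exact mul_mem (mul_mem (inv_mem (mul_mem hrI (hsI 0 (by decide)))) (one_mem _)) (inv_mem (hsI 2 (by decide)))
      · rw [show s 2 = (r * s 0 * s 1)⁻¹ * (r * s 0 * s 1 * s 2) by group, ← ex]
        exact mul_mem (inv_mem (mul_mem (mul_mem hrI (hsI 0 (by decide))) (hsI 1 (by decide)))) (one_mem _)
    have := congrArg (fun v => vb v c) ev
    simp only [vb_vmk] at this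
    rw [(F.cB_zero (hs c)).mpr hcI] at this
    exact eb_kill _ e1 _ (eb_kill _ e2 _ (eb_kill _ e3 _ this))
  have h0 : vb v 0 = 0 := key 1 0 0 2 2 1 2 1 1 0 (Or.inl rfl) (by decide +kernel) (by decide) (by decide) (by decide)
  have h1 : vb v 1 = 0 := key 1 0 0 0 0 1 2 1 1 1 (Or.inl rfl) (by decide +kernel) (by decide) (by decide) (by decide)
  have h2 : vb v 2 = 0 := key 1 0 0 0 0 1 2 2 1 2 (Or.inl rfl) (by decide +kernel) (by decide) (by decide) (by decide)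
  have hb : ∀ b, vb v b = 0 := fun b => by
    rcases (by decide : ∀ b : ZMod 3, b = 0 ∨ b = 1 ∨ b = 2) b with rfl | rfl | rfl <;> assumption
  obtain ⟨r, hr, s, hs, ex, ev⟩ := hx
  have hs0 : ∀ b, s b ∈ Ic (D := D) := fun b => (F.cB_zero (hs b)).mp (by
    have := hb b; rwa [ev, vb_vmk] at this)
  have hr0 : r ∈ Ic (D := D) := by
    rw [show r = x * ((s 2)⁻¹ * (s 1)⁻¹ * (s 0)⁻¹) by rw [ex]; group]
    exact mul_mem hI (mul_mem (mul_mem (inv_mem (hs0 2)) (inv_mem (hs0 1))) (inv_mem (hs0 0)))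
  refine vb_ext ?_ fun b => by rw [hb b, vb_zero]
  rw [ev, vmk_fst, (cR_zero hr).mpr hr0]; rfl
where
  vec_K4 : ∀ a : K4, a + a = 0 := by decide

theorem IsCo.unique {x : G} {v w : Vec} (hv : F.IsCo x v) (hw : F.IsCo x w) : v = w := by
  obtain ⟨w', hw'⟩ := F.exists_co (inv_mem (IsCo.mem F hv))
  have h1 := IsCo.zero F (by rw [mul_inv_cancel]; exact one_mem _) (IsCo.mul F hv hw')
  have h2 := IsCo.zero F (by rw [mul_inv_cancel]; exact one_mem _) (IsCo.mul F hw hw')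
  exact add_right_cancel (h1.trans h2.symm)

/-- The coordinates on the product. -/
noncomputable def kap (x : G) : Vec := by
  classical
  exact if h : x ∈ F.K then (F.exists_co h).choose else 0

theorem kap_co {x : G} (hx : x ∈ F.K) : F.IsCo x (F.kap x) := by
  rw [kap, dif_pos hx]; exact (F.exists_co hx).choose_spec

theorem kap_eq {x : G} {v : Vec} (hx : F.IsCo x v) : F.kap x = v :=
  IsCo.unique F (F.kap_co (IsCo.mem F hx)) hx

theorem kap_mul {x y : G} (hx : x ∈ F.K) (hy : y ∈ F.K) : F.kap (x * y) = F.kap x + F.kap y :=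
  F.kap_eq (IsCo.mul F (F.kap_co hx) (F.kap_co hy))

theorem kap_R1 {r : G} (hr : r ∈ D.R1) : F.kap r = vmk (cR (D := D) r) (fun _ => 0) :=
  F.kap_eq ⟨r, hr, fun _ => 1, fun _ => one_mem _, by simp, by simp [vmk, F.cB_one]⟩

theorem kap_Rb {b : ZMod 3} {x : G} (hx : x ∈ F.Rb b) :
    F.kap x = vmk 0 (fun c => if c = b then F.cB b x else 0) := by
  refine F.kap_eq ⟨1, one_mem _, fun c => if c = b then x else 1, fun c => ?_, ?_, ?_⟩
  · show (if c = b then x else 1) ∈ F.Rb c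
    split_ifs with h
    · exact h ▸ hx
    · exact one_mem _
  · rcases (by decide : ∀ b : ZMod 3, b = 0 ∨ b = 1 ∨ b = 2) b with rfl | rfl | rfl <;>
      simp [show (2 : ZMod 3) ≠ 0 from by decide, show (2 : ZMod 3) ≠ 1 from by decide,
        show (0 : ZMod 3) ≠ 2 from by decide, show (1 : ZMod 3) ≠ 2 from by decide]
  · rw [cR_one]
    refine congrArg (vmk 0) (funext fun c => ?_)
    show (if c = b then F.cB b x else 0) = F.cB c (if c = b then x else 1)
    split_ifs with h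
    · rw [h]
    · exact (F.cB_one c).symm

theorem kap_zero {x : G} (hx : x ∈ F.K) : F.kap x = 0 ↔ x ∈ Ic (D := D) :=
  ⟨fun h => IsCo.to_Ic F (h ▸ F.kap_co hx), fun h => IsCo.zero F h (F.kap_co hx)⟩

theorem kap_surj (v : Vec) : ∃ x ∈ F.K, F.kap x = v := by
  obtain ⟨r, hr, e1⟩ := cR_surj (D := D) v.1
  choose s hs e using fun b => F.cB_surj b (vb v b)
  have h : F.IsCo (r * s 0 * s 1 * s 2) v :=
    ⟨r, hr, s, hs, rfl, vb_ext (by rw [vmk_fst, e1]) fun b => by rw [vb_vmk, e]⟩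
  exact ⟨_, IsCo.mem F h, F.kap_eq h⟩

theorem kap_sq {x : G} (hx : x ∈ F.K) : x * x = ip (D := D) (qv (F.kap x)) := by
  obtain ⟨r, hr, s, hs, ex, ev⟩ := F.kap_co hx
  rw [ev]
  conv_lhs => rw [ex]
  rw [F.prod_mul hr hs hs, cR_sq hr, F.cB_sq (hs 0), F.cB_sq (hs 1), F.cB_sq (hs 2), ← ip_add, ← ip_add, ← ip_add]
  simp [qv, vmk]

theorem kap_inv {x : G} (hx : x ∈ F.K) : F.kap x⁻¹ = F.kap x := by
  have h := F.kap_mul hx (inv_mem hx)
  rw [mul_inv_cancel, (F.kap_zero (one_mem _)).mpr (one_mem _)] at h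
  calc F.kap x⁻¹ = (F.kap x + F.kap x) + F.kap x⁻¹ := by rw [vec_two, zero_add]
    _ = F.kap x := by rw [add_assoc, ← h, add_zero]

theorem kap_swap {a b : G} (ha : a ∈ F.K) (hb : b ∈ F.K) :
    b * a = ip (D := D) (bv (F.kap a) (F.kap b)) * (a * b) := by
  have hc : b * a * (a * b)⁻¹ ∈ Ic (D := D) := (F.kap_zero (mul_mem (mul_mem hb ha) (inv_mem (mul_mem ha hb)))).mp (by
    rw [F.kap_mul (mul_mem hb ha) (inv_mem (mul_mem ha hb)), F.kap_inv (mul_mem ha hb), F.kap_mul hb ha,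
      F.kap_mul ha hb, add_comm (F.kap b), vec_two])
  obtain ⟨e, he⟩ : ∃ e, b * a * (a * b)⁻¹ = ip (D := D) e := by
    rcases mem_Ic.mp hc with h | h
    · exact ⟨0, h.trans (by simp [ip])⟩
    · exact ⟨1, h.trans (by simp [ip])⟩
  have hba : b * a = ip (D := D) e * (a * b) := mul_inv_eq_iff_eq_mul.mp he
  suffices bv (F.kap a) (F.kap b) = e by rw [this]; exact hba
  have h2 := F.kap_sq (mul_mem ha hb)
  rw [F.kap_mul ha hb, qv_add, ip_add, ip_add,
    show a * b * (a * b) = a * (b * a) * b by group, hba,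
    show a * (ip (D := D) e * (a * b)) * b = (a * ip (D := D) e) * (a * (b * b)) by group,
    (ip_comm (mem_Mi.mp (F.K_le_Mi ha)) e).eq,
    show ip (D := D) e * a * (a * (b * b)) = ip (D := D) e * ((a * a) * (b * b)) by group, F.kap_sq ha, F.kap_sq hb,
    ← ip_add, ← ip_add, ← ip_add] at h2
  have h3 := ip_inj h2
  linear_combination -h3

theorem kap_comm {a b : G} (ha : a ∈ F.K) (hb : b ∈ F.K) : Commute a b ↔ bv (F.kap a) (F.kap b) = 0 := by
  have h := F.kap_swap ha hb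
  refine ⟨fun hc => ip_inj (D := D) ?_, fun h0 => ?_⟩
  · rw [hc.symm.eq] at h
    rw [right_eq_mul.mp h]; simp [ip]
  · rw [h0, show ip (D := D) 0 = 1 from by simp [ip], one_mul] at h
    exact h.symm

theorem Ic_le_K : Ic (D := D) ≤ F.K := by
  rw [Ic, Subgroup.zpowers_le]; exact F.R1_le_K i1_mem_R1

theorem card_Ic : Nat.card (Ic (D := D)) = 2 := by
  rw [Ic, Nat.card_zpowers]
  exact orderOf_eq_prime (p := 2) (by rw [pow_two, D.i1_block.sq]) (i1_ne (D := D))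

theorem card_K : Nat.card F.K = 2 ^ 9 := by
  let f : F.K →* Multiplicative Vec := MonoidHom.mk' (fun x => Multiplicative.ofAdd (F.kap x)) fun a b =>
    congrArg Multiplicative.ofAdd (F.kap_mul a.2 b.2)
  have hs : Function.Surjective f := fun w => by
    obtain ⟨x, hx, e⟩ := F.kap_surj w.toAdd
    exact ⟨⟨x, hx⟩, congrArg Multiplicative.ofAdd e⟩
  have hk : f.ker = (Ic (D := D)).subgroupOf F.K := by
    ext x
    rw [MonoidHom.mem_ker, Subgroup.mem_subgroupOf, ← F.kap_zero x.2]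
    exact ⟨fun h => Multiplicative.ofAdd.injective h, fun h => congrArg Multiplicative.ofAdd h⟩
  rw [Subgroup.card_eq_card_quotient_mul_card_subgroup f.ker,
    Nat.card_congr (QuotientGroup.quotientKerEquivOfSurjective f hs).toEquiv, hk,
    Nat.card_congr (Subgroup.subgroupOfEquivOfLe F.Ic_le_K).toEquiv, card_Ic]
  simp [Nat.card_eq_fintype_card]

end Setting.Base

end CfsgLib.U6Three
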