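import Cfsg.Agent.Lib.U6Three.FType

/-!
The perfect group centralising the axis and the block involution.
-/

set_option autoImplicit false
set_option linter.style.haveILetI false

namespace CfsgLib.U6Three

open scoped commutatorElement

universe u

/-- The class of a matrix modulo the quaternion elements. -/
def th (A : SL23) : ZMod 3 :=
  if A * A * (A * A) = 1 then 0 else if mU⁻¹ * A * (mU⁻¹ * A) * (mU⁻¹ * A * (mU⁻¹ * A)) = 1 then 1 else 2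

theorem th_mul : ∀ A B : SL23, th (A * B) = th A + th B := by decide +kernel

theorem th_facts : th mU = 1 ∧ th 1 = 0 ∧ ∀ A : SL23, A * A * (A * A) = 1 → th A = 0 := by decide +kernel

/-- The character on pairs. -/
def chiPr (p : Pr) : ZMod 3 := th p.1 - th p.2

theorem chiPr_mul (p q : Pr) : chiPr (p * q) = chiPr p + chiPr q := by
  simp only [chiPr, Prod.fst_mul, Prod.snd_mul, th_mul]; ring

theorem q8_split : ∀ R : SL23, R * R * (R * R) = 1 → ∃ A B : SL23, A * B * A⁻¹ * B⁻¹ = R := by decide +kernel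

namespace Setting

variable {G : Type u} [Group G] {D : Setting G}

/-- An element acting on the second block as a quaternion element. -/
def Quat (D : Setting G) (r : G) : Prop := ∃ R : SL23, R * R * (R * R) = 1 ∧ D.Acts r (1, R)

theorem Quat.comm_i1 {r : G} (hr : D.Quat r) : Commute r D.i1 := by
  obtain ⟨R, -, hr⟩ := hr
  have h : D.IsBlock (r * D.i1 * r⁻¹) := by
    refine ⟨?_, ?_⟩
    · have := D.i1_block.acts.conj hr
      rwa [show ((1, R) : Pr) * (-1, 1) * ((1, R) : Pr)⁻¹ = (-1, 1) from Prod.ext (by simp) (by simp)] at this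
    · rw [show r * D.i1 * r⁻¹ * (r * D.i1 * r⁻¹) = r * (D.i1 * D.i1) * r⁻¹ by group, D.i1_block.sq]; group
  exact mul_inv_eq_iff_eq_mul.mp (IsBlock.unique h D.i1_block)

/-- The generators on the second block. -/
def BGen (D : Setting G) : Set G := {x | (∃ v : V2, x = D.q ((0, 0), v)) ∨ D.Quat x}

theorem BGen.comm_z {x : G} (hx : x ∈ BGen D) : Commute x D.z := by
  rcases hx with ⟨v, rfl⟩ | ⟨R, -, hr⟩
  exacts [D.q_z _, hr.1.cz]

theorem BGen.comm_i1 {x : G} (hx : x ∈ BGen D) : Commute x D.i1 := by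
  rcases hx with ⟨v, rfl⟩ | hr
  exacts [(D.i1_block.fix rfl).symm, hr.comm_i1]

theorem BGen.inC {x : G} (hx : x ∈ BGen D) : D.InC x := by
  rcases hx with ⟨v, rfl⟩ | ⟨R, -, hr⟩
  · exact ⟨((0, 0), v), 1, 1, (mul_one _).symm, acts_one, Or.inl rfl, rfl⟩
  · exact ⟨0, x, _, by rw [D.q_zero, one_mul], hr, Or.inl rfl, rfl⟩

theorem q_second_zero : D.q ((0, 0), 0) = 1 := D.q_zero

namespace Base

variable (F : D.Base) [Finite G]

/-- The group generated on both sides of the flip. -/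
noncomputable def L : Subgroup G :=
  Subgroup.closure (BGen D ∪ (fun x => F.τ * x * F.τ⁻¹) '' BGen D)

theorem gen_mem_L {x : G} (hx : x ∈ BGen D) : x ∈ F.L := Subgroup.subset_closure (Or.inl hx)

theorem τ_gen_mem_L {x : G} (hx : x ∈ BGen D) : F.τ * x * F.τ⁻¹ ∈ F.L := Subgroup.subset_closure (Or.inr ⟨x, hx, rfl⟩)

theorem L_le_CP : F.L ≤ F.CP := by
  rw [L, Subgroup.closure_le]
  rintro _ (hx | ⟨x, hx, rfl⟩)
  · exact F.inC_mem_CP (BGen.inC hx)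
  · exact mul_mem (mul_mem F.τ_mem_CP (F.inC_mem_CP (BGen.inC hx))) (inv_mem F.τ_mem_CP)

theorem L_i1 {x : G} (hx : x ∈ F.L) : Commute x D.i1 := by
  have : F.L ≤ Subgroup.centralizer {D.i1} := by
    rw [L, Subgroup.closure_le]
    rintro _ (hx | ⟨x, hx, rfl⟩)
    · exact Subgroup.mem_centralizer_singleton_iff.mpr (BGen.comm_i1 hx).eq
    · exact Subgroup.mem_centralizer_singleton_iff.mpr
        ((F.τ_flip.ci.mul_left (BGen.comm_i1 hx)).mul_left F.τ_flip.ci.inv_left).eq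
  exact Subgroup.mem_centralizer_singleton_iff.mp (this hx)

include F in
theorem z_eq_comm : D.z = D.q ((0, 0), (1, 0)) * D.q ((0, 0), (0, 1)) * (D.q ((0, 0), (1, 0)))⁻¹ *
    (D.q ((0, 0), (0, 1)))⁻¹ := by
  rw [D.q_conj, show om (((0, 0), (1, 0)) : W4) ((0, 0), (0, 1)) = 1 from by decide, D.zz_one, mul_inv_cancel_right]

theorem z_mem_L : D.z ∈ F.L := by
  rw [F.z_eq_comm]
  refine mul_mem (mul_mem (mul_mem ?_ ?_) (inv_mem ?_)) (inv_mem ?_) <;> exact F.gen_mem_L (Or.inl ⟨_, rfl⟩)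

theorem τ_conj_z : F.τ * D.z * F.τ⁻¹ = F.y⁻¹ := by
  rw [← F.jel_z, F.τ_flip.act, ← F.jel_y, ← F.jel_neg]; simp

theorem τ_conj_y : F.τ * F.y * F.τ⁻¹ = D.z⁻¹ := by
  rw [← F.jel_y, F.τ_flip.act, ← F.jel_z, ← F.jel_neg]; simp

theorem y_mem_L : F.y ∈ F.L := by
  rw [← inv_mem_iff, ← F.τ_conj_z, F.z_eq_comm]
  set c := MulAut.conj F.τ
  rw [show F.τ * (D.q ((0, 0), (1, 0)) * D.q ((0, 0), (0, 1)) * (D.q ((0, 0), (1, 0)))⁻¹ *
    (D.q ((0, 0), (0, 1)))⁻¹) * F.τ⁻¹ = (F.τ * D.q ((0, 0), (1, 0)) * F.τ⁻¹) * (F.τ * D.q ((0, 0), (0, 1)) * F.τ⁻¹) *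
    (F.τ * D.q ((0, 0), (1, 0)) * F.τ⁻¹)⁻¹ * (F.τ * D.q ((0, 0), (0, 1)) * F.τ⁻¹)⁻¹ by group]
  refine mul_mem (mul_mem (mul_mem ?_ ?_) (inv_mem ?_)) (inv_mem ?_) <;> exact F.τ_gen_mem_L (Or.inl ⟨_, rfl⟩)

/-- Lifts of every element of the second block. -/
theorem exists_lift_L (A : SL23) : ∃ a, a ∈ F.L ∧ F.τ * a * F.τ⁻¹ ∈ F.L ∧ ∃ p : Pr,
    D.Acts a p ∧ p.2 = A ∧ (∃ b : ZMod 3, p.1 = mU ^ b.val) := by
  obtain ⟨R, hR, b, hb⟩ := sl_Q8U A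
  obtain ⟨r, hr⟩ := D.acts_lift (1, R) (by simp) hR
  obtain ⟨q, hq, -⟩ := Acts.of_three (D := D) ⟨F.y_z.pow_left b.val, F.y_t.pow_left b.val⟩
    (by rw [← pow_mul, mul_comm, pow_mul, F.y_cube, one_pow])
  obtain rfl := hq.ma.unique (F.y_ma b)
  have hrB : r ∈ BGen D := Or.inr ⟨R, hR, hr⟩
  refine ⟨r * F.y ^ b.val, mul_mem (F.gen_mem_L hrB) (pow_mem F.y_mem_L _), ?_, _, hr.mul hq, ?_, b, ?_⟩
  · rw [show F.τ * (r * F.y ^ b.val) * F.τ⁻¹ = (F.τ * r * F.τ⁻¹) * (F.τ * F.y ^ b.val * F.τ⁻¹) by group,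
      conj_pow', F.τ_conj_y]
    exact mul_mem (F.τ_gen_mem_L hrB) (pow_mem (inv_mem F.z_mem_L) _)
  · simp [hb]
  · simp

include F in
theorem q_mem_comm {M : Subgroup G} (c : G)
    (hq : ∀ x ∈ BGen D, c * x * c⁻¹ ∈ M) (v : V2) : c * D.q ((0, 0), v) * c⁻¹ ∈ ⁅M, M⁆ := by
  have hz : ∀ k : ZMod 3, c * D.zz k * c⁻¹ ∈ ⁅M, M⁆ := by
    intro k
    rw [zz, conj_pow']
    refine pow_mem ?_ _
    rw [F.z_eq_comm, show c * (D.q ((0, 0), (1, 0)) * D.q ((0, 0), (0, 1)) * (D.q ((0, 0), (1, 0)))⁻¹ *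
      (D.q ((0, 0), (0, 1)))⁻¹) * c⁻¹ = ⁅c * D.q ((0, 0), (1, 0)) * c⁻¹, c * D.q ((0, 0), (0, 1)) * c⁻¹⁆ by
        simp [commutatorElement_def]; group]
    exact Subgroup.commutator_mem_commutator (hq _ (Or.inl ⟨_, rfl⟩)) (hq _ (Or.inl ⟨_, rfl⟩))
  by_cases hv : v = 0
  · rw [hv, show D.q ((0, 0), (0 : V2)) = 1 from D.q_zero, mul_one, mul_inv_cancel]; exact one_mem _
  obtain ⟨A, hA, w, hw⟩ := q8_comm v hv
  obtain ⟨r, hr⟩ := D.acts_lift (1, A) (by simp) hA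
  have e : D.q ((0, 0), v) = D.zz (om ((0, 0), app2 A w) (-((0, 0), w) : W4)) *
      (r * D.q ((0, 0), w) * r⁻¹ * (D.q ((0, 0), w))⁻¹) := by
    rw [hr.2, show appP ((1, A) : Pr) ((0, 0), w) = ((0, 0), app2 A w) from Prod.ext (app2_one _) rfl, D.q_inv,
      D.q_mul', ← mul_assoc, ← D.zz_add, add_neg_cancel, D.zz_zero, one_mul]
    congr 1
    rw [← hw]
    exact Prod.ext (by simp) (sub_eq_add_neg _ _)
  rw [e, show c * (D.zz (om ((0, 0), app2 A w) (-((0, 0), w) : W4)) * (r * D.q ((0, 0), w) * r⁻¹ * (D.q ((0, 0), w))⁻¹)) * c⁻¹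
    = (c * D.zz (om ((0, 0), app2 A w) (-((0, 0), w) : W4)) * c⁻¹) *
      ⁅c * r * c⁻¹, c * D.q ((0, 0), w) * c⁻¹⁆ by simp [commutatorElement_def]; group]
  exact mul_mem (hz _) (Subgroup.commutator_mem_commutator (hq _ (Or.inr ⟨A, hA, hr⟩)) (hq _ (Or.inl ⟨_, rfl⟩)))

include F in
theorem quat_mem_comm {M : Subgroup G} (c : G) (hq : ∀ x ∈ BGen D, c * x * c⁻¹ ∈ M)
    (hlift : ∀ A : SL23, ∃ a, c * a * c⁻¹ ∈ M ∧ ∃ p : Pr, D.Acts a p ∧ p.2 = A ∧ (∃ b : ZMod 3, p.1 = mU ^ b.val))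
    {r : G} (hr : D.Quat r) : c * r * c⁻¹ ∈ ⁅M, M⁆ := by
  obtain ⟨R, hR, hr⟩ := hr
  obtain ⟨A, B, hAB⟩ := q8_split R hR
  obtain ⟨a, ha, p, hp, hpA, i, hpi⟩ := hlift A
  obtain ⟨b, hb, p', hp', hpB, j, hpj⟩ := hlift B
  have h := hr.mul (((hp.mul hp').mul hp.inv).mul hp'.inv).inv
  rw [show ((1, R) : Pr) * (p * p' * p⁻¹ * p'⁻¹)⁻¹ = 1 by
    refine Prod.ext ?_ ?_
    · simp only [Prod.fst_mul, Prod.fst_inv, Prod.fst_one, hpi, hpj]
      exact (by decide +kernel : ∀ i j : ZMod 3,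
        (1 : SL23) * (mU ^ i.val * mU ^ j.val * (mU ^ i.val)⁻¹ * (mU ^ j.val)⁻¹)⁻¹ = 1) i j
    · simp only [Prod.snd_mul, Prod.snd_inv, Prod.snd_one, hpA, hpB, hAB, mul_inv_cancel]] at h
  obtain ⟨k, hk⟩ := h.trivial
  have e : r = D.zz k * (a * b * a⁻¹ * b⁻¹) := mul_inv_eq_iff_eq_mul.mp hk
  rw [e, show c * (D.zz k * (a * b * a⁻¹ * b⁻¹)) * c⁻¹ = (c * D.zz k * c⁻¹) * ⁅c * a * c⁻¹, c * b * c⁻¹⁆ by
    simp [commutatorElement_def]; group]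
  refine mul_mem ?_ (Subgroup.commutator_mem_commutator ha hb)
  rw [zz, conj_pow']
  refine pow_mem ?_ _
  rw [F.z_eq_comm, show c * (D.q ((0, 0), (1, 0)) * D.q ((0, 0), (0, 1)) * (D.q ((0, 0), (1, 0)))⁻¹ *
    (D.q ((0, 0), (0, 1)))⁻¹) * c⁻¹ = ⁅c * D.q ((0, 0), (1, 0)) * c⁻¹, c * D.q ((0, 0), (0, 1)) * c⁻¹⁆ by
      simp [commutatorElement_def]; group]
  exact Subgroup.commutator_mem_commutator (hq _ (Or.inl ⟨_, rfl⟩)) (hq _ (Or.inl ⟨_, rfl⟩))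

theorem L_perfect : ⁅F.L, F.L⁆ = F.L := by
  refine le_antisymm (Subgroup.commutator_le_self F.L) ?_
  have key : ∀ c : G, (∀ x ∈ BGen D, c * x * c⁻¹ ∈ F.L) →
      (∀ A : SL23, ∃ a, c * a * c⁻¹ ∈ F.L ∧ ∃ p : Pr, D.Acts a p ∧ p.2 = A ∧ (∃ b : ZMod 3, p.1 = mU ^ b.val)) →
      ∀ x ∈ BGen D, c * x * c⁻¹ ∈ ⁅F.L, F.L⁆ := by
    intro c hc hl x hx
    rcases hx with ⟨v, rfl⟩ | hr
    exacts [F.q_mem_comm c hc v, F.quat_mem_comm c hc hl hr]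
  conv_lhs => rw [L]
  rw [Subgroup.closure_le]
  rintro _ (hx | ⟨x, hx, rfl⟩)
  · have := key 1 (fun x hx => by simpa using F.gen_mem_L hx) (fun A => by
      obtain ⟨a, ha, -, hp⟩ := F.exists_lift_L A
      exact ⟨a, by simpa using ha, hp⟩) _ hx
    simpa using this
  · exact key F.τ (fun x hx => F.τ_gen_mem_L hx) (fun A => by
      obtain ⟨a, -, ha, hp⟩ := F.exists_lift_L A
      exact ⟨a, ha, hp⟩) _ hx

theorem comm_z_of {x : F.CP} (hX : Commute (F.pr x) F.zb) : Commute (x : G) D.z := by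
  have h1 : F.pr (x * F.zC * x⁻¹) = F.pr F.zC := by
    simp only [map_mul, map_inv]; exact mul_inv_eq_iff_eq_mul.mpr hX.eq
  have h2 : D.z⁻¹ * ((x : G) * D.z * (x : G)⁻¹) ∈ F.P := by simpa [zC] using F.pr_eq.mp h1.symm
  have h3 := F.z_rigid h2 (by rw [mul_inv_cancel_left]; exact ⟨x, Or.inl rfl⟩)
  rw [inv_mul_eq_one, eq_comm, mul_inv_eq_iff_eq_mul] at h3
  exact h3

theorem i1_a1 {x : G} (i : ZMod 3) (hx : x = D.q (av i 0)) (hc : Commute x D.i1) : i = 0 := by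
  have h1 := D.i1_block.neg (v := av i 0) rfl
  rw [← hx, hc.symm.eq, mul_inv_cancel_right, hx] at h1
  have := congrArg (fun w : W4 => w.1.1) (D.q_injective h1)
  exact (by decide : ∀ i : ZMod 3, i = -i → i = 0) i this

end Base

end Setting

end CfsgLib.U6Three
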