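import Cfsg.Agent.Lib.U6Three.Levi
import Cfsg.Agent.Lib.U42Act.Ident
import Cfsg.Agent.S0814

/-!
The perfect group is the symplectic group of degree four over three elements.
-/

set_option autoImplicit false
set_option linter.style.haveILetI false

namespace CfsgLib.U6Three

open scoped commutatorElement

universe u

theorem four_classes : ∃ f : Fin 4 → SL23, (∀ i, f i * f i * (f i * f i) = 1) ∧
    ∀ i j, f i * mU * (f i)⁻¹ = f j * mU * (f j)⁻¹ → i = j := by decide +kernel

theorem simple_index {X : Type*} [Group X] [Finite X] [IsSimpleGroup X] (hX : 6 < Nat.card X) {H : Subgroup X}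
    (h : H.index ≤ 3) : H = ⊤ := by
  classical
  by_contra hH
  rcases IsSimpleGroup.eq_bot_or_eq_top_of_normal _ H.normalCore_normal with hb | ht
  · have hinj : Function.Injective (MulAction.toPermHom X (X ⧸ H)) :=
      (MonoidHom.ker_eq_bot_iff _).mp (H.normalCore_eq_ker ▸ hb)
    have h1 := Nat.card_le_card_of_injective _ hinj
    rw [Nat.card_perm, show Nat.card (X ⧸ H) = H.index from rfl] at h1
    have h2 := Nat.factorial_le h
    rw [show Nat.factorial 3 = 6 from rfl] at h2
    omega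
  · exact hH (top_le_iff.mp (ht ▸ H.normalCore_le))

theorem simple_of_equiv {X Y : Type*} [Group X] [Group Y] [IsSimpleGroup Y] (e : X ≃* Y) : IsSimpleGroup X :=
  haveI : Nontrivial X := e.toEquiv.nontrivial
  IsSimpleGroup.isSimpleGroup_of_surjective e.symm.toMonoidHom e.symm.surjective

namespace Setting.Base

variable {G : Type u} [Group G] {D : Setting G} (F : D.Base) [Finite G]

theorem derived_iso : Nonempty (commutator F.Fq ≃* Cfsg.PSp 2 CfsgLib.Heis43.K3) := by
  classical
  haveI := U42Act.psp_simple (F := CfsgLib.Heis43.K3) (ZMod.card 3)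
  have hc := U42Act.card_psp (F := CfsgLib.Heis43.K3) (ZMod.card 3)
  haveI : Nontrivial (Cfsg.PSp 2 CfsgLib.Heis43.K3) := IsSimpleGroup.toNontrivial
  have hperf : commutator (Cfsg.PSp 2 CfsgLib.Heis43.K3) = ⊤ := by
    rcases IsSimpleGroup.eq_bot_or_eq_top_of_normal (commutator (Cfsg.PSp 2 CfsgLib.Heis43.K3)) inferInstance with h | h
    · exfalso
      have hcm : ∀ a b : Cfsg.PSp 2 CfsgLib.Heis43.K3, a * b = b * a := fun a b =>
        commutatorElement_eq_one_iff_mul_comm.mp (by
          have := Subgroup.commutator_mem_commutator (Subgroup.mem_top a) (Subgroup.mem_top b)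
          rw [← commutator_def, h, Subgroup.mem_bot] at this
          exact this)
      letI : CommGroup (Cfsg.PSp 2 CfsgLib.Heis43.K3) :=
        { (inferInstance : Group (Cfsg.PSp 2 CfsgLib.Heis43.K3)) with mul_comm := hcm }
      haveI : Finite (Cfsg.PSp 2 CfsgLib.Heis43.K3) := Nat.finite_of_card_ne_zero (by omega)
      have := IsSimpleGroup.prime_card (α := Cfsg.PSp 2 CfsgLib.Heis43.K3)
      rw [hc] at this
      norm_num at this
    · exact h
  by_cases hS : F.caseS
  · obtain ⟨e⟩ := F.type_Fq.2 hS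
    set R := (MulAut.conj : Cfsg.PSp 2 CfsgLib.Heis43.K3 →* MulAut (Cfsg.PSp 2 CfsgLib.Heis43.K3)).range with hR
    have hinj : Function.Injective (MulAut.conj : Cfsg.PSp 2 CfsgLib.Heis43.K3 → MulAut (Cfsg.PSp 2 CfsgLib.Heis43.K3)) := by
      refine (MonoidHom.ker_eq_bot_iff (MulAut.conj : Cfsg.PSp 2 CfsgLib.Heis43.K3 →* _)).mp ?_
      rcases IsSimpleGroup.eq_bot_or_eq_top_of_normal _
        (MonoidHom.normal_ker (MulAut.conj : Cfsg.PSp 2 CfsgLib.Heis43.K3 →* MulAut (Cfsg.PSp 2 CfsgLib.Heis43.K3))) with h | h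
      · exact h
      · exfalso
        have hcm : ∀ a b : Cfsg.PSp 2 CfsgLib.Heis43.K3, a * b = b * a := fun a b => by
          have := congrArg (fun f : MulAut _ => f b) (MonoidHom.mem_ker.mp (h ▸ Subgroup.mem_top a))
          simpa [mul_inv_eq_iff_eq_mul] using this
        have h1 : commutator (Cfsg.PSp 2 CfsgLib.Heis43.K3) = ⊥ := by
          rw [commutator_def, Subgroup.commutator_eq_bot_iff_le_centralizer]
          exact fun a _ => Subgroup.mem_centralizer_iff.mpr fun b _ => hcm b a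
        rw [hperf] at h1
        exact top_ne_bot h1
    have hcR : Nat.card R = 25920 := by rw [← hc]; exact (Nat.card_congr (MonoidHom.ofInjective hinj).toEquiv).symm
    haveI : R.Normal := ⟨fun f hf g => by
      obtain ⟨a, rfl⟩ := hf
      exact ⟨g a, by ext x; simp⟩⟩
    have hA : Nat.card (MulAut (Cfsg.PSp 2 CfsgLib.Heis43.K3)) = 2 * 25920 := by
      haveI : Fact (Nat.Prime 3) := ⟨Nat.prime_three⟩
      rw [Cfsg.Agent.S0814.result 3 1 le_rfl (ZMod.card 3) 2 le_rfl (fun _ => by norm_num), hc]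
      norm_num
    have hidx : R.index = 2 := by
      have := R.card_mul_index
      rw [hcR, hA] at this
      omega
    have hle : commutator (MulAut (Cfsg.PSp 2 CfsgLib.Heis43.K3)) ≤ R := by
      haveI : Fact (Nat.Prime 2) := ⟨Nat.prime_two⟩
      haveI : IsCyclic (MulAut (Cfsg.PSp 2 CfsgLib.Heis43.K3) ⧸ R) := isCyclic_of_prime_card (show Nat.card _ = 2 from hidx)
      rw [commutator_def, Subgroup.commutator_le]
      intro a _ b _
      rw [← QuotientGroup.eq_one_iff, commutatorElement_def, QuotientGroup.mk_mul, QuotientGroup.mk_mul,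
        QuotientGroup.mk_mul, QuotientGroup.mk_inv, QuotientGroup.mk_inv,
        IsMulCommutative.is_comm.comm (a : MulAut _ ⧸ R), mul_inv_cancel_right, mul_inv_cancel]
    have hge : R ≤ commutator (MulAut (Cfsg.PSp 2 CfsgLib.Heis43.K3)) := by
      rw [hR, MonoidHom.range_eq_map, ← hperf]
      rw [commutator_def, commutator_def, Subgroup.map_commutator]
      exact Subgroup.commutator_mono le_top le_top
    have heq := le_antisymm hle hge
    have e1 : (commutator F.Fq).map e.toMonoidHom = R := by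
      rw [commutator_def, Subgroup.map_commutator, Subgroup.map_top_of_surjective _ e.surjective, ← commutator_def, heq]
    let e2 : commutator F.Fq ≃* R := (e.subgroupMap _).trans (MulEquiv.subgroupCongr e1)
    let e3 : commutator F.Fq ≃* Cfsg.PSp 2 CfsgLib.Heis43.K3 := e2.trans (MonoidHom.ofInjective hinj).symm
    exact ⟨e3⟩
  · obtain ⟨e⟩ := F.type_Fq.1 hS
    have h1 : commutator F.Fq = ⊤ := by
      have : (commutator F.Fq).map e.toMonoidHom = (⊤ : Subgroup F.Fq).map e.toMonoidHom := by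
        rw [commutator_def, Subgroup.map_commutator, Subgroup.map_top_of_surjective _ e.surjective, ← commutator_def,
          hperf]
      exact Subgroup.map_injective e.injective this
    let e3 : commutator F.Fq ≃* Cfsg.PSp 2 CfsgLib.Heis43.K3 :=
      ((MulEquiv.subgroupCongr h1).trans Subgroup.topEquiv).trans e
    exact ⟨e3⟩

theorem derived_Fq : Nat.card (commutator F.Fq) = 25920 ∧ IsSimpleGroup (commutator F.Fq) := by
  haveI := U42Act.psp_simple (F := CfsgLib.Heis43.K3) (ZMod.card 3)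
  obtain ⟨e⟩ := F.derived_iso
  exact ⟨by rw [Nat.card_congr e.toEquiv, U42Act.card_psp (F := CfsgLib.Heis43.K3) (ZMod.card 3)], simple_of_equiv e⟩

theorem L_pt_comm {x : G} (hx : x ∈ F.L) (hz : Commute x D.z) : ∃ p, D.MA x p :=
  F.rep_ma (x := ⟨x, F.L_le_CP hx⟩) hz

/-- The centraliser of the central element inside the perfect group. -/
noncomputable def LZ : Subgroup F.L := (Subgroup.centralizer {D.z}).subgroupOf F.L

theorem mem_LZ {x : F.L} : x ∈ F.LZ ↔ Commute (x : G) D.z := by
  simp [LZ, Subgroup.mem_subgroupOf, Subgroup.mem_centralizer_singleton_iff, Commute, SemiconjBy]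

/-- The projection of the perfect group. -/
noncomputable def prL : F.L →* F.Fq := F.pr.comp (Subgroup.inclusion F.L_le_CP)

theorem prL_apply (x : F.L) : F.prL x = F.pr ⟨x, F.L_le_CP x.2⟩ := rfl

theorem range_prL_le : F.prL.range ≤ commutator F.Fq := by
  rw [MonoidHom.range_eq_map]
  have h : (⊤ : Subgroup F.L) = ⁅(⊤ : Subgroup F.L), ⊤⁆ := by
    refine Subgroup.map_injective F.L.subtype_injective ?_
    rw [Subgroup.map_commutator, ← MonoidHom.range_eq_map, Subgroup.range_subtype, F.L_perfect]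
  rw [h, Subgroup.map_commutator, commutator_def]
  exact Subgroup.commutator_mono le_top le_top

/-- The centraliser of the central element is carried onto the whole centraliser in the quotient. -/
theorem cent_le_range {X : F.Fq} (hX : Commute X F.zb) : X ∈ F.prL.range := by
  set C := Subgroup.centralizer ({F.zb} : Set F.Fq)
  obtain ⟨a, ha, -, p, hp, hp2, b, hb⟩ := F.exists_lift_L (F.piHom ⟨X, Subgroup.mem_centralizer_singleton_iff.mpr hX.eq⟩)
  set A : C := ⟨F.pr ⟨a, F.L_le_CP ha⟩, Subgroup.mem_centralizer_singleton_iff.mpr (F.zb_comm ⟨a, F.L_le_CP ha⟩ hp.1.cz).eq⟩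
  obtain ⟨⟨k, v⟩, e⟩ := F.ker_el (X := A⁻¹ * ⟨X, Subgroup.mem_centralizer_singleton_iff.mpr hX.eq⟩) (by
    rw [map_mul, map_inv, F.piHom_eq (X := A) rfl hp.ma, hp2, inv_mul_cancel])
  have hk : F.kq (k, v) ∈ F.prL.range := ⟨⟨D.zz k * D.q ((0, 0), v),
    mul_mem (pow_mem F.z_mem_L _) (F.gen_mem_L (Or.inl ⟨v, rfl⟩))⟩, rfl⟩
  have hA : (A : F.Fq) ∈ F.prL.range := ⟨⟨a, ha⟩, rfl⟩
  have := mul_mem hA (e ▸ hk : ((A⁻¹ * ⟨X, _⟩ : C) : F.Fq) ∈ F.prL.range)
  simpa using this

theorem card_cent_zb : Nat.card (Subgroup.centralizer ({F.zb} : Set F.Fq)) = 648 := by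
  have h := Subgroup.card_eq_card_quotient_mul_card_subgroup F.piHom.ker
  rw [F.card_ker, Nat.card_congr (QuotientGroup.quotientKerEquivOfSurjective _ F.piHom_surj).toEquiv] at h
  rw [h, show Nat.card SL23 = 24 by rw [Nat.card_eq_fintype_card]; decide +kernel]

theorem card_orbit_ge : 12 ≤ ((Subgroup.centralizer ({F.zb} : Set F.Fq)).subgroupOf F.prL.range).index := by
  classical
  obtain ⟨f, hf, hfi⟩ := four_classes
  have hr : ∀ i, ∃ r, D.Acts r (1, f i) := fun i => D.acts_lift (1, f i) (by simp) (hf i)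
  choose r hr using hr
  have hrB : ∀ i, r i ∈ BGen D := fun i => Or.inr ⟨f i, hf i, hr i⟩
  have hqB : ∀ c : ZMod 3, D.q ((0, 0), (0, c)) ∈ BGen D := fun c => Or.inl ⟨_, rfl⟩
  set w : Fin 4 × ZMod 3 → G := fun x => r x.1 * D.q ((0, 0), (0, x.2)) with hw
  have hwL : ∀ x, F.τ * w x * F.τ⁻¹ ∈ F.L := fun x => by
    rw [show F.τ * w x * F.τ⁻¹ = (F.τ * r x.1 * F.τ⁻¹) * (F.τ * D.q ((0, 0), (0, x.2)) * F.τ⁻¹) by
      simp only [hw]; group]
    exact mul_mem (F.τ_gen_mem_L (hrB _)) (F.τ_gen_mem_L (hqB _))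
  let ψ : Fin 4 × ZMod 3 → F.prL.range ⧸ (Subgroup.centralizer ({F.zb} : Set F.Fq)).subgroupOf F.prL.range :=
    fun x => ((⟨F.prL ⟨_, hwL x⟩, ⟨_, rfl⟩⟩ : F.prL.range) :)
  have hψ : Function.Injective ψ := by
    intro x x' h
    have h1 := QuotientGroup.eq.mp h
    rw [Subgroup.mem_subgroupOf, Subgroup.mem_centralizer_singleton_iff] at h1
    have h2 : Commute (F.pr ((⟨_, F.L_le_CP (hwL x)⟩ : F.CP)⁻¹ * ⟨_, F.L_le_CP (hwL x')⟩)) F.zb := by
      rw [map_mul, map_inv]; exact h1
    have h3 := F.comm_z_of h2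
    simp only [Subgroup.coe_mul, Subgroup.coe_inv] at h3
    have h4 : w x * F.y * (w x)⁻¹ = w x' * F.y * (w x')⁻¹ := by
      have h5 : Commute ((w x)⁻¹ * w x') F.y := by
        have := conj_comm' F.τ h3
        rw [show F.τ⁻¹ * D.z * F.τ = F.y⁻¹ by
          have h6 := F.τ_conj_y
          calc F.τ⁻¹ * D.z * F.τ = F.τ⁻¹ * (F.τ * F.y * F.τ⁻¹)⁻¹ * F.τ := by rw [h6, inv_inv]
            _ = F.y⁻¹ := by group] at this
        have h7 := this.inv_right
        rw [inv_inv] at h7
        convert h7 using 1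
        group
      calc w x * F.y * (w x)⁻¹ = w x * (((w x)⁻¹ * w x') * F.y * ((w x)⁻¹ * w x')⁻¹) * (w x)⁻¹ := by
            rw [h5.eq, mul_inv_cancel_right]
        _ = _ := by group
    obtain ⟨i, c⟩ := x
    obtain ⟨j, d⟩ := x'
    have hm : ∀ (i : Fin 4) (c : ZMod 3), D.MA (w (i, c) * F.y * (w (i, c))⁻¹) (((1, f i) : Pr) * (mU, mU) * ((1, f i) : Pr)⁻¹) := by
      intro i c
      have h5 := ((hr i).ma.mul (ma_of_Q (D := D) (D.q_mem ((0, 0), (0, c)))))
      rw [mul_one] at h5
      exact (h5.mul F.acts.ma).mul h5.inv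
    have he := (hm i c).unique (h4 ▸ hm j d)
    obtain rfl := hfi i j (by simpa using congrArg Prod.snd he)
    have h6 : D.q ((0, 0), (0, c)) * F.y * (D.q ((0, 0), (0, c)))⁻¹ =
        D.q ((0, 0), (0, d)) * F.y * (D.q ((0, 0), (0, d)))⁻¹ := by
      have := h4
      simp only [hw] at this
      exact mul_left_cancel (a := r i) (mul_right_cancel (b := (r i)⁻¹) (by
        convert this using 1 <;> group))
    rw [← F.jel_y, F.q_conj_jel, F.q_conj_jel] at h6
    have := congrArg (fun v : V4 => v.2.2.1) (F.jel_inj h6)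
    simp at this
    rw [this]
  have h12 := Nat.card_le_card_of_injective ψ hψ
  rwa [Nat.card_prod, Nat.card_fin, Nat.card_zmod] at h12

theorem range_prL : F.prL.range = commutator F.Fq := by
  obtain ⟨hc, hsimple⟩ := F.derived_Fq
  set H := F.prL.range.subgroupOf (commutator F.Fq)
  have hH : H = ⊤ := by
    refine simple_index (by rw [hc]; norm_num) ?_
    have h1 := H.card_mul_index
    rw [hc, Nat.card_congr (Subgroup.subgroupOfEquivOfLe F.range_prL_le).toEquiv] at h1
    have h2 := ((Subgroup.centralizer ({F.zb} : Set F.Fq)).subgroupOf F.prL.range).card_mul_index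
    rw [Nat.card_congr (Subgroup.subgroupOfEquivOfLe (fun X hX => F.cent_le_range
      (Subgroup.mem_centralizer_singleton_iff.mp hX))).toEquiv, F.card_cent_zb] at h2
    have h3 := Nat.mul_le_mul_left 648 F.card_orbit_ge
    rw [h2] at h3
    have h4 := Nat.mul_le_mul_right H.index h3
    rw [h1] at h4
    omega
  exact le_antisymm F.range_prL_le (Subgroup.subgroupOf_eq_top.mp hH)

theorem index_LZ : ¬ 3 ∣ F.LZ.index := by
  have e : F.LZ = (Subgroup.centralizer ({F.zb} : Set F.Fq)).comap F.prL := by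
    ext x
    rw [F.mem_LZ, Subgroup.mem_comap, Subgroup.mem_centralizer_singleton_iff]
    exact ⟨fun h => (F.zb_comm ⟨x, F.L_le_CP x.2⟩ h).eq, fun h => F.comm_z_of (x := ⟨x, F.L_le_CP x.2⟩) h⟩
  rw [e, Subgroup.index_comap]
  intro hd
  have h2 := ((Subgroup.centralizer ({F.zb} : Set F.Fq)).subgroupOf F.prL.range).card_mul_index
  rw [Nat.card_congr (Subgroup.subgroupOfEquivOfLe (fun X hX => F.cent_le_range
      (Subgroup.mem_centralizer_singleton_iff.mp hX))).toEquiv, F.card_cent_zb, F.range_prL, F.derived_Fq.1] at h2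
  rw [Subgroup.relIndex, F.range_prL] at hd
  omega

/-- The perfect group meets the axis trivially. -/
theorem L_inf_P {x : G} (hx : x ∈ F.L) (hP : x ∈ F.P) : x = 1 := by
  classical
  obtain ⟨i, m, e⟩ := F.P_cases hP
  have hm : F.s0 ^ m.val = 1 := by
    by_cases hB : D.caseB
    swap
    · rw [F.s0_one hB, one_pow]
    let ch : F.LZ → Multiplicative (ZMod 3) := fun h =>
      Multiplicative.ofAdd (chiPr (F.L_pt_comm h.1.2 (F.mem_LZ.mp h.2)).choose)
    have hch : ∀ (h : F.LZ) {p : Pr}, D.MA ((h : F.L) : G) p → ch h = Multiplicative.ofAdd (chiPr p) := fun h p hp => by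
      simp only [ch]; rw [(F.L_pt_comm h.1.2 (F.mem_LZ.mp h.2)).choose_spec.unique hp]
    let φ : F.LZ →* Multiplicative (ZMod 3) := MonoidHom.mk' ch fun a b => by
      have ha := (F.L_pt_comm a.1.2 (F.mem_LZ.mp a.2)).choose_spec
      have hb := (F.L_pt_comm b.1.2 (F.mem_LZ.mp b.2)).choose_spec
      rw [hch (a * b) (ha.mul hb), hch a ha, hch b hb, chiPr_mul, ofAdd_add]
    set xL : F.L := ⟨x, hx⟩
    have hxz : xL ∈ F.LZ := F.mem_LZ.mpr (F.P_comm_z hP)
    have h1 := MonoidHom.transfer_eq_pow φ xL (fun k g0 _ => by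
      have hc : Commute (g0 : G) (x ^ k) := F.mem_CP.mp (F.L_le_CP g0.2) _ (pow_mem hP k)
      refine Subtype.ext ?_
      simp only [Subgroup.coe_mul, Subgroup.coe_inv, SubmonoidClass.coe_pow, xL]
      rw [mul_assoc, ← hc.eq, inv_mul_cancel_left])
    have h0 : MonoidHom.transfer φ xL = 1 := by
      have hker : (⊤ : Subgroup F.L) ≤ (MonoidHom.transfer φ).ker := by
        refine le_trans ?_ (Abelianization.commutator_subset_ker (MonoidHom.transfer φ))
        refine (Subgroup.map_le_map_iff_of_injective F.L.subtype_injective).mp ?_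
        rw [commutator_def, Subgroup.map_commutator, ← MonoidHom.range_eq_map, Subgroup.range_subtype, F.L_perfect]
      exact MonoidHom.mem_ker.mp (hker (Subgroup.mem_top xL))
    rw [h0] at h1
    have hma : D.MA x ((mU, 1) ^ m.val) := by
      have := (ma_of_Q (D := D) (D.q_mem (av i 0))).mul ((F.s0_acts hB).ma.pow m.val)
      rwa [one_mul, ← e] at this
    have h2 : φ ⟨xL ^ F.LZ.index, MonoidHom.transfer_eq_pow_aux xL (fun k g0 _ => by
        have hc : Commute (g0 : G) (x ^ k) := F.mem_CP.mp (F.L_le_CP g0.2) _ (pow_mem hP k)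
        refine Subtype.ext ?_
        simp only [Subgroup.coe_mul, Subgroup.coe_inv, SubmonoidClass.coe_pow, xL]
        rw [mul_assoc, ← hc.eq, inv_mul_cancel_left])⟩ = φ ⟨xL, hxz⟩ ^ F.LZ.index := by
      rw [← map_pow]; rfl
    rw [h2, show φ ⟨xL, hxz⟩ = _ from hch ⟨xL, hxz⟩ hma, ← ofAdd_nsmul, eq_comm, ofAdd_eq_one, nsmul_eq_mul] at h1
    have hn : (F.LZ.index : ZMod 3) ≠ 0 := fun h => F.index_LZ ((ZMod.natCast_eq_zero_iff _ _).mp h)
    have h3 := (mul_eq_zero.mp h1).resolve_left hn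
    have h4 : m = 0 := by
      have h5 : chiPr (((mU, 1) : Pr) ^ m.val) = m := (by decide +kernel : ∀ m : ZMod 3, chiPr (((mU, 1) : Pr) ^ m.val) = m) m
      rw [h5] at h3; exact h3
    rw [h4, ZMod.val_zero, pow_zero]
  rw [hm, mul_one] at e
  rw [e, i1_a1 i e (F.L_i1 hx)]
  exact D.q_zero

theorem prL_inj : Function.Injective F.prL := by
  rw [injective_iff_map_eq_one]
  intro x hx
  exact Subtype.ext (F.L_inf_P x.2 (F.pr_one.mp hx))

/-- The perfect group and the derived subgroup of the quotient. -/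
noncomputable def LEquiv : F.L ≃* commutator F.Fq :=
  (MonoidHom.ofInjective F.prL_inj).trans (MulEquiv.subgroupCongr F.range_prL)

theorem card_L : Nat.card F.L = 25920 := by rw [Nat.card_congr F.LEquiv.toEquiv, F.derived_Fq.1]

theorem simple_L : IsSimpleGroup F.L :=
  haveI := F.derived_Fq.2
  simple_of_equiv F.LEquiv

end Setting.Base

end CfsgLib.U6Three
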