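import Cfsg.Agent.Lib.U6Three.RecComm
import Cfsg.Agent.Lib.PSp43Rec.CtLe

/-!
The group generated by the two quaternion groups is normalised by the centraliser of the involution, and the
three-subgroups of that centraliser are conjugate into the elementary one.
-/

set_option autoImplicit false
set_option linter.style.haveILetI false

namespace CfsgLib.U6Three

open CfsgPSp43Rec Equiv

theorem rec_fixed : ∀ q : Tri, act CfsgPSp43Rec.swap01 q = q →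
    ∃ a b : ZMod 3, q = sc a (ev 2) + sc b (ev 3) := by decide +kernel

variable {X : Type*} [Group X] (E : CfsgPSp43Rec.Frame X)

/-- The group generated by the two quaternion groups. -/
def recW : Subgroup X :=
  Subgroup.closure {x | x ^ 4 = 1 ∧ Commute x E.t ∧ (Commute x (E.z 3) ∨ Commute x (E.z 2))}

theorem recW_le_Ct : recW E ≤ E.Ct := (Subgroup.closure_le _).2 fun _ h => E.mem_Ct.2 h.2.1

theorem t_mem_recW : E.t ∈ recW E :=
  Subgroup.subset_closure ⟨by rw [show 4 = 2 * 2 from rfl, pow_mul, pow_two E.t, E.t_sq, one_pow], Commute.refl _,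
    Or.inl E.t_z3⟩

variable [Finite X]

theorem w_swap {x : X} (hx : Commute x (E.z 2)) :
    Commute (E.φ CfsgPSp43Rec.swap23 * x * (E.φ CfsgPSp43Rec.swap23)⁻¹) (E.z 3) := by
  have := hx.conj (E.φ CfsgPSp43Rec.swap23)
  rwa [E.w_facts.2.1] at this

theorem w_swap' {x : X} (hx : Commute x (E.z 3)) :
    Commute (E.φ CfsgPSp43Rec.swap23 * x * (E.φ CfsgPSp43Rec.swap23)⁻¹) (E.z 2) := by
  have := hx.conj (E.φ CfsgPSp43Rec.swap23)
  rwa [E.conj, show CfsgPSp43Rec.swap23 3 = 2 from CfsgPSp43Rec.perm_facts.2.2.2.2.2.1.2.2.2] at this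

theorem w_recW {x : X} (hx : x ∈ recW E) :
    E.φ CfsgPSp43Rec.swap23 * x * (E.φ CfsgPSp43Rec.swap23)⁻¹ ∈ recW E := by
  refine (?_ : recW E ≤ (recW E).comap (MulAut.conj (E.φ CfsgPSp43Rec.swap23)).toMonoidHom) hx
  refine (Subgroup.closure_le _).2 fun y ⟨h4, ht, hz⟩ => ?_
  refine Subgroup.subset_closure ⟨?_, ?_, ?_⟩
  · show (E.φ CfsgPSp43Rec.swap23 * y * (E.φ CfsgPSp43Rec.swap23)⁻¹) ^ 4 = 1
    rw [conj_pow, h4]; group
  · exact (E.w_facts.1.mul_left ht).mul_left E.w_facts.1.inv_left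
  · rcases hz with hz | hz
    exacts [Or.inr (w_swap' E hz), Or.inl (w_swap E hz)]

/-- The centraliser of the involution normalises the group generated by the quaternion groups. -/
theorem recW_normal {g x : X} (hg : Commute g E.t) (hx : x ∈ recW E) : g * x * g⁻¹ ∈ recW E := by
  classical
  obtain ⟨i, hi, hI⟩ := E.exists_quat
  have hit : Commute i E.t := hi ▸ (Commute.refl i).mul_right (Commute.refl i)
  obtain ⟨hwt, hwz, hwi⟩ := E.w_facts
  obtain ⟨M, hMn, -, -, hiM, -, hgen, hMc, hMa, hM3z⟩ := E.ct_struct hi hI hit E.z2_t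
  have := hMn
  obtain ⟨Wb, hWb⟩ : ∃ Wb, Wb = ((recW E).subgroupOf E.Ct).map E.mkt := ⟨_, rfl⟩
  have hmemW : ∀ g : E.Ct, (g : X) ∈ recW E → E.mkt g ∈ Wb := fun g hg => hWb ▸ ⟨g, hg, rfl⟩
  have hi4 : i ^ 4 = 1 := by rw [show 4 = 2 * 2 from rfl, pow_mul, pow_two i, hi, pow_two, E.t_sq]
  have hW3 : ∀ y ∈ M, Commute y (E.mkt ⟨E.Zt (ev 3), E.Zt_mem_Ct fixed_gens.2.1⟩) → y ∈ Wb := by
    intro y hy e
    rcases hM3z y hy e.eq with rfl | rfl | rfl | rfl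
    · exact one_mem _
    · exact hmemW _ (Subgroup.subset_closure ⟨hi4, hit, Or.inl hI.comm⟩)
    · refine hmemW _ (Subgroup.subset_closure ⟨?_, ?_, Or.inl ?_⟩)
      · show (E.z 2 * i * (E.z 2)⁻¹) ^ 4 = 1
        rw [conj_pow, hi4]; group
      · exact (E.z2_t.mul_left hit).mul_left E.z2_t.inv_left
      · exact ((E.comm 2 3).mul_left hI.comm).mul_left (E.comm 2 3).inv_left
    · refine hmemW _ (Subgroup.subset_closure ⟨?_, ?_, Or.inl ?_⟩)
      · show (E.z 2 * E.z 2 * i * (E.z 2 * E.z 2)⁻¹) ^ 4 = 1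
        rw [conj_pow, hi4]; group
      · exact ((E.z2_t.mul_left E.z2_t).mul_left hit).mul_left (E.z2_t.mul_left E.z2_t).inv_left
      · exact (((E.comm 2 3).mul_left (E.comm 2 3)).mul_left hI.comm).mul_left
          ((E.comm 2 3).mul_left (E.comm 2 3)).inv_left
  have hW2 : ∀ y ∈ M, Commute y (E.mkt ⟨E.Zt (ev 2), E.Zt_mem_Ct fixed_gens.1⟩) → y ∈ Wb := by
    intro y hy e
    obtain ⟨wC, hwC⟩ : ∃ wC : E.Ct, wC = ⟨E.φ CfsgPSp43Rec.swap23, E.mem_Ct.2 hwt⟩ := ⟨_, rfl⟩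
    have h := e.conj (E.mkt wC)
    rw [show E.mkt wC * E.mkt ⟨E.Zt (ev 2), E.Zt_mem_Ct fixed_gens.1⟩ * (E.mkt wC)⁻¹ =
        E.mkt ⟨E.Zt (ev 3), E.Zt_mem_Ct fixed_gens.2.1⟩ by
      rw [← map_inv, ← map_mul, ← map_mul]
      refine congrArg E.mkt (Subtype.ext ?_)
      show (wC : X) * E.Zt (ev 2) * (wC : X)⁻¹ = E.Zt (ev 3)
      rw [hwC, ← E.z_eq, ← E.z_eq]
      exact hwz] at h
    have h1 := hW3 _ (hMn.conj_mem y hy _) h
    rw [hWb] at h1
    obtain ⟨u, hu, hue⟩ := h1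
    have h2 : y = E.mkt (wC⁻¹ * u * wC) := by
      rw [map_mul, map_mul, map_inv, hue]; group
    rw [h2]
    refine hmemW _ ?_
    show (wC : X)⁻¹ * u * wC ∈ recW E
    rw [hwC]
    have h3 := w_recW E (show (u : X) ∈ recW E from hu)
    rw [hwi] at h3
    show (E.φ CfsgPSp43Rec.swap23)⁻¹ * u * E.φ CfsgPSp43Rec.swap23 ∈ recW E
    rwa [hwi]
  have hMW : M ≤ Wb := by
    rw [hgen M hMn le_rfl]
    refine iSup₂_le fun a ha y hy => ?_
    obtain ⟨hyM, hya⟩ := hy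
    obtain ⟨u, hu, rfl⟩ := ha.1
    obtain ⟨q, hq, hue⟩ := E.mem_Et hu
    have hu' : u = ⟨E.Zt q, E.Zt_mem_Ct hq⟩ := Subtype.ext hue
    have hq0 : q ≠ 0 := fun e0 => ha.2 (by
      subst e0
      rw [hu']
      exact (congrArg E.mkt (Subtype.ext E.Zt_zero)).trans (map_one _))
    rw [hu'] at hya
    have e := Subgroup.mem_centralizer_singleton_iff.1 hya
    obtain ⟨d, hd, h⟩ := fixed_cases q hq hq0
    have hb : ∀ r hr, q = sc d r → Commute y (E.mkt ⟨E.Zt r, E.Zt_mem_Ct hr⟩) := fun r hr er => by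
      rw [show (⟨E.Zt r, E.Zt_mem_Ct hr⟩ : E.Ct) = ⟨E.Zt q, E.Zt_mem_Ct hq⟩ ^ d.val from Subtype.ext (by
        show E.Zt r = E.Zt q ^ d.val
        rw [← E.Zt_sc, er, ct_coord_facts.2.2 d hd]), map_pow]
      exact (show Commute y _ from e).pow_right _
    rcases h with h | h | h | h
    · exact hW2 y hyM (hb _ fixed_gens.1 h)
    · exact hW3 y hyM (hb _ fixed_gens.2.1 h)
    · exact (hMc y hyM (hb _ fixed_gens.2.2.2.1 h).eq) ▸ one_mem _
    · exact (hMa y hyM (hb _ fixed_gens.2.2.1 h).eq) ▸ one_mem _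
  have ht1 : E.mkt (⟨E.t, E.mem_Ct.2 (Commute.refl _)⟩ : E.Ct) = 1 :=
    (QuotientGroup.eq_one_iff _).2 (Subgroup.mem_zpowers E.t)
  have hq3 : ∀ u : E.Ct, (u : X) ^ 4 = 1 → Commute (u : X) (E.z 3) → E.mkt u ∈ M := by
    intro u hu4 hu3
    obtain ⟨zC, hzC⟩ : ∃ zC : E.Ct, zC = ⟨E.z 2, E.mem_Ct.2 E.z2_t⟩ := ⟨_, rfl⟩
    obtain ⟨iC, hiC⟩ : ∃ iC : E.Ct, iC = ⟨i, E.mem_Ct.2 hit⟩ := ⟨_, rfl⟩
    rw [← hiC] at hiM
    have hj : ∀ j : Fin 3, ∀ v : E.Ct, (v : X) = qj E i j → E.mkt v ∈ M := by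
      intro j v hv
      rw [show v = zC ^ j.val * iC * (zC ^ j.val)⁻¹ from Subtype.ext (by rw [hv, hzC, hiC]; rfl), map_mul, map_mul,
        map_inv]
      exact hMn.conj_mem _ hiM _
    rcases quat_elts E hi hI hu3 (E.mem_Ct.1 u.2) hu4 with h | h | ⟨j, h | h⟩
    · rw [show u = 1 from Subtype.ext h, map_one]; exact one_mem _
    · rw [show u = ⟨E.t, E.mem_Ct.2 (Commute.refl _)⟩ from Subtype.ext h, ht1]; exact one_mem _
    · exact hj j u h
    · have e : u = ⟨E.t, E.mem_Ct.2 (Commute.refl _)⟩ *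
          ((⟨E.t, E.mem_Ct.2 (Commute.refl _)⟩ : E.Ct)⁻¹ * u) := by group
      rw [e, map_mul, ht1, one_mul]
      refine hj j _ ?_
      show E.t⁻¹ * (u : X) = qj E i j
      rw [h, inv_mul_cancel_left]
  have hWM : Wb ≤ M := by
    rw [hWb, Subgroup.map_le_iff_le_comap]
    intro u hu
    suffices recW E ≤ (M.comap E.mkt).map E.Ct.subtype by
      obtain ⟨u', hu', e⟩ := this hu
      exact (Subtype.ext e : u' = u) ▸ hu'
    refine (Subgroup.closure_le _).2 fun y ⟨h4, ht, hz⟩ => ⟨⟨y, E.mem_Ct.2 ht⟩, ?_, rfl⟩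
    rcases hz with hz | hz
    · exact hq3 _ h4 hz
    · obtain ⟨wC, hwC⟩ : ∃ wC : E.Ct, wC = ⟨E.φ CfsgPSp43Rec.swap23, E.mem_Ct.2 hwt⟩ := ⟨_, rfl⟩
      have h := hq3 (wC * ⟨y, E.mem_Ct.2 ht⟩ * wC⁻¹)
        (by rw [hwC]; show (E.φ CfsgPSp43Rec.swap23 * y * (E.φ CfsgPSp43Rec.swap23)⁻¹) ^ 4 = 1
            rw [conj_pow, h4]; group)
        (by rw [hwC]; exact w_swap E hz)
      rw [map_mul, map_mul, map_inv] at h
      have h' := hMn.conj_mem _ h (E.mkt wC)⁻¹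
      rw [inv_inv, ← mul_assoc, ← mul_assoc, inv_mul_cancel, one_mul, inv_mul_cancel_right] at h'
      exact h'
  have hgx : E.mkt (⟨g, E.mem_Ct.2 hg⟩ * ⟨x, recW_le_Ct E hx⟩ * (⟨g, E.mem_Ct.2 hg⟩ : E.Ct)⁻¹) ∈ Wb := by
    rw [map_mul, map_mul, map_inv]
    exact hMW (hMn.conj_mem _ (hWM (hmemW _ hx)) _)
  rw [hWb] at hgx
  obtain ⟨u, hu, e⟩ := hgx
  rcases E.mkt_eq e.symm with h | h
  · change g * x * g⁻¹ = _ at h
    rw [h]; exact hu
  · change g * x * g⁻¹ = _ at h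
    rw [h]; exact mul_mem hu (t_mem_recW E)

/-- A commuting pair of three-elements of the centraliser of the involution is conjugate into the elementary group. -/
theorem conj_pair {a b : X} (ha : Commute a E.t) (hb : Commute b E.t) (ha3 : a ^ 3 = 1) (hb3 : b ^ 3 = 1)
    (hab : Commute a b) : ∃ h, Commute h E.t ∧ (∃ i j : ZMod 3, h * a * h⁻¹ = E.z 2 ^ i.val * E.z 3 ^ j.val) ∧
      ∃ i j : ZMod 3, h * b * h⁻¹ = E.z 2 ^ i.val * E.z 3 ^ j.val := by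
  classical
  obtain ⟨P, hP⟩ := E.exists_sylow_Ct
  set a' : E.Ct := ⟨a, E.mem_Ct.2 ha⟩
  set b' : E.Ct := ⟨b, E.mem_Ct.2 hb⟩
  have h3 : ∀ u : E.Ct, u ^ 3 = 1 → IsPGroup 3 (Subgroup.zpowers u) := fun u hu => by
    refine IsPGroup.of_card_dvd_pow (n := 1) ?_
    rw [Nat.card_zpowers, pow_one]
    exact orderOf_dvd_of_pow_eq_one hu
  have hsup : IsPGroup 3 (Subgroup.zpowers a' ⊔ Subgroup.zpowers b' : Subgroup E.Ct) := by
    refine (h3 a' (Subtype.ext ha3)).to_sup_of_normal_right' (h3 b' (Subtype.ext hb3)) ?_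
    refine le_trans ?_ (Subgroup.centralizer_le_normalizer _)
    rw [Subgroup.zpowers_le, Subgroup.mem_centralizer_iff]
    rintro _ ⟨n, rfl⟩
    exact ((show Commute a' b' from Subtype.ext hab.eq).zpow_right n).eq.symm
  obtain ⟨Q, hQ⟩ := hsup.exists_le_sylow
  haveI : Fact (Nat.Prime 3) := ⟨Nat.prime_three⟩
  obtain ⟨n, hn⟩ := MulAction.exists_smul_eq E.Ct Q P
  have key : ∀ u ∈ (Q : Subgroup E.Ct), ∃ i j : ZMod 3,
      (n : X) * u * (n : X)⁻¹ = E.z 2 ^ i.val * E.z 3 ^ j.val := by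
    intro u hu
    have hm : n * u * n⁻¹ ∈ (P : Subgroup E.Ct) := by
      rw [← hn, Sylow.coe_subgroup_smul, Subgroup.mem_pointwise_smul_iff_inv_smul_mem]
      simpa [MulAut.smul_def, mul_assoc] using hu
    rw [hP] at hm
    obtain ⟨q, hq, e⟩ := E.mem_Et hm
    obtain ⟨i, j, rfl⟩ := rec_fixed q hq
    refine ⟨i, j, ?_⟩
    rw [E.z_eq, E.z_eq, ← E.Zt_sc, ← E.Zt_sc, E.Zt_mul, ← e]
    rfl
  exact ⟨n, E.mem_Ct.1 n.2, key a' (hQ (Subgroup.mem_sup_left (Subgroup.mem_zpowers _))),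
    key b' (hQ (Subgroup.mem_sup_right (Subgroup.mem_zpowers _)))⟩

end CfsgLib.U6Three
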