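import Cfsg.Agent.Lib.U6Three.QuatComm
import Cfsg.Agent.Lib.U6Three.RecStable

/-!
Elements centralising the axis and a block involution normalise the group generated by the quaternion groups at the
two points.
-/

set_option autoImplicit false
set_option linter.style.haveILetI false

namespace CfsgLib.U6Three

open scoped commutatorElement

universe u

namespace Setting.Base

variable {G : Type u} [Group G] {D : Setting G} (F : D.Base) [Finite G]

theorem i2_mem_L : i2 D ∈ F.L := F.gen_mem_L (Or.inr i2_quat)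

/-- The perfect group in the coordinates of the recognition, in standard position. -/
theorem exists_model : ∃ (E : CfsgPSp43Rec.Frame (commutator F.Fq)) (φ : F.L ≃* commutator F.Fq),
    φ ⟨D.z, F.z_mem_L⟩ = E.z 3 ∧ φ ⟨i2 D, F.i2_mem_L⟩ = E.t ∧
      (φ ⟨F.y, F.y_mem_L⟩ = E.z 2 ∨ φ ⟨F.y, F.y_mem_L⟩ = E.z 2 * E.z 2) := by
  obtain ⟨E, hE⟩ := F.exists_recFrame_L
  have hzE : E.z 3 = F.LEquiv ⟨D.z, F.z_mem_L⟩ := Subtype.ext hE
  have m1 : ∀ {a b : G} (ha : a ∈ F.L) (hb : b ∈ F.L), Commute a b →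
      Commute (F.LEquiv ⟨a, ha⟩) (F.LEquiv ⟨b, hb⟩) := fun ha hb h =>
    (show Commute (⟨_, ha⟩ : F.L) ⟨_, hb⟩ from Subtype.ext h.eq).map F.LEquiv
  have p1 : ∀ {a : G} (ha : a ∈ F.L) (n : ℕ), F.LEquiv ⟨a, ha⟩ ^ n = 1 ↔ a ^ n = 1 := fun ha n => by
    rw [← map_pow, MulEquiv.map_eq_one_iff, Subtype.ext_iff]; rfl
  set s := F.LEquiv ⟨i2 D, F.i2_mem_L⟩ with hs
  obtain ⟨p, hp⟩ := conj_invol E (s := s) (by rw [← pow_two, p1, pow_two, i2_sq])
    (fun h => by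
      rw [← pow_one s, p1, pow_one] at h
      have h3 := D.t_acts.mul D.i1_block.acts
      rw [show D.t * D.i1 = i2 D from rfl, h] at h3
      exact (by decide +kernel : (((-1, -1) : Pr) * (-1, 1)).2 ≠ (1 : Pr).2) (congrArg Prod.snd (h3.unique acts_one)))
    (hzE ▸ m1 F.i2_mem_L F.z_mem_L (i2_quat.choose_spec.2.1.cz))
  set f := MulAut.conj (E.H p) with hf
  have hfz : f (E.z 3) = E.z 3 := by rw [hf, MulAut.conj_apply, (E.H_comm p).eq, mul_inv_cancel_right]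
  have m : ∀ {u v : commutator F.Fq}, Commute u v → Commute (f u) (f v) := fun h => h.map f.toMonoidHom
  -- the witness
  obtain ⟨R, hR, hR2⟩ := sl_i_four
  obtain ⟨r0, hr0⟩ := D.acts_lift (1, R) (by simp) hR
  obtain ⟨k, hr4, hr⟩ := quat_adjust hR hr0
  set r := r0 * D.zz k
  set w := F.τ * r * F.τ⁻¹ with hw
  have hwL : w ∈ F.L := F.τ_gen_mem_L (Or.inr ⟨R, hR, hr⟩)
  have hwy : Commute w F.y := by
    have := conj_comm F.τ hr.1.cz
    rw [F.τ_conj_z, ← hw] at this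
    exact Commute.inv_right_iff.mp this
  have hwi : Commute w (i2 D) := (F.τ_i2.mul_left (Quat.comm_i2 ⟨R, hR, hr⟩)).mul_left F.τ_i2.inv_left
  obtain ⟨c, hcz, hct, hc⟩ := conj_point E (b := f (F.LEquiv ⟨F.y, F.y_mem_L⟩)) (x := f (F.LEquiv ⟨w, hwL⟩))
    (by rw [← map_pow, (p1 F.y_mem_L 3).mpr F.y_cube, map_one])
    (hfz ▸ m (hzE ▸ m1 F.y_mem_L F.z_mem_L F.y_z))
    (hp ▸ m (m1 F.y_mem_L F.i2_mem_L (F.y_t.mul_right F.block_y.symm)))
    (fun hmem => by
      obtain ⟨n, hn⟩ := Subgroup.mem_zpowers_iff.1 hmem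
      have e0 : E.z 3 ^ n = F.LEquiv ⟨F.y, F.y_mem_L⟩ := f.injective (by rw [map_zpow, hfz, hn])
      rw [hzE, ← map_zpow] at e0
      have e : D.z ^ n = F.y := by simpa using congrArg Subtype.val (F.LEquiv.injective e0)
      exact F.y_not_Q (e ▸ Subgroup.zpow_mem _ (by have := D.zz_mem 1; rwa [D.zz_one] at this) n))
    (m (m1 hwL F.y_mem_L hwy)) (hp ▸ m (m1 hwL F.i2_mem_L hwi))
    (by rw [← map_pow, (p1 hwL 4).mpr (by rw [hw, conj_pow, hr4]; group), map_one])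
    (fun h => hR2 (by
      rw [← map_mul, MulEquiv.map_eq_one_iff, ← pow_two, p1, pow_two, hw,
        show F.τ * r * F.τ⁻¹ * (F.τ * r * F.τ⁻¹) = F.τ * (r * r) * F.τ⁻¹ by group, conj_eq_one_iff] at h
      have := (hr.mul hr).unique (h ▸ acts_one)
      simpa using congrArg Prod.snd this))
  refine ⟨E, F.LEquiv.trans (f.trans (MulAut.conj c)), ?_, ?_, hc⟩
  · show c * f (F.LEquiv ⟨D.z, F.z_mem_L⟩) * c⁻¹ = E.z 3
    rw [← hzE, hfz, hcz.eq, mul_inv_cancel_right]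
  · show c * (E.H p * s * (E.H p)⁻¹) * c⁻¹ = E.t
    rw [hp, hct.eq, mul_inv_cancel_right]

/-- The centraliser of the axis normalises the perfect group. -/
theorem L_conj {g : G} (hg : g ∈ F.CP) {x : G} (hx : x ∈ F.L) : g * x * g⁻¹ ∈ F.L := by
  set H := F.L.map (MulAut.conj g).toMonoidHom with hH
  have hP : H ≤ ⁅H, H⁆ := by
    rw [hH, ← Subgroup.map_commutator, F.L_perfect]
  suffices ⁅H, H⁆ ≤ F.L from this (hP ⟨x, hx, rfl⟩)
  rw [Subgroup.commutator_le]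
  have key : ∀ a ∈ H, ∃ l ∈ F.L, ∃ π ∈ F.P, a = l * π ∧ a ∈ F.CP := by
    rintro _ ⟨a, ha, rfl⟩
    have hc : g * a * g⁻¹ ∈ F.CP := mul_mem (mul_mem hg (F.L_le_CP ha)) (inv_mem hg)
    have h1 : F.pr ⟨g * a * g⁻¹, hc⟩ ∈ commutator F.Fq := by
      have := (inferInstance : (commutator F.Fq).Normal).conj_mem _ (F.range_prL ▸ ⟨⟨a, ha⟩, rfl⟩ : F.prL ⟨a, ha⟩ ∈
        commutator F.Fq) (F.pr ⟨g, hg⟩)
      rwa [F.prL_apply, ← map_inv, ← map_mul, ← map_mul] at this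
    rw [← F.range_prL] at h1
    obtain ⟨l, hl⟩ := h1
    rw [F.prL_apply] at hl
    exact ⟨l, l.2, _, F.pr_eq.mp hl, (mul_inv_cancel_left _ _).symm, hc⟩
  intro a ha b hb
  obtain ⟨l, hl, π, hπ, rfl, -⟩ := key a ha
  obtain ⟨l', hl', π', hπ', rfl, -⟩ := key b hb
  have hc : ∀ {u q : G}, u ∈ F.L → q ∈ F.P → Commute u q := fun hu hq => F.mem_CP.mp (F.L_le_CP hu) _ hq
  have hcP : Commute π π' := F.mem_CP.mp (F.P_le_CP hπ) _ hπ'
  have e : ⁅l * π, l' * π'⁆ = ⁅l, l'⁆ := by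
    rw [commutatorElement_def, commutatorElement_def]
    calc l * π * (l' * π') * (l * π)⁻¹ * (l' * π')⁻¹
        = l * (π * l') * π' * π⁻¹ * l⁻¹ * π'⁻¹ * l'⁻¹ := by group
      _ = l * l' * (π * π') * π⁻¹ * l⁻¹ * π'⁻¹ * l'⁻¹ := by rw [← (hc hl' hπ).eq]; group
      _ = l * l' * (π' * l⁻¹) * π'⁻¹ * l'⁻¹ := by rw [hcP.eq]; group
      _ = _ := by rw [← (hc hl hπ').inv_left.eq]; group
  rw [e, commutatorElement_def]
  exact mul_mem (mul_mem (mul_mem hl hl') (inv_mem hl)) (inv_mem hl')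

/-- The group generated by the quaternion groups at the two points. -/
noncomputable def W2 : Subgroup G :=
  Subgroup.closure {x | x ∈ F.L ∧ x ^ 4 = 1 ∧ Commute x (i2 D) ∧ (Commute x D.z ∨ Commute x F.y)}

theorem W2_le_L : F.W2 ≤ F.L := (Subgroup.closure_le _).2 fun _ h => h.1

theorem mem_zy {v : V4} (hv : v.2.1 = 0 ∧ v.2.2.1 = 0) (hp : D.IsPt (F.jel v)) :
    (∃ k : ZMod 3, k ≠ 0 ∧ F.jel v = D.zz k) ∨ ∃ j : ZMod 3, j ≠ 0 ∧ F.jel v = F.y ^ j.val := by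
  obtain ⟨hq, hne⟩ := (F.isPt_jel v).mp hp
  obtain ⟨k, i, l, j⟩ := v
  obtain ⟨rfl, rfl⟩ : i = 0 ∧ l = 0 := hv
  simp only [qJ, mul_zero, add_zero] at hq
  rcases mul_eq_zero.mp hq with rfl | rfl
  · exact Or.inr ⟨j, fun h => hne (by rw [h]; rfl), F.jel_ypow j⟩
  · exact Or.inl ⟨k, fun h => hne (by rw [h]; rfl), F.jel_zpow k⟩

/-- Centralising the axis and the involution, one normalises the group of the quaternion groups. -/
theorem levi_norm_W {g : G} (hg : g ∈ F.CP) (hgi : Commute g (i2 D)) {x : G} (hx : x ∈ F.W2) :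
    g * x * g⁻¹ ∈ F.W2 := by
  obtain ⟨E, φ, hz, hi, hy⟩ := F.exists_model
  have hCP : ∀ {a : G}, a ∈ F.L → g * a * g⁻¹ ∈ F.L := fun h => F.L_conj hg h
  have hzi : Commute D.z (i2 D) := (i2_quat.choose_spec.2.1.cz).symm
  have hyi : Commute F.y (i2 D) := F.y_t.mul_right F.block_y.symm
  set iL : F.L := ⟨i2 D, F.i2_mem_L⟩
  set zL : F.L := ⟨D.z, F.z_mem_L⟩
  set yL : F.L := ⟨F.y, F.y_mem_L⟩
  set a : F.L := ⟨g * D.z * g⁻¹, hCP F.z_mem_L⟩
  set b : F.L := ⟨g * F.y * g⁻¹, hCP F.y_mem_L⟩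
  have cm : ∀ {u v : F.L}, Commute (u : G) v → Commute (φ u) (φ v) := fun h =>
    (show Commute _ _ from Subtype.ext h.eq).map φ
  have cm' : ∀ {u v : F.L}, Commute (φ u) (φ v) → Commute (u : G) v := fun {u v} h =>
    (show Commute u v from φ.injective (by rw [map_mul, map_mul]; exact h.eq)).map F.L.subtype
  have p3 : ∀ {u : F.L}, (u : G) ^ 3 = 1 → φ u ^ 3 = 1 := fun {u} h => by
    rw [← map_pow, show u ^ 3 = 1 from Subtype.ext h, map_one]
  obtain ⟨h, hh, ha, hb⟩ := conj_pair E (a := φ a) (b := φ b)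
    (hi ▸ cm (v := iL) ((hgi.mul_left hzi).mul_left hgi.inv_left))
    (hi ▸ cm (v := iL) ((hgi.mul_left hyi).mul_left hgi.inv_left))
    (p3 (by show (g * D.z * g⁻¹) ^ 3 = 1; rw [conj_pow, D.z_cube]; group))
    (p3 (by show (g * F.y * g⁻¹) ^ 3 = 1; rw [conj_pow, F.y_cube]; group))
    (cm (conj_comm g F.y_z.symm))
  obtain ⟨h0, rfl⟩ := φ.surjective h
  rw [← hi] at hh
  have hh' : Commute (h0 : G) (i2 D) := cm' hh
  -- the conjugation by the element preserves the generated group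
  have step : ∀ u ∈ F.W2, (h0 : G)⁻¹ * u * h0 ∈ F.W2 := by
    intro u hu
    have hWr : ∀ v : F.L, (v : G) ∈ F.W2 → φ v ∈ recW E := by
      suffices F.W2 ≤ ((recW E).comap φ.toMonoidHom).map F.L.subtype by
        intro v hv
        obtain ⟨v', hv', e⟩ := this hv
        exact (Subtype.ext e : v' = v) ▸ hv'
      refine (Subgroup.closure_le _).2 fun v ⟨hL, h4, hvi, hvz⟩ => ⟨⟨v, hL⟩, ?_, rfl⟩
      refine Subgroup.subset_closure ⟨?_, hi ▸ cm (v := iL) hvi, ?_⟩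
      · show φ ⟨v, hL⟩ ^ 4 = 1
        rw [← map_pow, show (⟨v, hL⟩ : F.L) ^ 4 = 1 from Subtype.ext h4, map_one]
      · rcases hvz with h | h
        · exact Or.inl (hz ▸ cm (v := zL) h)
        · have h2 := cm (u := ⟨v, hL⟩) (v := yL) h
          refine Or.inr ?_
          rcases hy with e | e <;> rw [show φ yL = _ from e] at h2
          · exact h2
          · have h3 := h2.mul_right h2
            rwa [← pow_two (E.z 2), ← pow_add, pow_succ, E.cube, one_mul] at h3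
    have hrW : ∀ r ∈ recW E, ((φ.symm r : F.L) : G) ∈ F.W2 := by
      suffices recW E ≤ (F.W2.subgroupOf F.L).comap φ.symm.toMonoidHom from fun r hr => this hr
      refine (Subgroup.closure_le _).2 fun r ⟨h4, hri, hrz⟩ => ?_
      obtain ⟨v, rfl⟩ := φ.surjective r
      show ((φ.symm (φ v) : F.L) : G) ∈ F.W2
      rw [MulEquiv.symm_apply_apply]
      refine Subgroup.subset_closure ⟨v.2, ?_, cm' (v := iL) (hi ▸ hri), ?_⟩
      · rw [← map_pow, MulEquiv.map_eq_one_iff] at h4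
        exact congrArg Subtype.val h4
      · rcases hrz with h | h
        · exact Or.inl (cm' (v := zL) (hz ▸ h))
        · refine Or.inr (cm' (v := yL) ?_)
          rcases hy with e | e <;> rw [show φ yL = _ from e]
          · exact h
          · exact h.mul_right h
    have := recW_normal E ((hi ▸ hh : Commute (φ h0) E.t).inv_left) (hWr ⟨u, F.W2_le_L hu⟩ hu)
    rw [inv_inv, ← map_inv, ← map_mul, ← map_mul] at this
    have := hrW _ this
    rwa [MulEquiv.symm_apply_apply] at this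
  -- the corrected element
  obtain ⟨g', hg'⟩ : ∃ g', g' = (h0 : G) * g := ⟨_, rfl⟩
  have hpt : ∀ u : F.L, (∃ i j : ZMod 3, φ h0 * φ u * (φ h0)⁻¹ = E.z 2 ^ i.val * E.z 3 ^ j.val) →
      ∃ v : V4, (v.2.1 = 0 ∧ v.2.2.1 = 0) ∧ (h0 : G) * u * (h0 : G)⁻¹ = F.jel v := by
    rintro u ⟨i, j, e1⟩
    obtain ⟨i', hi'⟩ : ∃ i' : ZMod 3, E.z 2 ^ i.val = φ yL ^ i'.val := by
      rcases hy with e | e
      · exact ⟨i, by rw [show φ yL = _ from e]⟩
      · refine ⟨2 * i, ?_⟩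
        rw [show φ yL = _ from e, ← pow_two, ← pow_mul, pow_eq_pow_mod (2 * _) (E.cube 2),
          (by decide : ∀ i : ZMod 3, 2 * (2 * i).val % 3 = i.val) i]
    rw [← map_inv, ← map_mul, ← map_mul, hi', ← hz, ← map_pow, ← map_pow, ← map_mul] at e1
    refine ⟨(j, 0, 0, i'), ⟨rfl, rfl⟩, ?_⟩
    rw [show ((j, 0, 0, i') : V4) = (0, 0, 0, i') + (j, 0, 0, 0) by simp, F.jel_add, F.jel_ypow, F.jel_zpow]
    exact congrArg Subtype.val (φ.injective e1)
  have e0 : ∀ w : G, g' * w * g'⁻¹ = (h0 : G) * (g * w * g⁻¹) * (h0 : G)⁻¹ := fun w => by rw [hg']; group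
  -- both points go to points of the pair
  have hpts : ∀ p : G, (∃ v : V4, (v.2.1 = 0 ∧ v.2.2.1 = 0) ∧ g' * p * g'⁻¹ = F.jel v) → D.IsPt p →
      ∀ u : G, Commute u p → Commute (g' * u * g'⁻¹) D.z ∨ Commute (g' * u * g'⁻¹) F.y := by
    rintro p ⟨v, hv, e⟩ hp u hu
    have h1 := conj_comm g' hu
    have h2 : D.IsPt (F.jel v) := e ▸ IsPt.conj (D := D) hp g'
    rw [e] at h1
    rcases F.mem_zy hv h2 with ⟨k, hk, ev⟩ | ⟨l, hl, ev⟩ <;> rw [ev] at h1
    · exact Or.inl (commute_zk hk h1)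
    · refine Or.inr ?_
      rcases (by decide : ∀ l : ZMod 3, l ≠ 0 → l = 1 ∨ l = 2) l hl with rfl | rfl
      · rwa [show (1 : ZMod 3).val = 1 from rfl, pow_one] at h1
      · rw [show (2 : ZMod 3).val = 2 from rfl] at h1
        have h3 := h1.mul_right h1
        rwa [← pow_add, pow_succ, F.y_cube, one_mul] at h3
  have hg'i : Commute g' (i2 D) := hg' ▸ hh'.mul_left hgi
  have hg'L : ∀ u ∈ F.L, g' * u * g'⁻¹ ∈ F.L := fun u hu => by
    rw [e0]; exact mul_mem (mul_mem h0.2 (hCP hu)) (inv_mem h0.2)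
  have hgen : ∀ u ∈ F.W2, g' * u * g'⁻¹ ∈ F.W2 := by
    suffices F.W2 ≤ F.W2.comap (MulAut.conj g').toMonoidHom from fun u hu => this hu
    refine (Subgroup.closure_le _).2 fun u ⟨hL, h4, hui, huz⟩ => ?_
    refine Subgroup.subset_closure ⟨hg'L u hL, ?_, (hg'i.mul_left hui).mul_left hg'i.inv_left, ?_⟩
    · show (g' * u * g'⁻¹) ^ 4 = 1
      rw [conj_pow, h4]; group
    · rcases huz with hu | hu
      · exact hpts D.z (by rw [e0]; exact hpt a ha) ⟨1, Or.inl (by group)⟩ u hu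
      · exact hpts F.y (by rw [e0]; exact hpt b hb) F.pt u hu
  have := step _ (hgen x hx)
  rw [hg'] at this
  convert this using 1
  group

end Setting.Base

end CfsgLib.U6Three
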