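import Mathlib.LinearAlgebra.Matrix.SpecialLinearGroup
import Mathlib.Data.ZMod.Basic
import Mathlib.Tactic

/-!
The model of the quotient of an extraspecial group of order 243 by its centre as two planes over three elements,
with the symplectic form and the block actions.
-/

set_option autoImplicit false

namespace CfsgLib.U6Three

/-- A plane over three elements. -/
abbrev V2 := ZMod 3 × ZMod 3

/-- Two planes. -/
abbrev W4 := V2 × V2

/-- The special linear group of degree two over three elements. -/
abbrev SL23 := Matrix.SpecialLinearGroup (Fin 2) (ZMod 3)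

/-- A pair of block matrices. -/
abbrev Pr := SL23 × SL23

/-- The form on a plane. -/
def det2 (a b : V2) : ZMod 3 := a.1 * b.2 - a.2 * b.1

/-- The form on two planes. -/
def om (v w : W4) : ZMod 3 := det2 v.1 w.1 + det2 v.2 w.2

/-- A matrix applied to a vector. -/
def app2 (g : SL23) (v : V2) : V2 := (g.1 0 0 * v.1 + g.1 0 1 * v.2, g.1 1 0 * v.1 + g.1 1 1 * v.2)

/-- A pair of matrices applied to a vector. -/
def appP (g : Pr) (v : W4) : W4 := (app2 g.1 v.1, app2 g.2 v.2)

/-- Exchanging the blocks. -/
def swapW (v : W4) : W4 := (v.2, v.1)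

/-- The unipotent matrix. -/
def mU : SL23 := ⟨!![1, 1; 0, 1], by decide⟩

/-- The first coordinate vector of the first plane. -/
def ea1 : W4 := ((1, 0), (0, 0))

/-- The first coordinate vector of the second plane. -/
def ea2 : W4 := ((0, 0), (1, 0))

/-- The second coordinate vector of the first plane. -/
def eb1 : W4 := ((0, 1), (0, 0))

/-- The second coordinate vector of the second plane. -/
def eb2 : W4 := ((0, 0), (0, 1))

theorem app2_one (v : V2) : app2 1 v = v := by simp [app2]

theorem app2_mul (g h : SL23) (v : V2) : app2 (g * h) v = app2 g (app2 h v) := by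
  simp only [app2, Matrix.SpecialLinearGroup.coe_mul, Matrix.mul_apply, Fin.sum_univ_two]
  ext <;> simp only [] <;> ring

theorem app2_add (g : SL23) (v w : V2) : app2 g (v + w) = app2 g v + app2 g w := by
  simp only [app2, Prod.fst_add, Prod.snd_add, Prod.mk_add_mk]
  ext <;> simp only [] <;> ring

theorem appP_one (v : W4) : appP 1 v = v := by simp [appP, app2_one]

theorem appP_mul (g h : Pr) (v : W4) : appP (g * h) v = appP g (appP h v) := by
  simp [appP, app2_mul]

theorem appP_add (g : Pr) (v w : W4) : appP g (v + w) = appP g v + appP g w := by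
  simp [appP, app2_add]

theorem app2_det : ∀ g : SL23, ∀ v w : V2, det2 (app2 g v) (app2 g w) = det2 v w := by decide +kernel

theorem app2_inj : ∀ g h : SL23, app2 g (1, 0) = app2 h (1, 0) → app2 g (0, 1) = app2 h (0, 1) → g = h := by
  decide +kernel

theorem app2_exists : ∀ a b : V2, det2 a b = 1 → ∃ g : SL23, app2 g (1, 0) = a ∧ app2 g (0, 1) = b := by
  decide +kernel

theorem appP_om (g : Pr) (v w : W4) : om (appP g v) (appP g w) = om v w := by
  simp [om, appP, app2_det]

theorem appP_inj {g h : Pr} (e : ∀ v, appP g v = appP h v) : g = h :=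
  Prod.ext (app2_inj _ _ (congrArg Prod.fst (e ea1)) (congrArg Prod.fst (e eb1)))
    (app2_inj _ _ (congrArg Prod.snd (e ea2)) (congrArg Prod.snd (e eb2)))

theorem swapW_swapW (v : W4) : swapW (swapW v) = v := rfl

theorem swapW_add (v w : W4) : swapW (v + w) = swapW v + swapW w := rfl

theorem swapW_om (v w : W4) : om (swapW v) (swapW w) = om v w := by
  simp [om, swapW, add_comm]

theorem swapW_appP (g : Pr) (v : W4) : swapW (appP g v) = appP (g.2, g.1) (swapW v) := rfl

theorem W4_split : ∀ v : W4, v = (v.1, (0, 0)) + ((0, 0), v.2) := by decide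

theorem om_add_left (u v w : W4) : om (u + v) w = om u w + om v w := by
  simp only [om, det2, Prod.fst_add, Prod.snd_add]; ring

theorem om_add_right (u v w : W4) : om u (v + w) = om u v + om u w := by
  simp only [om, det2, Prod.fst_add, Prod.snd_add]; ring

theorem om_neg_left (u w : W4) : om (-u) w = -om u w := by
  simp only [om, det2, Prod.fst_neg, Prod.snd_neg]; ring

theorem om_neg_right (u w : W4) : om u (-w) = -om u w := by
  simp only [om, det2, Prod.fst_neg, Prod.snd_neg]; ring

theorem om_self (u : W4) : om u u = 0 := by simp only [om, det2]; ring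

theorem om_swap (u v : W4) : om v u = -om u v := by simp only [om, det2]; ring

theorem om_nondeg : ∀ v : W4, v ≠ 0 → ∃ w, om v w ≠ 0 := by decide +kernel

theorem W4_three : ∀ v : W4, v + v + v = 0 := by decide

theorem W4_half : ∀ v : W4, -v + -v = v := by decide

/-- Three-elements of the matrix group generating a three-group commute. -/
theorem sl_comm_three : ∀ A B : SL23, A * A * A = 1 → B * B * B = 1 →
    (A * B * A⁻¹ * B⁻¹) * (A * B * A⁻¹ * B⁻¹) * (A * B * A⁻¹ * B⁻¹) = 1 → A * B = B * A := by decide +kernel

/-- Commuting with a nontrivial three-element. -/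
theorem sl_cent_three : ∀ B : SL23, B * mU = mU * B → B * B * B = 1 → B = 1 ∨ B = mU ∨ B = mU * mU := by
  decide +kernel

/-- A three-element fixing a nonzero vector. -/
theorem sl_fix_vec : ∀ B : SL23, app2 B (1, 0) = (1, 0) → B = 1 ∨ B = mU ∨ B = mU * mU := by decide +kernel

theorem mU_cube : mU * (mU * mU) = 1 ∧ mU ≠ 1 ∧ mU * mU ≠ 1 ∧ mU * mU ≠ mU ∧ mU⁻¹ = mU * mU := by decide +kernel

/-- Every element of order three is conjugate to the unipotent matrix or its square by an element of order
dividing four. -/
theorem sl_to_mU : ∀ A : SL23, A * A * A = 1 → A = 1 ∨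
    ∃ R : SL23, R * R * (R * R) = 1 ∧ (R * A * R⁻¹ = mU ∨ R * A * R⁻¹ = mU * mU) := by decide +kernel

/-- The nonzero vectors are conjugate under elements of order dividing four. -/
theorem sl_vec : ∀ v : V2, v ≠ 0 → ∃ R : SL23, R * R * (R * R) = 1 ∧ app2 R v = (1, 0) := by decide +kernel

end CfsgLib.U6Three
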