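import Cfsg.Agent.Lib.U6Three.FivePoint
import Cfsg.Agent.Lib.U6Three.FiveSet

/-!
The normaliser of the product stabilises the scalar rotation.
-/

set_option autoImplicit false
set_option linter.style.haveILetI false
set_option synthInstance.maxSize 1024

namespace CfsgLib.U6Three

universe u

theorem sl_twenty_four : ∀ A : SL23, A ^ 24 = 1 := by decide +kernel

theorem prime_small {p : ℕ} (hp : p.Prime) (h5 : 5 ≤ p) : ¬ p ∣ 144 ∧ ¬ p ∣ 32 ∧ ¬ p ∣ 8 ∧ p.Coprime 144 := by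
  have h : ∀ n a b : ℕ, n = 2 ^ a * 3 ^ b → ¬ p ∣ n := by
    rintro n a b rfl hd
    rcases hp.dvd_mul.mp hd with h | h
    · have := Nat.le_of_dvd (by norm_num) (hp.dvd_of_dvd_pow h); omega
    · have := Nat.le_of_dvd (by norm_num) (hp.dvd_of_dvd_pow h); omega
  exact ⟨h _ 4 2 rfl, h _ 5 0 rfl, h _ 3 0 rfl, (hp.coprime_iff_not_dvd).mpr (h _ 4 2 rfl)⟩

namespace Setting

variable {G : Type u} [Group G] {D : Setting G}

theorem big_prime_cent {g : G} (hz : Commute g D.z) {p : ℕ} (hp : p.Prime) (h5 : 5 ≤ p) (h : g ^ p = 1) : g = 1 := by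
  obtain ⟨u, s, q, e, hs⟩ := D.cases_H hz
  obtain ⟨q2, hq2⟩ : ∃ q2, D.MA (g * g) q2 := by
    rcases hs with hs | hs
    · exact ⟨_, (show D.MA g q from ⟨u, s, e, hs⟩).mul ⟨u, s, e, hs⟩⟩
    · exact ⟨_, (show D.MS g q from ⟨u, s, e, hs⟩).mul_MS ⟨u, s, e, hs⟩⟩
  have h1 := hq2.pow 24
  rw [show q2 ^ 24 = 1 from Prod.ext (by rw [Prod.pow_fst]; exact sl_twenty_four _)
    (by rw [Prod.pow_snd]; exact sl_twenty_four _)] at h1
  have h3 := D.Q_cube h1.mem_Q
  rw [← pow_two, ← pow_mul, ← pow_mul] at h3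
  exact orderOf_eq_one_iff.mp (Nat.eq_one_of_dvd_coprimes (prime_small hp h5).2.2.2 (orderOf_dvd_of_pow_eq_one h)
    (orderOf_dvd_of_pow_eq_one h3))

namespace Base

variable (F : D.Base) [Finite G]

theorem C1_big_prime {x : G} (hx : x ∈ F.C1) {p : ℕ} (hp : p.Prime) (h5 : 5 ≤ p) (h : x ^ p = 1) : x = 1 := by
  have hn : NZ (D := D) ≤ Subgroup.normalizer (F.K : Set G) := fun _ h => (F.NZ_le_N h).2
  have hx' := hx
  rw [C1, ← SetLike.mem_coe, Subgroup.coe_mul_of_left_le_normalizer_right _ _ hn] at hx'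
  obtain ⟨n, hn', k, hk, e⟩ := hx'
  have hnN := F.NZ_le_N hn'
  have hpow : ∀ m : ℕ, (n ^ m)⁻¹ * x ^ m ∈ F.K := by
    intro m
    induction m with
    | zero => simp
    | succ m ih =>
      have h1 := F.N_conj_K (inv_mem hnN) ih
      rw [inv_inv] at h1
      have h2 : (n ^ (m + 1))⁻¹ * x ^ (m + 1) = n⁻¹ * ((n ^ m)⁻¹ * x ^ m) * n * k := by
        rw [pow_succ n, pow_succ x, ← e]; group
      rw [h2]
      exact mul_mem h1 hk
  have hnK : n ^ p ∈ F.K := by
    have := hpow p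
    rw [h, mul_one] at this
    exact inv_mem_iff.mp this
  have hnz : Commute (n * n) D.z := by
    refine mul_inv_eq_iff_eq_mul.mp ?_
    rw [show n * n * D.z * (n * n)⁻¹ = n * (n * D.z * n⁻¹) * n⁻¹ by group]
    rcases (show n ∈ NZ (D := D) from hn').2 with e | e
    · rw [e, e]
    · rw [e, ← conj_inv, e, inv_inv]
  have h2p : (n * n) ^ p ∈ D.R1 := by
    refine F.K_cent_z ?_ (hnz.pow_left p)
    rw [(Commute.refl n).mul_pow]
    exact mul_mem hnK hnK
  have h8 : n ^ 8 = 1 := by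
    refine big_prime_cent (D := D) (g := n ^ 8) ?_ hp h5 ?_
    · rw [show 8 = 2 * 4 from rfl, pow_mul, pow_two]
      exact hnz.pow_left 4
    · have := (mem_R1_def.mp h2p).1
      rw [← pow_two, ← pow_mul, ← pow_mul] at this
      rw [← pow_mul, show 8 * p = 2 * (p * 4) by ring, this]
  have h32 : x ^ 32 = 1 := by
    have := hpow 8
    rw [h8, inv_one, one_mul] at this
    rw [show 32 = 8 * 4 from rfl, pow_mul]
    exact F.K_four this
  exact orderOf_eq_one_iff.mp (Nat.eq_one_of_dvd_coprimes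
    ((hp.coprime_iff_not_dvd).mpr (prime_small hp h5).2.1) (orderOf_dvd_of_pow_eq_one h) (orderOf_dvd_of_pow_eq_one h32))

theorem card_C1_prime {p : ℕ} (hp : p.Prime) (h5 : 5 ≤ p) : ¬ p ∣ Nat.card F.C1 := by
  intro h
  haveI : Fact p.Prime := ⟨hp⟩
  obtain ⟨x, hx⟩ := exists_prime_orderOf_dvd_card' p h
  have h1 : (x : G) = 1 := F.C1_big_prime x.2 hp h5 (by
    have := pow_orderOf_eq_one x
    rw [hx] at this
    exact congrArg Subtype.val this)
  rw [show x = 1 from Subtype.ext h1, orderOf_one] at hx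
  exact hp.one_lt.ne hx

theorem card_XS : Nat.card F.XS = Nat.card F.C1 * 40 := by
  rw [← (F.C1.subgroupOf F.XS).card_mul_index, Nat.card_congr (Subgroup.subgroupOfEquivOfLe F.C1_le_XS).toEquiv]
  exact congrArg _ F.relIndex_C1

theorem L_le_XS : F.L ≤ F.XS := by
  rw [L, Subgroup.closure_le]
  have key : ∀ {x : G}, x ∈ BGen D → x ∈ F.XS := fun hx =>
    F.cent_z_XS (mem_Mi.mpr (BGen.comm_i1 hx)) (BGen.comm_z hx)
  rintro _ (hx | ⟨x, hx, rfl⟩)
  · exact key hx
  · exact mul_mem (mul_mem F.τ_XS (key hx)) (inv_mem F.τ_XS)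

theorem free_XS {a : G} (ha : a ∈ F.N) {e : G} (he : e ∈ Qm (D := D)) (hne : e ≠ 1) (h : a⁻¹ * e * a ∈ F.XS) :
    a ∈ F.XS := by
  obtain ⟨c, hc, hcz, hw⟩ := good_Qm he hne
  have hcX := F.cent_z_XS hc hcz
  have hM : (c * a)⁻¹ ∈ Mi (D := D) := inv_mem (mul_mem hc (F.N_le_Mi ha))
  have hmem : (c * a)⁻¹ * (c * e * c⁻¹) * (c * a)⁻¹⁻¹ ∈ F.XS := by
    rwa [show (c * a)⁻¹ * (c * e * c⁻¹) * (c * a)⁻¹⁻¹ = a⁻¹ * e * a by group]
  have h2 : (c * a)⁻¹ ∈ F.XS := by
    rcases hw with (hw | hw) | hw <;> rw [hw] at hmem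
    · exact F.XS_z_fusion hM hmem
    · refine F.XS_z_fusion hM ?_
      have := inv_mem hmem
      rwa [← conj_inv, inv_inv] at this
    · exact F.XS_a2_fusion hM hmem
  have := mul_mem (inv_mem hcX) (inv_mem h2)
  rwa [inv_inv, inv_mul_cancel_left] at this

/-- The pure element rotates all components. -/
theorem s0_facts (hB : D.caseB) : F.s0 ∈ F.N ∧ ∀ v, F.na F.s0 v = sg v := by
  have hs := F.s0_acts hB
  obtain ⟨hU, hτ, hb⟩ := F.mem_P.mp F.s0_mem_P
  have hi : Commute F.s0 D.i1 := (nine_block_comm hs).symm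
  have hsN : F.s0 ∈ F.N := F.UM_le_N (F.mem_UM.mpr ⟨hU, hi⟩)
  refine ⟨hsN, ?_⟩
  have hz := F.U_z hU
  have hth : th ((mU, (1 : SL23)) : Pr).1 = 1 := th_facts.1
  have hR : ∀ a, F.na F.s0 (emb none a) = emb none (rotn 1 a) := fun a => by
    obtain ⟨r, hr, rfl⟩ := cR_surj (D := D) a
    rw [← F.R1_emb hr, F.na_kap hsN (F.R1_le_K hr), F.R1_emb (R1_normal hz hi hr), cR_conj hz hi hs.ma r hr, hth]
  have hB' : ∀ b a, F.na F.s0 (emb (some b) a) = emb (some b) (rotn 1 a) := fun b a => by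
    obtain ⟨x, hx, rfl⟩ := F.cB_surj b a
    have hfr : Commute F.s0 (F.fr b) := by
      refine Commute.mul_right ?_ hτ
      rw [trb, show (((0, 0), (0, b)) : W4) = b • wb2 by simp [wb2], D.q_smul]
      exact hb.pow_right _
    have hk : (F.fr b)⁻¹ * (F.s0 * x * F.s0⁻¹) * F.fr b = F.s0 * ((F.fr b)⁻¹ * x * F.fr b) * F.s0⁻¹ := by
      calc (F.fr b)⁻¹ * (F.s0 * x * F.s0⁻¹) * F.fr b
          = ((F.fr b)⁻¹ * F.s0) * x * (F.s0⁻¹ * F.fr b) := by group
        _ = (F.s0 * (F.fr b)⁻¹) * x * (F.fr b * F.s0⁻¹) := by rw [hfr.inv_right.eq, hfr.inv_left.eq]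
        _ = _ := by group
    have hmem : F.s0 * x * F.s0⁻¹ ∈ F.Rb b := by
      refine F.mem_Rb.mpr ⟨_, R1_normal hz hi (F.pull_Rb hx), ?_⟩
      rw [← hk]; group
    rw [← F.Rb_emb hx, F.na_kap hsN (F.Rb_le_K b hx), F.Rb_emb hmem, cB, cB, hk,
      cR_conj hz hi hs.ma _ (F.pull_Rb hx), hth]
  intro v
  rw [emb_split v]
  simp only [F.na_add hsN, sg_add, hR, hB', sg_emb]

theorem cent_s0_XS (hB : D.caseB) {g : G} (hg : g ∈ F.N) (hc : Commute g F.s0) : g ∈ F.XS := by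
  obtain ⟨hsN, hs⟩ := F.s0_facts hB
  exact ⟨hg, Or.inl fun v => by rw [← hs, ← hs, ← F.na_mul hg hsN, ← F.na_mul hsN hg, hc.eq]⟩

/-- The pure element fixes only one coset. -/
theorem s0_fusion (hB : D.caseB) {a : G} (ha : a ∈ F.N) (h : a⁻¹ * F.s0 * a ∈ F.XS) : a ∈ F.XS := by
  obtain ⟨hsN, -⟩ := F.s0_facts hB
  have h3 : (a⁻¹ * F.s0 * a) ^ 3 = 1 := by
    have := conj_pow (a := a⁻¹) (b := F.s0) (i := 3)
    rw [inv_inv] at this
    rw [this, F.s0_cube]; group
  obtain ⟨h', hh, hc⟩ := F.cent_sylow (F.XS_le_N.trans F.N_le_Mi) (fun g hg hz => F.cent_z_XS hg hz) h h3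
  have hg' : a * h'⁻¹ ∈ F.N := mul_mem ha (inv_mem (F.XS_le_N hh))
  have hcs : Commute (a * h'⁻¹ * D.z * (a * h'⁻¹)⁻¹) F.s0 := by
    have := conj_comm (a * h'⁻¹) hc.symm
    rwa [show a * h'⁻¹ * (h' * (a⁻¹ * F.s0 * a) * h'⁻¹) * (a * h'⁻¹)⁻¹ = F.s0 by group] at this
  have h2 := F.XS_z_fusion (F.N_le_Mi hg')
    (F.cent_s0_XS hB (mul_mem (mul_mem hg' (F.UM_le_N F.z_mem_UM)) (inv_mem hg')) hcs)
  have := mul_mem h2 hh
  rwa [inv_mul_cancel_right] at this

theorem not_twenty_eight : F.XS.relIndex F.N ≠ 28 := by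
  classical
  intro hidx
  haveI : Fact (Nat.Prime 5) := ⟨by norm_num⟩
  haveI : Fact (Nat.Prime 3) := ⟨Nat.prime_three⟩
  obtain ⟨g0, hg0⟩ := exists_prime_orderOf_dvd_card' (G := F.L) 5 (by rw [F.card_L]; norm_num)
  have hg5 : orderOf (g0 : G) = 5 := by rw [Subgroup.orderOf_coe]; exact hg0
  let gA : F.N := ⟨g0, F.L_le_N g0.2⟩
  let X' : Subgroup F.N := F.XS.subgroupOf F.N
  have hgX : gA ∈ X' := F.L_le_XS g0.2
  have hg5' : orderOf gA = 5 := by rw [← Subgroup.orderOf_coe]; exact hg5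
  have hcard : Nat.card X' = Nat.card F.C1 * 40 := by
    rw [Nat.card_congr (Subgroup.subgroupOfEquivOfLe F.XS_le_N).toEquiv, F.card_XS]
  have h25 : ¬ 25 ∣ Nat.card X' := by
    rw [hcard]
    rintro ⟨k, hk⟩
    have h : 5 ∣ Nat.card F.C1 * 8 := ⟨k, by omega⟩
    rcases (show Nat.Prime 5 by norm_num).dvd_mul.mp h with h | h
    · exact F.card_C1_prime (by norm_num) le_rfl h
    · omega
  have hp : ∀ p ∈ [7, 13, 23], ¬ p ∣ Nat.card X' := by
    intro p hp h
    rw [hcard] at h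
    simp only [List.mem_cons, List.not_mem_nil, or_false] at hp
    rcases hp with rfl | rfl | rfl
    all_goals
      rcases (Nat.Prime.dvd_mul (by norm_num)).mp h with h | h
      · exact F.card_C1_prime (by norm_num) (by norm_num) h
      · omega
  let P' : Subgroup F.N := (Qm (D := D)).subgroupOf F.N
  have hQX : Qm (D := D) ≤ F.XS := F.Qm_le_C1.trans F.C1_le_XS
  have hP : Nat.card P' = 27 := by
    rw [Nat.card_congr (Subgroup.subgroupOfEquivOfLe (hQX.trans F.XS_le_N)).toEquiv, card_Qm]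
  have hmove : ∃ a : F.N, a⁻¹ * gA * a ∉ X' := by
    by_contra hall
    simp only [not_exists, not_not] at hall
    -- the elements with all conjugates in the stabiliser
    let S : Subgroup G :=
      { carrier := {w | ∀ a ∈ F.N, a⁻¹ * w * a ∈ F.XS}
        one_mem' := fun a _ => by simp
        mul_mem' := fun {x y} hx hy a ha => by
          rw [show a⁻¹ * (x * y) * a = (a⁻¹ * x * a) * (a⁻¹ * y * a) by group]
          exact mul_mem (hx a ha) (hy a ha)
        inv_mem' := fun {x} hx a ha => by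
          rw [show a⁻¹ * x⁻¹ * a = (a⁻¹ * x * a)⁻¹ by group]
          exact inv_mem (hx a ha) }
    haveI := F.simple_L
    have hn : (S.subgroupOf F.L).Normal := ⟨fun w hw l a ha => by
      have := hw ((l : G)⁻¹ * a) (mul_mem (inv_mem (F.L_le_N l.2)) ha)
      show a⁻¹ * ((l * w * l⁻¹ : F.L) : G) * a ∈ F.XS
      simp only [Subgroup.coe_subtype] at this
      rwa [show ((l : G)⁻¹ * a)⁻¹ * (w : G) * ((l : G)⁻¹ * a) = a⁻¹ * ((l * w * l⁻¹ : F.L) : G) * a by
        simp only [Subgroup.coe_mul, InvMemClass.coe_inv]; group] at this⟩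
    have hgS : g0 ∈ S.subgroupOf F.L := fun a ha => hall ⟨a, ha⟩
    rcases IsSimpleGroup.eq_bot_or_eq_top_of_normal _ hn with hS | hS
    · rw [hS, Subgroup.mem_bot] at hgS
      rw [hgS, orderOf_one] at hg0
      omega
    · have hzS : D.z ∈ S := by
        have : (⟨D.z, F.z_mem_L⟩ : F.L) ∈ S.subgroupOf F.L := hS ▸ Subgroup.mem_top _
        exact this
      have hle : F.N ≤ F.XS := fun a ha => F.XS_z_fusion (F.N_le_Mi ha) (by
        have := hzS a⁻¹ (inv_mem ha)
        rwa [inv_inv] at this)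
      rw [Subgroup.relIndex_eq_one.mpr hle] at hidx
      omega
  obtain ⟨h3F, x, hx3, hx1, hxc⟩ := five_count X' P' (g := gA) hgX hg5' h25 hp hidx
    (fun e he => hQX he) hP
    (fun a e he hne h => F.free_XS a.2 he (fun h1 => hne (Subtype.ext h1)) h) hmove
  have hg1 : (g0 : G) ≠ 1 := fun h => by rw [h, orderOf_one] at hg5; omega
  have hg55 : (g0 : G) ^ 5 = 1 := hg5 ▸ pow_orderOf_eq_one _
  by_cases hB : D.caseB
  · -- the pure element commutes and fixes only one coset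
    obtain ⟨hsN, -⟩ := F.s0_facts hB
    let sA : F.N := ⟨F.s0, hsN⟩
    have hsg : Commute sA gA := Subtype.ext
      (show F.s0 * (g0 : G) = (g0 : G) * F.s0 from (F.mem_CP.mp (F.L_le_CP g0.2) _ F.s0_mem_P).symm.eq)
    have hs1 : sA ≠ 1 := fun h => mU_cube.2.1 (congrArg Prod.fst
      ((F.s0_acts hB).unique (by rw [show F.s0 = 1 from congrArg Subtype.val h]; exact acts_one)))
    have hsX : sA ∈ X' := F.cent_s0_XS hB hsN (Commute.refl _)
    set Fx := MulAction.fixedPoints (Subgroup.zpowers gA) (F.N ⧸ X') with hFx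
    have hinv : ∀ (w : Subgroup.zpowers sA) (q : F.N ⧸ X'), q ∈ Fx → (w : F.N) • q ∈ Fx := by
      rintro ⟨w, hw⟩ q hq ⟨v, hv⟩
      obtain ⟨m, rfl⟩ := Subgroup.mem_zpowers_iff.mp hw
      obtain ⟨n, rfl⟩ := Subgroup.mem_zpowers_iff.mp hv
      show (gA ^ n) • (sA ^ m) • q = (sA ^ m) • q
      rw [← mul_smul, ← (hsg.zpow_zpow m n).eq, mul_smul]
      exact congrArg (sA ^ m • ·) (hq ⟨_, hv⟩)
    letI : MulAction (Subgroup.zpowers sA) Fx :=
      { smul := fun w q => ⟨(w : F.N) • q.1, hinv w q.1 q.2⟩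
        one_smul := fun q => Subtype.ext (one_smul _ _)
        mul_smul := fun a b q => Subtype.ext (mul_smul _ _ _) }
    have hbase : ((1 : F.N) : F.N ⧸ X') ∈ Fx := by
      rintro ⟨v, hv⟩
      show ((v * 1 : F.N) : F.N ⧸ X') = _
      refine (QuotientGroup.eq.mpr ?_).symm
      rw [inv_one, one_mul, mul_one]
      exact Subgroup.zpowers_le.mpr hgX hv
    have hfix : MulAction.fixedPoints (Subgroup.zpowers sA) Fx = {⟨_, hbase⟩} := by
      ext ⟨q, hq⟩
      constructor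
      · intro h
        obtain ⟨a, rfl⟩ := QuotientGroup.mk_surjective q
        have h1 : ((sA * a : F.N) : F.N ⧸ X') = (a : F.N ⧸ X') :=
          congrArg Subtype.val (h ⟨sA, Subgroup.mem_zpowers _⟩)
        have h2 := QuotientGroup.eq.mp h1.symm
        rw [← mul_assoc] at h2
        have h3 : (a : G) ∈ F.XS := F.s0_fusion hB a.2 h2
        refine Set.mem_singleton_iff.mpr (Subtype.ext (QuotientGroup.eq.mpr ?_))
        rw [mul_one]
        exact inv_mem (show a ∈ X' from h3)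
      · intro h
        rw [Set.mem_singleton_iff] at h
        rintro ⟨v, hv⟩
        rw [h]
        refine Subtype.ext ?_
        show ((v * 1 : F.N) : F.N ⧸ X') = _
        refine (QuotientGroup.eq.mpr ?_).symm
        rw [inv_one, one_mul, mul_one]
        exact Subgroup.zpowers_le.mpr hsX hv
    have hmod := (IsPGroup.of_card (p := 3) (n := 1) (G := Subgroup.zpowers sA) (by
      rw [Nat.card_zpowers, pow_one]
      exact orderOf_eq_prime (p := 3) (Subtype.ext F.s0_cube) hs1)).card_modEq_card_fixedPoints Fx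
    rw [hfix] at hmod
    have e1 : Nat.card ({⟨_, hbase⟩} : Set Fx) = 1 := Nat.card_unique
    rw [e1] at hmod
    have := Nat.modEq_zero_iff_dvd.mpr h3F
    unfold Nat.ModEq at hmod this
    omega
  · exact F.five_three hB g0.2 hg55 hg1 x.2 (congrArg Subtype.val hx3)
      (fun h => hx1 (Subtype.ext h)) (congrArg Subtype.val hxc.eq)

/-- The normaliser of the product stabilises the rotation. -/
theorem N_eq_XS : F.N = F.XS :=
  le_antisymm (Subgroup.relIndex_eq_one.mp (F.index_XS.resolve_right F.not_twenty_eight)) F.XS_le_N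

end Base

end Setting

end CfsgLib.U6Three
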