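import Cfsg.Agent.Lib.U6Three.KInner

/-!
Fusion of the central element and the second vector into the normaliser of the product.
-/

set_option autoImplicit false
set_option linter.style.haveILetI false

namespace CfsgLib.U6Three

universe u

theorem sl_to_nine : ∀ A : SL23, A * A * A = 1 → ∃ R : SL23, R * R * (R * R) = 1 ∧
    (R * A * R⁻¹ = 1 ∨ R * A * R⁻¹ = mU ∨ R * A * R⁻¹ = mU * mU) := by
  intro A hA
  rcases sl_to_mU A hA with rfl | ⟨R, hR, h | h⟩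
  exacts [⟨1, by simp, Or.inl (by simp)⟩, ⟨R, hR, Or.inr (Or.inl h)⟩, ⟨R, hR, Or.inr (Or.inr h)⟩]

theorem second_shift : ∀ B : SL23, (B = 1 ∨ B = mU ∨ B = mU * mU) → ∀ v w : V2,
    v + (w - app2 B w) = 0 → v.2 = 0 := by decide +kernel

theorem pt_norm : ∀ k l j : ZMod 3, qJ (k, 0, l, j) = 0 → j ≠ 0 →
    ((k + om (((0, 0), (0, l * j)) : W4) (av 0 l) - j * (0 * 0 + (l * j) * (l * j)), 0 - j * 0, l - j * (l * j), j) : V4) =
      (0, 0, 0, j) := by decide +kernel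

theorem pt_line : ∀ k l : ZMod 3, qJ (k, 0, l, 0) = 0 → l = 0 := by decide +kernel

/-- Equal to an element or to its inverse. -/
def Pm {G : Type u} [Group G] (w x : G) : Prop := x = w ∨ x = w⁻¹

theorem Pm.conj {G : Type u} [Group G] {w x : G} (h : Pm w x) (g : G) : Pm (g * w * g⁻¹) (g * x * g⁻¹) := by
  rcases h with rfl | rfl
  · exact Or.inl rfl
  · exact Or.inr (by group)

theorem Pm.trans {G : Type u} [Group G] {w x x' : G} (h : Pm w x) (h' : Pm x x') : Pm w x' := by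
  rcases h with rfl | rfl
  · exact h'
  · rcases h' with rfl | rfl
    exacts [Or.inr rfl, Or.inl (inv_inv _)]

theorem Pm.symm {G : Type u} [Group G] {w x : G} (h : Pm w x) : Pm x w := by
  rcases h with rfl | rfl
  exacts [Or.inl rfl, Or.inr (inv_inv _).symm]

theorem Pm.comm {G : Type u} [Group G] {w x g : G} (h : Pm w x) (hc : Commute g w) : Commute g x := by
  rcases h with rfl | rfl
  exacts [hc, hc.inv_right]

namespace Setting.Base

variable {G : Type u} [Group G] {D : Setting G} (F : D.Base)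

theorem pm_zz {k : ZMod 3} (hk : k ≠ 0) : Pm D.z (D.zz k) := by
  rcases (by decide : ∀ k : ZMod 3, k ≠ 0 → k = 1 ∨ k = -1) k hk with rfl | rfl
  · exact Or.inl D.zz_one
  · exact Or.inr (by rw [D.zz_neg, D.zz_one])

theorem pm_ypow {j : ZMod 3} (hj : j ≠ 0) : Pm F.y (F.y ^ j.val) := by
  rcases (by decide : ∀ j : ZMod 3, j ≠ 0 → j = 1 ∨ j = -1) j hj with rfl | rfl
  · exact Or.inl (by rw [show (1 : ZMod 3).val = 1 from rfl, pow_one])
  · exact Or.inr (by rw [F.y_pow_neg, show (1 : ZMod 3).val = 1 from rfl, pow_one])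

variable [Finite G]

/-- A point of the centraliser moves into the unipotent group. -/
theorem pt_UM {x : G} (hp : D.IsPt x) (hi : x ∈ Mi (D := D)) (hz : Commute x D.z) (hQ : x ∉ D.Q) :
    ∃ h ∈ Mi (D := D), Commute h D.z ∧ h * x * h⁻¹ ∈ F.UM := by
  obtain ⟨v, s, p, e, hs⟩ := cent_z_form hz (mem_Mi.mp hi)
  have hm : D.MA x p := ⟨_, s, e, hs⟩
  obtain ⟨g, hg, hg3⟩ := D.ma_three hz hp.cube
  obtain rfl := hm.unique hg
  obtain ⟨R2, hR2, hB⟩ := sl_to_nine p.2 (congrArg Prod.snd hg3)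
  obtain ⟨R1', hR1, hA⟩ := sl_to_nine p.1 (congrArg Prod.fst hg3)
  obtain ⟨s2, hs2⟩ := D.acts_lift (1, R2) (by simp) hR2
  obtain ⟨r, hr, hrA⟩ := R1_lift (D := D) hR1
  have h0i : s2 * r ∈ Mi (D := D) :=
    mul_mem (mem_Mi.mpr (Quat.comm_i1 ⟨R2, hR2, hs2⟩)) (mem_Mi.mpr (mem_R1.mp hr).2.2.2)
  have h0z : Commute (s2 * r) D.z := hs2.1.cz.mul_left (mem_R1.mp hr).2.1
  refine ⟨_, h0i, h0z, ?_⟩
  set x' := s2 * r * x * (s2 * r)⁻¹ with hx'
  have hm' : D.MA x' ((1, R2) * (R1', 1) * p * ((1, R2) * (R1', 1))⁻¹) :=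
    (((hs2.mul hrA).ma).mul hm).mul (hs2.mul hrA).ma.inv
  have hi' : x' ∈ Mi (D := D) := mul_mem (mul_mem h0i hi) (inv_mem h0i)
  have hz' : Commute x' D.z := (h0z.mul_left hz).mul_left h0z.inv_left
  have hQ' : x' ∉ D.Q := fun hq => hQ (by
    have := D.conj_Q h0z.inv_left hq
    rwa [hx', show (s2 * r)⁻¹ * (s2 * r * x * (s2 * r)⁻¹) * (s2 * r)⁻¹⁻¹ = x by group] at this)
  obtain ⟨v', s', p', e', hs'⟩ := cent_z_form hz' (mem_Mi.mp hi')
  obtain rfl := MA.unique (D := D) ⟨_, s', e', hs'⟩ hm'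
  have hn : Nine ((1, R2) * (R1', 1) * p * ((1, R2) * (R1', 1))⁻¹) := ⟨by simpa using hA, by simpa using hB⟩
  obtain ⟨w, hw⟩ := all_diagA (hp.conj _) hz' hQ'
  rw [← hx', show x' = D.zz 0 * (D.q ((0, 0), v') * s') by rw [D.zz_zero, one_mul, e'], D.q_conj_el hs'] at hw
  have hv : v'.2 = 0 := second_shift _ hn.2 v' w.2 (congrArg Prod.snd (D.t_fix hs'.1 hw))
  exact F.mem_UM.mpr ⟨F.mem_U_iff.mpr ⟨_, s', _, ⟨rfl, hv⟩, hs', hn, e'⟩, mem_Mi.mp hi'⟩

/-- The points of the unipotent group in coordinates. -/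
theorem pt_jel {x : G} (hp : D.IsPt x) (hx : x ∈ F.UM) :
    ∃ k l j, x = F.jel (k, 0, l, j) ∧ qJ (k, 0, l, j) = 0 ∧ (k, 0, l, j) ≠ (0 : V4) := by
  obtain ⟨⟨k, i, l, j⟩, hq, hne, e⟩ := (F.pt_iff (F.mem_UM.mp hx).1).mp hp
  have h := (F.mem_UM.mp hx).2
  rw [e] at h
  have h1 := F.conj_jel_i1 (k, i, l, j)
  rw [h.symm.eq, mul_inv_cancel_right] at h1
  have hi : i = 0 := (by decide : ∀ i : ZMod 3, i = -i → i = 0) i (congrArg (fun v : V4 => v.2.1) (F.jel_inj h1))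
  subst hi
  exact ⟨k, l, j, e, hq, hne⟩

/-- The points commuting with the central element are conjugate to it or to the standard point. -/
theorem pt_cent_z {x : G} (hp : D.IsPt x) (hi : x ∈ Mi (D := D)) (hz : Commute x D.z) :
    ∃ h ∈ Mi (D := D), Commute h D.z ∧ (Pm D.z (h * x * h⁻¹) ∨ Pm F.y (h * x * h⁻¹)) := by
  by_cases hQ : x ∈ D.Q
  · obtain ⟨k, rfl⟩ := hp.mem_Q hQ
    have hk : k ≠ 0 := fun h => hp.ne_one (by rw [h, D.zz_zero])
    exact ⟨1, one_mem _, Commute.one_left _, Or.inl (by simpa using pm_zz hk)⟩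
  obtain ⟨h, hh, hhz, hU⟩ := F.pt_UM hp hi hz hQ
  obtain ⟨k, l, j, e, hq, hne⟩ := F.pt_jel (hp.conj h) hU
  by_cases hj : j = 0
  · subst hj
    obtain rfl := pt_line k l hq
    refine ⟨h, hh, hhz, Or.inl ?_⟩
    rw [e, F.jel_zpow]
    exact pm_zz fun hk => hne (by rw [hk]; rfl)
  · refine ⟨trb (D := D) (l * j) * h, mul_mem (trb_Mi _) hh, (trb_z _).mul_left hhz, Or.inr ?_⟩
    rw [show trb (D := D) (l * j) * h * x * (trb (D := D) (l * j) * h)⁻¹ =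
      trb (D := D) (l * j) * (h * x * h⁻¹) * (trb (D := D) (l * j))⁻¹ by group, e, trb, F.q_conj_jel,
      pt_norm k l j hq hj, F.jel_ypow]
    exact F.pm_ypow hj

include F in
/-- A point commuting with the translations is the central element up to inversion. -/
theorem pt_fix_second {x : G} (hp : D.IsPt x) (hi : x ∈ Mi (D := D)) (hz : Commute x D.z)
    (hc : ∀ v, Commute x (D.q ((0, 0), v))) : Pm D.z x := by
  obtain ⟨h, hh, hhz, hP | hP⟩ := F.pt_cent_z hp hi hz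
  · have h2 := hP.conj h⁻¹
    rwa [show h⁻¹ * (h * x * h⁻¹) * h⁻¹⁻¹ = x by group, inv_inv, mul_assoc, ← hhz.eq, inv_mul_cancel_left] at h2
  exfalso
  obtain ⟨v, s, p, e, hs⟩ := cent_z_form hz (mem_Mi.mp hi)
  have hp2 : p.2 = 1 := app2_all p.2 fun w => by
    have h1 := (D.comm_q_iff (k := 0) hs (((0, 0), w) : W4)).mp
      (by rw [D.zz_zero, one_mul, ← e]; exact hc w)
    exact congrArg Prod.snd h1.1
  obtain ⟨v', s', p', e', hs'⟩ := cent_z_form hhz (mem_Mi.mp hh)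
  have hH : D.MA h p' := ⟨_, s', e', hs'⟩
  have hX : D.MA x p := ⟨_, s, e, hs⟩
  have h1 := (hH.mul hX).mul hH.inv
  have hne : (mU : SL23) ≠ 1 ∧ (mU⁻¹ : SL23) ≠ 1 := ⟨mU_cube.2.1, fun h => mU_cube.2.1 (inv_eq_one.mp h)⟩
  rcases hP with hP | hP <;> rw [hP] at h1
  · have := congrArg Prod.snd (h1.unique F.acts.ma)
    exact hne.1 (by simpa [hp2] using this.symm)
  · have := congrArg Prod.snd (h1.unique F.acts.ma.inv)
    exact hne.2 (by simpa [hp2] using this.symm)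

/-- The elements mapping the central element to itself or to its inverse. -/
def NZ : Subgroup G where
  carrier := {g | g ∈ Mi (D := D) ∧ Pm D.z (g * D.z * g⁻¹)}
  one_mem' := ⟨one_mem _, Or.inl (by group)⟩
  mul_mem' := fun {a b} ha hb => ⟨mul_mem ha.1 hb.1, by
    rw [show a * b * D.z * (a * b)⁻¹ = a * (b * D.z * b⁻¹) * a⁻¹ by group]
    exact ha.2.trans (hb.2.conj a)⟩
  inv_mem' := fun {a} ha => ⟨inv_mem ha.1, by
    have h := ha.2.conj a⁻¹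
    rw [show a⁻¹ * (a * D.z * a⁻¹) * a⁻¹⁻¹ = D.z by group] at h
    exact h.symm⟩

theorem mem_NZ {g : G} : g ∈ NZ (D := D) ↔ g ∈ Mi (D := D) ∧ Pm D.z (g * D.z * g⁻¹) := Iff.rfl

theorem cent_z_NZ {g : G} (hg : g ∈ Mi (D := D)) (hz : Commute g D.z) : g ∈ NZ (D := D) :=
  ⟨hg, Or.inl (by rw [hz.eq, mul_inv_cancel_right])⟩

theorem NZ_le_Mi : NZ (D := D) ≤ Mi (D := D) := fun _ h => h.1

theorem NZ_le_N : NZ (D := D) ≤ F.N := by
  rintro g ⟨hg, h | h⟩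
  · exact F.cent_z_le_N hg (mul_inv_eq_iff_eq_mul.mp h)
  · have h1 : g⁻¹ * D.z * g = D.z⁻¹ := by
      have h2 : g⁻¹ * (g * D.z * g⁻¹)⁻¹ * g = g⁻¹ * (D.z⁻¹)⁻¹ * g := by rw [h]
      rw [inv_inv] at h2
      rw [← h2]; group
    refine F.N_of_conj hg (h1 ▸ Subgroup.inv_mem _ (F.UM_norm_K F.z_mem_UM)) (F.cent_z_le_N
      (mul_mem (mul_mem (inv_mem hg) (F.UM_le_N F.a2_mem_UM).1) hg) ?_).2
    have h2 := conj_comm' g (show Commute (a2 D) D.z from D.q_z _)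
    rw [h1] at h2
    simpa using h2.inv_right

/-- The core inside the centraliser of the involution. -/
noncomputable def Qm : Subgroup G := D.Q ⊓ Mi (D := D)

theorem second_mem_Qm (v : V2) : D.q ((0, 0), v) ∈ Qm (D := D) :=
  ⟨D.q_mem _, mem_Mi.mpr (D.i1_block.fix rfl).symm⟩

include F in
/-- Elements of order three of a group containing the centraliser move to elements commuting with the central
element. -/
theorem cent_sylow {X : Subgroup G} (hXM : X ≤ Mi (D := D))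
    (hC : ∀ g ∈ Mi (D := D), Commute g D.z → g ∈ X) {w : G} (hw : w ∈ X) (h3 : w ^ 3 = 1) :
    ∃ h ∈ X, Commute (h * w * h⁻¹) D.z := by
  haveI : Fact (Nat.Prime 3) := ⟨Nat.prime_three⟩
  set C := Mi (D := D) ⊓ Subgroup.centralizer {D.z} with hCd
  have hmem : ∀ {g}, g ∈ C ↔ g ∈ Mi (D := D) ∧ Commute g D.z := fun {g} => by
    rw [hCd, Subgroup.mem_inf, Subgroup.mem_centralizer_singleton_iff]; rfl
  have hQC : Qm (D := D) ≤ C := fun x hx => hmem.mpr ⟨hx.2, D.Q_z hx.1⟩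
  obtain ⟨S⟩ : Nonempty (Sylow 3 C) := inferInstance
  haveI hn : ((Qm (D := D)).subgroupOf C).Normal := ⟨fun x hx g =>
    ⟨D.conj_Q (hmem.mp g.2).2 hx.1, Subgroup.mul_mem _ (Subgroup.mul_mem _ (hmem.mp g.2).1 hx.2)
      (Subgroup.inv_mem _ (hmem.mp g.2).1)⟩⟩
  have hpQ : IsPGroup 3 ((Qm (D := D)).subgroupOf C) := fun x =>
    ⟨1, Subtype.ext (Subtype.ext (by simpa using D.Q_cube x.2.1))⟩
  have hQS : (Qm (D := D)).subgroupOf C ≤ (S : Subgroup C) :=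
    le_trans le_sup_right (S.3 (S.2.to_sup_of_normal_right hpQ) le_sup_left).le
  set S0 := (S : Subgroup C).map C.subtype with hS0
  have hS0C : S0 ≤ C := Subgroup.map_subtype_le _
  have hqS : ∀ v, D.q ((0, 0), v) ∈ S0 := fun v =>
    ⟨⟨_, hQC (second_mem_Qm v)⟩, hQS (second_mem_Qm v), rfl⟩
  have hzQ : D.z ∈ Qm (D := D) := ⟨zz_one D ▸ D.zz_mem 1, mem_Mi.mpr D.i1_block.acts.1.cz.symm⟩
  have hzS : D.z ∈ S0 := ⟨⟨_, hQC hzQ⟩, hQS hzQ, rfl⟩
  have hS0X : S0 ≤ X := fun g hg => hC g (hmem.mp (hS0C hg)).1 (hmem.mp (hS0C hg)).2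
  obtain ⟨T, hT⟩ := ((S.2.map C.subtype).comap_of_injective X.subtype X.subtype_injective).exists_le_sylow
  set P := (T : Subgroup X).map X.subtype with hP
  have hSP : S0 ≤ P := fun g hg => ⟨⟨g, hS0X hg⟩, hT hg, rfl⟩
  have hPS : P ≤ S0 := by
    refine le_of_grow (T.2.map _) hSP fun x hx hn => ?_
    have hxM : x ∈ Mi (D := D) := hXM (Subgroup.map_subtype_le _ hx)
    have hS : x ∈ Subgroup.normalizer (S0 : Set G) := norm_of_conj hn
    have h' := hmem.mp (hS0C (hn _ hzS))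
    have hpm : Pm D.z (x * D.z * x⁻¹) := F.pt_fix_second ⟨x, Or.inl rfl⟩ h'.1 h'.2 fun v => by
      have h1 : x⁻¹ * D.q ((0, 0), v) * x ∈ S0 := by
        have := ((Subgroup.inv_mem _ hS : x⁻¹ ∈ Subgroup.normalizer (S0 : Set G)) _).mp (hqS v)
        rwa [inv_inv] at this
      have := conj_comm x (hmem.mp (hS0C h1)).2.symm
      rwa [show x * (x⁻¹ * D.q ((0, 0), v) * x) * x⁻¹ = D.q ((0, 0), v) by group] at this
    have hxz : Commute x D.z := by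
      rcases hpm with h | h
      · exact mul_inv_eq_iff_eq_mul.mp h
      exfalso
      obtain ⟨m, hm⟩ := (T.2.map X.subtype) ⟨x, hx⟩
      have hm' : x ^ 3 ^ m = 1 := congrArg Subtype.val hm
      obtain ⟨r, hr⟩ : Odd (3 ^ m) := (by decide : Odd 3).pow
      have h2 : Commute (x ^ (2 * r)) D.z := by
        rw [pow_mul]
        refine Commute.pow_left (mul_inv_eq_iff_eq_mul.mp ?_) r
        calc x ^ 2 * D.z * (x ^ 2)⁻¹ = x * (x * D.z * x⁻¹) * x⁻¹ := by rw [pow_two]; group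
          _ = D.z := by rw [h, ← conj_inv, h, inv_inv]
      have h4 : D.z⁻¹ = D.z := by
        calc D.z⁻¹ = x ^ (2 * r) * D.z⁻¹ * (x ^ (2 * r))⁻¹ := by rw [h2.inv_right.eq, mul_inv_cancel_right]
          _ = x ^ (2 * r + 1) * D.z * (x ^ (2 * r + 1))⁻¹ := by rw [← h, pow_succ]; group
          _ = D.z := by rw [← hr, hm']; group
      have := D.z_cube
      rw [pow_three', show D.z * D.z = 1 from by nth_rw 1 [← h4]; exact inv_mul_cancel _, one_mul] at this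
      exact D.z_ne this
    have hle : (S : Subgroup C) ≤ P.subgroupOf C := fun g hg => hSP ⟨g, hg, rfl⟩
    have heq := S.3 ((T.2.map _).comap_of_injective C.subtype C.subtype_injective) hle
    exact ⟨⟨x, hmem.mpr ⟨hxM, hxz⟩⟩, heq.le (show x ∈ P from hx), rfl⟩
  have hp : IsPGroup 3 (Subgroup.zpowers (⟨w, hw⟩ : X)) := IsPGroup.of_card (n := orderOf (⟨w, hw⟩ : X) / 3) (by
    rw [Nat.card_zpowers]
    have := (Nat.dvd_prime Nat.prime_three).mp (orderOf_dvd_of_pow_eq_one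
      (show (⟨w, hw⟩ : X) ^ 3 = 1 from Subtype.ext (by simpa using h3)))
    rcases this with h | h <;> rw [h] <;> norm_num)
  obtain ⟨T', hT'⟩ := hp.exists_le_sylow
  obtain ⟨h, hh⟩ := MulAction.exists_smul_eq X T' T
  refine ⟨h, h.2, (hmem.mp (hS0C (hPS ?_))).2⟩
  exact ⟨h * ⟨w, hw⟩ * h⁻¹, hh ▸ ⟨_, hT' (Subgroup.mem_zpowers _), rfl⟩, rfl⟩

/-- Conjugates of the central element in a group containing its centraliser. -/
theorem z_fusion_pt {X : Subgroup G} (hXM : X ≤ Mi (D := D))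
    (hC : ∀ g ∈ Mi (D := D), Commute g D.z → g ∈ X) {g : G} (hw : g * D.z * g⁻¹ ∈ X) :
    ∃ h ∈ X, Pm D.z (h * g * D.z * (h * g)⁻¹) ∨ Pm F.y (h * g * D.z * (h * g)⁻¹) := by
  obtain ⟨h, hh, hc⟩ := F.cent_sylow hXM hC hw (by rw [conj_pow, D.z_cube]; group)
  obtain ⟨h', hh', hhz, hP⟩ := F.pt_cent_z (show D.IsPt (h * (g * D.z * g⁻¹) * h⁻¹) from
    (IsPt.conj ⟨g, Or.inl rfl⟩ h)) (hXM (mul_mem (mul_mem hh hw) (inv_mem hh))) hc
  refine ⟨h' * h, mul_mem (hC _ hh' hhz) hh, ?_⟩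
  rwa [show h' * h * g * D.z * (h' * h * g)⁻¹ = h' * (h * (g * D.z * g⁻¹) * h⁻¹) * h'⁻¹ by group]

/-- A group containing the normaliser of the central element and the flip controls its fusion. -/
theorem z_fusion {X : Subgroup G} (hXM : X ≤ Mi (D := D)) (hNZ : NZ (D := D) ≤ X) (hτ : F.τ ∈ X) {g : G}
    (hg : g ∈ Mi (D := D)) (hw : g * D.z * g⁻¹ ∈ X) : g ∈ X := by
  obtain ⟨h, hh, hP⟩ := F.z_fusion_pt hXM (fun x hx hz => hNZ (cent_z_NZ hx hz)) hw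
  have key : ∀ k ∈ X, Pm D.z (k * g * D.z * (k * g)⁻¹) → g ∈ X := fun k hk hP => by
    have := mul_mem (inv_mem hk) (hNZ (show k * g ∈ NZ (D := D) from ⟨mul_mem (hXM hk) hg, hP⟩))
    rwa [inv_mul_cancel_left] at this
  rcases hP with hP | hP
  · exact key h hh hP
  · refine key (F.τ * h) (mul_mem hτ hh) ?_
    have h1 := hP.conj F.τ
    rw [F.τ_conj_y] at h1
    rw [show F.τ * h * g * D.z * (F.τ * h * g)⁻¹ = F.τ * (h * g * D.z * (h * g)⁻¹) * F.τ⁻¹ by group]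
    exact Pm.trans (Or.inr rfl) h1

/-- A group containing also the centraliser of the second vector controls its fusion. -/
theorem a2_fusion {X : Subgroup G} (hXM : X ≤ Mi (D := D)) (hNZ : NZ (D := D) ≤ X) (hτ : F.τ ∈ X)
    (hMc : Mc (D := D) ≤ X) {g : G} (hg : g ∈ Mi (D := D)) (hw : g * a2 D * g⁻¹ ∈ X) : g ∈ X := by
  obtain ⟨h, hh, hc⟩ := F.cent_sylow hXM (fun x hx hz => hNZ (cent_z_NZ hx hz)) hw
    (by rw [conj_pow, F.NT_cube F.a2_mem_UM]; group)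
  rw [show h * (g * a2 D * g⁻¹) * h⁻¹ = h * g * a2 D * (h * g)⁻¹ by group] at hc
  have hg' : h * g ∈ Mi (D := D) := mul_mem (hXM hh) hg
  have hz' : (h * g)⁻¹ * D.z * (h * g) ∈ Mc (D := D) := by
    refine mem_Mc.mpr ⟨?_, mem_Mi.mp (mul_mem (mul_mem (inv_mem hg') (mem_Mi.mpr D.i1_block.acts.1.cz.symm)) hg')⟩
    have := conj_comm' (h * g) hc.symm
    rwa [show (h * g)⁻¹ * (h * g * a2 D * (h * g)⁻¹) * (h * g) = a2 D by group] at this
  have h2 := F.z_fusion hXM hNZ hτ (inv_mem hg') (by rw [inv_inv]; exact hMc hz')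
  have := mul_mem (inv_mem hh) (inv_mem h2)
  rwa [inv_inv, inv_mul_cancel_left] at this

theorem N_le_Mi : F.N ≤ Mi (D := D) := inf_le_left

theorem N_z_fusion {g : G} (hg : g ∈ Mi (D := D)) (hw : g * D.z * g⁻¹ ∈ F.N) : g ∈ F.N :=
  F.z_fusion F.N_le_Mi F.NZ_le_N F.τ_le_N hg hw

theorem N_a2_fusion {g : G} (hg : g ∈ Mi (D := D)) (hw : g * a2 D * g⁻¹ ∈ F.N) : g ∈ F.N :=
  F.a2_fusion F.N_le_Mi F.NZ_le_N F.τ_le_N F.Mc_le_N hg hw

/-- The extension of the product by the normaliser of the central element. -/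
noncomputable def C1 : Subgroup G := NZ (D := D) ⊔ F.K

/-- The stabiliser of the first component. -/
noncomputable def XR : Subgroup G := F.N ⊓ Subgroup.normalizer (D.R1 : Set G)

theorem K_norm_R1 : F.K ≤ Subgroup.normalizer (D.R1 : Set G) := fun x hx => norm_of_conj fun r hr => by
  have hr' := F.R1_le_K hr
  have h : x * r * x⁻¹ * r⁻¹ ∈ Ic (D := D) := by
    refine (F.kap_zero (mul_mem (mul_mem (mul_mem hx hr') (inv_mem hx)) (inv_mem hr'))).mp ?_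
    rw [F.kap_mul (mul_mem (mul_mem hx hr') (inv_mem hx)) (inv_mem hr'), F.kap_mul (mul_mem hx hr') (inv_mem hx),
      F.kap_mul hx hr', F.kap_inv hx, F.kap_inv hr', add_comm (F.kap x) (F.kap r), add_assoc (F.kap r), vec_two,
      add_zero, vec_two]
  have h2 : x * r * x⁻¹ * r⁻¹ ∈ D.R1 := by
    rcases mem_Ic.mp h with e | e <;> rw [e]
    exacts [one_mem _, i1_mem_R1]
  have := mul_mem h2 hr
  rwa [inv_mul_cancel_right] at this

include F in
theorem NZ_norm_R1 : NZ (D := D) ≤ Subgroup.normalizer (D.R1 : Set G) := fun g hg => norm_of_conj fun r hr => by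
  refine F.K_cent_z (((F.NZ_le_N hg).2 r).mp (F.R1_le_K hr)) ?_
  exact Pm.comm hg.2.symm (conj_comm g (mem_R1.mp hr).2.1)

theorem C1_le_N : F.C1 ≤ F.N := sup_le F.NZ_le_N F.K_le_N

theorem C1_le_Mi : F.C1 ≤ Mi (D := D) := F.C1_le_N.trans F.N_le_Mi

theorem C1_le_XR : F.C1 ≤ F.XR :=
  le_inf F.C1_le_N (sup_le F.NZ_norm_R1 F.K_norm_R1)

theorem cent_z_C1 {g : G} (hg : g ∈ Mi (D := D)) (hz : Commute g D.z) : g ∈ F.C1 :=
  Subgroup.mem_sup_left (cent_z_NZ hg hz)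

/-- A point of the unipotent group centralising the first component. -/
theorem pt_R1_z {x : G} (hp : D.IsPt x) (hx : x ∈ F.UM) (hc : ∀ r ∈ D.R1, Commute x r) : Pm D.z x := by
  obtain ⟨k, l, j, e, hq, hne⟩ := F.pt_jel hp hx
  obtain ⟨r, hr, R, hR, hR2, hrA⟩ := exists_R1_four (D := D)
  have hm : D.MA x (((mU, mU) : Pr) ^ j.val) := by
    have := (ma_of_Q (D := D) (mul_mem (D.zz_mem k) (D.q_mem (av 0 l)))).mul (F.y_ma j)
    rwa [one_mul, ← show x = D.zz k * D.q (av 0 l) * F.y ^ j.val from e] at this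
  obtain rfl : j = 0 := q8_y_free R hR hR2 j (by
    have h4 := (hm.mul hrA.ma).unique ((hc r hr).eq ▸ hrA.ma.mul hm)
    simpa using congrArg Prod.fst h4)
  obtain rfl := pt_line k l hq
  rw [e, F.jel_zpow]
  exact pm_zz fun hk => hne (by rw [hk]; rfl)

theorem XR_conj_R1 {g : G} (hg : g ∈ F.XR) {r : G} (hr : r ∈ D.R1) : Commute (g * D.z * g⁻¹) r := by
  have h1 : g⁻¹ * r * g ∈ D.R1 := by
    have := ((Subgroup.inv_mem _ hg.2 : g⁻¹ ∈ Subgroup.normalizer (D.R1 : Set G)) r).mp hr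
    rwa [inv_inv] at this
  have := conj_comm g (mem_R1.mp h1).2.1.symm
  rwa [show g * (g⁻¹ * r * g) * g⁻¹ = r by group] at this

theorem XR_z_fusion {g : G} (hg : g ∈ F.XR) (hw : g * D.z * g⁻¹ ∈ F.C1) : g ∈ F.C1 := by
  obtain ⟨h, hh, hP⟩ := F.z_fusion_pt F.C1_le_Mi (fun _ hx hz => F.cent_z_C1 hx hz) hw
  have hg' : h * g ∈ F.XR := mul_mem (F.C1_le_XR hh) hg
  have hP' : Pm D.z (h * g * D.z * (h * g)⁻¹) := by
    refine hP.resolve_right fun hy => ?_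
    obtain ⟨k, hk⟩ : ∃ j : ZMod 3, j ≠ 0 ∧ h * g * D.z * (h * g)⁻¹ = F.jel (0, 0, 0, j) := by
      rcases hy with e | e
      · exact ⟨1, by decide, by rw [e, F.jel_ypow, show (1 : ZMod 3).val = 1 from rfl, pow_one]⟩
      · exact ⟨-1, by decide, by rw [e, F.jel_ypow, F.y_pow_neg, show (1 : ZMod 3).val = 1 from rfl, pow_one]⟩
    have := F.pt_R1_z (x := h * g * D.z * (h * g)⁻¹) ⟨_, Or.inl rfl⟩ (hk.2 ▸ F.jel_mem_UM _ _ _)
      fun r hr => F.XR_conj_R1 hg' hr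
    rw [hk.2] at this
    rcases this with e | e
    · exact absurd (F.jel_inj (e.trans F.jel_z.symm)) (by simp)
    · exact absurd (F.jel_inj (e.trans (by rw [← F.jel_z, ← F.jel_neg]))) (by simp)
  have := mul_mem (inv_mem hh)
    (Subgroup.mem_sup_left (show h * g ∈ NZ (D := D) from ⟨F.N_le_Mi hg'.1, hP'⟩) : h * g ∈ F.C1)
  rwa [inv_mul_cancel_left] at this

theorem Mc_XR_le_C1 {g : G} (hg : g ∈ Mc (D := D)) (hgX : g ∈ F.XR) : g ∈ F.C1 := by
  obtain ⟨x, hx, n, hn, e⟩ := F.mem_G0 (F.Mc_eq_G0 hg)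
  have hxC : x ∈ F.C1 := Subgroup.mem_sup_right (F.N0_le_K hx)
  have hnX : n ∈ F.XR := by
    have := mul_mem (inv_mem (F.C1_le_XR hxC)) hgX
    rwa [e, inv_mul_cancel_left] at this
  have hz : n * D.z * n⁻¹ ∈ F.UM := (hn.2 _).mp F.z_mem_UM
  have hP := F.pt_R1_z ⟨n, Or.inl rfl⟩ hz fun r hr => F.XR_conj_R1 hnX hr
  exact e ▸ mul_mem hxC (Subgroup.mem_sup_left (show n ∈ NZ (D := D) from ⟨F.N_le_Mi hnX.1, hP⟩))

theorem XR_a2_fusion {g : G} (hg : g ∈ F.XR) (hw : g * a2 D * g⁻¹ ∈ F.C1) : g ∈ F.C1 := by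
  obtain ⟨h, hh, hc⟩ := F.cent_sylow F.C1_le_Mi (fun _ hx hz => F.cent_z_C1 hx hz) hw
    (by rw [conj_pow, F.NT_cube F.a2_mem_UM]; group)
  rw [show h * (g * a2 D * g⁻¹) * h⁻¹ = h * g * a2 D * (h * g)⁻¹ by group] at hc
  have hg' : h * g ∈ F.XR := mul_mem (F.C1_le_XR hh) hg
  have hUX : F.UM ≤ Mc (D := D) ⊓ F.XR := fun u hu => ⟨F.UM_le_Mc hu,
    F.C1_le_XR (F.cent_z_C1 (mem_Mi.mpr (F.mem_UM.mp hu).2) (F.U_z (F.mem_UM.mp hu).1))⟩
  have hzX : D.z ∈ F.XR := F.C1_le_XR (F.cent_z_C1 (mem_Mi.mpr D.i1_block.acts.1.cz.symm) (Commute.refl _))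
  have hz' : (h * g)⁻¹ * D.z * (h * g) ∈ Mc (D := D) ⊓ F.XR := by
    refine ⟨mem_Mc.mpr ⟨?_, mem_Mi.mp (F.N_le_Mi (mul_mem (mul_mem (inv_mem hg') hzX) hg').1)⟩,
      Subgroup.mul_mem _ (Subgroup.mul_mem _ (Subgroup.inv_mem _ hg') hzX) hg'⟩
    have := conj_comm' (h * g) hc.symm
    rwa [show (h * g)⁻¹ * (h * g * a2 D * (h * g)⁻¹) * (h * g) = a2 D by group] at this
  obtain ⟨h2, hh2, hu⟩ := F.conj_elt_into_UM hUX inf_le_left hz'
    (by rw [show (h * g)⁻¹ * D.z * (h * g) = (h * g)⁻¹ * D.z * (h * g)⁻¹⁻¹ by rw [inv_inv], conj_pow, D.z_cube]; group)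
  have hk : h2 * (h * g)⁻¹ ∈ F.XR := mul_mem hh2.2 (inv_mem hg')
  have e : h2 * ((h * g)⁻¹ * D.z * (h * g)) * h2⁻¹ = h2 * (h * g)⁻¹ * D.z * (h2 * (h * g)⁻¹)⁻¹ := by group
  rw [e] at hu
  have hP := F.pt_R1_z ⟨_, Or.inl rfl⟩ hu fun r hr => F.XR_conj_R1 hk hr
  have hkC : h2 * (h * g)⁻¹ ∈ F.C1 := Subgroup.mem_sup_left (show _ ∈ NZ (D := D) from ⟨F.N_le_Mi hk.1, hP⟩)
  have := mul_mem (inv_mem hh) (mul_mem (inv_mem hkC) (F.Mc_XR_le_C1 hh2.1 hh2.2))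
  rwa [show h⁻¹ * ((h2 * (h * g)⁻¹)⁻¹ * h2) = g by group] at this

end Setting.Base

end CfsgLib.U6Three
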