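import Cfsg.Agent.Lib.U6Three.Close

/-!
Without an element of the centraliser of the block involution inverting the central element, the normaliser of the
abelian group acts trivially on its quotient by the group of order eighty-one.
-/

set_option autoImplicit false
set_option linter.style.haveILetI false
set_option synthInstance.maxSize 1024

namespace CfsgLib.U6Three

universe u

/-- The action of a translation on the coordinates. -/
def eF (w : ZMod 3 × ZMod 3) (v : V4) : V4 :=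
  (v.1 - w.1 * v.2.1 - w.2 * v.2.2.1 - v.2.2.2 * (w.1 * w.1 + w.2 * w.2),
    v.2.1 - v.2.2.2 * w.1, v.2.2.1 - v.2.2.2 * w.2, v.2.2.2)

/-- The action of the flip on the coordinates. -/
def tF (v : V4) : V4 := (-v.2.2.2, v.2.1, v.2.2.1, -v.1)

/-- The action of a word. -/
def wF (a b c d : ZMod 3 × ZMod 3) (v : V4) : V4 := eF d (tF (eF c (tF (eF b (tF (eF a v))))))

/-- The pairing of coordinates. -/
def dot (c y : V4) : ZMod 3 := c.1 * y.1 + c.2.1 * y.2.1 + c.2.2.1 * y.2.2.1 + c.2.2.2 * y.2.2.2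

/-- The reflection at the first vector. -/
def rA (v : V4) : V4 := (v.1, -v.2.1, v.2.2.1, v.2.2.2)

/-- The reflection at the difference of the hyperbolic pair. -/
def rH (v : V4) : V4 := (v.2.2.2, v.2.1, v.2.2.1, v.1)

theorem reach_one : ∀ v : V4, qJ v = 1 → ∃ a b c d, wF a b c d v = (0, 1, 0, 0) ∨ wF a b c d v = (0, -1, 0, 0) := by
  decide +kernel

theorem reach_two : ∀ v : V4, qJ v = 2 → ∃ a b c d, wF a b c d v = (1, 0, 0, -1) ∨ wF a b c d v = (-1, 0, 0, 1) := by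
  decide +kernel

theorem reach_pt : ∀ v : V4, qJ v = 0 → v ≠ 0 → ∃ a b c d, wF a b c d v = (1, 0, 0, 0) := by decide +kernel

theorem reach_Mi : ∀ k l j : ZMod 3, qJ (k, 0, l, j) = 0 → ((k, 0, l, j) : V4) ≠ 0 → ∃ a b c d : ZMod 3,
    wF (0, a) (0, b) (0, c) (0, d) (k, 0, l, j) = (1, 0, 0, 0) ∨
      wF (0, a) (0, b) (0, c) (0, d) (k, 0, l, j) = (-1, 0, 0, 0) := by decide +kernel

theorem refl_A : ∀ t ∈ [((0, 1, 0, 0) : V4), (0, -1, 0, 0)], ∀ c : V4, dot c t = 1 →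
    (∀ y, qJ y = 0 → qJ (y + dot c y • t) = 0) → ∀ y, y + dot c y • t = rA y := by decide +kernel

theorem refl_H : ∀ t ∈ [((1, 0, 0, -1) : V4), (-1, 0, 0, 1)], ∀ c : V4, dot c t = 1 →
    (∀ y, qJ y = 0 → qJ (y + dot c y • t) = 0) → ∀ y, y + dot c y • t = rH y := by decide +kernel

theorem nine_conj_fix : ∀ A B : SL23, (B = 1 ∨ B = mU ∨ B = mU * mU) →
    (A * B * A⁻¹ = 1 ∨ A * B * A⁻¹ = mU ∨ A * B * A⁻¹ = mU * mU) → A * B * A⁻¹ = B := by decide +kernel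

theorem swap_jel : ∀ A : SL23, ∀ j : ZMod 3,
    mU⁻¹ = mU ^ j.val → A * mU * A⁻¹ ≠ mU ^ j.val := by decide +kernel

namespace Setting

variable {G : Type u} [Group G] (D : Setting G)

/-- Some element centralising the block involution inverts the central element. -/
def Inv : Prop := ∃ g : G, g ∈ Base.Mi (D := D) ∧ g * D.z * g⁻¹ = D.z⁻¹

end Setting

namespace Setting.Base

variable {G : Type u} [Group G] {D : Setting G} (F : D.Base)

/-- A translation. -/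
def tr2 (w : ZMod 3 × ZMod 3) : G := D.q ((0, w.1), (0, w.2))

theorem tr2_act (w : ZMod 3 × ZMod 3) (v : V4) : tr2 (D := D) w * F.jel v * (tr2 (D := D) w)⁻¹ = F.jel (eF w v) := by
  rw [tr2, F.q_conj_jel]
  refine congrArg F.jel (Prod.ext ?_ rfl)
  show v.1 + om _ _ - _ = _
  simp only [eF, om, det2, av]
  ring

variable [Finite G]

/-- The word. -/
noncomputable def word (a b c d : ZMod 3 × ZMod 3) : G :=
  tr2 (D := D) d * F.τ * tr2 (D := D) c * F.τ * tr2 (D := D) b * F.τ * tr2 (D := D) a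

theorem word_act (a b c d : ZMod 3 × ZMod 3) (v : V4) :
    F.word a b c d * F.jel v * (F.word a b c d)⁻¹ = F.jel (wF a b c d v) := by
  have hτ : ∀ v, F.τ * F.jel v * F.τ⁻¹ = F.jel (tF v) := F.τ_flip.act
  rw [wF, ← F.tr2_act, ← hτ, ← F.tr2_act, ← hτ, ← F.tr2_act, ← hτ, ← F.tr2_act, word]
  group

/-- The normaliser of the abelian group. -/
def W : Subgroup G := Subgroup.normalizer (F.U : Set G)

theorem mem_W_of_act {g : G} (f : V4 → V4) (h : ∀ v, g * F.jel v * g⁻¹ = F.jel (f v)) : g ∈ F.W :=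
  F.NJ_le_NU (F.mem_norm_J fun x hx => by obtain ⟨v, rfl⟩ := hx; rw [h]; exact F.jel_mem _)

theorem q_mem_W (w : W4) : D.q w ∈ F.W := F.NJ_le_NU (F.q_mem_NJ w)

theorem word_mem_W (a b c d : ZMod 3 × ZMod 3) : F.word a b c d ∈ F.W := F.mem_W_of_act _ (F.word_act a b c d)

theorem i1_mem_W : D.i1 ∈ F.W := F.mem_W_of_act _ F.conj_jel_i1

theorem word_triv (a b c d : ZMod 3 × ZMod 3) : F.Triv (F.word a b c d) := by
  have hq : ∀ w, F.Triv (tr2 (D := D) w) := fun w => F.triv_q _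
  exact ((((((hq d).mul F F.τ_flip.triv).mul F (hq c)).mul F F.τ_flip.triv).mul F (hq b)).mul F
    F.τ_flip.triv).mul F (hq a)

theorem word_Mi (a b c d : ZMod 3) : F.word (0, a) (0, b) (0, c) (0, d) ∈ Mi (D := D) := by
  have hq : ∀ e : ZMod 3, tr2 (D := D) (0, e) ∈ Mi (D := D) := fun e =>
    mem_Mi.mpr (D.i1_block.fix rfl).symm
  have hτ : F.τ ∈ Mi (D := D) := mem_Mi.mpr F.τ_flip.ci
  exact mul_mem (mul_mem (mul_mem (mul_mem (mul_mem (mul_mem (hq d) hτ) (hq c)) hτ) (hq b)) hτ) (hq a)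

theorem W_lin {g : G} (hg : g ∈ F.W) : ∃ φ : V4 →+ V4, Function.Injective φ ∧
    (∀ v, g * F.jel v * g⁻¹ = F.jel (φ v)) ∧ ∀ v, qJ v = 0 ∧ v ≠ 0 ↔ qJ (φ v) = 0 ∧ φ v ≠ 0 := by
  obtain ⟨φ, hφi, hφ⟩ := F.exists_lin (F.NU_le_NJ hg)
  refine ⟨φ, hφi, hφ, fun v => ?_⟩
  rw [← F.isPt_jel, ← F.isPt_jel, ← hφ]
  refine ⟨fun h => h.conj g, fun h => ?_⟩
  have := h.conj g⁻¹
  rwa [show g⁻¹ * (g * F.jel v * g⁻¹) * g⁻¹⁻¹ = F.jel v by group] at this

/-- A conjugate of the block involution acts as a reflection. -/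
theorem conj_refl {g : G} (hg : g ∈ F.W) {t : V4} (ht : g * F.jel (0, 1, 0, 0) * g⁻¹ = F.jel t) :
    ∃ c : V4, dot c t = 1 ∧ (∀ y, qJ y = 0 → qJ (y + dot c y • t) = 0) ∧
      ∀ y, g * D.i1 * g⁻¹ * F.jel y * (g * D.i1 * g⁻¹)⁻¹ = F.jel (y + dot c y • t) := by
  obtain ⟨φ, hφi, hφ, -⟩ := F.W_lin hg
  let e := Equiv.ofBijective φ (Finite.injective_iff_bijective.mp hφi)
  have hpe : ∀ y, φ (e.symm y) = y := fun y => e.apply_symm_apply y
  let ψ : V4 →+ ZMod 3 := AddMonoidHom.mk' (fun y => (e.symm y).2.1) fun a b => by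
    have hab : e.symm (a + b) = e.symm a + e.symm b := hφi (by rw [map_add φ (e.symm a) (e.symm b), hpe, hpe, hpe])
    rw [hab]; rfl
  have hte : φ (0, 1, 0, 0) = t := F.jel_inj ((hφ _).symm.trans ht)
  set c : V4 := (ψ (1, 0, 0, 0), ψ (0, 1, 0, 0), ψ (0, 0, 1, 0), ψ (0, 0, 0, 1)) with hc
  have hdot : ∀ y, dot c y = ψ y := fun y => by
    obtain ⟨k, i, l, j⟩ := y
    conv_rhs => rw [show ((k, i, l, j) : V4) = k • (1, 0, 0, 0) + i • (0, 1, 0, 0) + l • (0, 0, 1, 0) + j • (0, 0, 0, 1) by simp,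
      map_add, map_add, map_add, ZMod.map_smul, ZMod.map_smul, ZMod.map_smul, ZMod.map_smul]
    simp only [hc, dot, smul_eq_mul]; ring
  have hact : ∀ y, g * D.i1 * g⁻¹ * F.jel y * (g * D.i1 * g⁻¹)⁻¹ = F.jel (y + dot c y • t) := fun y => by
    obtain ⟨x, rfl⟩ : ∃ x, φ x = y := ⟨_, hpe y⟩
    rw [show g * D.i1 * g⁻¹ * F.jel (φ x) * (g * D.i1 * g⁻¹)⁻¹ =
      g * (D.i1 * (g⁻¹ * F.jel (φ x) * g) * D.i1⁻¹) * g⁻¹ by group,
      show g⁻¹ * F.jel (φ x) * g = F.jel x by rw [← hφ]; group, F.conj_jel_i1, hφ, hdot,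
      show ψ (φ x) = x.2.1 from congrArg (fun v : V4 => v.2.1) (hφi (hpe (φ x))), ← hte, ← ZMod.map_smul, ← map_add]
    refine congrArg (fun v => F.jel (φ v)) ?_
    exact (by decide +kernel : ∀ x : V4, (x.1, -x.2.1, x.2.2.1, x.2.2.2) = x + x.2.1 • ((0, 1, 0, 0) : V4)) x
  refine ⟨c, ?_, fun y hy => ?_, hact⟩
  · rw [hdot, ← hte, show ψ (φ (0, 1, 0, 0)) = _ from congrArg (fun v : V4 => v.2.1) (hφi (hpe (φ (0, 1, 0, 0))))]
  · by_cases h0 : y = 0
    · rw [h0]; simp [dot, qJ]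
    have hp := ((F.isPt_jel y).mpr ⟨hy, h0⟩).conj (g * D.i1 * g⁻¹)
    rw [hact] at hp
    exact ((F.isPt_jel _).mp hp).1

theorem Q_inf_U {x : G} (hQ : x ∈ D.Q) (hU : x ∈ F.U) : x ∈ F.J := by
  obtain ⟨c, s, p, hc, hs, -, rfl⟩ := F.mem_U_iff.mp hU
  have hm := (ma_of_Q (D := D) (D.q_mem c)).mul hs.ma
  rw [one_mul] at hm
  obtain rfl := hm.unique (ma_of_Q hQ)
  obtain ⟨k, rfl⟩ := Acts.trivial (D := D) hs
  obtain ⟨i, l, rfl⟩ := inA_av c hc
  rw [← F.jel_q, ← F.jel_zpow]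
  exact mul_mem (F.jel_mem _) (F.jel_mem _)

theorem U_ma {x : G} (hx : x ∈ F.U) : ∃ p, D.MA x p ∧ Nine p := by
  obtain ⟨c, s, p, -, hs, hn, rfl⟩ := F.mem_U_iff.mp hx
  exact ⟨p, ⟨c, s, rfl, hs⟩, hn⟩

/-- An element of the normaliser in blockwise form is trivial on the quotient. -/
theorem triv_ma {h : G} {p : Pr} (hW : h ∈ F.W) (hm : D.MA h p) : F.Triv h := fun x hx => by
  have hx' : h * x * h⁻¹ ∈ F.U := (hW x).mp hx
  obtain ⟨q, hq, hn⟩ := F.U_ma hx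
  obtain ⟨q', hq', hn'⟩ := F.U_ma hx'
  obtain rfl := hq'.unique ((hm.mul hq).mul hm.inv)
  have e : p * q * p⁻¹ = q := Prod.ext (nine_conj_fix _ _ hn.1 hn'.1) (nine_conj_fix _ _ hn.2 hn'.2)
  refine F.Q_inf_U ?_ (mul_mem hx' (inv_mem hx))
  have := ((hm.mul hq).mul hm.inv).mul hq.inv
  rw [e, mul_inv_cancel] at this
  exact MA.mem_Q (D := D) this

theorem triv_left {w g : G} (hw : F.Triv w) (h : F.Triv (w * g)) : F.Triv g := by
  have := (hw.inv F).mul F h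
  rwa [inv_mul_cancel_left] at this

/-- Without an inverting element, everything is trivial on the quotient. -/
theorem all_triv (hI : ¬ D.Inv) {g0 : G} (hg0 : g0 ∈ F.W) : F.Triv g0 := by
  obtain ⟨φ, hφi, hφ, hφp⟩ := F.W_lin hg0
  set v := φ (0, 1, 0, 0) with hv
  have hv0 : qJ v ≠ 0 := fun h => by
    have h1 := ((hφp (0, 1, 0, 0)).mpr ⟨h, fun e => absurd (hφi (e.trans φ.map_zero.symm)) (by decide)⟩).1
    exact absurd h1 (by decide)
  rcases (by decide : ∀ a : ZMod 3, a ≠ 0 → a = 1 ∨ a = 2) _ hv0 with h1 | h2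
  swap
  · -- an inverting element
    exfalso
    obtain ⟨a, b, c, d, ht⟩ := reach_two v h2
    obtain ⟨t, htm, ht⟩ : ∃ t ∈ [((1, 0, 0, -1) : V4), (-1, 0, 0, 1)], wF a b c d v = t := by
      rcases ht with h | h <;> exact ⟨_, by simp, h⟩
    set g := F.word a b c d * g0 with hgd
    have hg : g ∈ F.W := mul_mem (F.word_mem_W _ _ _ _) hg0
    have hgt : g * F.jel (0, 1, 0, 0) * g⁻¹ = F.jel t := by
      rw [← ht, ← F.word_act, hv, ← hφ, hgd]; group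
    obtain ⟨k, hk1, hk2, hk⟩ := F.conj_refl hg hgt
    set h := F.τ * (g * D.i1 * g⁻¹) with hh
    have hact : ∀ y : V4, h * F.jel y * h⁻¹ = F.jel (-y.1, y.2.1, y.2.2.1, -y.2.2.2) := fun y => by
      rw [show h * F.jel y * h⁻¹ = F.τ * (g * D.i1 * g⁻¹ * F.jel y * (g * D.i1 * g⁻¹)⁻¹) * F.τ⁻¹ by rw [hh]; group, hk,
        refl_H t htm k hk1 hk2, F.τ_flip.act]
      rfl
    have h1 : Commute h (D.q (av 1 0)) := by
      rw [← F.jel_q]; exact mul_inv_eq_iff_eq_mul.mp (by rw [hact]; simp)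
    have h2 : Commute h (a2 D) := by
      rw [a2, ← F.jel_q]; exact mul_inv_eq_iff_eq_mul.mp (by rw [hact]; simp)
    have hz : h * D.z * h⁻¹ = D.z⁻¹ := by
      rw [← F.jel_z, hact, ← F.jel_neg]; simp
    have hy : h * F.y * h⁻¹ = F.y⁻¹ := by
      rw [← F.jel_y, hact, ← F.jel_neg]; simp
    obtain ⟨e, he⟩ := F.adjust_block h1 h2 hz hy
    refine hI ⟨_, mem_Mi.mpr he, ?_⟩
    rw [show D.q (av e 0) * h * D.z * (D.q (av e 0) * h)⁻¹ = D.q (av e 0) * (h * D.z * h⁻¹) * (D.q (av e 0))⁻¹ by group,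
      hz, ((D.q_z _).inv_right).eq, mul_inv_cancel_right]
  obtain ⟨a, b, c, d, ht⟩ := reach_one v h1
  obtain ⟨t, htm, ht⟩ : ∃ t ∈ [((0, 1, 0, 0) : V4), (0, -1, 0, 0)], wF a b c d v = t := by
    rcases ht with h | h <;> exact ⟨_, by simp, h⟩
  refine F.triv_left (F.word_triv a b c d) ?_
  set g := F.word a b c d * g0 with hgd
  have hg : g ∈ F.W := mul_mem (F.word_mem_W _ _ _ _) hg0
  have hgt : g * F.jel (0, 1, 0, 0) * g⁻¹ = F.jel t := by
    rw [← ht, ← F.word_act, hv, ← hφ, hgd]; group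
  obtain ⟨k, hk1, hk2, hk⟩ := F.conj_refl hg hgt
  have hr : ∀ y, g * D.i1 * g⁻¹ * F.jel y * (g * D.i1 * g⁻¹)⁻¹ = F.jel (rA y) := fun y => by
    rw [hk, refl_A t htm k hk1 hk2]
  clear_value g
  obtain ⟨e, he⟩ : ∃ e : ZMod 3, g * D.i1 * g⁻¹ * D.i1 = D.q (av e 0) := by
    refine F.U_inverted (F.fix_J_mem_U fun w => mul_inv_eq_iff_eq_mul.mp ?_) ?_
    · rw [show g * D.i1 * g⁻¹ * D.i1 * F.jel w * (g * D.i1 * g⁻¹ * D.i1)⁻¹ =
        g * D.i1 * g⁻¹ * (D.i1 * F.jel w * D.i1⁻¹) * (g * D.i1 * g⁻¹)⁻¹ by group, F.conj_jel_i1, hr]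
      simp [rA]
    · rw [mul_inv_rev, mul_inv_rev, mul_inv_rev, inv_inv, D.i1_block.inv]
      simp only [mul_assoc, D.i1_block.sq, mul_one]
  refine F.triv_left (F.triv_q (av e 0)) ?_
  set g1 := D.q (av e 0) * g with hg1d
  have hg1 : g1 ∈ F.W := mul_mem (F.q_mem_W _) hg
  have hi : Commute g1 D.i1 := by
    show D.q (av e 0) * g * D.i1 = D.i1 * (D.q (av e 0) * g)
    have hgi : g * D.i1 = D.q (av e 0) * D.i1 * g := by
      rw [← he, mul_assoc _ D.i1 D.i1, D.i1_block.sq, mul_one, inv_mul_cancel_right]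
    have hi : D.i1 * D.q (av e 0) = D.q (-av e 0) * D.i1 := mul_inv_eq_iff_eq_mul.mp (D.i1_block.neg rfl)
    calc D.q (av e 0) * g * D.i1 = D.q (av e 0) * D.q (av e 0) * D.i1 * g := by rw [mul_assoc, hgi]; group
      _ = D.q (-av e 0) * D.i1 * g := by
        rw [D.q_mul', om_self, neg_zero, D.zz_zero, one_mul, (by decide : ∀ v : W4, v + v = -v) (av e 0)]
      _ = _ := by rw [← hi, mul_assoc]
  have hzM : Commute D.z D.i1 := (F.mem_UM.mp F.z_mem_UM).2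
  have hU : g1 * D.z * g1⁻¹ ∈ F.UM :=
    F.mem_UM.mpr ⟨(hg1 _).mp F.z_mem_U, (hi.mul_left hzM).mul_left hi.inv_left⟩
  obtain ⟨k', l, j, e1, hq, hne⟩ := F.pt_jel ⟨g1, Or.inl rfl⟩ hU
  obtain ⟨a', b', c', d', hs⟩ := reach_Mi k' l j hq hne
  refine F.triv_left (F.word_triv (0, a') (0, b') (0, c') (0, d')) ?_
  set g2 := F.word (0, a') (0, b') (0, c') (0, d') * g1 with hg2d
  have hg2 : g2 ∈ F.W := mul_mem (F.word_mem_W _ _ _ _) hg1
  have hz2 : g2 * D.z * g2⁻¹ = F.jel (wF (0, a') (0, b') (0, c') (0, d') (k', 0, l, j)) := by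
    rw [← F.word_act, ← e1, hg2d]; group
  have hM : g2 ∈ Mi (D := D) := mul_mem (F.word_Mi a' b' c' d') (mem_Mi.mpr hi)
  rcases hs with hs | hs <;> rw [hs, F.jel_zpow] at hz2
  · rw [D.zz_one] at hz2
    obtain ⟨w, s, p, e2, hsA⟩ := cent_z_form (mul_inv_eq_iff_eq_mul.mp hz2) (mem_Mi.mp hM)
    exact F.triv_ma hg2 ⟨_, s, e2, hsA⟩
  · rw [D.zz_neg, D.zz_one] at hz2
    exact absurd ⟨g2, hM, hz2⟩ hI

/-- Without an inverting element, the centraliser of the central element in the normaliser preserves the blocks. -/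
theorem W_cent_ma (hB : D.caseB) (hI : ¬ D.Inv) {h : G} (hW : h ∈ F.W) (hz : Commute h D.z) : ∃ p, D.MA h p := by
  obtain ⟨u, s, g, e, hs | hs⟩ := D.cases_H hz
  · exact ⟨g, u, s, e, hs⟩
  exfalso
  have h1 := MS.conj_MA (D := D) ⟨u, s, e, hs⟩ (F.s0_acts hB).ma
  have h2 := h1.mul (F.s0_acts hB).ma.inv
  obtain ⟨⟨k, i, l, j⟩, hv⟩ := F.all_triv hI hW _ (F.mem_P.mp F.s0_mem_P).1
  rw [hv] at h2
  have h3 : D.MA (F.jel (k, i, l, j)) (((mU, mU) : Pr) ^ j.val) := by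
    have := (ma_of_Q (D := D) (mul_mem (D.zz_mem k) (D.q_mem (av i l)))).mul (F.y_ma j)
    rwa [one_mul] at this
  have h4 := h3.unique h2
  have e1 := congrArg Prod.fst h4
  have e2 := congrArg Prod.snd h4
  simp only [Prod.pow_fst, Prod.pow_snd, Prod.fst_mul, Prod.snd_mul, Prod.fst_inv, Prod.snd_inv, mul_one,
    mul_inv_cancel, one_mul, inv_one] at e1 e2
  exact swap_jel _ j e1.symm e2.symm

end Setting.Base

end CfsgLib.U6Three
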