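import Cfsg.Agent.Lib.U6Three.Diag

/-!
Every conjugate of the central element outside the core is diagonal with equal orientation in the two blocks.
-/

set_option autoImplicit false

namespace CfsgLib.U6Three

universe u

theorem pure_nine_fix : ∀ B : Pr, (B.1 = 1 ∨ B.1 = mU ∨ B.1 = mU * mU) → (B.2 = 1 ∨ B.2 = mU ∨ B.2 = mU * mU) →
    appP B ea1 = ea1 ∧ appP B ea2 = ea2 := by
  intro B h1 h2
  exact ⟨Prod.ext (nine_fix _ h1).1 (nine_fix _ h2).2, Prod.ext (nine_fix _ h1).2 (nine_fix _ h2).1⟩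

theorem pr_cent_pure {B : Pr} (h3 : B * B * B = 1) (hc : B * (mU, 1) = (mU, 1) * B) :
    B.1 = 1 ∨ B.1 = mU ∨ B.1 = mU * mU :=
  sl_cent_three B.1 (congrArg Prod.fst hc) (congrArg Prod.fst h3)

namespace Setting

variable {G : Type u} [Group G] {D : Setting G}

/-- The orientation of a diagonal point fixed by the involution. -/
theorem orient {y : G} {p : Pr} (hy : D.Acts y p) (hp : DiagP p) (hpt : D.IsPt y) : p.1 = p.2 := by
  have key : ∀ g p, D.PartnerData g p → p.1 = p.2 := by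
    intro g p P
    by_contra hne
    obtain ⟨w, w1, w2, w3⟩ := opp_translate p P.diag.mem hne
    obtain ⟨g', e0, -, -, hA⟩ := P.transporter
    obtain ⟨b, -, hb⟩ := hA _ w1
    set y0 := g * D.z * g⁻¹ with hy0
    have hpt0 : D.IsPt y0 := ⟨g, Or.inl rfl⟩
    have h1 := hpt0.conj (D.q w)
    have e : D.q w * y0 * (D.q w)⁻¹ = D.q (cV p 0 w) * y0 := by
      have := D.q_conj_el (k := 0) (u := 0) P.acts w
      rwa [zz_zero, one_mul, q_zero, one_mul, zero_add, w3, zz_zero, one_mul] at this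
    rw [e] at h1
    have h2 := h1.conj g'⁻¹
    rw [inv_inv, show g'⁻¹ * (D.q (cV p 0 w) * y0) * g' = g'⁻¹ * D.q (cV p 0 w) * g' * (g'⁻¹ * y0 * g') by group, hb,
      show g'⁻¹ * y0 * g' = D.z by rw [← e0]; group, ← D.zz_one] at h2
    obtain ⟨k, hk⟩ := h2.mem_Q (mul_mem (D.q_mem b) (D.zz_mem 1))
    rw [← (D.zz_q 1 b).eq] at hk
    have hb0 : b = 0 := (D.el_inj (l := k) (w := 0) (by rw [hk, q_zero, mul_one])).2
    rw [hb0, q_zero] at hb
    refine w2 (D.q_injective (w := 0) ?_)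
    rw [q_zero]
    calc D.q (cV p 0 w) = g' * (g'⁻¹ * D.q (cV p 0 w) * g') * g'⁻¹ := by group
      _ = 1 := by rw [hb]; group
  obtain ⟨g, rfl | rfl⟩ := hpt
  · exact key g p ⟨hy, hp⟩
  · have := key g p⁻¹ ⟨inv_inv (g * D.z * g⁻¹) ▸ hy.inv, hp.inv⟩
    exact inv_inj.mp this

/-- The orientation of a diagonal point centralising the first coordinate vectors. -/
theorem orient' {d : G} {p : Pr} (hd : D.MA d p) (hp : DiagP p) (hpt : D.IsPt d) (h1 : Commute d (D.q ea1))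
    (h2 : Commute d (D.q ea2)) : p.1 = p.2 := by
  obtain ⟨u, s, e, hs⟩ := hd
  have e' : d = D.zz 0 * (D.q u * s) := by rw [zz_zero, one_mul, e]
  have hu : InA u := om_ea u ((D.comm_q_iff hs ea1).mp (e' ▸ h1)).2 ((D.comm_q_iff hs ea2).mp (e' ▸ h2)).2
  obtain ⟨w, hw⟩ := lift_zero p hp.mem u hu
  have hc := hpt.conj (D.q w)
  rw [e', D.q_conj_el hs, hw, q_zero, one_mul] at hc
  have := (acts_zz (D := D) (0 + cK p u w)).mul hs
  rw [one_mul] at this
  exact orient this hp hc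

/-- The partner relation is symmetric on diagonal points. -/
theorem diagA_symm {g : G} (hz : Commute (g * D.z * g⁻¹) D.z) (hQ : g * D.z * g⁻¹ ∉ D.Q)
    (hA : D.DiagA (g⁻¹ * D.z * g)) : D.DiagA (g * D.z * g⁻¹) := by
  obtain ⟨f1, f2, f3⟩ := D.partner hz hQ
  obtain ⟨h, p, hh, hx, hp⟩ := hA.std f1 f2 f3
  have P : D.PartnerData (h * g⁻¹) p :=
    ⟨by rw [show h * g⁻¹ * D.z * (h * g⁻¹)⁻¹ = h * (g⁻¹ * D.z * g) * h⁻¹ by group]; exact hx, hp⟩
  have := P.partner_diagA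
  rwa [show (h * g⁻¹)⁻¹ * D.z * (h * g⁻¹) = g * (h⁻¹ * D.z * h) * g⁻¹ by group, hh.inv_left.eq,
    show g * (D.z * h⁻¹ * h) * g⁻¹ = g * D.z * g⁻¹ by group] at this

/-- The translations transported from a partner not centralised by the involution. -/
theorem translator {y : G} {X : Pr} (hpt : D.IsPt y) (hX : D.MA y X) (hQ : y ∉ D.Q) (hA : ¬ D.DiagA y) :
    ∃ b B, Commute b D.z ∧ Commute b y ∧ D.MA b B ∧ B * B * B = 1 ∧
      (∀ a, Commute y (D.q a) → ∀ m, b * D.q a * b⁻¹ = D.zz m * D.q a → m = 0) ∧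
      (∀ i j : ZMod 3, D.IsPt (D.z * b ^ i.val * y ^ j.val)) ∧ ∀ i : ZMod 3, B ≠ X ^ i.val := by
  obtain ⟨g, hg⟩ := hpt
  set y0 := g * D.z * g⁻¹ with hy0
  have hyy : (y = y0 ∨ y = y0⁻¹) := hg
  have hz0 : Commute y0 D.z := by
    rcases hyy with rfl | rfl
    exacts [hX.comm_z, Commute.inv_left_iff.mp hX.comm_z]
  have hQ0 : y0 ∉ D.Q := fun h => hQ (by rcases hyy with rfl | rfl; exacts [h, D.Q.inv_mem h])
  obtain ⟨f1, f2, f3⟩ := D.partner hz0 hQ0
  have hnA : ¬ D.DiagA (g⁻¹ * D.z * g) := fun h => by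
    have := diagA_symm hz0 hQ0 h
    rcases hyy with rfl | rfl
    exacts [hA this, hA this.inv]
  obtain ⟨b', hbQ, hb0, hbc, hbs⟩ := D.shift f1 f2 f3 hnA
  set b := g * b' * g⁻¹ with hb
  have hbz : Commute b D.z := by
    have := conj_comm g hbc.symm
    rwa [show g * (g⁻¹ * D.z * g) * g⁻¹ = D.z by group] at this
  have hb3 : b ^ 3 = 1 := by rw [hb, conj_pow, D.Q_cube hbQ, mul_one, mul_inv_cancel]
  have hby0 : Commute b y0 := conj_comm g (D.Q_z hbQ)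
  obtain ⟨B, hB, hB3⟩ := D.ma_three hbz hb3
  have hpts0 : ∀ i j : ZMod 3, D.IsPt (D.z * b ^ i.val * y0 ^ j.val) := fun i j => by
    have := (hbs i j).conj g
    rwa [show g * (g⁻¹ * D.z * g * b' ^ i.val * D.zz j) * g⁻¹ = D.z * (g * b' ^ i.val * g⁻¹) * (g * D.zz j * g⁻¹) by
      group, ← conj_pow, show g * D.zz j * g⁻¹ = y0 ^ j.val by rw [hy0, conj_pow]; rfl] at this
  have hy3 : y0 ^ 3 = 1 := by rw [hy0, conj_pow, D.z_cube, mul_one, mul_inv_cancel]
  have hrel : ∀ j : ZMod 3, y ^ j.val = y0 ^ j.val ∨ y ^ j.val = y0 ^ (-j).val := fun j => by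
    rcases hyy with rfl | rfl
    · exact Or.inl rfl
    · refine Or.inr ?_
      rw [inv_pow]
      refine (eq_inv_of_mul_eq_one_left ?_).symm
      rw [← pow_add, pow_eq_pow_mod _ hy3, ← ZMod.val_add, neg_add_cancel, ZMod.val_zero, pow_zero]
  refine ⟨b, B, hbz, ?_, hB, hB3, ?_, fun i j => ?_, fun i hi => ?_⟩
  · rcases hyy with rfl | rfl
    exacts [hby0, hby0.inv_right]
  · intro a ha m hm
    have ha0 : Commute y0 (D.q a) := by
      rcases hyy with rfl | rfl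
      exacts [ha, Commute.inv_left_iff.mp ha]
    have haz : Commute (g⁻¹ * D.q a * g) D.z := by
      have := conj_comm' g ha0.symm
      rwa [show g⁻¹ * y0 * g = D.z by rw [hy0]; group] at this
    have h1 : b' * (g⁻¹ * D.q a * g) * b'⁻¹ = g⁻¹ * D.zz m * g * (g⁻¹ * D.q a * g) := by
      calc b' * (g⁻¹ * D.q a * g) * b'⁻¹ = g⁻¹ * (b * D.q a * b⁻¹) * g := by rw [hb]; group
        _ = _ := by rw [hm]; group
    have h2 : g⁻¹ * D.zz m * g = b' * ((g⁻¹ * D.q a * g) * b'⁻¹ * (g⁻¹ * D.q a * g)⁻¹) := by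
      rw [← mul_assoc, ← mul_assoc, h1]; group
    have h3 : g⁻¹ * D.zz m * g ∈ D.Q := h2 ▸ mul_mem hbQ (D.conj_Q haz (D.Q.inv_mem hbQ))
    by_contra hm0
    rcases (by decide : ∀ k : ZMod 3, k ≠ 0 → k = 1 ∨ k = -1) m hm0 with rfl | rfl
    · exact f3 (by rwa [zz_one] at h3)
    · rw [zz_neg, zz_one] at h3
      exact f3 (D.Q.inv_mem_iff.mp (by rwa [show (g⁻¹ * D.z * g)⁻¹ = g⁻¹ * D.z⁻¹ * g by group]))
  · rcases hrel j with e | e <;> rw [e]
    exacts [hpts0 i j, hpts0 i (-j)]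
  · obtain ⟨j, hj⟩ : ∃ j : ZMod 3, y0 ^ j.val = (y ^ i.val)⁻¹ := by
      rcases hrel i with e | e <;> rw [e]
      · refine ⟨-i, eq_inv_of_mul_eq_one_left ?_⟩
        rw [← pow_add, pow_eq_pow_mod _ hy3, ← ZMod.val_add, neg_add_cancel, ZMod.val_zero, pow_zero]
      · refine ⟨i, eq_inv_of_mul_eq_one_left ?_⟩
        rw [← pow_add, pow_eq_pow_mod _ hy3, ← ZMod.val_add, add_neg_cancel, ZMod.val_zero, pow_zero]
    have h1 := hB.mul (hX.pow i.val).inv
    rw [hi, mul_inv_cancel, ← hj] at h1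
    have hp1 := hpts0 1 j
    rw [show (1 : ZMod 3).val = 1 from rfl, pow_one, mul_assoc] at hp1
    obtain ⟨k, hk⟩ := hp1.mem_Q (mul_mem (D.zz_one ▸ D.zz_mem 1) h1.mem_Q)
    have e2 : b' = g⁻¹ * D.zz (k - 1) * g * (D.zz j)⁻¹ := by
      rw [sub_eq_add_neg, add_comm, zz_add, ← hk, zz_neg, zz_one, hy0, conj_pow, hb, zz]
      group
    rcases (by decide : ∀ k : ZMod 3, k = 0 ∨ k = 1 ∨ k = -1) (k - 1) with r | r | r <;> rw [r] at e2
    · exact hb0 (-j) (by rw [e2, zz_zero, ← D.zz_neg]; group)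
    · refine f3 ?_
      rw [show g⁻¹ * D.z * g = b' * D.zz j by rw [e2, zz_one]; group]
      exact mul_mem hbQ (D.zz_mem j)
    · refine f3 (D.Q.inv_mem_iff.mp ?_)
      rw [show (g⁻¹ * D.z * g)⁻¹ = b' * D.zz j by rw [e2, zz_neg, zz_one]; group]
      exact mul_mem hbQ (D.zz_mem j)

/-- No conjugate of the central element is pure. -/
theorem no_pure {y : G} (hP : D.Pure y) (hpt : D.IsPt y) : False := by
  obtain ⟨k, s, e, hs⟩ := hP
  have hX : D.MA y (mU, 1) := by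
    have := (ma_of_Q (D := D) (mul_mem (D.zz_mem k) (D.q_mem ea2))).mul hs.ma
    rwa [one_mul, mul_assoc, ← e] at this
  have hQ : y ∉ D.Q := fun h => mU_cube.2.1 (congrArg Prod.fst (hX.unique (ma_of_Q h)))
  have hnA : ¬ D.DiagA y := by
    rintro ⟨w, hw⟩
    rw [e, D.q_conj_el hs] at hw
    have h1 := congrArg Prod.snd (D.t_fix hs.1 hw)
    simp [cV, appP, app2_one, ea2] at h1
  obtain ⟨b, B, hbz, hby, hB, hB3, hcomm, hpts, hBX⟩ := translator hpt hX hQ hnA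
  have hc : B * (mU, 1) = (mU, 1) * B := (hby.eq ▸ hB.mul hX).unique (hX.mul hB)
  have hB1 := pr_cent_pure hB3 hc
  obtain ⟨w, sb, eb, hsb⟩ := hB
  have hcv := D.comm_cV hs hsb (k := k) (u := ea2) (w := w) (by rw [← eb, ← e]; exact hby)
  rw [show B * (mU, 1) * B⁻¹ = ((mU, 1) : Pr) by rw [hc, mul_inv_cancel_right]] at hcv
  have hB2 := pure_second w.2 B.2 (congrArg Prod.snd hcv)
  have hB' : D.MA b B := ⟨w, sb, eb, hsb⟩
  have hy2 : ∀ a : W4, a = ea1 ∨ a = ea2 → Commute y (D.q a) ∧ appP B a = a := by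
    intro a ha
    refine ⟨e ▸ (D.comm_q_iff hs a).mpr ?_, ?_⟩
    · rcases ha with rfl | rfl <;> decide
    · rcases ha with rfl | rfl
      exacts [(pure_nine_fix B hB1 hB2).1, (pure_nine_fix B hB1 hB2).2]
  have hba : ∀ a : W4, a = ea1 ∨ a = ea2 → Commute b (D.q a) := by
    intro a ha
    obtain ⟨h1, h2⟩ := hy2 a ha
    have h3 : b * D.q a * b⁻¹ = D.zz (om w a) * D.q a := by
      rw [eb, show D.q w * sb * D.q a * (D.q w * sb)⁻¹ = D.q w * (sb * D.q a * sb⁻¹) * (D.q w)⁻¹ by group, hsb.2, h2,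
        q_conj]
    rw [hcomm a h1 _ h3, zz_zero, one_mul, mul_inv_eq_iff_eq_mul] at h3
    exact h3
  have hne : B.2 ≠ 1 := by
    intro h2
    obtain ⟨i, hi⟩ := pure_pow B.1 hB1
    refine hBX i (Prod.ext ?_ ?_)
    · rw [Prod.pow_fst, hi]
    · rw [Prod.pow_snd, h2, one_pow]
  obtain ⟨j, hj, hjne⟩ := opp_choice B.1 B.2 hB1 (hB2.resolve_left hne)
  have hd := hpts 1 j
  rw [show (1 : ZMod 3).val = 1 from rfl, pow_one] at hd
  have hMA : D.MA (D.z * b * y ^ j.val) (B.1 * mU ^ j.val, B.2) := by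
    have h1 := ((D.zz_one ▸ (D.acts_zz 1).ma : D.MA D.z 1).mul hB').mul (hX.pow j.val)
    rw [one_mul] at h1
    convert h1 using 1
    exact Prod.ext (by simp) (by simp)
  have hcm : ∀ a : W4, a = ea1 ∨ a = ea2 → Commute (D.z * b * y ^ j.val) (D.q a) := fun a ha =>
    ((D.q_z a).symm.mul_left (hba a ha)).mul_left ((hy2 a ha).1.pow_left _)
  exact hjne (orient' hMA hj hd (hcm _ (Or.inl rfl)) (hcm _ (Or.inr rfl)))

/-- All conjugates of the central element outside the core are diagonal. -/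
theorem all_diagA {x : G} (hp : D.IsPt x) (hz : Commute x D.z) (hQ : x ∉ D.Q) : D.DiagA x := by
  obtain ⟨h, hh, y, hy, hP⟩ := D.normal_form hp hz hQ
  have hyp : D.IsPt y := by rcases hy with rfl | rfl; exacts [hp.conj h, (hp.conj h).inv]
  have hyz : Commute y D.z := by
    have : Commute (h * x * h⁻¹) D.z := (hh.mul_left hz).mul_left hh.inv_left
    rcases hy with rfl | rfl; exacts [this, this.inv_left]
  have hyA : D.DiagA y := by
    rcases hP with hP | hP | hP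
    · exact (no_pure hP hyp).elim
    · exact (no_pure hP hyp).elim
    obtain ⟨k, b1, b2, s, gd, hgd, e, hs⟩ := hP
    by_cases hb : (b1, b2) = (0, 0)
    · obtain ⟨rfl, rfl⟩ := Prod.mk.inj hb
      exact e ▸ D.diagA_of_zero hs.1
    exfalso
    have hdp := diagP_of_two hgd
    have hX : D.MA y gd := by
      have := (ma_of_Q (D := D) (mul_mem (D.zz_mem k) (D.q_mem ((0, b1), (0, b2))))).mul hs.ma
      rwa [one_mul, mul_assoc, ← e] at this
    have hyQ : y ∉ D.Q := fun h => hdp.ne.1 (congrArg Prod.fst (hX.unique (ma_of_Q h)))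
    have hnA : ¬ D.DiagA y := by
      rintro ⟨w, hw⟩
      rw [e, D.q_conj_el hs] at hw
      have h1 := D.t_fix hs.1 hw
      have key : ∀ g ∈ [((mU, mU) : Pr), (mU, mU * mU)], ∀ b1 b2 : ZMod 3, (b1, b2) ≠ (0, 0) →
          ∀ w, cV g ((0, b1), (0, b2)) w ≠ 0 := by decide +kernel
      exact key gd hgd b1 b2 hb w h1
    obtain ⟨b, B, hbz, hby, hB, hB3, -, hpts, hBX⟩ := translator hyp hX hyQ hnA
    obtain ⟨c1, c2⟩ := hdp.cent hB3 ((hby.eq ▸ hB.mul hX).unique (hX.mul hB))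
    obtain ⟨i, j, hij1, hij2⟩ := span_nine gd.1 gd.2 hdp.comps.1 hdp.comps.2 B.1 B.2 c1 c2 hBX
    have hd := hpts i j
    have hMA : D.MA (D.z * b ^ i.val * y ^ j.val) (mU, 1) := by
      have h1 := ((D.zz_one ▸ (D.acts_zz 1).ma : D.MA D.z 1).mul (hB.pow i.val)).mul (hX.pow j.val)
      rw [one_mul] at h1
      convert h1 using 1
      exact Prod.ext (by simpa using hij1.symm) (by simpa using hij2.symm)
    obtain ⟨u, s', e', hs'⟩ := hMA
    have hdQ : D.z * b ^ i.val * y ^ j.val ∉ D.Q := fun h =>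
      mU_cube.2.1 (congrArg Prod.fst (MA.unique (D := D) (g := (mU, 1)) ⟨u, s', e', hs'⟩ (ma_of_Q h)))
    obtain ⟨c, -, hP'⟩ := D.pure_of hd hdQ (k := 0) (u := u) (by rw [zz_zero, one_mul, e']) hs'
    exact no_pure hP' (hd.conj c)
  rcases hy with rfl | rfl
  · exact hyA.of_conj hh
  · exact (inv_inv (h * x * h⁻¹) ▸ hyA.inv).of_conj hh

/-- The standard form of a conjugate outside the core. -/
theorem point_form {x : G} (hp : D.IsPt x) (hz : Commute x D.z) (hQ : x ∉ D.Q) :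
    ∃ h p, Commute h D.z ∧ D.Acts (h * x * h⁻¹) p ∧ Par p := by
  obtain ⟨h, p, hh, hx, hd⟩ := (all_diagA hp hz hQ).std hp hz hQ
  exact ⟨h, p, hh, hx, hd.par (orient hx hd (hp.conj h))⟩

/-- The transporter of a standard point. -/
theorem transport {y : G} {p : Pr} (hy : D.Acts y p) (hp : Par p) (hpt : D.IsPt y) :
    ∃ g, (y = g * D.z * g⁻¹ ∨ y = (g * D.z * g⁻¹)⁻¹) ∧ Commute g D.t ∧
      (∃ p', D.Acts (g⁻¹ * D.z * g) p' ∧ Par p') ∧ ∀ a, InA a → ∃ b, InA b ∧ g⁻¹ * D.q a * g = D.q b := by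
  have key : ∀ g q, D.PartnerData g q → ∃ g', g' * D.z * g'⁻¹ = g * D.z * g⁻¹ ∧ Commute g' D.t ∧
      (∃ p', D.Acts (g'⁻¹ * D.z * g') p' ∧ Par p') ∧ ∀ a, InA a → ∃ b, InA b ∧ g'⁻¹ * D.q a * g' = D.q b := by
    intro g q P
    obtain ⟨g', e, ht, ⟨p', hx, hd⟩, hA⟩ := P.transporter
    exact ⟨g', e, ht, ⟨p', hx, hd.par (orient hx hd ⟨g'⁻¹, Or.inl (by rw [inv_inv])⟩)⟩, hA⟩
  obtain ⟨g, rfl | rfl⟩ := hpt
  · obtain ⟨g', e, h⟩ := key g p ⟨hy, hp.diag⟩
    exact ⟨g', Or.inl e.symm, h⟩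
  · obtain ⟨g', e, h⟩ := key g p⁻¹ ⟨inv_inv (g * D.z * g⁻¹) ▸ hy.inv, hp.diag.inv⟩
    exact ⟨g', Or.inr (by rw [e]), h⟩

end Setting

end CfsgLib.U6Three
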