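import Cfsg.Agent.Lib.U6Three.PairAct
import Cfsg.Agent.Lib.Components
import Cfsg.Agent.Lib.Subnormal
import Cfsg.Agent.Lib.TransferApps
import Cfsg.Agent.Lib.ThreeCC.Local
import Cfsg.Agent.S3331

/-!
The centraliser of two orthogonal components normalises the product.
-/

set_option autoImplicit false
set_option linter.style.haveILetI false
set_option synthInstance.maxSize 1024

namespace CfsgLib.U6Three

universe u

theorem s3_no_two : ∀ a b : Equiv.Perm (Fin 3), a * a * a = 1 → a ≠ 1 → b * b = 1 →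
    a * b * a⁻¹ * b = b * (a * b * a⁻¹) → b = 1 := by decide +kernel

open scoped commutatorElement

theorem z3_three : ∀ x : ZMod 3, x + x + x = 0 := by decide

theorem z3_two : (∀ b : ZMod 3, b ≠ 0 → b = 1 ∨ b = 2) ∧
    (∀ x y : ZMod 3, x + y = 0 → (x, y) = (0, 0) ∨ (x, y) = (1, 2) ∨ (x, y) = (2, 1)) ∧
    (1 : ZMod 3) + -1 = 0 ∧ (2 : ZMod 3) + -2 = 0 ∧ (2 : ZMod 3) + 1 = 0 ∧ (1 : ZMod 3) + 2 = 0 := by decide

theorem exA_moves : ¬emb (some 1) ((1, 0) : K4) = emb (some 1) (rotn ((fun b : ZMod 3 => -b) 1) (1, 0)) := by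
  decide +kernel

theorem z3_neg : (1 : ZMod 3) ≠ 0 ∧ ¬ (-(1 : ZMod 3)) = - -1 ∧ -(1 : ZMod 3) = 2 ∧ -(2 : ZMod 3) = 1 := by decide

theorem av_neg01 : appP ((1, -1) : Pr) (av 0 1) = -av 0 1 := by decide +kernel

theorem vb12_none : ∀ a : K4, (vb (emb none a) 1 = 0 ∧ vb (emb none a) 2 = 0) ∧
    vb (emb (some 0) a) 1 = 0 ∧ vb (emb (some 0) a) 2 = 0 := by decide +kernel

theorem vb12_split : ∀ a b c d : K4,
    (vb (emb (some 1) a + emb (some 2) b + (emb (some 1) c + emb (some 2) d)) 1 = 0 → a = c) ∧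
    (vb (emb (some 1) a + emb (some 2) b + (emb (some 1) c + emb (some 2) d)) 2 = 0 → b = d) := by decide +kernel

namespace Setting.Base

variable {G : Type u} [Group G] {D : Setting G} (F : D.Base) [Finite G]

theorem UM_norm_N0 {g : G} (hg : g ∈ F.UM) : g ∈ Subgroup.normalizer (F.N0 : Set G) := by
  refine norm_of_conj fun d hd => ?_
  have hle : F.N0 ≤ F.N0.comap (MulAut.conj g).toMonoidHom := by
    refine sup_le (fun r hr => ?_) fun x hx => ?_
    · exact F.R1_le_N0 (F.R1_conj_U (F.mem_UM.mp hg).1 (F.mem_UM.mp hg).2 hr)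
    · rw [← F.Rb_zero] at hx
      exact F.Ry_le_N0 (F.Rb_zero ▸ F.UM_Rb hg hx)
  exact hle hd

theorem N0_le_Xp : F.N0 ≤ F.Xp := F.N0_le_K.trans F.K_le_Xp

/-- The centraliser of two orthogonal components modulo the centre normalises the product. -/
theorem pair_le_N : F.Xp ≤ F.N := by
  classical
  haveI : Fact (Nat.Prime 3) := ⟨Nat.prime_three⟩
  haveI : Fact (Nat.Prime 2) := ⟨Nat.prime_two⟩
  let Nn : Subgroup F.Xp := F.N0.subgroupOf F.Xp
  haveI hNn : Nn.Normal := ⟨fun d hd g => F.Xp_conj g.2 hd⟩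
  let π : F.Xp →* F.Xp ⧸ Nn := QuotientGroup.mk' Nn
  have hπ : Function.Surjective π := QuotientGroup.mk'_surjective Nn
  have hπ1 : ∀ x : F.Xp, π x = 1 ↔ (x : G) ∈ F.N0 := fun x => (QuotientGroup.eq_one_iff x).trans Iff.rfl
  have hπe : ∀ x y : F.Xp, π x = π y ↔ (x : G)⁻¹ * y ∈ F.N0 := fun x y => QuotientGroup.eq.trans Iff.rfl
  have hN0M : F.N0 ≤ Mc (D := D) := fun x hx => mem_Mc.mpr (F.N0_comm hx)
  have ha2M : a2 D ∈ Mc (D := D) := F.UM_le_Mc F.a2_mem_UM
  let aX : F.Xp := ⟨a2 D, F.a2_Xp⟩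
  let a : F.Xp ⧸ Nn := π aX
  let T : Subgroup (F.Xp ⧸ Nn) := ((F.Xp ⊓ Mc (D := D)).subgroupOf F.Xp).map π
  have hT : ∀ x : F.Xp, π x ∈ T ↔ (x : G) ∈ Mc (D := D) := fun x => by
    refine ⟨?_, fun h => ⟨x, ⟨x.2, h⟩, rfl⟩⟩
    rintro ⟨y, hy, e⟩
    have := mul_mem (show (y : G) ∈ Mc (D := D) from hy.2) (hN0M ((hπe y x).mp e))
    rwa [mul_inv_cancel_left] at this
  have hN : ∀ {x : F.Xp}, π x ∈ T → (x : G) ∈ F.N := fun {x} h => F.Mc_le_N ((hT x).mp h)
  have hdg : ∀ {g : G}, g ∈ F.Xp → g ∈ Mc (D := D) → ∃ c, F.Dg g c := fun {g} hg hM => by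
    refine (F.Xp_cases hg (F.Mc_le_N hM)).resolve_right fun hs => ?_
    have h1 := F.exA_dg.conj_sw F hg (F.Mc_le_N hM) (F.UM_le_N F.a2_mem_UM) hs
    rw [(mem_Mc.mp hM).1.eq, mul_inv_cancel_right] at h1
    exact z3_neg.2.1 (F.exA_dg.unique F h1 (b := 1) z3_neg.1)
  have hzero : ∀ {g : G}, g ∈ F.Xp → g ∈ F.N → g ∈ Mc (D := D) → F.Dg g 0 → g ∈ F.N0 := by
    intro g hgX hgN hgM hg
    have h1 : F.Dg (1 : G) 0 := fun b a _ => by rw [F.na_one, Pi.zero_apply, rotn_facts.2.2.2.1]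
    have := Dg.ext F (one_mem _) (one_mem _) hgX hgN h1 hg
    rw [inv_one, one_mul] at this
    exact F.K_cent_a2 this (mem_Mc.mp hgM).1
  have hTcomm : IsMulCommutative T := by
    refine ⟨⟨?_⟩⟩
    rintro ⟨_, g, hg, rfl⟩ ⟨_, h, hh, rfl⟩
    refine Subtype.ext ?_
    show π g * π h = π h * π g
    rw [← map_mul, ← map_mul, hπe]
    obtain ⟨c, hc⟩ := hdg g.2 hg.2
    obtain ⟨d, hd⟩ := hdg h.2 hh.2
    have hgN := F.Mc_le_N hg.2
    have hhN := F.Mc_le_N hh.2
    refine hzero (mul_mem (inv_mem (mul_mem g.2 h.2)) (mul_mem h.2 g.2)) (mul_mem (inv_mem (mul_mem hgN hhN)) (mul_mem hhN hgN))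
      (mul_mem (inv_mem (mul_mem hg.2 hh.2)) (mul_mem hh.2 hg.2)) ?_
    have := ((hc.mul F hgN hhN hd).inv F (mul_mem hgN hhN)).mul F (inv_mem (mul_mem hgN hhN)) (mul_mem hhN hgN)
      (hd.mul F hhN hgN hc)
    rwa [show -(c + d) + (d + c) = 0 by rw [add_comm d, neg_add_cancel]] at this
  have hTp : IsPGroup 3 T := by
    rintro ⟨_, g, hg, rfl⟩
    refine ⟨1, Subtype.ext ?_⟩
    show (π g) ^ 3 ^ 1 = 1
    rw [pow_one, ← map_pow, hπ1]
    obtain ⟨c, hc⟩ := hdg g.2 hg.2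
    have hgN := F.Mc_le_N hg.2
    refine hzero (pow_mem g.2 3) (pow_mem hgN 3) (pow_mem hg.2 3) ?_
    have h3 := ((hc.mul F hgN hgN hc).mul F (mul_mem hgN hgN) hgN hc)
    rw [← pow_three'] at h3
    rwa [show c + c + c = 0 from funext fun b => z3_three (c b)] at h3
  have ha3 : a ^ 3 = 1 := by
    rw [← map_pow, hπ1]
    show (a2 D) ^ 3 ∈ F.N0
    rw [F.NT_cube F.a2_mem_UM]; exact one_mem _
  have ha1 : a ≠ 1 := fun h => by
    have h1 := four_three_one (F.K_four (F.N0_le_K ((hπ1 aX).mp h))) (F.NT_cube F.a2_mem_UM)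
    have h2 := F.exA_dg 1 (1, 0) z3_neg.1
    rw [show a2 D = 1 from h1, F.na_one] at h2
    exact exA_moves h2
  -- elements commuting with the image of the second vector lift
  have hlift : ∀ x : F.Xp, Commute (π x) a → π x ∈ T := by
    intro x hx
    let C := {y : G // (x : G)⁻¹ * y ∈ F.N0}
    let E := Subgroup.zpowers (a2 D)
    have hE : ∀ e ∈ E, e ∈ F.Xp := fun e he => Subgroup.zpowers_le.mpr F.a2_Xp he
    have hm : ∀ (e : E) (y : C), (x : G)⁻¹ * ((e : G) * y.1 * (e : G)⁻¹) ∈ F.N0 := by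
      rintro ⟨e, he⟩ ⟨y, hy⟩
      have hc : Commute (π x) (π ⟨e, hE e he⟩) := by
        obtain ⟨n, rfl⟩ := Subgroup.mem_zpowers_iff.mp he
        rw [show (⟨a2 D ^ n, hE _ he⟩ : F.Xp) = aX ^ n from Subtype.ext (SubgroupClass.coe_zpow aX n).symm,
          map_zpow]
        exact hx.zpow_right n
      have h1 : (x : G)⁻¹ * (e * x * e⁻¹) ∈ F.N0 := (hπe x (⟨e, hE e he⟩ * x * ⟨e, hE e he⟩⁻¹)).mp (by
        rw [map_mul, map_mul, map_inv, ← hc.eq, mul_inv_cancel_right])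
      have := mul_mem h1 (F.Xp_conj (hE e he) hy)
      rwa [show (x : G)⁻¹ * (e * x * e⁻¹) * (e * ((x : G)⁻¹ * y) * e⁻¹) = (x : G)⁻¹ * (e * y * e⁻¹) by group] at this
    letI : MulAction E C :=
      { smul := fun e y => ⟨(e : G) * y.1 * (e : G)⁻¹, hm e y⟩
        one_smul := fun y => Subtype.ext (by show (1 : G) * y.1 * (1 : G)⁻¹ = y.1; group)
        mul_smul := fun e f y => Subtype.ext (by
          show ((e : G) * f) * y.1 * ((e : G) * f)⁻¹ = (e : G) * ((f : G) * y.1 * (f : G)⁻¹) * (e : G)⁻¹; group) }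
    let eqv : F.N0 ≃ C :=
      { toFun := fun d => ⟨x * d.1, by rw [inv_mul_cancel_left]; exact d.2⟩
        invFun := fun y => ⟨(x : G)⁻¹ * y.1, y.2⟩
        left_inv := fun d => Subtype.ext (inv_mul_cancel_left _ _)
        right_inv := fun y => Subtype.ext (mul_inv_cancel_left _ _) }
    obtain ⟨m, hm2⟩ := IsPGroup.iff_card.mp (F.K_pgroup.to_le F.N0_le_K)
    have hmod := (pow_three_group (F.NT_cube F.a2_mem_UM)).card_modEq_card_fixedPoints C
    have hne : Nonempty (MulAction.fixedPoints E C) := by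
      by_contra hcon
      rw [not_nonempty_iff] at hcon
      rw [Nat.card_of_isEmpty (α := MulAction.fixedPoints E C), ← Nat.card_congr eqv, hm2] at hmod
      have := Nat.prime_three.dvd_of_dvd_pow (Nat.modEq_zero_iff_dvd.mp hmod)
      omega
    obtain ⟨⟨y, hy⟩⟩ := hne
    have hc : Commute y.1 (a2 D) :=
      (mul_inv_eq_iff_eq_mul.mp (congrArg Subtype.val (hy ⟨a2 D, Subgroup.mem_zpowers _⟩))).symm
    have hyX : y.1 ∈ F.Xp := by
      have := mul_mem x.2 (F.N0_le_Xp y.2)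
      rwa [mul_inv_cancel_left] at this
    have e : π x = π ⟨y.1, hyX⟩ := (hπe _ _).mpr y.2
    rw [e, hT]
    exact mem_Mc.mpr ⟨hc, mem_Mi.mp (F.Xp_le_Mi hyX)⟩
  have haT : a ∈ T := (hT aX).mpr ha2M
  -- the elements moving the second vector into the Sylow subgroup
  have hmove : ∀ x : F.Xp, π x * a * (π x)⁻¹ ∈ T → (x : G) ∈ F.N ∧
      (π x * a * (π x)⁻¹ = a ∨ π x * a * (π x)⁻¹ = a⁻¹) := by
    intro x hx
    have hw : (x : G) * a2 D * (x : G)⁻¹ ∈ Mc (D := D) := (hT (x * aX * x⁻¹)).mp (by rwa [map_mul, map_mul, map_inv])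
    have hxN : (x : G) ∈ F.N := F.N_a2_fusion (F.Xp_le_Mi x.2) (F.Mc_le_N hw)
    have haN : a2 D ∈ F.N := F.UM_le_N F.a2_mem_UM
    have hcN : (x : G) * a2 D * (x : G)⁻¹ ∈ F.N := mul_mem (mul_mem hxN haN) (inv_mem hxN)
    have hwX : (x : G) * a2 D * (x : G)⁻¹ ∈ F.Xp := mul_mem (mul_mem x.2 F.a2_Xp) (inv_mem x.2)
    refine ⟨hxN, ?_⟩
    rw [← map_inv, ← map_mul, ← map_mul, ← map_inv, hπe, hπe]
    rcases F.Xp_cases x.2 hxN with ⟨c, hc⟩ | hs
    · left
      refine hzero (mul_mem (inv_mem hwX) F.a2_Xp) (mul_mem (inv_mem hcN) haN) (mul_mem (inv_mem hw) ha2M) ?_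
      have h1 := (((hc.mul F hxN haN F.exA_dg).mul F (mul_mem hxN haN) (inv_mem hxN) (hc.inv F hxN)).inv F hcN).mul F
        (inv_mem hcN) haN F.exA_dg
      rwa [show -(c + (fun b => -b) + -c) + (fun b : ZMod 3 => -b) = 0 by
        rw [add_neg_cancel_comm, neg_add_cancel]] at h1
    · right
      refine hzero (mul_mem (inv_mem hwX) (inv_mem F.a2_Xp)) (mul_mem (inv_mem hcN) (inv_mem haN))
        (mul_mem (inv_mem hw) (inv_mem ha2M)) ?_
      have h1 := ((F.exA_dg.conj_sw F x.2 hxN haN hs).inv F hcN).mul F (inv_mem hcN) (inv_mem haN)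
        (F.exA_dg.inv F haN)
      rwa [show -(fun b : ZMod 3 => -(-b)) + -(fun b : ZMod 3 => -b) = 0 from funext fun b => by
        simp only [Pi.add_apply, Pi.neg_apply, Pi.zero_apply, neg_neg, neg_add_cancel]] at h1
  -- the Sylow subgroup
  obtain ⟨S, hS⟩ := hTp.exists_le_sylow
  have hST : (S : Subgroup (F.Xp ⧸ Nn)) ≤ T := by
    refine le_of_grow S.2 hS fun x hx hn => ?_
    obtain ⟨xx, rfl⟩ := hπ x
    obtain ⟨-, h | h⟩ := hmove xx (hn a haT)
    · exact hlift xx (mul_inv_eq_iff_eq_mul.mp h)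
    · exfalso
      obtain ⟨m, hm⟩ := S.2 ⟨π xx, hx⟩
      have h4 := conj_odd (show (π xx) ^ 3 ^ m = 1 from congrArg Subtype.val hm) h
      refine ha1 ?_
      have h2 : a * a = 1 := by nth_rw 1 [← h4]; exact inv_mul_cancel _
      rw [pow_three', h2, one_mul] at ha3
      exact ha3
  have hSe : (S : Subgroup (F.Xp ⧸ Nn)) = T := le_antisymm hST hS
  have hfoc : ⁅T, Subgroup.normalizer (T : Set (F.Xp ⧸ Nn))⁆ ≤ Subgroup.zpowers a := by
    rw [Subgroup.commutator_le]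
    intro t ht n hn
    obtain ⟨nn, rfl⟩ := hπ n
    obtain ⟨tt, rfl⟩ := hπ t
    obtain ⟨hnN, -⟩ := hmove nn ((hn a).mp haT)
    have htM := (hT tt).mp ht
    have htN := F.Mc_le_N htM
    obtain ⟨c, hc⟩ := hdg tt.2 htM
    set w := tt * nn * tt⁻¹ * nn⁻¹ with hw
    have hwe : ⁅π tt, π nn⁆ = π w := by rw [commutatorElement_def, map_mul, map_mul, map_mul, map_inv, map_inv]
    have hwT : π w ∈ T := by
      rw [← hwe, commutatorElement_def, show π tt * π nn * (π tt)⁻¹ * (π nn)⁻¹ =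
        π tt * (π nn * (π tt)⁻¹ * (π nn)⁻¹) by group]
      exact T.mul_mem ht ((hn _).mp (T.inv_mem ht))
    have hwM := (hT w).mp hwT
    have hwN : (w : G) ∈ F.N := F.Mc_le_N hwM
    obtain ⟨d, hd, hd12⟩ : ∃ d, F.Dg (w : G) d ∧ d 1 + d 2 = 0 := by
      have hwe' : (w : G) = (tt : G) * ((nn : G) * (tt : G)⁻¹ * (nn : G)⁻¹) := by
        rw [hw]; simp only [Subgroup.coe_mul, InvMemClass.coe_inv, mul_assoc]
      have hin := hc.inv F htN
      rcases F.Xp_cases nn.2 hnN with ⟨e, he⟩ | hs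
      · refine ⟨_, hwe' ▸ hc.mul F htN (mul_mem (mul_mem hnN (inv_mem htN)) (inv_mem hnN))
          ((he.mul F hnN (inv_mem htN) hin).mul F (mul_mem hnN (inv_mem htN)) (inv_mem hnN) (he.inv F hnN)), ?_⟩
        simp only [Pi.add_apply, Pi.neg_apply]; ring
      · refine ⟨_, hwe' ▸ hc.mul F htN (mul_mem (mul_mem hnN (inv_mem htN)) (inv_mem hnN))
          (hin.conj_sw F nn.2 hnN (inv_mem htN) hs), ?_⟩
        simp only [Pi.add_apply, Pi.neg_apply, z3_neg.2.2.1, z3_neg.2.2.2]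
        ring
    rw [hwe]
    have haN : a2 D ∈ F.N := F.UM_le_N F.a2_mem_UM
    have fin : ∀ (j : G) (hjX : j ∈ F.Xp), π ⟨j, hjX⟩ ∈ Subgroup.zpowers a → j ∈ F.N → j ∈ Mc (D := D) →
        ∀ e, F.Dg j e → (∀ b, b ≠ 0 → d b + e b = 0) → π w ∈ Subgroup.zpowers a := by
      intro j hjX hja hjN hjM e he hde
      have h0 : (w : G) * j ∈ F.N0 := hzero (mul_mem w.2 hjX) (mul_mem hwN hjN) (mul_mem hwM hjM) fun b x hb => by
        rw [(hd.mul F hwN hjN he) b x hb, Pi.add_apply, hde b hb, Pi.zero_apply]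
      have h1 := (hπ1 (w * ⟨j, hjX⟩)).mpr h0
      rw [map_mul] at h1
      rw [eq_inv_of_mul_eq_one_left h1]
      exact Subgroup.inv_mem _ hja
    have hb := z3_two.1
    rcases z3_two.2.1 _ _ hd12
      with h | h | h <;> obtain ⟨e1, e2⟩ := Prod.mk.inj h
    · refine fin 1 (one_mem _) ?_ (one_mem _) (one_mem _) 0 (fun b x _ => by
        rw [F.na_one, Pi.zero_apply, rotn_facts.2.2.2.1]) fun b hb0 => ?_
      · rw [show (⟨1, one_mem _⟩ : F.Xp) = 1 from rfl, map_one]; exact one_mem _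
      · rcases hb b hb0 with rfl | rfl <;> simp [e1, e2]
    · refine fin (a2 D) F.a2_Xp (Subgroup.mem_zpowers _) haN ha2M _ F.exA_dg fun b hb0 => ?_
      rcases hb b hb0 with rfl | rfl
      · rw [e1]; exact z3_two.2.2.1
      · rw [e2]; exact z3_two.2.2.2.1
    · refine fin (a2 D)⁻¹ (inv_mem F.a2_Xp) ?_ (inv_mem haN) (inv_mem ha2M) _ (F.exA_dg.inv F haN) fun b hb0 => ?_
      · rw [show (⟨(a2 D)⁻¹, inv_mem F.a2_Xp⟩ : F.Xp) = aX⁻¹ from rfl, map_inv]
        exact Subgroup.inv_mem _ (Subgroup.mem_zpowers _)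
      · simp only [Pi.neg_apply, neg_neg]
        rcases hb b hb0 with rfl | rfl
        · rw [e1]; exact z3_two.2.2.2.2.1
        · rw [e2]; exact z3_two.2.2.2.2.2
  -- the residual
  set X0 := Cfsg.pResidual 3 (F.Xp ⧸ Nn) with hX0d
  have hres : T ⊓ X0 = ⁅T, Subgroup.normalizer (T : Set (F.Xp ⧸ Nn))⁆ := by
    have := CfsgLib.TransferApps.inf_pResidual_eq_of_abelian S (by rw [hSe]; exact hTcomm)
    rwa [hSe] at this
  have haX0 : a ∈ X0 := by
    let iX : F.Xp := ⟨i2 D, F.i2_Xp⟩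
    have hconj : i2 D * a2 D * (i2 D)⁻¹ = (a2 D)⁻¹ := by
      rw [show a2 D = D.q (av 0 1) from rfl, i2_acts.2, D.q_inv, av_neg01]
    have hi : π iX ∈ Subgroup.normalizer (T : Set (F.Xp ⧸ Nn)) := by
      refine norm_of_conj fun w hw => ?_
      obtain ⟨g, hg, rfl⟩ := hw
      rw [← map_inv, ← map_mul, ← map_mul, hT]
      refine mem_Mc.mpr ⟨?_, mem_Mi.mp (F.Xp_le_Mi (iX * g * iX⁻¹).2)⟩
      have h1 := conj_comm (i2 D) (mem_Mc.mp hg.2).1
      rw [hconj] at h1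
      simpa using h1.inv_right
    have hmem := Subgroup.commutator_mem_commutator haT hi
    rw [← hres] at hmem
    have hca : ⁅a, π iX⁆ = a ^ 2 := by
      rw [commutatorElement_def, mul_assoc, mul_assoc, ← map_inv π iX, ← map_inv π aX, ← map_mul, ← map_mul, ← map_mul,
        ← map_pow]
      congr 1
      refine Subtype.ext ?_
      show a2 D * (i2 D * ((a2 D)⁻¹ * (i2 D)⁻¹)) = a2 D ^ 2
      rw [← mul_assoc (i2 D), ← conj_inv, hconj, inv_inv, pow_two]
    rw [hca] at hmem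
    have h2 := Subgroup.pow_mem _ hmem.2 2
    rwa [← pow_mul, show 2 * 2 = 3 + 1 from rfl, pow_succ, ha3, one_mul] at h2
  let a0 : X0 := ⟨a, haX0⟩
  have ha0 : orderOf a0 = 3 := orderOf_eq_prime (Subtype.ext (by simpa using ha3))
    (fun h => ha1 (congrArg Subtype.val h))
  have hC0 : Subgroup.centralizer ((Subgroup.zpowers a0 : Subgroup X0) : Set X0) = Subgroup.zpowers a0 := by
    refine le_antisymm (fun q hq => ?_) ?_
    · obtain ⟨qq, hqq⟩ := hπ (q : F.Xp ⧸ Nn)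
      have hc : Commute (q : F.Xp ⧸ Nn) a :=
        (congrArg Subtype.val (Subgroup.mem_centralizer_iff.mp hq a0 (Subgroup.mem_zpowers _))).symm
      have hqT : (q : F.Xp ⧸ Nn) ∈ T := hqq ▸ hlift qq (hqq.symm ▸ hc)
      obtain ⟨n, hn⟩ := Subgroup.mem_zpowers_iff.mp (hfoc (hres.le (show (q : F.Xp ⧸ Nn) ∈ T ⊓ X0 from ⟨hqT, q.2⟩)))
      exact Subgroup.mem_zpowers_iff.mpr ⟨n, Subtype.ext (by rw [SubgroupClass.coe_zpow]; exact hn)⟩
    · intro q hq
      obtain ⟨n, rfl⟩ := Subgroup.mem_zpowers_iff.mp hq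
      refine Subgroup.mem_centralizer_iff.mpr fun y hy => ?_
      obtain ⟨k, rfl⟩ := Subgroup.mem_zpowers_iff.mp hy
      exact ((Commute.refl a0).zpow_zpow k n).eq
  -- the four components left
  let V : Subgroup (F.Xp ⧸ Nn) := (F.K.subgroupOf F.Xp).map π
  have hV : ∀ x : F.Xp, π x ∈ V ↔ (x : G) ∈ F.K := fun x => by
    refine ⟨?_, fun h => ⟨x, h, rfl⟩⟩
    rintro ⟨y, hy, e⟩
    have := mul_mem (show (y : G) ∈ F.K from hy) (F.N0_le_K ((hπe y x).mp e))
    rwa [mul_inv_cancel_left] at this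
  have hV2 : ∀ v ∈ V, v * v = 1 := by
    rintro _ ⟨x, hx, rfl⟩
    rw [← map_mul, hπ1]
    refine F.Ic_le_N0 ?_
    show (x : G) * x ∈ Ic (D := D)
    have hx' : (x : G) ∈ F.K := hx
    rw [F.kap_sq hx']
    exact ip_Ic _
  have hVc : ∀ v ∈ V, ∀ w ∈ V, v * w = w * v := fun v hv w hw => by
    have := hV2 _ (V.mul_mem hv hw)
    calc v * w = v * (v * w * (v * w)) * w := by rw [this, mul_one]
      _ = (v * v) * (w * v) * (w * w) := by group
      _ = w * v := by rw [hV2 v hv, hV2 w hw, one_mul, mul_one]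
  have hVp : IsPGroup 2 V := fun v => ⟨1, Subtype.ext (by simpa [pow_two] using hV2 _ v.2)⟩
  have hfpf : ∀ v ∈ V, Commute v a → v = 1 := by
    rintro _ ⟨x, hx, rfl⟩ hc
    exact (hπ1 x).mpr (F.K_cent_a2 hx (mem_Mc.mp ((hT x).mp (hlift x hc))).1)
  have hVX0 : V ≤ X0 := fun v hv => CfsgLib.Transfer.mem_pResidual_of_coprime
    ((by norm_num : Nat.Coprime 2 3).coprime_dvd_left (orderOf_dvd_of_pow_eq_one (by rw [pow_two]; exact hV2 v hv)))
  have hVcard : 16 ≤ Nat.card V := by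
    let f : K4 × K4 → V := fun p =>
      ⟨π ⟨F.sec (emb (some 1) p.1 + emb (some 2) p.2), F.K_le_Xp (F.sec_mem _)⟩, (hV _).mpr (F.sec_mem _)⟩
    have hf : Function.Injective f := by
      intro p q h
      set vp := emb (some 1) p.1 + emb (some 2) p.2
      set vq := emb (some 1) q.1 + emb (some 2) q.2
      have h1 : (F.sec vp)⁻¹ * F.sec vq ∈ F.N0 := (hπe _ _).mp (congrArg Subtype.val h)
      let S : Subgroup G :=
        { carrier := {d | d ∈ F.K ∧ vb (F.kap d) 1 = 0 ∧ vb (F.kap d) 2 = 0}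
          one_mem' := ⟨one_mem _, by rw [F.kap_Ic (one_mem _)]; exact ⟨rfl, rfl⟩⟩
          mul_mem' := fun {a b} ha hb => ⟨mul_mem ha.1 hb.1, by
            rw [F.kap_mul ha.1 hb.1, vb_add, vb_add, ha.2.1, ha.2.2, hb.2.1, hb.2.2]; exact ⟨rfl, rfl⟩⟩
          inv_mem' := fun {a} ha => ⟨inv_mem ha.1, by rw [F.kap_inv ha.1]; exact ha.2⟩ }
      have hle : F.N0 ≤ S := by
        refine sup_le (fun r hr => ⟨F.R1_le_K hr, ?_⟩) fun x hx => ?_
        · rw [F.R1_emb hr]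
          exact (vb12_none _).1
        · rw [← F.Rb_zero] at hx
          refine ⟨F.Rb_le_K 0 hx, ?_⟩
          rw [F.Rb_emb hx]
          exact (vb12_none _).2
      obtain ⟨-, h2, h3⟩ := hle h1
      rw [F.kap_mul (inv_mem (F.sec_mem _)) (F.sec_mem _), F.kap_inv (F.sec_mem _), F.kap_sec, F.kap_sec] at h2 h3
      exact Prod.ext ((vb12_split _ _ _ _).1 h2) ((vb12_split _ _ _ _).2 h3)
    have := Nat.card_le_card_of_injective f hf
    simpa [Nat.card_prod, Nat.card_zmod] using this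
  -- the core lies in them
  have hO : Cfsg.pCore 2 (F.Xp ⧸ Nn) ≤ V := by
    set B := Cfsg.pCore 2 (F.Xp ⧸ Nn) ⊔ V with hB
    have hBp : IsPGroup 2 B := (CfsgLib.isPGroup_pCore 2).to_sup_of_normal_left hVp
    have hinv : ∀ u ∈ F.UM, ∀ x : F.Xp, π x ∈ B → ∃ hu : u * (x : G) * u⁻¹ ∈ F.Xp, π ⟨_, hu⟩ ∈ B := by
      intro u hu x hx
      have hn := F.UM_norm_N0 hu
      have huK := F.UM_norm_K hu
      have hX : ∀ g : G, g ∈ F.Xp → u * g * u⁻¹ ∈ F.Xp := fun g hg => mem_Cen.mpr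
        ⟨mul_mem (mul_mem (F.N_le_Mi (F.UM_le_N hu)) (F.Xp_le_Mi hg)) (inv_mem (F.N_le_Mi (F.UM_le_N hu))),
          fun d hd => by
            have hd' : u⁻¹ * d * u ∈ F.N0 := by
              have := ((Subgroup.inv_mem _ hn : u⁻¹ ∈ Subgroup.normalizer (F.N0 : Set G)) d).mp hd
              rwa [inv_inv] at this
            have h := (mem_Cen.mp hg).2 _ hd'
            have e : d⁻¹ * (u * g * u⁻¹ * d * (u * g * u⁻¹)⁻¹) =
                u * ((u⁻¹ * d * u)⁻¹ * (g * (u⁻¹ * d * u) * g⁻¹)) * u⁻¹ := by group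
            rw [e, (Ic_comm_Mi h (F.N_le_Mi (F.UM_le_N hu))).eq, mul_inv_cancel_right]
            exact h⟩
      have hX' : ∀ g : G, g ∈ F.Xp → u⁻¹ * g * u ∈ F.Xp := fun g hg => by
        have h3 := F.U_cube (F.mem_UM.mp hu).1
        have := hX _ (hX g hg)
        rwa [show u * (u * g * u⁻¹) * u⁻¹ = u ^ 3 * (u⁻¹ * g * u) * (u ^ 3)⁻¹ by rw [pow_three']; group, h3, one_mul,
          inv_one, mul_one] at this
      let θ : F.Xp ≃* F.Xp :=
        { toFun := fun g => ⟨u * g * u⁻¹, hX g g.2⟩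
          invFun := fun g => ⟨u⁻¹ * g * u, hX' g g.2⟩
          left_inv := fun g => Subtype.ext (by show u⁻¹ * (u * (g : G) * u⁻¹) * u = g; group)
          right_inv := fun g => Subtype.ext (by show u * (u⁻¹ * (g : G) * u) * u⁻¹ = g; group)
          map_mul' := fun g h => Subtype.ext (by
            show u * ((g : G) * h) * u⁻¹ = u * g * u⁻¹ * (u * h * u⁻¹); group) }
      have hθN : Nn.map θ.toMonoidHom = Nn := by
        ext g
        constructor
        · rintro ⟨d, hd, rfl⟩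
          exact (hn _).mp hd
        · intro hg
          refine ⟨θ.symm g, ?_, θ.apply_symm_apply g⟩
          have := ((Subgroup.inv_mem _ hn : u⁻¹ ∈ Subgroup.normalizer (F.N0 : Set G)) (g : G)).mp hg
          rwa [inv_inv] at this
      let θQ := QuotientGroup.congr Nn Nn θ hθN
      have hθπ : ∀ g, θQ (π g) = π (θ g) := fun g => rfl
      have hle : B ≤ B.comap θQ.toMonoidHom := by
        refine sup_le (fun q hq => ?_) fun q hq => ?_
        · exact Subgroup.mem_comap.mpr (Subgroup.mem_sup_left (CfsgLib.pCore_map_equiv 2 θQ ▸ ⟨q, hq, rfl⟩))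
        · obtain ⟨g, hg, rfl⟩ := hq
          exact Subgroup.mem_comap.mpr (Subgroup.mem_sup_right ((hV (θ g)).mpr ((huK _).mp hg)))
      exact ⟨hX _ x.2, hle hx⟩
    let W : Subgroup G := (B.comap π).map F.Xp.subtype
    have hW : W ≤ F.K := by
      refine F.maximal_K W ?_ ?_ ?_ ?_
      · exact (Subgroup.map_subtype_le _).trans F.Xp_le_Mi
      · have hp : IsPGroup 2 W := by
          refine (hBp.comap_of_ker_isPGroup π ?_).map _
          rw [QuotientGroup.ker_mk']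
          exact (F.K_pgroup.to_le F.N0_le_K).comap_of_injective F.Xp.subtype F.Xp.subtype_injective
        obtain ⟨m, hm⟩ := IsPGroup.iff_card.mp hp
        rw [hm]; exact (by norm_num : Nat.Coprime 2 3).pow_left m
      all_goals
        refine norm_of_conj ?_
        rintro _ ⟨x, hx, rfl⟩
      · obtain ⟨hu, hm⟩ := hinv _ F.z_mem_UM x hx
        exact ⟨⟨_, hu⟩, hm, rfl⟩
      · obtain ⟨hu, hm⟩ := hinv _ F.a2_mem_UM x hx
        exact ⟨⟨_, hu⟩, hm, rfl⟩
    intro q hq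
    obtain ⟨x, rfl⟩ := hπ q
    exact (hV x).mpr (hW ⟨x, Subgroup.mem_sup_left hq, rfl⟩)
  -- they lie in the core
  let V0 : Subgroup X0 := V.subgroupOf X0
  have hV0 : ∀ {q : X0}, q ∈ V0 → (q : F.Xp ⧸ Nn) ∈ V := fun hq => hq
  have hV0p : IsPGroup 2 V0 := hVp.of_equiv (Subgroup.subgroupOfEquivOfLe hVX0).symm
  have hV0c : 16 ≤ Nat.card V0 := by rwa [Nat.card_congr (Subgroup.subgroupOfEquivOfLe hVX0).toEquiv]
  have hV0sq : ∀ v ∈ V0, v * v = 1 := fun v hv => Subtype.ext (hV2 _ hv)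
  have ha0V : ∀ v ∈ V0, a0 * v * a0⁻¹ ∈ V0 := fun v hv => by
    obtain ⟨x, hx, e⟩ := hV0 hv
    show a * (v : F.Xp ⧸ Nn) * a⁻¹ ∈ V
    rw [← e, ← map_inv π aX, ← map_mul, ← map_mul, hV]
    exact (F.UM_norm_K F.a2_mem_UM _).mp hx
  have hcore : V0 ≤ Cfsg.pCore 2 X0 := by
    rcases Cfsg.Agent.S3331.result (Subgroup.zpowers a0) (by rw [Nat.card_zpowers, ha0]) hC0 with
      ⟨Nm, hNm, hnil, hco, hq⟩ | ⟨Em, hEm, hEc, hE2, ⟨e⟩⟩ | ⟨⟨e⟩⟩
    · haveI := hNm
      haveI := hnil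
      have hVN : V0 ≤ Nm := by
        intro v hv
        rw [← QuotientGroup.eq_one_iff]
        rcases hq with hq | ⟨⟨e⟩⟩
        · have h3 : (v : X0 ⧸ Nm) ^ 3 = 1 := hq ▸ pow_card_eq_one'
          have h2 : (v : X0 ⧸ Nm) * v = 1 := by rw [← QuotientGroup.mk_mul, hV0sq v hv]; rfl
          rwa [pow_three', h2, one_mul] at h3
        · refine e.injective (Eq.trans ?_ e.map_one.symm)
          refine s3_no_two (e (a0 : X0)) (e (v : X0)) ?_ ?_ ?_ ?_
          · rw [← map_mul, ← map_mul, ← QuotientGroup.mk_mul, ← QuotientGroup.mk_mul, ← pow_three',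
              show a0 ^ 3 = 1 from ha0 ▸ pow_orderOf_eq_one a0]
            exact e.map_one
          · intro h
            rw [← e.map_one] at h
            have hm := (QuotientGroup.eq_one_iff a0).mp (e.injective h)
            have := hco.coprime_dvd_left (Subgroup.orderOf_dvd_natCard Nm hm)
            rw [ha0] at this
            exact absurd this (by norm_num)
          · rw [← map_mul, ← QuotientGroup.mk_mul, hV0sq v hv]; exact e.map_one
          · have hc : a0 * v * a0⁻¹ * v = v * (a0 * v * a0⁻¹) :=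
              Subtype.ext (hVc _ (ha0V v hv) _ hv)
            simpa only [map_mul, map_inv, QuotientGroup.mk_mul, QuotientGroup.mk_inv] using
              congrArg (fun t : X0 => e (t : X0 ⧸ Nm)) hc
      exact CfsgLib.isSubnormal_isPGroup_le_pCore
        (Subgroup.IsSubnormal.trans hVN (CfsgLib.isSubnormal_of_nilpotent _) hNm.isSubnormal) hV0p
    · haveI := hEm
      have hEp : IsPGroup 2 Em := fun x => ⟨1, Subtype.ext (by simpa using hE2 _ x.2)⟩
      have hEV : Em ≤ V0 := fun x hx => hO (CfsgLib.map_pCore_le 2 X0 ⟨x, CfsgLib.le_pCore hEp hx, rfl⟩)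
      by_cases hle : V0 ≤ Em
      · exact hle.trans (CfsgLib.le_pCore hEp)
      exfalso
      let f : X0 →* alternatingGroup (Fin 5) := e.toMonoidHom.comp (QuotientGroup.mk' Em)
      have hfs : Function.Surjective f := e.surjective.comp (QuotientGroup.mk'_surjective Em)
      have hfk : ∀ x, f x = 1 ↔ x ∈ Em := fun x => by
        show e (x : X0 ⧸ Em) = 1 ↔ _
        rw [MulEquiv.map_eq_one_iff, QuotientGroup.eq_one_iff]
      let C : Subgroup X0 := Subgroup.centralizer (Em : Set X0)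
      have hVC : V0 ≤ C := fun v hv => Subgroup.mem_centralizer_iff.mpr fun w hw =>
        Subtype.ext (hVc _ (hEV hw) _ hv)
      haveI hCn : (C.map f).Normal := (inferInstance : C.Normal).map f hfs
      rcases IsSimpleGroup.eq_bot_or_eq_top_of_normal _ hCn with hb | ht
      · refine hle fun v hv => (hfk v).mp ?_
        have : f v ∈ C.map f := ⟨v, hVC hv, rfl⟩
        rwa [hb, Subgroup.mem_bot] at this
      obtain ⟨c, hc, hce⟩ : f a0 ∈ C.map f := ht ▸ Subgroup.mem_top _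
      have hac : a0 ∈ C := by
        have hd : c⁻¹ * a0 ∈ Em := (hfk _).mp (by rw [map_mul, map_inv, hce, inv_mul_cancel])
        have := C.mul_mem hc (Subgroup.mem_centralizer_iff.mpr fun w hw =>
          congrArg Subtype.val (hEc.1.comm ⟨w, hw⟩ ⟨_, hd⟩) : c⁻¹ * a0 ∈ C)
        rwa [mul_inv_cancel_left] at this
      have hE1 : ∀ x ∈ Em, x = 1 := fun x hx => Subtype.ext (hfpf _ (hEV hx)
        (congrArg Subtype.val (Subgroup.mem_centralizer_iff.mp hac x hx)))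
      have hinj : Function.Injective f := (injective_iff_map_eq_one f).mpr fun x hx => hE1 x ((hfk x).mp hx)
      have hd : Nat.card V0 ∣ Nat.card (alternatingGroup (Fin 5)) :=
        (Subgroup.card_subgroup_dvd_card V0).trans (Subgroup.card_dvd_of_injective f hinj)
      rw [show Nat.card (alternatingGroup (Fin 5)) = 60 by
        rw [nat_card_alternatingGroup, Nat.card_fin]; decide] at hd
      obtain ⟨m, hm⟩ := IsPGroup.iff_card.mp hV0p
      rw [hm] at hd hV0c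
      have h4 : 4 ≤ m := (Nat.pow_le_pow_iff_right (by norm_num : 1 < 2)).mp hV0c
      exact absurd ((pow_dvd_pow 2 h4).trans hd) (by norm_num)
    · exfalso
      have hd : Nat.card V0 ∣ 168 := by
        rw [← CfsgLib.ThreeCC.card_psl_two_seven, ← Nat.card_congr e.toEquiv]
        exact Subgroup.card_subgroup_dvd_card V0
      obtain ⟨m, hm⟩ := IsPGroup.iff_card.mp hV0p
      rw [hm] at hd hV0c
      have h4 : 4 ≤ m := (Nat.pow_le_pow_iff_right (by norm_num : 1 < 2)).mp hV0c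
      exact absurd ((pow_dvd_pow 2 h4).trans hd) (by norm_num)
  have hVeq : V = Cfsg.pCore 2 (F.Xp ⧸ Nn) := le_antisymm
    (fun v hv => CfsgLib.map_pCore_le 2 X0 ⟨⟨v, hVX0 hv⟩, hcore hv, rfl⟩) hO
  haveI hVn : V.Normal := hVeq ▸ inferInstance
  intro x hx
  refine ⟨F.Xp_le_Mi hx, norm_of_conj fun k hk => ?_⟩
  have := hVn.conj_mem _ ((hV ⟨k, F.K_le_Xp hk⟩).mpr hk) (π ⟨x, hx⟩)
  rwa [← map_inv, ← map_mul, ← map_mul, hV] at this

end Setting.Base

end CfsgLib.U6Three
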