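import Cfsg.Agent.Lib.U6Three.UnitFusion2

/-!
Elements centralising two components modulo the centre: their action on the other two components.
-/

set_option autoImplicit false
set_option linter.style.haveILetI false
set_option synthInstance.maxSize 1024

namespace CfsgLib.U6Three

universe u

theorem rot_add : ∀ a b : K4, ∀ c : ZMod 3, rotn c (a + b) = rotn c a + rotn c b := fun a b c => rotn_facts.2.1 c a b

namespace Setting.Base

variable {G : Type u} [Group G] {D : Setting G} (F : D.Base) [Finite G]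

/-- The elements centralising the two components modulo the centre. -/
noncomputable def Xp : Subgroup G := Cen (D := D) (F.N0 : Set G)

theorem Ic_le_N0 : Ic (D := D) ≤ F.N0 := by
  intro x hx
  rcases mem_Ic.mp hx with e | e <;> rw [e]
  exacts [one_mem _, F.R1_le_N0 i1_mem_R1]

theorem Xp_conj {g d : G} (hg : g ∈ F.Xp) (hd : d ∈ F.N0) : g * d * g⁻¹ ∈ F.N0 := by
  have := mul_mem hd (F.Ic_le_N0 ((mem_Cen.mp hg).2 d hd))
  rwa [mul_inv_cancel_left] at this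

theorem Xp_le_Mi : F.Xp ≤ Mi (D := D) := fun _ h => (mem_Cen.mp h).1

/-- The normaliser fixes the two components pointwise. -/
theorem Xp_fix {g : G} (hg : g ∈ F.Xp) (hN : g ∈ F.N) (a : K4) :
    F.na g (emb none a) = emb none a ∧ F.na g (emb (some 0) a) = emb (some 0) a := by
  have key : ∀ d ∈ F.N0, F.na g (F.kap d) = F.kap d := fun d hd => by
    have hdK := F.N0_le_K hd
    rw [F.na_kap hN hdK]
    exact ((F.kap_congr hdK (F.N_conj_K hN hdK)).mpr ((mem_Cen.mp hg).2 d hd)).symm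
  obtain ⟨r, hr, hra⟩ := cR_surj (D := D) a
  obtain ⟨x, hx, hxa⟩ := F.cB_surj 0 a
  refine ⟨?_, ?_⟩
  · have := key r (F.R1_le_N0 hr)
    rwa [F.R1_emb hr, hra] at this
  · have := key x (F.Ry_le_N0 (F.Rb_zero ▸ hx))
    rwa [F.Rb_emb hx, hxa] at this

/-- Conversely. -/
theorem Xp_of_fix {g : G} (hN : g ∈ F.N) (h1 : ∀ a, F.na g (emb none a) = emb none a)
    (h2 : ∀ a, F.na g (emb (some 0) a) = emb (some 0) a) : g ∈ F.Xp := by
  refine mem_Cen.mpr ⟨F.N_le_Mi hN, fun d hd => ?_⟩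
  let S : Subgroup G :=
    { carrier := {d | d ∈ F.K ∧ F.na g (F.kap d) = F.kap d}
      one_mem' := ⟨one_mem _, by rw [F.kap_Ic (one_mem _), F.na_zero hN]⟩
      mul_mem' := fun {a b} ha hb => ⟨mul_mem ha.1 hb.1, by rw [F.kap_mul ha.1 hb.1, F.na_add hN, ha.2, hb.2]⟩
      inv_mem' := fun {a} ha => ⟨inv_mem ha.1, by rw [F.kap_inv ha.1, ha.2]⟩ }
  have hle : F.N0 ≤ S := by
    refine sup_le (fun r hr => ⟨F.R1_le_K hr, by rw [F.R1_emb hr, h1]⟩) fun x hx => ?_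
    rw [← F.Rb_zero] at hx
    exact ⟨F.Rb_le_K 0 hx, by rw [F.Rb_emb hx, h2]⟩
  obtain ⟨hdK, hd'⟩ := hle hd
  exact (F.kap_congr hdK (F.N_conj_K hN hdK)).mp (by rw [← F.na_kap hN hdK, hd'])

theorem K_le_Xp : F.K ≤ F.Xp := fun k hk =>
  F.Xp_of_fix (F.K_le_N hk) (fun a => F.na_K hk _) (fun a => F.na_K hk _)

/-- These elements commute with the rotation. -/
theorem Xp_lin {g : G} (hg : g ∈ F.Xp) (hN : g ∈ F.N) : F.Lin g := by
  refine (F.N_le_XS hN).2.resolve_right fun h => ?_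
  have h1 := h (emb none (1, 0))
  rw [sg_emb, (F.Xp_fix hg hN _).1, (F.Xp_fix hg hN _).1, sg_emb, sg_emb] at h1
  exact absurd h1 (by decide +kernel)

/-- The image of one of the other components. -/
theorem Xp_plane {g : G} (hg : g ∈ F.Xp) (hN : g ∈ F.N) {b : ZMod 3} (hb : b ≠ 0) :
    ∃ d : ZMod 3, d ≠ 0 ∧ ∃ c, ∀ a, F.na g (emb (some b) a) = emb (some d) (rotn c a) := by
  set u := F.na g (emb (some b) (1, 0)) with hu
  have ho : ∀ a, bv (emb none a) u = 0 ∧ bv (emb (some 0) a) u = 0 := fun a => by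
    constructor
    · rw [hu, ← (F.Xp_fix hg hN a).1, F.na_bv hN, bv_emb_ne _ _ _ _ (by simp)]
    · rw [hu, ← (F.Xp_fix hg hN a).2, F.na_bv hN, bv_emb_ne _ _ _ _ (by simpa using Ne.symm hb)]
  have hq : qv u = 1 := by
    rw [hu, F.na_qv hN, (bv_emb _ _ (1, 0)).2]; rfl
  obtain ⟨d, hd, e⟩ := unit_rest u hq ((W_orth u).mpr fun a => (ho a).1)
    ((orth_zero u).mpr ⟨(ho _).2, (ho _).2⟩)
  have hne : vb u d ≠ 0 := fun h => by
    rw [h, emb_zero] at e
    rw [e] at hq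
    exact absurd hq (by decide +kernel)
  obtain ⟨c, hc⟩ := rotn_reach (vb u d) (1, 0) hne (by decide)
  refine ⟨d, hd, c, fun a => ?_⟩
  obtain rfl | ha := eq_or_ne a 0
  · rw [emb_zero, F.na_zero hN, rotn_facts.1, emb_zero]
  obtain ⟨i, rfl⟩ := rotn_reach a (1, 0) ha (by decide)
  rw [← sp_emb, (F.Xp_lin hg hN).sp F, ← hu, e, hc, sp_emb, rotn_facts.2.2.2.2.1, rotn_facts.2.2.2.2.1, add_comm]

/-- Preserving the two components with exponents. -/
def Dg (g : G) (c : ZMod 3 → ZMod 3) : Prop :=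
  ∀ b a, b ≠ 0 → F.na g (emb (some b) a) = emb (some b) (rotn (c b) a)

/-- Exchanging the two components. -/
def Sw (g : G) : Prop := ∀ b a, b ≠ 0 → ∃ a', F.na g (emb (some b) a) = emb (some (-b)) a'

theorem Xp_cases {g : G} (hg : g ∈ F.Xp) (hN : g ∈ F.N) : (∃ c, F.Dg g c) ∨ F.Sw g := by
  obtain ⟨d1, hd1, c1, h1⟩ := F.Xp_plane hg hN (b := 1) (by decide)
  obtain ⟨d2, hd2, c2, h2⟩ := F.Xp_plane hg hN (b := 2) (by decide)
  have hne : d1 ≠ d2 := by
    rintro rfl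
    obtain ⟨a, ha⟩ : ∃ a, rotn c2 a = rotn c1 ((1, 0) : K4) := ⟨rotn (c1 - c2) (1, 0), by
      rw [rotn_facts.2.2.2.2.1, add_sub_cancel]⟩
    have := F.na_inj hN ((h1 (1, 0)).trans ((congrArg (emb (some d1)) ha.symm).trans (h2 a).symm))
    exact absurd (emb_inj _ _ _ _ (by decide) this).1 (by decide)
  have hb : ∀ b : ZMod 3, b ≠ 0 → b = 1 ∨ b = 2 := by decide
  rcases hb d1 hd1 with rfl | rfl
  · obtain rfl : d2 = 2 := (hb d2 hd2).resolve_left fun h => hne h.symm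
    refine Or.inl ⟨fun b => if b = 1 then c1 else c2, fun b a hb0 => ?_⟩
    rcases hb b hb0 with rfl | rfl
    · simp only [if_pos]; exact h1 a
    · simp only [if_neg (show ¬(2 : ZMod 3) = 1 by decide)]; exact h2 a
  · obtain rfl : d2 = 1 := (hb d2 hd2).resolve_right fun h => hne h.symm
    refine Or.inr fun b a hb0 => ?_
    rcases hb b hb0 with rfl | rfl
    · exact ⟨_, (h1 a).trans (by rw [show -(1 : ZMod 3) = 2 by decide])⟩
    · exact ⟨_, (h2 a).trans (by rw [show -(2 : ZMod 3) = 1 by decide])⟩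

/-- Determination by the exponents. -/
theorem Dg.ext {g g' : G} {c : ZMod 3 → ZMod 3} (hg : g ∈ F.Xp) (hN : g ∈ F.N) (hg' : g' ∈ F.Xp) (hN' : g' ∈ F.N)
    (h : F.Dg g c) (h' : F.Dg g' c) : g⁻¹ * g' ∈ F.K := by
  refine F.K_of_na (mul_mem (inv_mem hN) hN') fun v => F.na_inj hN ?_
  rw [F.na_mul (inv_mem hN) hN', F.na_cancel_inv hN, emb_split v]
  simp only [F.na_add hN, F.na_add hN', (F.Xp_fix hg hN _).1, (F.Xp_fix hg hN _).2, (F.Xp_fix hg' hN' _).1,
    (F.Xp_fix hg' hN' _).2, h 1 _ (by decide), h' 1 _ (by decide), h 2 _ (by decide), h' 2 _ (by decide)]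

theorem Dg.mul {g g' : G} {c c' : ZMod 3 → ZMod 3} (hN : g ∈ F.N) (hN' : g' ∈ F.N) (h : F.Dg g c) (h' : F.Dg g' c') :
    F.Dg (g * g') (c + c') := fun b a hb => by
  rw [F.na_mul hN hN', h' b a hb, h b _ hb, rotn_facts.2.2.2.2.1, Pi.add_apply]

theorem Dg.inv {g : G} {c : ZMod 3 → ZMod 3} (hN : g ∈ F.N) (h : F.Dg g c) : F.Dg g⁻¹ (-c) := fun b a hb => by
  refine F.na_inj hN ?_
  rw [F.na_cancel_inv hN, h b _ hb, rotn_facts.2.2.2.2.1, Pi.neg_apply, add_neg_cancel, rotn_facts.2.2.2.1]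

theorem Dg.unique {g : G} {c c' : ZMod 3 → ZMod 3} (h : F.Dg g c) (h' : F.Dg g c') {b : ZMod 3} (hb : b ≠ 0) :
    c b = c' b := by
  have := (h b (1, 0) hb).symm.trans (h' b (1, 0) hb)
  exact (by decide +kernel : ∀ b i j : ZMod 3, emb (some b) (rotn i (1, 0)) = emb (some b) (rotn j (1, 0)) → i = j)
    b _ _ this

/-- Conjugation by an exchanging element exchanges the exponents. -/
theorem Dg.conj_sw {n g : G} {c : ZMod 3 → ZMod 3} (hn : n ∈ F.Xp) (hnN : n ∈ F.N) (hN : g ∈ F.N) (h : F.Dg g c)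
    (hs : F.Sw n) : F.Dg (n * g * n⁻¹) (fun b => c (-b)) := fun b a hb => by
  obtain ⟨a', ha⟩ : ∃ a', F.na n⁻¹ (emb (some b) a) = emb (some (-b)) a' := by
    obtain ⟨d, hd, c', hc'⟩ := F.Xp_plane (inv_mem hn) (inv_mem hnN) hb
    refine ⟨rotn c' a, ?_⟩
    obtain ⟨a2', ha2⟩ := hs d (rotn c' (1, 0)) hd
    rw [← hc', F.na_cancel_inv hnN] at ha2
    have := Option.some.inj (emb_inj _ _ _ _ (by decide) ha2).1
    rw [hc' a, this, neg_neg]
  have hl := F.Xp_lin hn hnN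
  rw [F.na_mul (mul_mem hnN hN) (inv_mem hnN), F.na_mul hnN hN, ha, h (-b) _ (neg_ne_zero.mpr hb), ← sp_emb (c (-b)),
    hl.sp F, ← ha, F.na_cancel_inv hnN, sp_emb]

theorem exA_dg : F.Dg (a2 D) (fun b => -b) := fun b a _ => by
  rw [F.na_a2, exA_facts]; rfl

theorem a2_Xp : a2 D ∈ F.Xp := by
  refine F.Xp_of_fix (F.UM_le_N F.a2_mem_UM) (fun a => ?_) fun a => ?_ <;> rw [F.na_a2, exA_facts]
  · rw [show exA none = 0 from rfl, rotn_facts.2.2.2.1]
  · rw [show exA (some 0) = 0 from rfl, rotn_facts.2.2.2.1]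

theorem i2_Xp : i2 D ∈ F.Xp := by
  refine F.Xp_of_fix (F.cent_z_le_N i2_Mi i2_acts.1.cz) (fun a => ?_) fun a => ?_ <;> rw [F.na_i2]
  · rw [Option.map_none]
  · rw [Option.map_some, neg_zero]

end Setting.Base

end CfsgLib.U6Three
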