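import Cfsg.Agent.Lib.U6Three.Involutions

/-!
The partner of a diagonal conjugate of the central element is diagonal, and can be moved by an element commuting
with the inverting involution.
-/

set_option autoImplicit false

namespace CfsgLib.U6Three

universe u

theorem antidiag : ∀ h A B : SL23, (A = 1 ∨ A = mU ∨ A = mU * mU) → (B = 1 ∨ B = mU ∨ B = mU * mU) →
    h * B * h⁻¹ = A⁻¹ → B = A⁻¹ := by decide +kernel

theorem three_kernel : ∀ a b : SL23, (a = 1 ∨ a = mU ∨ a = mU * mU) → (b = 1 ∨ b = mU ∨ b = mU * mU) →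
    ∃ i j : ZMod 3, i • ea1 + j • ea2 ≠ 0 ∧ a ^ i.val * b ^ j.val = 1 ∧ a⁻¹ ^ i.val * b⁻¹ ^ j.val = 1 := by
  decide +kernel

theorem diag_translate : ∀ g ∈ [((mU, mU) : Pr), (mU, mU * mU)], ∀ b1 b2 : ZMod 3, (b1, b2) ≠ (0, 0) →
    ∀ v : W4, InA v → om ((0, b1), (0, b2)) v = 0 → ∀ l : ZMod 3, ∃ w,
      cV g ((0, b1), (0, b2)) w = ((0, b1), (0, b2)) + v ∧ cK g ((0, b1), (0, b2)) w = l := by decide +kernel

theorem pure_translate : ∀ v : W4, appP ((mU, 1) : Pr) v = v → v.2 = 0 → om ea2 v = 0 ∧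
    ∀ l : ZMod 3, ∃ w, cV ((mU, 1) : Pr) ea2 w = ea2 + v ∧ cK ((mU, 1) : Pr) ea2 w = l := by decide +kernel

theorem pure_e : ∀ e : SL23, e = 1 ∨ e = -1 → ∀ w : V2, app2 e (1, 0) + (w - app2 (e * 1 * e⁻¹) w) = (1, 0) → e = 1 := by
  decide +kernel

theorem ms_translate : ∀ h1 : SL23, ∀ p ∈ [((mU, mU) : Pr), (mU * mU, mU * mU), (mU, mU * mU), (mU * mU, mU)],
    (h1, h1⁻¹) * (p.2, p.1) * ((h1, h1⁻¹) : Pr)⁻¹ = p → ∃ w : W4, appP (h1, h1⁻¹) (swapW w) = w ∧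
      appP (h1, h1⁻¹) (swapW (cV p 0 w)) = cV p 0 w ∧ appP p (cV p 0 w) = cV p 0 w ∧ cV p 0 w ≠ 0 ∧
      cV p 0 (-w) = -cV p 0 w ∧ cK p 0 (-w) = cK p 0 w ∧ cK p 0 w ≠ 0 := by decide +kernel

set_option synthInstance.maxSize 1000 in
theorem sign_pure : ∀ A B : SL23, A = mU ∨ A = mU * mU → B = mU ∨ B = mU * mU → ∀ c1 c2 : SL23,
    (c1 = 1 ∨ c1 = mU ∨ c1 = mU * mU) → (c2 = 1 ∨ c2 = mU ∨ c2 = mU * mU) →
    (∀ i : ZMod 3, ((c1, c2) : Pr) ≠ (A ^ i.val, B ^ i.val)) → ∀ d : ZMod 3, d ≠ 0 →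
    (A ^ d.val * c1 = 1 ∨ B ^ d.val * c2 = 1) ∨ (A ^ d.val * c1⁻¹ = 1 ∨ B ^ d.val * c2⁻¹ = 1) := by decide +kernel

theorem app2_fix_pm : ∀ v : V2, (app2 (-1) v = v → v = 0) ∧ (app2 1 v = -v → v = 0) := by decide +kernel

theorem pm_central : ∀ A : SL23, (-1) * A * (-1)⁻¹ = A ∧ 1 * A * 1⁻¹ = A ∧ (A * A * A = 1 → A = A⁻¹ → A = 1) := by
  decide +kernel

theorem central_inverted {e A : Pr} (he1 : e.1 = 1 ∨ e.1 = -1) (he2 : e.2 = 1 ∨ e.2 = -1) (h3 : A * A * A = 1)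
    (h : e * A * e⁻¹ = A⁻¹) : A = 1 := by
  refine Prod.ext ((pm_central A.1).2.2 (congrArg Prod.fst h3) ?_) ((pm_central A.2).2.2 (congrArg Prod.snd h3) ?_)
  · have := congrArg Prod.fst h
    rcases he1 with r | r <;> simp only [Prod.fst_mul, Prod.fst_inv, r] at this
    exacts [(pm_central A.1).2.1.symm.trans this, (pm_central A.1).1.symm.trans this]
  · have := congrArg Prod.snd h
    rcases he2 with r | r <;> simp only [Prod.snd_mul, Prod.snd_inv, r] at this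
    exacts [(pm_central A.2).2.1.symm.trans this, (pm_central A.2).1.symm.trans this]

theorem DiagP.mem {p : Pr} (h : DiagP p) :
    p ∈ [((mU, mU) : Pr), (mU * mU, mU * mU), (mU, mU * mU), (mU * mU, mU)] := by
  simpa [DiagP] using h

theorem DiagP.comps {p : Pr} (h : DiagP p) :
    (p.1 = mU ∨ p.1 = mU * mU) ∧ (p.2 = mU ∨ p.2 = mU * mU) := by
  rcases h with rfl | rfl | rfl | rfl <;> simp

theorem DiagP.cube {p : Pr} (h : DiagP p) : p * p * p = 1 := by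
  rcases h with rfl | rfl | rfl | rfl <;> decide +kernel

theorem diagP_of_two {g : Pr} (h : g ∈ [((mU, mU) : Pr), (mU, mU * mU)]) : DiagP g := by
  simp only [List.mem_cons, List.not_mem_nil, or_false] at h
  rcases h with rfl | rfl <;> simp [DiagP]

namespace Setting

variable {G : Type u} [Group G] (D : Setting G)

theorem t_ne : D.t ≠ 1 := fun h => by
  have := (h ▸ D.t_acts : D.Acts 1 (-1, -1)).unique D.acts_one
  exact (by decide +kernel : ((-1, -1) : Pr) ≠ 1) this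

variable {D}

theorem Acts.not_mem_Q {y : G} {p : Pr} (h : D.Acts y p) (hp : p ≠ 1) : y ∉ D.Q := fun hQ =>
  hp (h.ma.unique (ma_of_Q hQ))

theorem Acts.swap {y : G} {p : Pr} (h : D.Acts y p) : D.swap.Acts y (p.2, p.1) :=
  ⟨⟨h.1.cz, h.1.ct⟩, fun v => (h.2 (swapW v)).trans (congrArg D.q (swapW_appP (p.2, p.1) v).symm)⟩

theorem MA.pow {h : G} {g : Pr} (H : D.MA h g) : ∀ n : ℕ, D.MA (h ^ n) (g ^ n)
  | 0 => by rw [pow_zero, pow_zero]; exact ma_one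
  | n + 1 => by rw [pow_succ, pow_succ]; exact (MA.pow H n).mul H

theorem Acts.comm_q {y : G} {p : Pr} (h : D.Acts y p) {v : W4} (hv : appP p v = v) : Commute y (D.q v) :=
  mul_inv_eq_iff_eq_mul.mp ((h.2 v).trans (congrArg D.q hv))

variable (D)

/-- A translate of a point in normal form. -/
theorem shift_std {y : G} {k : ZMod 3} {u : W4} {s : G} {g : Pr} (hp : D.IsPt y) (e : y = D.zz k * (D.q u * s))
    (hs : D.Acts s g) (v : W4) (hv : appP g v = v) (hua : om u v = 0) (j : ZMod 3)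
    (hw : ∃ w, cV g u w = u + v ∧ cK g u w = j) : D.IsPt (y * (D.zz j * D.q v)) := by
  obtain ⟨w, hw1, hw2⟩ := hw
  have := hp.conj (D.q w)
  rw [e, D.q_conj_el hs, hw1, hw2] at this
  convert this using 1
  have hc : s * D.q v = D.q v * s := (hs.comm_q hv).eq
  have hj : Commute (D.q u * s) (D.zz j) := D.zz_comm ((D.q_z u).mul_left hs.1.cz) j
  calc y * (D.zz j * D.q v) = D.zz k * (D.q u * s * D.zz j) * D.q v := by rw [e]; group
    _ = D.zz k * D.zz j * (D.q u * (s * D.q v)) := by rw [hj.eq]; group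
    _ = D.zz k * D.zz j * ((D.q u * D.q v) * s) := by rw [hc]; group
    _ = _ := by rw [q_mul', hua, neg_zero, zz_zero, one_mul, zz_add]

/-- Conjugating a normal form by an element preserving the blocks. -/
theorem comm_cV {k : ZMod 3} {u w : W4} {s s' : G} {g e : Pr} (hs : D.Acts s g) (hs' : D.Acts s' e)
    (h : Commute (D.q w * s') (D.zz k * (D.q u * s))) : cV (e * g * e⁻¹) (appP e u) w = u := by
  have h1 : D.q w * s' * (D.zz k * (D.q u * s)) * (D.q w * s')⁻¹ =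
      D.zz (k + cK (e * g * e⁻¹) (appP e u) w) * (D.q (cV (e * g * e⁻¹) (appP e u) w) * (s' * s * s'⁻¹)) := by
    rw [← D.q_conj_el (hs.conj hs')]
    calc D.q w * s' * (D.zz k * (D.q u * s)) * (D.q w * s')⁻¹
        = D.q w * (s' * D.zz k * s'⁻¹ * ((s' * D.q u * s'⁻¹) * (s' * s * s'⁻¹))) * (D.q w)⁻¹ := by group
      _ = _ := by rw [D.conj_zz hs'.1.cz, hs'.2]
  rw [h.eq, mul_inv_cancel_right] at h1
  exact (D.el_unique hs.1 (hs.conj hs').1 h1).symm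

/-- The partner data of a point. -/
structure PartnerData (g : G) (p : Pr) : Prop where
  acts : D.Acts (g * D.z * g⁻¹) p
  diag : DiagP p

variable {D}

theorem PartnerData.not_mem {g : G} {p : Pr} (P : D.PartnerData g p) : g * D.z * g⁻¹ ∉ D.Q :=
  P.acts.not_mem_Q (fun h => P.diag.ne.1 (congrArg Prod.fst h))

theorem PartnerData.facts {g : G} {p : Pr} (P : D.PartnerData g p) :
    D.IsPt (g⁻¹ * D.z * g) ∧ Commute (g⁻¹ * D.z * g) D.z ∧ g⁻¹ * D.z * g ∉ D.Q ∧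
      Commute (g⁻¹ * D.t * g) D.z ∧ Commute (g⁻¹ * D.t * g) (g⁻¹ * D.z * g) ∧
      g⁻¹ * D.t * g * (g⁻¹ * D.t * g) = 1 ∧ g⁻¹ * D.t * g ≠ 1 := by
  obtain ⟨h1, h2, h3⟩ := D.partner P.acts.1.cz P.not_mem
  refine ⟨h1, h2, h3, ?_, conj_comm' g D.t_z, ?_, fun h => D.t_ne ?_⟩
  · have := conj_comm' g P.acts.1.ct.symm
    simpa [mul_assoc] using this
  · calc g⁻¹ * D.t * g * (g⁻¹ * D.t * g) = g⁻¹ * (D.t * D.t) * g := by group
      _ = 1 := by rw [D.t_sq]; group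
  · calc D.t = g * (g⁻¹ * D.t * g) * g⁻¹ := by group
      _ = 1 := by rw [h]; group

theorem PartnerData.trans_q {g : G} {p : Pr} (P : D.PartnerData g p) {a : W4} (ha : InA a) :
    Commute (g⁻¹ * D.q a * g) D.z ∧ Commute (g⁻¹ * D.q a * g) (g⁻¹ * D.z * g) ∧
      (g⁻¹ * D.q a * g) ^ 3 = 1 ∧
      g⁻¹ * D.t * g * (g⁻¹ * D.q a * g) * (g⁻¹ * D.t * g)⁻¹ = (g⁻¹ * D.q a * g)⁻¹ := by
  refine ⟨?_, conj_comm' g (D.q_z a), ?_, ?_⟩
  · have := conj_comm' g (P.acts.comm_q ((P.diag.fix_iff a).mpr ha)).symm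
    simpa [mul_assoc] using this
  · have := conj_pow (a := g⁻¹) (b := D.q a) (i := 3)
    rw [inv_inv, D.q_cube, mul_one, inv_mul_cancel] at this
    exact this
  · calc g⁻¹ * D.t * g * (g⁻¹ * D.q a * g) * (g⁻¹ * D.t * g)⁻¹ = g⁻¹ * (D.t * D.q a * D.t⁻¹) * g := by group
      _ = _ := by rw [inv_eq_of_mul_eq_one_right D.t_sq, D.t_q, ← D.q_inv]; group

/-- Moving the partner by the centraliser. -/
theorem PartnerData.move {g h : G} {p : Pr} (P : D.PartnerData g p) (hh : Commute h D.z) :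
    D.PartnerData (g * h⁻¹) p ∧ (g * h⁻¹)⁻¹ * D.z * (g * h⁻¹) = h * (g⁻¹ * D.z * g) * h⁻¹ := by
  have e : g * h⁻¹ * D.z * (g * h⁻¹)⁻¹ = g * D.z * g⁻¹ := by
    calc g * h⁻¹ * D.z * (g * h⁻¹)⁻¹ = g * (h⁻¹ * D.z * h) * g⁻¹ := by group
      _ = _ := by rw [hh.inv_left.eq]; group
  exact ⟨⟨e ▸ P.acts, P.diag⟩, by group⟩

theorem PartnerData.swap {g : G} {p : Pr} (P : D.PartnerData g p) : D.swap.PartnerData g (p.2, p.1) :=
  ⟨P.acts.swap, P.diag.swap⟩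

/-- No translation of the partner pulls back to the first coordinate vectors. -/
theorem PartnerData.no_translation {g : G} {p : Pr} (_P : D.PartnerData g p) {a : W4} (ha : a ≠ 0) {y0 : G}
    (hy0 : y0 = g⁻¹ * D.z * g ∨ y0 = (g⁻¹ * D.z * g)⁻¹) (hp : D.IsPt (y0 * (g⁻¹ * D.q a * g))) : False := by
  have h1 := hp.conj g
  rcases hy0 with rfl | rfl
  · rw [show g * (g⁻¹ * D.z * g * (g⁻¹ * D.q a * g)) * g⁻¹ = D.z * D.q a by group, ← D.zz_one] at h1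
    obtain ⟨k, hk⟩ := h1.mem_Q (mul_mem (D.zz_mem 1) (D.q_mem a))
    exact ha (D.el_inj (v := a) (w := 0) (l := k) (by rw [hk, D.q_zero, mul_one])).2
  · rw [show g * ((g⁻¹ * D.z * g)⁻¹ * (g⁻¹ * D.q a * g)) * g⁻¹ = D.z⁻¹ * D.q a by group, ← D.zz_one,
      ← D.zz_neg] at h1
    obtain ⟨k, hk⟩ := h1.mem_Q (mul_mem (D.zz_mem _) (D.q_mem a))
    exact ha (D.el_inj (v := a) (w := 0) (l := k) (by rw [hk, D.q_zero, mul_one])).2

/-- The partner is not pure. -/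
theorem PartnerData.not_pure {g : G} {p : Pr} (P : D.PartnerData g p) {y0 : G}
    (hy0 : y0 = g⁻¹ * D.z * g ∨ y0 = (g⁻¹ * D.z * g)⁻¹) (hP : D.Pure y0) : False := by
  obtain ⟨k, s, e, hs⟩ := hP
  obtain ⟨f1, -, -, f4, f5, f6, f7⟩ := P.facts
  have hpt : D.IsPt y0 := by rcases hy0 with rfl | rfl; exacts [f1, f1.inv]
  have hty : Commute (g⁻¹ * D.t * g) y0 := by rcases hy0 with rfl | rfl; exacts [f5, f5.inv_right]
  have hyA : D.MA y0 (mU, 1) := by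
    have := (ma_of_Q (D := D) (mul_mem (D.zz_mem k) (D.q_mem ea2))).mul hs.ma
    rwa [one_mul, mul_assoc, ← e] at this
  rcases D.inv_forms f4 f6 f7 with ⟨h, hS, -⟩ | hA'
  · have h1 := hS.conj_MA hyA
    rw [hty.eq, mul_inv_cancel_right] at h1
    have := congrArg Prod.fst (hyA.unique h1)
    simp only [Prod.fst_mul, Prod.fst_inv, mul_one, mul_inv_cancel] at this
    exact mU_cube.2.1 this
  obtain ⟨e1, e2, he1, he2, hA, hne⟩ : ∃ e1 e2 : SL23, (e1 = 1 ∨ e1 = -1) ∧ (e2 = 1 ∨ e2 = -1) ∧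
      D.MA (g⁻¹ * D.t * g) (e1, e2) ∧ (e2 = 1 → e1 = -1) := by
    rcases hA' with ⟨-, h⟩ | h | h
    · exact ⟨_, _, Or.inr rfl, Or.inr rfl, h, fun _ => rfl⟩
    · exact ⟨_, _, Or.inr rfl, Or.inl rfl, h, fun _ => rfl⟩
    · exact ⟨_, _, Or.inl rfl, Or.inr rfl, h, fun r => absurd r (by decide +kernel)⟩
  obtain ⟨w, s', es', hs'⟩ := hA
  have hc := D.comm_cV hs hs' (k := k) (u := ea2) (w := w) (by rw [← es', ← e]; exact hty)
  obtain rfl : e2 = 1 := pure_e e2 he2 w.2 (congrArg Prod.snd hc)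
  obtain rfl : e1 = -1 := hne rfl
  obtain ⟨a1, a2, a3, a4⟩ := P.trans_q (a := ea1) (by decide)
  obtain ⟨A, hA1, hA3⟩ := D.ma_three a1 a3
  have hA' : D.MA (g⁻¹ * D.t * g) (-1, 1) := ⟨w, s', es', hs'⟩
  have hinv := (hA'.mul hA1).mul hA'.inv
  rw [a4] at hinv
  obtain rfl := central_inverted (e := ((-1, 1) : Pr)) (Or.inr rfl) (Or.inl rfl) hA3 (hinv.unique hA1.inv)
  obtain ⟨m, v, ev⟩ := hA1.mem_Q
  have hv2 : v.2 = 0 := by
    have h1 : g⁻¹ * D.t * g * (g⁻¹ * D.q ea1 * g) * (g⁻¹ * D.t * g)⁻¹ =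
        D.zz (m + om w (appP (-1, 1) v)) * D.q (appP (-1, 1) v) := by
      rw [ev, es', zz_add, mul_assoc (D.zz m), ← D.q_conj, ← hs'.2]
      calc D.q w * s' * (D.zz m * D.q v) * (D.q w * s')⁻¹
          = (D.q w * s' * D.zz m * (D.q w * s')⁻¹) * (D.q w * (s' * D.q v * s'⁻¹) * (D.q w)⁻¹) := by group
        _ = _ := by rw [D.conj_zz ((D.q_z w).mul_left hs'.1.cz)]
    rw [a4, ev, mul_inv_rev, ← D.zz_neg, D.q_inv, ← (D.zz_q _ _).eq] at h1
    exact (app2_fix_pm v.2).2 (congrArg Prod.snd (D.el_inj h1).2).symm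
  have hfix : appP ((mU, 1) : Pr) v = v := by
    refine ((D.comm_q_iff hs (k := k) (u := ea2) v).mp ?_).1
    rw [← e]
    have h1 : Commute y0 (g⁻¹ * D.q ea1 * g) := by rcases hy0 with rfl | rfl; exacts [a2.symm, a2.symm.inv_left]
    rw [ev] at h1
    have hz : Commute y0 (D.zz m) := D.zz_comm hyA.comm_z m
    simpa [mul_assoc] using (hz.inv_right.mul_right h1)
  refine P.no_translation (a := ea1) (by decide) hy0 ?_
  rw [ev]
  exact D.shift_std hpt e hs v hfix (pure_translate v hfix hv2).1 m ((pure_translate v hfix hv2).2 m)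

/-- A partner in diagonal normal form is diagonal. -/
theorem PartnerData.diagA_of_diag {g : G} {p : Pr} (P : D.PartnerData g p) {y0 : G}
    (hy0 : y0 = g⁻¹ * D.z * g ∨ y0 = (g⁻¹ * D.z * g)⁻¹) (hP : D.Diag y0) : D.DiagA y0 := by
  obtain ⟨k, b1, b2, s, gd, hgd, e, hs⟩ := hP
  by_cases hb : (b1, b2) = (0, 0)
  · obtain ⟨rfl, rfl⟩ := Prod.mk.inj hb
    exact e ▸ D.diagA_of_zero hs.1
  exfalso
  obtain ⟨f1, -, -, f4, f5, f6, f7⟩ := P.facts
  have hpt : D.IsPt y0 := by rcases hy0 with rfl | rfl; exacts [f1, f1.inv]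
  have hdp := diagP_of_two hgd
  have hyA : D.MA y0 gd := by
    have := (ma_of_Q (D := D) (mul_mem (D.zz_mem k) (D.q_mem ((0, b1), (0, b2))))).mul hs.ma
    rwa [one_mul, mul_assoc, ← e] at this
  have img : ∀ a, InA a → ∃ A : Pr, D.MA (g⁻¹ * D.q a * g) A ∧ A * A * A = 1 ∧
      (A.1 = 1 ∨ A.1 = mU ∨ A.1 = mU * mU) ∧ (A.2 = 1 ∨ A.2 = mU ∨ A.2 = mU * mU) ∧ A.2 = A.1⁻¹ := by
    intro a ha
    obtain ⟨a1, a2, a3, a4⟩ := P.trans_q ha
    obtain ⟨A, hA1, hA3⟩ := D.ma_three a1 a3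
    have hc : A * gd = gd * A := by
      have h1 : Commute (g⁻¹ * D.q a * g) y0 := by rcases hy0 with rfl | rfl; exacts [a2, a2.inv_right]
      exact (h1.eq ▸ hA1.mul hyA).unique (hyA.mul hA1)
    obtain ⟨c1, c2⟩ := hdp.cent hA3 hc
    refine ⟨A, hA1, hA3, c1, c2, ?_⟩
    rcases D.inv_forms f4 f6 f7 with ⟨h, hS, -⟩ | hA'
    · have h1 := hS.conj_MA hA1
      rw [a4] at h1
      have h2 := congrArg Prod.fst (h1.unique hA1.inv)
      simp only [Prod.fst_mul, Prod.fst_inv] at h2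
      exact antidiag h.1 A.1 A.2 c1 c2 h2
    · obtain ⟨e1, e2, he1, he2, hA⟩ : ∃ e1 e2 : SL23, (e1 = 1 ∨ e1 = -1) ∧ (e2 = 1 ∨ e2 = -1) ∧
          D.MA (g⁻¹ * D.t * g) (e1, e2) := by
        rcases hA' with ⟨-, h⟩ | h | h
        · exact ⟨_, _, Or.inr rfl, Or.inr rfl, h⟩
        · exact ⟨_, _, Or.inr rfl, Or.inl rfl, h⟩
        · exact ⟨_, _, Or.inl rfl, Or.inr rfl, h⟩
      have h1 := (hA.mul hA1).mul hA.inv
      rw [a4] at h1
      obtain rfl := central_inverted (e := ((e1, e2) : Pr)) he1 he2 hA3 (h1.unique hA1.inv)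
      simp
  obtain ⟨A, hA, -, hA1, -, hA2⟩ := img ea1 (by decide)
  obtain ⟨B, hB, -, hB1, -, hB2⟩ := img ea2 (by decide)
  obtain ⟨i, j, hne, hk1, hk2⟩ := three_kernel A.1 B.1 hA1 hB1
  have hq : D.q (i • ea1 + j • ea2) = D.q ea1 ^ i.val * D.q ea2 ^ j.val := by
    rw [← D.q_smul, ← D.q_smul, q_mul', (by decide : ∀ i j : ZMod 3, om (i • ea1) (j • ea2) = 0) i j, neg_zero,
      zz_zero, one_mul]
  have hconj : g⁻¹ * D.q (i • ea1 + j • ea2) * g = (g⁻¹ * D.q ea1 * g) ^ i.val * (g⁻¹ * D.q ea2 * g) ^ j.val := by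
    have h1 := conj_pow (a := g⁻¹) (b := D.q ea1) (i := i.val)
    have h2 := conj_pow (a := g⁻¹) (b := D.q ea2) (i := j.val)
    rw [inv_inv] at h1 h2
    rw [hq, h1, h2]; group
  have hone : A ^ i.val * B ^ j.val = 1 := Prod.ext (by simpa using hk1) (by
    simp only [Prod.snd_mul, Prod.pow_snd, hA2, hB2]; exact hk2)
  have hmem : D.MA (g⁻¹ * D.q (i • ea1 + j • ea2) * g) 1 := by
    have := (hA.pow i.val).mul (hB.pow j.val)
    rwa [hone, ← hconj] at this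
  obtain ⟨m, v, ev⟩ := hmem.mem_Q
  have hcy : Commute y0 (D.q v) := by
    obtain ⟨-, a2, -, -⟩ := P.trans_q ((by decide : ∀ i j : ZMod 3, InA (i • ea1 + j • ea2)) i j)
    have h1 : Commute y0 (g⁻¹ * D.q (i • ea1 + j • ea2) * g) := by
      rcases hy0 with rfl | rfl; exacts [a2.symm, a2.symm.inv_left]
    rw [ev] at h1
    have hz : Commute y0 (D.zz m) := D.zz_comm hyA.comm_z m
    simpa [mul_assoc] using hz.inv_right.mul_right h1
  obtain ⟨hfix, hom⟩ := (D.comm_q_iff hs v).mp (e ▸ hcy)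
  refine P.no_translation hne hy0 ?_
  rw [ev]
  exact D.shift_std hpt e hs v hfix hom m (diag_translate gd hgd b1 b2 hb v ((hdp.fix_iff v).mp hfix) hom m)

/-- The partner is diagonal. -/
theorem PartnerData.partner_diagA {g : G} {p : Pr} (P : D.PartnerData g p) : D.DiagA (g⁻¹ * D.z * g) := by
  obtain ⟨f1, f2, f3, -⟩ := P.facts
  obtain ⟨h, hh, y, hy, hP⟩ := D.normal_form f1 f2 f3
  obtain ⟨P', e⟩ := P.move hh
  rw [← e] at hy
  rcases hP with hP | hP | hP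
  · exact (P'.not_pure hy hP).elim
  · exact (P'.swap.not_pure hy hP).elim
  · have hA := P'.diagA_of_diag hy hP
    refine DiagA.of_conj (h := h) ?_ hh
    rw [← e]
    rcases hy with rfl | rfl
    exacts [hA, inv_inv ((g * h⁻¹)⁻¹ * D.z * (g * h⁻¹)) ▸ hA.inv]

end Setting

end CfsgLib.U6Three
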