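import Cfsg.Agent.Lib.U6Three.SModel

/-!
The numbers of ordered pairs of noncommuting units.
-/

set_option autoImplicit false

namespace CfsgLib.U6Three

/-- The ordered pairs of noncommuting units. -/
def upairs : Finset (Vec × Vec) :=
  Finset.univ.filter fun p => qv p.1 = 1 ∧ qv p.2 = 1 ∧ bv p.1 p.2 = 1

/-- The ordered pairs of noncommuting units of the moved part. -/
def wpairs : Finset (Vec × Vec) :=
  Finset.univ.filter fun p => p.1.1 = 0 ∧ p.2.1 = 0 ∧ qv p.1 = 1 ∧ qv p.2 = 1 ∧ bv p.1 p.2 = 1

theorem card_upairs : upairs.card = 6720 := by decide +kernel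

theorem card_wpairs : wpairs.card = 720 := by decide +kernel

end CfsgLib.U6Three
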