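import Cfsg.Agent.Lib.U6Three.Sigma
import Cfsg.Agent.Lib.U6Three.SCount

/-!
Counting planes: the stabiliser of the first component, and the index of the stabiliser of the rotation.
-/

set_option autoImplicit false
set_option linter.style.haveILetI false
set_option synthInstance.maxSize 1024

namespace CfsgLib.U6Three

universe u

/-- A power of the scalar rotation. -/
def sp (i : ZMod 3) (u : Vec) : Vec := if i = 0 then u else if i = 1 then sg u else sg (sg u)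

/-- Three quaternion matrices moving the first line to the lines other than the second. -/
def lr (l : ZMod 3) : SL23 := if l = 0 then 1 else if l = 1 then rot.sk (0, 1) else rot.sk (1, 1)

theorem lr_four : ∀ l, lr l * lr l * (lr l * lr l) = 1 := by decide +kernel

theorem lr_norm : ∀ l l', ((lr l)⁻¹ * lr l' * mU * ((lr l)⁻¹ * lr l')⁻¹ = mU ∨
    (lr l)⁻¹ * lr l' * mU * ((lr l)⁻¹ * lr l')⁻¹ = mU⁻¹) → l = l' := by decide +kernel

theorem lr_shift : ∀ l (c : ZMod 3), (app2 (lr l)⁻¹ (0, c)).2 = 0 → c = 0 := by decide +kernel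

theorem app2_zero : ∀ A : SL23, app2 A (0, 0) = (0, 0) := by decide +kernel

theorem R1_unit : ∀ a : K4, a ≠ 0 → ∃ i, emb none a = sp i (emb none (1, 0)) := by decide +kernel

theorem R1_second : emb none (0, 1) = sg (emb none (1, 0)) := by decide +kernel

theorem Ry_second : emb (some 0) (0, 1) = sg (emb (some 0) (1, 0)) := by decide +kernel

theorem zA_rotate : ∀ u : Vec, ∀ i, u = sp i (zA u) → ∃ i', zA u = sp i' u := by decide +kernel

theorem none_iff : ∀ v : Vec, (∀ b, vb v b = 0) ↔ v = emb none v.1 := by decide +kernel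

theorem ry_rot : ∀ k l j : ZMod 3, ∀ a : K4, a ≠ 0 →
    (vmk (rotn j (emb (some 0) a).1) fun b => rotn (eb k l j b) (vb (emb (some 0) a) b)) = emb (some 0) a →
    k = 0 := by decide +kernel

theorem mem_wpairs {p : Vec × Vec} (h : p.1.1 = 0 ∧ p.2.1 = 0 ∧ qv p.1 = 1 ∧ qv p.2 = 1 ∧ bv p.1 p.2 = 1) :
    p ∈ wpairs := by
  simp only [wpairs, Finset.mem_filter, Finset.mem_univ, true_and]
  exact h

theorem mem_upairs {p : Vec × Vec} (h : qv p.1 = 1 ∧ qv p.2 = 1 ∧ bv p.1 p.2 = 1) : p ∈ upairs := by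
  simp only [upairs, Finset.mem_filter, Finset.mem_univ, true_and]
  exact h

attribute [local irreducible] wpairs upairs

/-- A group acting freely away from one point. -/
theorem free_index {G : Type u} [Group G] [Finite G] (X C P : Subgroup G) (hPC : P ≤ C) (hCX : C ≤ X)
    (h : ∀ g ∈ X, ∀ e ∈ P, e ≠ 1 → g⁻¹ * e * g ∈ C → g ∈ C) :
    ∃ t, C.relIndex X = 1 + Nat.card P * t := by
  classical
  let Q := X ⧸ C.subgroupOf X
  let P' : Subgroup X := P.subgroupOf X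
  let q0 : Q := (1 : X)
  have hfix : ∀ p : P', p • q0 = q0 := fun p => QuotientGroup.eq.mpr (by
    simp only [Subgroup.mem_subgroupOf]
    simpa using C.inv_mem (hPC p.2))
  let α := {q : Q // q ≠ q0}
  letI : MulAction P' α :=
    { smul := fun p q => ⟨p • q.1, fun e => q.2 (by rw [← inv_smul_smul p q.1, e, hfix])⟩
      one_smul := fun q => Subtype.ext (one_smul _ _)
      mul_smul := fun a b q => Subtype.ext (mul_smul _ _ _) }
  have hfree : ∀ q : α, MulAction.stabilizer P' q = ⊥ := by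
    rintro ⟨q, hq⟩
    refine (Subgroup.eq_bot_iff_forall _).mpr fun p hp => ?_
    obtain ⟨g, rfl⟩ := QuotientGroup.mk_surjective q
    have e : (((p : X) * g : X) : Q) = (g : Q) := congrArg Subtype.val (MulAction.mem_stabilizer_iff.mp hp)
    have h1 := QuotientGroup.eq.mp e.symm
    simp only [Subgroup.mem_subgroupOf, Subgroup.coe_mul, InvMemClass.coe_inv] at h1
    by_contra hne
    refine hq ((QuotientGroup.eq.mpr ?_).symm)
    simp only [Subgroup.mem_subgroupOf, Subgroup.coe_mul, InvMemClass.coe_inv, OneMemClass.coe_one, inv_one, one_mul]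
    exact h g g.2 _ p.2 (fun e1 => hne (Subtype.ext (Subtype.ext e1))) (by rwa [mul_assoc])
  have h1 : Nat.card α = Nat.card (Quotient (MulAction.orbitRel P' α)) * Nat.card P := by
    rw [Nat.card_congr (MulAction.selfEquivOrbitsQuotientProd hfree), Nat.card_prod,
      Nat.card_congr (Subgroup.subgroupOfEquivOfLe (hPC.trans hCX)).toEquiv]
  refine ⟨Nat.card (Quotient (MulAction.orbitRel P' α)), ?_⟩
  rw [mul_comm, ← h1, show C.relIndex X = Nat.card Q from rfl,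
    ← Nat.card_congr (Equiv.optionSubtypeNe q0), Finite.card_option, add_comm]

namespace Setting.Base

variable {G : Type u} [Group G] {D : Setting G} (F : D.Base) [Finite G]

theorem mem_Qm {e : G} (he : e ∈ Qm (D := D)) : ∃ k v, e = D.zz k * D.q ((0, 0), v) := by
  obtain ⟨⟨k, ⟨u1, v⟩, rfl⟩, hi⟩ := he
  have h := (mem_Mi.mp hi).symm
  have h1 : D.i1 * (D.zz k * D.q (u1, v)) * D.i1⁻¹ = D.zz k * D.q (appP (-1, 1) (u1, v)) := by
    rw [show D.i1 * (D.zz k * D.q (u1, v)) * D.i1⁻¹ = (D.i1 * D.zz k * D.i1⁻¹) * (D.i1 * D.q (u1, v) * D.i1⁻¹) by group,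
      D.conj_zz D.i1_block.acts.1.cz, D.i1_block.acts.2]
  rw [h.eq, mul_inv_cancel_right] at h1
  obtain rfl : u1 = (0, 0) := first_neg (u1, v) (D.el_inj h1).2.symm
  exact ⟨k, v, rfl⟩

theorem zz_Qm (k : ZMod 3) (v : V2) : D.zz k * D.q ((0, 0), v) ∈ Qm (D := D) :=
  mul_mem (a := D.zz k) ⟨D.zz_mem k, mem_Mi.mpr (D.zz_comm D.i1_block.acts.1.cz k).symm⟩ (second_mem_Qm v)

theorem card_Qm : Nat.card (Qm (D := D)) = 27 := by
  let f : ZMod 3 × V2 → Qm (D := D) := fun p => ⟨_, zz_Qm p.1 p.2⟩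
  have hf : Function.Bijective f := by
    refine ⟨fun p p' h => ?_, fun ⟨e, he⟩ => ?_⟩
    · obtain ⟨h1, h2⟩ := D.el_inj (congrArg Subtype.val h : D.zz p.1 * D.q _ = D.zz p'.1 * D.q _)
      exact Prod.ext h1 (Prod.mk.inj h2).2
    · obtain ⟨k, v, rfl⟩ := mem_Qm he
      exact ⟨(k, v), rfl⟩
  rw [← Nat.card_eq_of_bijective f hf]
  simp

include F in
theorem Qm_le_C1 : Qm (D := D) ≤ F.C1 := fun _ he => F.cent_z_C1 he.2 (D.Q_z he.1)

/-- The nonidentity elements of the core in the centraliser are conjugate to the central element, its inverse or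
the second vector. -/
theorem good_Qm {e : G} (he : e ∈ Qm (D := D)) (hne : e ≠ 1) :
    ∃ c ∈ Mi (D := D), Commute c D.z ∧ (Pm D.z (c * e * c⁻¹) ∨ c * e * c⁻¹ = a2 D) := by
  obtain ⟨k, v, rfl⟩ := mem_Qm he
  by_cases hv : v = 0
  · subst hv
    have e0 : D.zz k * D.q (((0, 0), 0) : W4) = D.zz k := by
      rw [show (((0, 0), 0) : W4) = 0 from rfl, D.q_zero, mul_one]
    refine ⟨1, one_mem _, Commute.one_left _, Or.inl ?_⟩
    rw [e0] at hne ⊢
    simpa using pm_zz fun hk => hne (by rw [hk, D.zz_zero])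
  · obtain ⟨R, hR, hRv⟩ := sl_vec v hv
    obtain ⟨r, hr⟩ := D.acts_lift (1, R) (by simp) hR
    have hri : r ∈ Mi (D := D) := mem_Mi.mpr (Quat.comm_i1 ⟨R, hR, hr⟩)
    refine ⟨trb (D := D) k * r, mul_mem (trb_Mi k) hri, (trb_z k).mul_left hr.1.cz, Or.inr ?_⟩
    have e1 : r * (D.zz k * D.q ((0, 0), v)) * r⁻¹ = D.zz k * a2 D := by
      rw [show r * (D.zz k * D.q ((0, 0), v)) * r⁻¹ = (r * D.zz k * r⁻¹) * (r * D.q ((0, 0), v) * r⁻¹) by group,
        D.conj_zz hr.1.cz, hr.2]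
      refine congrArg (fun w => D.zz k * D.q w) (Prod.ext ?_ hRv)
      exact app2_one _
    calc trb (D := D) k * r * (D.zz k * D.q ((0, 0), v)) * (trb (D := D) k * r)⁻¹
        = trb (D := D) k * (r * (D.zz k * D.q ((0, 0), v)) * r⁻¹) * (trb (D := D) k)⁻¹ := by group
      _ = (trb (D := D) k * D.zz k * (trb (D := D) k)⁻¹) * (trb (D := D) k * a2 D * (trb (D := D) k)⁻¹) := by
          rw [e1]; group
      _ = a2 D := by rw [D.conj_zz (trb_z k), trb_a2, ← mul_assoc, ← D.zz_add, add_neg_cancel, D.zz_zero, one_mul]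

/-- Fusion control gives free actions. -/
theorem free_of_fusion {X C : Subgroup G} (hCC : F.C1 ≤ C) (hCX : C ≤ X)
    (hz : ∀ g ∈ X, g * D.z * g⁻¹ ∈ C → g ∈ C) (ha : ∀ g ∈ X, g * a2 D * g⁻¹ ∈ C → g ∈ C) :
    ∃ t, C.relIndex X = 1 + 27 * t := by
  have hQ : Qm (D := D) ≤ C := F.Qm_le_C1.trans hCC
  obtain ⟨t, ht⟩ := free_index X C (Qm (D := D)) hQ hCX fun g hg e he hne hge => by
    obtain ⟨c, hc, hcz, hw⟩ := good_Qm he hne
    have hcC : c ∈ C := hCC (F.cent_z_C1 hc hcz)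
    have hg' : (c * g)⁻¹ ∈ X := inv_mem (mul_mem (hCX hcC) hg)
    have hmem : (c * g)⁻¹ * (c * e * c⁻¹) * (c * g)⁻¹⁻¹ ∈ C := by
      rwa [show (c * g)⁻¹ * (c * e * c⁻¹) * (c * g)⁻¹⁻¹ = g⁻¹ * e * g by group]
    have h2 : (c * g)⁻¹ ∈ C := by
      rcases hw with (hw | hw) | hw <;> rw [hw] at hmem
      · exact hz _ hg' hmem
      · exact hz _ hg' (by
          have := inv_mem hmem
          rwa [← conj_inv, inv_inv] at this)
      · exact ha _ hg' hmem
    have := mul_mem (inv_mem hcC) (inv_mem h2)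
    rwa [inv_inv, inv_mul_cancel_left] at this
  exact ⟨t, by rw [ht, card_Qm]⟩

theorem C1_conj_z {x : G} (hx : x ∈ F.C1) :
    ∃ w, Pm D.z w ∧ x * D.z * x⁻¹ * w⁻¹ ∈ F.K := by
  have hn : NZ (D := D) ≤ Subgroup.normalizer (F.K : Set G) := fun _ h => (F.NZ_le_N h).2
  rw [C1, ← SetLike.mem_coe, Subgroup.coe_mul_of_left_le_normalizer_right _ _ hn] at hx
  obtain ⟨n, hn', k, hk, rfl⟩ := hx
  refine ⟨_, (show n ∈ NZ (D := D) from hn').2, ?_⟩
  have hk' : k * (D.z * k⁻¹ * D.z⁻¹) ∈ F.K :=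
    mul_mem hk (((F.UM_le_N F.z_mem_UM).2 _).mp (inv_mem hk))
  rw [show n * k * D.z * (n * k)⁻¹ * (n * D.z * n⁻¹)⁻¹ = n * (k * (D.z * k⁻¹ * D.z⁻¹)) * n⁻¹ by group]
  exact F.N_conj_K (F.NZ_le_N hn') hk'

theorem XR_of_emb {g : G} (hg : g ∈ F.N) (h : ∀ a, ∃ a', F.na g (emb none a) = emb none a') : g ∈ F.XR := by
  refine ⟨hg, norm_of_conj fun r hr => F.mem_R1_kap (F.N_conj_K hg (F.R1_le_K hr)) ?_⟩
  obtain ⟨a', ha⟩ := h (cR (D := D) r)
  rw [← F.na_kap hg (F.R1_le_K hr), F.R1_emb hr, ha]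
  exact (by decide +kernel : ∀ (a : K4) (b : ZMod 3), vb (emb none a) b = 0) a'

/-- Elements of the centraliser fixing the component of the standard point. -/
theorem fix_Ry {g : G} (hg : g ∈ Mi (D := D)) (hz : Commute g D.z)
    (h : ∀ a, ∃ a', F.na g (emb (some 0) a) = emb (some 0) a') :
    ∃ w, Pm F.y w ∧ g * F.y * g⁻¹ * w⁻¹ ∈ D.R1 := by
  have hgN := F.cent_z_le_N hg hz
  set x := F.τ⁻¹ * g * F.τ with hx
  have hτN := F.τ_le_N
  have hxS : x ∈ F.XS := mul_mem (mul_mem (inv_mem F.τ_XS) (F.cent_z_XS hg hz)) F.τ_XS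
  have hxR : x ∈ F.XR := F.XR_of_emb hxS.1 fun a => by
    obtain ⟨a', ha⟩ := h a
    refine ⟨a', F.na_inj hτN ?_⟩
    rw [F.τ_R1_emb, ← F.na_mul hτN hxS.1, hx,
      show F.τ * (F.τ⁻¹ * g * F.τ) = g * F.τ by group, F.na_mul hgN hτN, F.τ_R1_emb, ha]
  obtain ⟨w, hw, hk⟩ := F.C1_conj_z (F.XS_XR_le_C1 hxS hxR)
  have hk' := inv_mem (F.N_conj_K hτN hk)
  have e1 : F.τ * D.z * F.τ⁻¹ = F.y⁻¹ := F.τ_conj_z
  have hw' : Pm F.y (F.τ * w * F.τ⁻¹) := by
    have h1 := hw.conj F.τ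
    rw [e1] at h1
    exact Pm.trans (Or.inr rfl) h1
  have hwi : Pm F.y (F.τ * w * F.τ⁻¹)⁻¹ := hw'.trans (Or.inr rfl)
  have e2 : (F.τ * (x * D.z * x⁻¹ * w⁻¹) * F.τ⁻¹)⁻¹ = F.τ * w * F.τ⁻¹ * (g * F.y * g⁻¹) := by
    rw [show F.y = (F.τ * D.z * F.τ⁻¹)⁻¹ by rw [e1, inv_inv], hx]; group
  rw [e2] at hk'
  set w' := F.τ * w * F.τ⁻¹
  have hw'N : w' ∈ F.N := by
    rcases hw' with e | e <;> rw [e]
    · exact F.UM_le_N F.y_mem_UM
    · exact inv_mem (F.UM_le_N F.y_mem_UM)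
  refine ⟨w'⁻¹, hwi, F.K_cent_z ?_ ?_⟩
  · have := F.N_conj_K (inv_mem hw'N) hk'
    rw [inv_inv] at this
    rw [inv_inv]
    rwa [show g * F.y * g⁻¹ * w' = w'⁻¹ * (w' * (g * F.y * g⁻¹)) * w' by group]
  · refine ((hz.mul_left F.y_z).mul_left hz.inv_left).mul_left ?_
    rw [inv_inv]
    exact (hw'.comm F.y_z.symm).symm

theorem fix_line {g : G} (hg : g ∈ Mi (D := D)) (hz : Commute g D.z)
    (h : ∀ a, ∃ a', F.na g (emb (some 0) a) = emb (some 0) a') {p : Pr} (hp : D.MA g p) :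
    p.2 * mU * p.2⁻¹ = mU ∨ p.2 * mU * p.2⁻¹ = mU⁻¹ := by
  obtain ⟨w, hw, hr⟩ := F.fix_Ry hg hz h
  obtain ⟨R, -, hR⟩ := (mem_R1_def.mp hr).2
  have h1 := (hp.mul F.acts.ma).mul hp.inv
  rcases hw with rfl | rfl
  · have h2 := (h1.mul F.acts.ma.inv).unique hR.ma
    left
    exact mul_inv_eq_one.mp (by simpa using congrArg Prod.snd h2)
  · rw [inv_inv] at hR
    have h2 := (h1.mul F.acts.ma).unique hR.ma
    right
    exact eq_inv_of_mul_eq_one_left (by simpa using congrArg Prod.snd h2)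

/-- The chosen quaternion lift. -/
noncomputable def qr (D : Setting G) (l : ZMod 3) : G := (D.acts_lift (1, lr l) (by simp) (lr_four l)).choose

theorem qr_acts (l : ZMod 3) : D.Acts (qr D l) (1, lr l) := (D.acts_lift (1, lr l) (by simp) (lr_four l)).choose_spec

theorem qr_Mi (l : ZMod 3) : qr D l ∈ Mi (D := D) := mem_Mi.mpr (Quat.comm_i1 ⟨lr l, lr_four l, qr_acts l⟩)

/-- The family moving the component of the standard point. -/
noncomputable def mv (i : ZMod 3 × ZMod 3 × ZMod 3) : G := trb (D := D) i.1 * qr D i.2.1 * D.zz i.2.2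

theorem mv_Mi (i : ZMod 3 × ZMod 3 × ZMod 3) : mv (D := D) i ∈ Mi (D := D) :=
  mul_mem (mul_mem (trb_Mi _) (qr_Mi _)) (mem_Mi.mpr (D.zz_comm D.i1_block.acts.1.cz _).symm)

theorem mv_z (i : ZMod 3 × ZMod 3 × ZMod 3) : Commute (mv (D := D) i) D.z :=
  ((trb_z _).mul_left (qr_acts _).1.cz).mul_left ((Commute.refl D.z).pow_left _)

theorem mv_inj {i i' : ZMod 3 × ZMod 3 × ZMod 3}
    (h : ∀ a, F.na ((mv (D := D) i)⁻¹ * mv (D := D) i') (emb (some 0) a) = emb (some 0) a) : i = i' := by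
  obtain ⟨b, l, e⟩ := i
  obtain ⟨b', l', e'⟩ := i'
  have hM := mul_mem (inv_mem (mv_Mi (D := D) (b, l, e))) (mv_Mi (D := D) (b', l', e'))
  have hZ := (mv_z (D := D) (b, l, e)).inv_left.mul_left (mv_z (D := D) (b', l', e'))
  have hm : ∀ b l e, D.MA (mv (D := D) (b, l, e)) (1, lr l) := fun b l e => by
    have := ((ma_of_Q (D := D) (D.q_mem (((0, 0), (0, b)) : W4))).mul (qr_acts l).ma).mul (acts_zz e).ma
    rwa [one_mul, mul_one] at this
  obtain rfl : l = l' := lr_norm l l' (by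
    simpa using F.fix_line hM hZ (fun a => ⟨a, h a⟩) ((hm b l e).inv.mul (hm b' l' e')))
  have hc : (qr D l)⁻¹ * trb (D := D) (b' - b) * qr D l = D.q ((0, 0), app2 (lr l)⁻¹ (0, b' - b)) := by
    have := (qr_acts (D := D) l).inv.2 (((0, 0), (0, b' - b)) : W4)
    rw [inv_inv] at this
    refine this.trans (congrArg D.q (Prod.ext ?_ rfl))
    exact app2_zero _
  set w := app2 (lr l)⁻¹ (0, b' - b) with hwd
  have heq : (mv (D := D) (b, l, e))⁻¹ * mv (D := D) (b', l, e') = D.q ((0, 0), w) * D.zz (e' - e) := by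
    rw [mv, mv, ← hc, sub_eq_add_neg e', add_comm e' (-e), D.zz_add, D.zz_neg,
      sub_eq_neg_add b', ← trb_add, ← trb_inv]
    have hz : Commute (D.zz e)⁻¹ ((qr D l)⁻¹ * (trb (D := D) b)⁻¹ * trb (D := D) b' * qr D l) :=
      ((D.zz_comm ((((qr_acts l).1.cz.inv_left.mul_left (trb_z b).inv_left).mul_left (trb_z b')).mul_left
        (qr_acts l).1.cz) e).symm).inv_left
    calc (trb (D := D) b * qr D l * D.zz e)⁻¹ * (trb (D := D) b' * qr D l * D.zz e')
        = (D.zz e)⁻¹ * ((qr D l)⁻¹ * (trb (D := D) b)⁻¹ * trb (D := D) b' * qr D l) * D.zz e' := by group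
      _ = _ := by rw [hz.eq]; group
  rw [heq] at h hM hZ
  obtain ⟨w0, hw0, hr⟩ := F.fix_Ry hM hZ fun a => ⟨a, h a⟩
  have hconj : D.q ((0, 0), w) * D.zz (e' - e) * F.y * (D.q ((0, 0), w) * D.zz (e' - e))⁻¹ =
      D.q ((0, 0), w) * F.y * (D.q ((0, 0), w))⁻¹ := by
    rw [show D.q ((0, 0), w) * D.zz (e' - e) * F.y * (D.q ((0, 0), w) * D.zz (e' - e))⁻¹ =
      D.q ((0, 0), w) * (D.zz (e' - e) * F.y * (D.zz (e' - e))⁻¹) * (D.q ((0, 0), w))⁻¹ by group,
      D.conj_zz_symm F.y_z]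
  rw [hconj, ← F.jel_y, F.q_conj_jel] at hr
  obtain ⟨j0, hj0⟩ : ∃ j0 : ZMod 3, w0 = F.jel (0, 0, 0, j0) := by
    rcases hw0 with rfl | rfl
    · exact ⟨1, F.jel_y.symm⟩
    · exact ⟨-1, by rw [← F.jel_y, ← F.jel_neg]; simp⟩
  rw [hj0, ← F.jel_neg, ← F.jel_add] at hr
  have hK := F.K_four (F.R1_le_K hr)
  rw [pow_succ, F.U_cube (F.jel_mem_U _), one_mul, ← F.jel_zero] at hK
  have hw2 : w.2 = 0 := by
    have := congrArg (fun v : V4 => v.2.2.1) (F.jel_inj hK)
    simpa using this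
  have hb : b' - b = 0 := lr_shift l _ (hwd ▸ hw2)
  have hw1 : w = (0, 0) := by rw [hwd, hb]; exact app2_zero _
  obtain rfl : b' = b := sub_eq_zero.mp hb
  have he : e' - e = 0 := by
    have h1 := h (1, 0)
    rw [hw1, show (((0, 0), (0, 0)) : W4) = 0 from rfl, D.q_zero, one_mul, ← F.jel_zpow, F.na_jel] at h1
    exact ry_rot _ _ _ _ (by decide) h1
  rw [sub_eq_zero.mp he]

/-- An element of the stabiliser of the first component fixing the standard component. -/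
theorem fix_pair_C1 {g : G} (hg : g ∈ F.XR) (h : ∀ a, F.na g (emb (some 0) a) = emb (some 0) a) : g ∈ F.C1 := by
  have hzN : D.z ∈ F.N := F.UM_le_N F.z_mem_UM
  have hzR : D.z ∈ F.XR := F.C1_le_XR (F.cent_z_C1 hzN.1 (Commute.refl _))
  have hgi := inv_mem hg
  refine F.XR_z_fusion hg (F.XS_XR_le_C1 ⟨mul_mem (mul_mem hg.1 hzN) hgi.1, Or.inl ?_⟩
    (mul_mem (mul_mem hg hzR) hgi))
  refine F.lin_of_emb (mul_mem (mul_mem hg.1 hzN) hgi.1) fun i => ?_
  have hz' : ∀ v, F.na (g * D.z * g⁻¹) v = F.na g (zA (F.na g⁻¹ v)) := fun v => by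
    rw [F.na_mul (mul_mem hg.1 hzN) hgi.1, F.na_mul hg.1 hzN, F.na_z]
  rcases i with _ | b
  · refine ⟨none, 0, fun a => ?_⟩
    obtain ⟨a', ha⟩ := F.XR_na_R1 hgi a
    rw [hz', ha, zA_R, ← ha, F.na_cancel_inv hg.1, rotn_facts.2.2.2.1]
  have hfix : ∀ a, F.na g⁻¹ (emb (some 0) a) = emb (some 0) a := fun a => F.na_inj hg.1 (by
    rw [F.na_cancel_inv hg.1, h])
  have hzs : ∀ (b : ZMod 3) (a : K4), zA (emb (some b) a) = emb (some b) (rotn 2 a) := by decide +kernel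
  by_cases hb : b = 0
  · subst hb
    exact ⟨some 0, 2, fun a => by rw [hz', hfix, hzs, h]⟩
  have hu : ∀ a, a ≠ 0 → ∃ b', b' ≠ 0 ∧ F.na g⁻¹ (emb (some b) a) = emb (some b') (vb (F.na g⁻¹ (emb (some b) a)) b') :=
    fun a ha => by
      refine unit_rest _ ?_ (F.XR_na_W hgi rfl) ((orth_zero _).mpr ⟨?_, ?_⟩)
      · rw [F.na_qv hgi.1, (bv_emb _ a a).2, nz_one]; exact ha
      · rw [← hfix, F.na_bv hgi.1, bv_emb_ne _ _ _ _ (by simpa using Ne.symm hb)]
      · rw [← hfix, F.na_bv hgi.1, bv_emb_ne _ _ _ _ (by simpa using Ne.symm hb)]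
  obtain ⟨b', hb', e1⟩ := hu (1, 0) (by decide)
  obtain ⟨b'', hb'', e2⟩ := hu (0, 1) (by decide)
  obtain rfl : b' = b'' := by
    by_contra hne
    have := F.na_bv hgi.1 (emb (some b) (1, 0)) (emb (some b) (0, 1))
    rw [e1, e2, bv_emb_ne _ _ _ _ (by simpa using hne), (bv_emb _ _ _).1] at this
    exact absurd this (by decide)
  set u := vb (F.na g⁻¹ (emb (some b) (1, 0))) b'
  set v := vb (F.na g⁻¹ (emb (some b) (0, 1))) b'
  have hf : ∀ a, F.na g⁻¹ (emb (some b) a) = emb (some b') (lin4 u v a) := by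
    have h0 : ∀ i : Option (ZMod 3), emb i 0 = 0 := by decide +kernel
    intro a
    rcases K4_basis a with rfl | rfl | rfl | rfl
    · rw [h0, F.na_zero hgi.1, show lin4 u v 0 = 0 from by simp [lin4], h0]
    · rw [e1]; simp [lin4]
    · rw [e2]; simp [lin4]
    · rw [emb_add, F.na_add hgi.1, e1, e2, ← emb_add]; simp [lin4]
  have hinj : ∀ a a', F.na g⁻¹ (emb (some b) a) = F.na g⁻¹ (emb (some b) a') → a ≠ 0 → a = a' := fun a a' e ha =>
    (emb_inj _ _ _ _ ha (F.na_inj hgi.1 e)).2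
  have hz0 : ∀ (w : Vec), w = emb (some b') 0 → qv w ≠ 1 := fun w e => by rw [e, (bv_emb _ 0 0).2]; decide
  have hu0 : u ≠ 0 := fun e => hz0 (F.na g⁻¹ (emb (some b) (1, 0))) (by rw [e1, e]) (by rw [F.na_qv hgi.1, (bv_emb _ (1, 0) 0).2]; rfl)
  have hv0 : v ≠ 0 := fun e => hz0 (F.na g⁻¹ (emb (some b) (0, 1))) (by rw [e2, e]) (by rw [F.na_qv hgi.1, (bv_emb _ (0, 1) 0).2]; rfl)
  have huv : u ≠ v := fun e => absurd (hinj (1, 0) (0, 1) (by rw [e1, e2, e]) (by decide)) (by decide)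
  have hback : ∀ a, F.na g (emb (some b') (lin4 u v a)) = emb (some b) a := fun a => by
    rw [← hf, F.na_cancel_inv hg.1]
  rcases lin4_semi u v hu0 hv0 huv with hs | hs
  · refine ⟨some b, 2, fun a => ?_⟩
    rw [hz', hf, hzs, show rotn 2 (lin4 u v a) = lin4 u v (rotn 2 a) by
      rw [show (2 : ZMod 3) = 1 + 1 from rfl, ← rotn_facts.2.2.2.2.1, ← hs, ← hs, rotn_facts.2.2.2.2.1], hback]
  · refine ⟨some b, 1, fun a => ?_⟩
    rw [hz', hf, hzs, ← hs, hback]

/-- The stabiliser of the first component is the extension of the product by the normaliser of the centre. -/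
theorem XR_le_C1 : F.XR ≤ F.C1 := by
  classical
  obtain ⟨t, ht⟩ := F.free_of_fusion (X := F.XR) le_rfl F.C1_le_XR (fun g hg => F.XR_z_fusion hg)
    (fun g hg => F.XR_a2_fusion hg)
  let Q := F.XR ⧸ F.C1.subgroupOf F.XR
  let o : Vec × Vec := (emb (some 0) (1, 0), emb (some 0) (0, 1))
  let f : Q × (ZMod 3 × ZMod 3 × ZMod 3) → wpairs := fun p =>
    ⟨(F.na ((p.1.out : F.XR) * mv (D := D) p.2) o.1, F.na ((p.1.out : F.XR) * mv (D := D) p.2) o.2), by
      have hh : ((p.1.out : F.XR) : G) * mv (D := D) p.2 ∈ F.XR :=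
        mul_mem p.1.out.2 (F.C1_le_XR (F.cent_z_C1 (mv_Mi _) (mv_z _)))
      refine mem_wpairs ⟨F.XR_na_W hh rfl, F.XR_na_W hh rfl, ?_, ?_, ?_⟩
      · rw [F.na_qv hh.1]; decide +kernel
      · rw [F.na_qv hh.1]; decide +kernel
      · rw [F.na_bv hh.1]; decide +kernel⟩
  have hf : Function.Injective f := by
    rintro ⟨q, i⟩ ⟨q', i'⟩ h
    have h' := congrArg Subtype.val h
    simp only [f, Prod.mk.injEq] at h'
    have hiC := F.cent_z_C1 (mv_Mi (D := D) i) (mv_z i)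
    have hi'C := F.cent_z_C1 (mv_Mi (D := D) i') (mv_z i')
    set g : G := ((q.out : F.XR) : G) * mv (D := D) i with hgd
    set g' : G := ((q'.out : F.XR) : G) * mv (D := D) i' with hgd'
    have hg : g ∈ F.XR := mul_mem q.out.2 (F.C1_le_XR hiC)
    have hg' : g' ∈ F.XR := mul_mem q'.out.2 (F.C1_le_XR hi'C)
    have hfix : ∀ a, F.na (g⁻¹ * g') (emb (some 0) a) = emb (some 0) a := fun a => by
      have hN := (mul_mem (inv_mem hg) hg').1
      have e1 : F.na (g⁻¹ * g') o.1 = o.1 := by rw [F.na_mul (inv_mem hg.1) hg'.1, ← h'.1, F.na_inv_cancel hg.1]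
      have e2 : F.na (g⁻¹ * g') o.2 = o.2 := by rw [F.na_mul (inv_mem hg.1) hg'.1, ← h'.2, F.na_inv_cancel hg.1]
      rcases K4_basis a with rfl | rfl | rfl | rfl
      · rw [show emb (some (0 : ZMod 3)) (0 : K4) = 0 from rfl, F.na_zero hN]
      · exact e1
      · exact e2
      · rw [emb_add, F.na_add hN]; exact congrArg₂ (· + ·) e1 e2
    have hC := F.fix_pair_C1 (mul_mem (inv_mem hg) hg') hfix
    have hq : q = q' := by
      rw [← q.out_eq, ← q'.out_eq]
      refine QuotientGroup.eq.mpr ?_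
      simp only [Subgroup.mem_subgroupOf, Subgroup.coe_mul, InvMemClass.coe_inv]
      have := mul_mem (mul_mem hiC hC) (inv_mem hi'C)
      rwa [hgd, hgd', show mv (D := D) i * ((((q.out : F.XR) : G) * mv (D := D) i)⁻¹ *
        (((q'.out : F.XR) : G) * mv (D := D) i')) * (mv (D := D) i')⁻¹ =
        ((q.out : F.XR) : G)⁻¹ * ((q'.out : F.XR) : G) by group] at this
    subst hq
    refine Prod.ext rfl (F.mv_inj fun a => ?_)
    have := hfix a
    rwa [hgd, hgd', show (((q.out : F.XR) : G) * mv (D := D) i)⁻¹ * (((q.out : F.XR) : G) * mv (D := D) i') =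
      (mv (D := D) i)⁻¹ * mv (D := D) i' by group] at this
  have hc := Nat.card_le_card_of_injective f hf
  rw [Nat.card_prod, Nat.card_eq_finsetCard, card_wpairs,
    show Nat.card Q = F.C1.relIndex F.XR from rfl, ht] at hc
  simp only [Nat.card_prod, Nat.card_zmod] at hc
  have h1 : F.C1.relIndex F.XR = 1 := by omega
  exact Subgroup.relIndex_eq_one.mp h1

theorem trb_le_N (c : ZMod 3) : trb (D := D) c ∈ F.N := F.second_le_N _

theorem na_trb_emb (c b : ZMod 3) (a : K4) : F.na (trb (D := D) c) (emb (some b) a) = emb (some (b + c)) a := by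
  obtain ⟨x, hx, rfl⟩ := F.cB_surj b a
  rw [← F.Rb_emb hx, F.na_kap (F.trb_le_N c) (F.Rb_le_K b hx), F.Rb_emb (F.trb_Rb hx), F.cB_trb]

theorem Lin.sp {g : G} (h : F.Lin g) (i : ZMod 3) (u : Vec) :
    F.na g (CfsgLib.U6Three.sp i u) = CfsgLib.U6Three.sp i (F.na g u) := by
  simp only [CfsgLib.U6Three.sp]; split_ifs
  exacts [rfl, h u, (h (sg u)).trans (congrArg sg (h u))]

theorem XS_sp {g : G} (hg : g ∈ F.XS) (i : ZMod 3) (u : Vec) :
    ∃ i', F.na g (sp i u) = sp i' (F.na g u) := by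
  rcases hg.2 with h | h
  · exact ⟨i, h.sp F i u⟩
  · rcases (by decide : ∀ i : ZMod 3, i = 0 ∨ i = 1 ∨ i = 2) i with rfl | rfl | rfl
    · exact ⟨0, rfl⟩
    · refine ⟨2, ?_⟩
      show F.na g (sg u) = sg (sg (F.na g u))
      exact h u
    · refine ⟨1, ?_⟩
      show F.na g (sg (sg u)) = sg (F.na g u)
      rw [h, h, sg_cube]

/-- A conjugate of the first component outside the moved part. -/
theorem exists_far : ∃ g ∈ F.XS, (F.na g (emb none (1, 0))).1 ≠ 0 ∧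
    F.na g (emb none (1, 0)) ≠ emb none (F.na g (emb none (1, 0))).1 := by
  set r := qr D 1
  have hrM := qr_Mi (D := D) 1
  have hrz := (qr_acts (D := D) 1).1.cz
  have hrS := F.cent_z_XS hrM hrz
  have hrN := hrS.1
  set w := F.na r (emb (some 0) (1, 0)) with hw
  have hR : r ∈ F.XR := F.C1_le_XR (F.cent_z_C1 hrM hrz)
  have hw1 : w.1 = 0 := F.XR_na_W hR rfl
  have key : ∀ (b : ZMod 3) (a : K4), w ≠ emb (some b) a := by
    intro b a e
    have hall : ∀ a', ∃ a'', F.na r (emb (some 0) a') = emb (some b) a'' := by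
      have e' : F.na r (emb (some 0) (0, 1)) = emb (some b) (rotn 1 a) := by
        rw [Ry_second, F.lin_cent_z hrM hrz, ← hw, e, sg_emb]
      intro a'
      rcases K4_basis a' with rfl | rfl | rfl | rfl
      · exact ⟨0, by rw [show emb (some (0 : ZMod 3)) (0 : K4) = 0 from rfl, F.na_zero hrN];
                     exact ((by decide +kernel : ∀ b : ZMod 3, (0 : Vec) = emb (some b) 0) b)⟩
      · exact ⟨a, e⟩
      · exact ⟨_, e'⟩
      · exact ⟨a + rotn 1 a, by rw [emb_add, F.na_add hrN, ← hw, e, e', ← emb_add]⟩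
    have h := F.fix_line (g := trb (D := D) (-b) * r) (mul_mem (trb_Mi _) hrM) ((trb_z _).mul_left hrz) (fun a' => by
        obtain ⟨a'', h''⟩ := hall a'
        exact ⟨a'', by rw [F.na_mul (F.trb_le_N _) hrN, h'', na_trb_emb, add_neg_cancel]⟩)
      ((ma_of_Q (D := D) (D.q_mem (((0, 0), (0, -b)) : W4))).mul (qr_acts (D := D) 1).ma)
    rw [one_mul] at h
    exact (show ¬ (lr 1 * mU * (lr 1)⁻¹ = mU ∨ lr 1 * mU * (lr 1)⁻¹ = mU⁻¹) by decide +kernel) h
  have hqw : qv w = 1 := by rw [hw, F.na_qv hrN]; decide +kernel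
  refine ⟨F.τ * r * F.τ, mul_mem (mul_mem F.τ_XS hrS) F.τ_XS, ?_⟩
  rw [F.na_mul (mul_mem F.τ_le_N hrN) F.τ_le_N, F.τ_R1_emb, F.na_mul F.τ_le_N hrN, ← hw]
  have hττ : Commute (F.τ * F.τ) D.z := by
    refine mul_inv_eq_iff_eq_mul.mp ?_
    calc F.τ * F.τ * D.z * (F.τ * F.τ)⁻¹ = F.τ * (F.τ * D.z * F.τ⁻¹) * F.τ⁻¹ := by group
      _ = D.z := by rw [F.τ_conj_z, ← conj_inv, F.τ_conj_y, inv_inv]
  have hττR : F.τ * F.τ ∈ F.XR := F.C1_le_XR (F.cent_z_C1 (mul_mem F.τ_le_N.1 F.τ_le_N.1) hττ)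
  have hτ0 : ∀ a, ∃ a', F.na F.τ (emb (some 0) a) = emb none a' := fun a => by
    obtain ⟨a', ha⟩ := F.XR_na_R1 hττR a
    exact ⟨a', by rw [← F.τ_R1_emb, ← F.na_mul F.τ_le_N F.τ_le_N, ha]⟩
  refine ⟨fun h => ?_, fun h => ?_⟩
  · obtain ⟨b, -, e⟩ := unit_rest w hqw hw1 ((orth_zero w).mpr ⟨by
        obtain ⟨a', ha⟩ := hτ0 (1, 0)
        rw [← F.na_bv F.τ_le_N, ha]; exact (W_orth _).mp h _, by
        obtain ⟨a', ha⟩ := hτ0 (0, 1)
        rw [← F.na_bv F.τ_le_N, ha]; exact (W_orth _).mp h _⟩)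
    exact key b _ e
  · obtain ⟨a'', ha⟩ := F.XR_na_R1 (inv_mem hττR) (F.na F.τ w).1
    refine key 0 a'' (F.na_inj F.τ_le_N ?_)
    rw [← F.τ_R1_emb a'', ← F.na_mul F.τ_le_N F.τ_le_N, ← ha, F.na_cancel_inv hττR.1, ← h]

/-- The core acts freely on a conjugate of the first component outside the moved part. -/
theorem far_free {g : G} (hg : g ∈ F.XS) (h1 : (F.na g (emb none (1, 0))).1 ≠ 0)
    (h2 : F.na g (emb none (1, 0)) ≠ emb none (F.na g (emb none (1, 0))).1) {d : G} (hdQ : d ∈ Qm (D := D))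
    (hd1 : d ≠ 1) (hC : g⁻¹ * d * g ∈ F.C1) : False := by
      set u := F.na g (emb none (1, 0)) with hu
      have hR1 : ∃ i, F.na (g⁻¹ * d * g) (emb none (1, 0)) = sp i (emb none (1, 0)) := by
        obtain ⟨a, ha⟩ := F.XR_na_R1 (F.C1_le_XR hC) (1, 0)
        rw [ha]
        refine R1_unit a fun h0 => ?_
        have := F.na_qv (F.C1_le_N hC) (emb none (1, 0))
        rw [ha, h0] at this
        exact absurd this (by decide +kernel)
      obtain ⟨i, hi⟩ := hR1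
      obtain ⟨i', hi'⟩ := F.XS_sp hg i (emb none (1, 0))
      have hdu : F.na d u = sp i' u := by
        rw [← hi', ← hi, hu, ← F.na_mul (F.C1_le_N (F.Qm_le_C1 hdQ)) hg.1, ← F.na_mul hg.1 (F.C1_le_N hC)]
        congr 1
        group
      obtain ⟨c, hc, hcz, hw⟩ := good_Qm hdQ hd1
      have hcN := F.cent_z_le_N hc hcz
      set u' := F.na c u with hu'
      have hcu : F.na (c * d * c⁻¹) u' = sp i' u' := by
        have hdN := F.C1_le_N (F.Qm_le_C1 hdQ)
        rw [hu', F.na_mul (mul_mem hcN hdN) (inv_mem hcN), F.na_inv_cancel hcN, F.na_mul hcN hdN, hdu,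
          (F.lin_cent_z hc hcz).sp F]
      have hq : qv u' = 1 := by
        rw [hu', F.na_qv hcN, hu, F.na_qv hg.1]; decide +kernel
      have hplane : u'.1 = 0 ∨ u' = emb none u'.1 := by
        rcases hw with (hw | hw) | hw <;> rw [hw] at hcu
        · rw [F.na_z] at hcu; exact zA_plane u' hq i' hcu
        · have hzN : D.z ∈ F.N := F.UM_le_N F.z_mem_UM
          have h3 : u' = sp i' (zA u') := by
            rw [← F.na_z, ← (show F.Lin D.z from F.lin_cent_z hzN.1 (Commute.refl _)).sp F, ← hcu,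
              F.na_cancel_inv hzN]
          obtain ⟨i'', hi''⟩ := zA_rotate u' i' h3
          exact zA_plane u' hq i'' hi''
        · rw [F.na_a2] at hcu; exact aA_plane u' hq i' hcu
      have hcR := F.C1_le_XR (F.cent_z_C1 hc hcz)
      have hu2 : u = F.na c⁻¹ u' := (F.na_inv_cancel hcN u).symm
      rcases hplane with hp | hp
      · exact h1 (hu2 ▸ F.XR_na_W (inv_mem hcR) hp)
      · obtain ⟨a, ha⟩ := F.XR_na_R1 (inv_mem hcR) u'.1
        rw [← hp, ← hu2] at ha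
        exact h2 (by rw [ha]; rfl)

theorem card_cosets_ge : 28 ≤ F.C1.relIndex F.XS := by
  classical
  obtain ⟨g, hg, h1, h2⟩ := F.exists_far
  set u := F.na g (emb none (1, 0)) with hu
  let Q := F.XS ⧸ F.C1.subgroupOf F.XS
  let f : Option (Qm (D := D)) → Q := fun o =>
    o.elim ((1 : F.XS) : Q) fun e => ((⟨(e : G) * g, mul_mem (F.C1_le_XS (F.Qm_le_C1 e.2)) hg⟩ : F.XS) : Q)
  have hnot : ∀ e : Qm (D := D), ¬ ((e : G) * g ∈ F.C1) := fun e he => by
    have hgC : g ∈ F.C1 := by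
      have := mul_mem (inv_mem (F.Qm_le_C1 e.2)) he
      rwa [inv_mul_cancel_left] at this
    obtain ⟨a, ha⟩ := F.XR_na_R1 (F.C1_le_XR hgC) (1, 0)
    rw [hu, ha] at h2
    exact h2 rfl
  have hf : Function.Injective f := by
    rintro (_ | e) (_ | e') h
    · rfl
    · have := QuotientGroup.eq.mp (h : ((1 : F.XS) : Q) = _)
      exact (hnot e' (by simpa [Subgroup.mem_subgroupOf] using this)).elim
    · have := QuotientGroup.eq.mp (h.symm : ((1 : F.XS) : Q) = _)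
      exact (hnot e (by simpa [Subgroup.mem_subgroupOf] using this)).elim
    · have h0 := QuotientGroup.eq.mp (h : ((_ : F.XS) : Q) = _)
      simp only [Subgroup.mem_subgroupOf, Subgroup.coe_mul, InvMemClass.coe_inv] at h0
      by_contra hne
      exact F.far_free hg h1 h2 (mul_mem (inv_mem e.2) e'.2)
        (fun hd1 => hne (congrArg some (Subtype.ext (inv_mul_eq_one.mp hd1))))
        (by rwa [show g⁻¹ * ((e : G)⁻¹ * e') * g = ((e : G) * g)⁻¹ * ((e' : G) * g) by group])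
  have := Nat.card_le_card_of_injective f hf
  rwa [Finite.card_option, card_Qm] at this

/-- The stabiliser of the rotation has index one or twenty-eight. -/
theorem index_XS : F.XS.relIndex F.N = 1 ∨ F.XS.relIndex F.N = 28 := by
  classical
  obtain ⟨t, ht⟩ := F.free_of_fusion (X := F.N) F.C1_le_XS F.XS_le_N
    (fun g hg => F.XS_z_fusion hg.1) (fun g hg => F.XS_a2_fusion hg.1)
  let Q := F.N ⧸ F.C1.subgroupOf F.N
  let S := {p : K4 × K4 // p.1 ≠ 0 ∧ p.2 ≠ 0 ∧ p.1 ≠ p.2}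
  let f : Q × S → upairs := fun p =>
    ⟨(F.na (p.1.out : F.N) (emb none p.2.1.1), F.na (p.1.out : F.N) (emb none p.2.1.2)), by
      refine mem_upairs ⟨?_, ?_, ?_⟩
      · rw [F.na_qv p.1.out.2, (bv_emb _ _ 0).2, nz_one]; exact p.2.2.1
      · rw [F.na_qv p.1.out.2, (bv_emb _ _ 0).2, nz_one]; exact p.2.2.2.1
      · rw [F.na_bv p.1.out.2, (bv_emb _ _ _).1]
        exact (by decide : ∀ a b : K4, a ≠ 0 → b ≠ 0 → a ≠ b → cf a b = 1) _ _ p.2.2.1 p.2.2.2.1 p.2.2.2.2⟩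
  have hf : Function.Injective f := by
    rintro ⟨q, ⟨⟨a, b⟩, hab⟩⟩ ⟨q', ⟨⟨a', b'⟩, hab'⟩⟩ h
    have h' := congrArg Subtype.val h
    simp only [f, Prod.mk.injEq] at h'
    have hN : ((q.out : F.N) : G)⁻¹ * ((q'.out : F.N) : G) ∈ F.N := mul_mem (inv_mem q.out.2) q'.out.2
    have e1 : F.na (((q.out : F.N) : G)⁻¹ * ((q'.out : F.N) : G)) (emb none a') = emb none a := by
      rw [F.na_mul (inv_mem q.out.2) q'.out.2, ← h'.1, F.na_inv_cancel q.out.2]
    have e2 : F.na (((q.out : F.N) : G)⁻¹ * ((q'.out : F.N) : G)) (emb none b') = emb none b := by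
      rw [F.na_mul (inv_mem q.out.2) q'.out.2, ← h'.2, F.na_inv_cancel q.out.2]
    have hR := F.XR_of_emb hN fun x => by
      rcases (by decide : ∀ a b x : K4, a ≠ 0 → b ≠ 0 → a ≠ b → x = 0 ∨ x = a ∨ x = b ∨ x = a + b) a' b' x hab'.1
        hab'.2.1 hab'.2.2 with rfl | rfl | rfl | rfl
      · exact ⟨0, by rw [show emb none (0 : K4) = 0 from rfl, F.na_zero hN]⟩
      · exact ⟨_, e1⟩
      · exact ⟨_, e2⟩
      · exact ⟨a + b, by rw [emb_add, F.na_add hN, e1, e2, ← emb_add]⟩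
    have hq : q = q' := by
      rw [← q.out_eq, ← q'.out_eq]
      exact QuotientGroup.eq.mpr (F.XR_le_C1 hR)
    subst hq
    rw [inv_mul_cancel, F.na_one] at e1 e2
    have ha := (emb_inj _ _ _ _ hab'.1 e1).2
    have hb := (emb_inj _ _ _ _ hab'.2.1 e2).2
    subst ha hb
    rfl
  have hc := Nat.card_le_card_of_injective f hf
  have hS : Nat.card S = 6 := by
    rw [Nat.card_eq_fintype_card]; decide +kernel
  rw [Nat.card_prod, Nat.card_eq_finsetCard, card_upairs, hS, show Nat.card Q = F.C1.relIndex F.N from rfl,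
    ← Subgroup.relIndex_mul_relIndex _ _ _ F.C1_le_XS F.XS_le_N] at hc
  have hm := F.card_cosets_ge
  have h28 : 28 * F.XS.relIndex F.N * 6 ≤ 6720 :=
    (Nat.mul_le_mul_right 6 (Nat.mul_le_mul_right _ hm)).trans hc
  omega

end Setting.Base

end CfsgLib.U6Three
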