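import Cfsg.Agent.Lib.U6Three.Setting

/-!
The conjugates of the central element in its centraliser: their actions and normal forms.
-/

set_option autoImplicit false

namespace CfsgLib.U6Three

universe u

/-- The two-sided translation of a vector under conjugation by the core. -/
def cV (g : Pr) (u w : W4) : W4 := u + (w - appP g w)

/-- The central part of a conjugation by the core. -/
def cK (g : Pr) (u w : W4) : ZMod 3 := om u w + om w (appP g w) + om u (appP g w)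

theorem cV_reduce_diag : ∀ g ∈ [((mU, mU) : Pr), (mU, mU * mU)], ∀ u : W4, ∃ w,
    (cV g u w).1.1 = 0 ∧ (cV g u w).2.1 = 0 := by decide +kernel

theorem cV_reduce_pure : ∀ u : W4, ∃ w, (cV ((mU, 1) : Pr) u w).1.1 = 0 := by decide +kernel

theorem diag_abelian : ∀ g ∈ [((mU, mU) : Pr), (mU, mU * mU)], ∀ b1 b2 : ZMod 3, (b1, b2) ≠ (0, 0) →
    ∃ a : W4, a ≠ 0 ∧ appP g a = a ∧ om ((0, b1), (0, b2)) a = 0 ∧
      ∀ i l : ZMod 3, ∃ w, cV g ((0, b1), (0, b2)) w = ((0, b1), (0, b2)) + i • a ∧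
        cK g ((0, b1), (0, b2)) w = l := by decide +kernel

theorem pure_shift : appP ((mU, 1) : Pr) ea1 = ea1 ∧ ea1 ≠ 0 ∧ om ea2 ea1 = 0 ∧
    ∀ i l : ZMod 3, ∃ w, cV ((mU, 1) : Pr) ea2 w = ea2 + i • ea1 ∧ cK ((mU, 1) : Pr) ea2 w = l := by decide +kernel

theorem pure_bad : ∀ (b : ZMod 3) (v2 : V2), (b ≠ 0 ∨ v2 = 0) → ∃ v w : W4,
    appP ((mU, 1) : Pr) v = v ∧ appP ((mU, 1) : Pr) w = w ∧ om ((0, b), v2) v = 0 ∧ om ((0, b), v2) w = 0 ∧
      om v w ≠ 0 := by decide +kernel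

theorem pr_forms : ∀ A B : SL23, A * A * A = 1 → B * B * B = 1 → A ≠ 1 ∨ B ≠ 1 →
    ∃ R1 R2 : SL23, R1 * R1 * (R1 * R1) = 1 ∧ R2 * R2 * (R2 * R2) = 1 ∧
      ((R1 * A * R1⁻¹, R2 * B * R2⁻¹) ∈ [((mU, 1) : Pr), (mU * mU, 1), (1, mU), (1, mU * mU),
        (mU, mU), (mU * mU, mU * mU), (mU, mU * mU), (mU * mU, mU)]) := by decide +kernel

theorem pr_inv : ((mU * mU, 1) : Pr)⁻¹ = (mU, 1) ∧ ((mU * mU, mU * mU) : Pr)⁻¹ = (mU, mU) ∧
    ((mU * mU, mU) : Pr)⁻¹ = (mU, mU * mU) ∧ ((1, mU * mU) : Pr)⁻¹ = (1, mU) := by decide +kernel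

namespace Setting

variable {G : Type u} [Group G] (D : Setting G)

/-- Acting blockwise modulo the core. -/
def MA (h : G) (g : Pr) : Prop := ∃ u s, h = D.q u * s ∧ D.Acts s g

/-- Exchanging the blocks modulo the core. -/
def MS (h : G) (g : Pr) : Prop := ∃ u s, h = D.q u * s ∧ D.Swaps s g

theorem Acts.move {s : G} {g : Pr} (h : D.Acts s g) (v : W4) : s * D.q v = D.q (appP g v) * s :=
  mul_inv_eq_iff_eq_mul.mp (h.2 v)

theorem Swaps.move {s : G} {g : Pr} (h : D.Swaps s g) (v : W4) : s * D.q v = D.q (appP g (swapW v)) * s :=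
  mul_inv_eq_iff_eq_mul.mp (h.2 v)

theorem zz_q_mul (v w : W4) : D.q v * D.q w = D.q (v + w) * D.zz (-om v w) := by
  rw [q_mul', (D.zz_q _ _).eq]

variable {D}

theorem MA.comm_z {h : G} {g : Pr} (H : D.MA h g) : Commute h D.z := by
  obtain ⟨u, s, rfl, hs⟩ := H
  exact (D.q_z u).mul_left hs.1.cz

theorem MA.mul {h h' : G} {g g' : Pr} (H : D.MA h g) (H' : D.MA h' g') : D.MA (h * h') (g * g') := by
  obtain ⟨u, s, rfl, hs⟩ := H
  obtain ⟨u', s', rfl, hs'⟩ := H'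
  refine ⟨u + appP g u', D.zz (-om u (appP g u')) * (s * s'), ?_, ?_⟩
  · rw [show D.q u * s * (D.q u' * s') = D.q u * (s * D.q u') * s' by group, hs.move D,
      show D.q u * (D.q (appP g u') * s) * s' = (D.q u * D.q (appP g u')) * (s * s') by group, zz_q_mul, mul_assoc]
  · have := (acts_zz (D := D) (-om u (appP g u'))).mul (hs.mul hs')
    rwa [one_mul] at this

theorem ma_of_Q {x : G} (hx : x ∈ D.Q) : D.MA x 1 := by
  obtain ⟨k, v, rfl⟩ := hx
  exact ⟨v, D.zz k, (D.zz_q k v).eq, acts_zz k⟩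

theorem ma_one : D.MA 1 1 := ma_of_Q (one_mem _)

theorem Acts.ma {s : G} {g : Pr} (h : D.Acts s g) : D.MA s g := ⟨0, s, by rw [D.q_zero, one_mul], h⟩

theorem MA.inv {h : G} {g : Pr} (H : D.MA h g) : D.MA h⁻¹ g⁻¹ := by
  obtain ⟨u, s, rfl, hs⟩ := H
  rw [mul_inv_rev]
  have := hs.inv.ma.mul (ma_of_Q (D.Q.inv_mem (D.q_mem u)))
  rwa [mul_one] at this

theorem MA.unique {h : G} {g g' : Pr} (H : D.MA h g) (H' : D.MA h g') : g = g' := by
  obtain ⟨u, s, rfl, hs⟩ := H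
  obtain ⟨u', s', e, hs'⟩ := H'
  refine appP_inj fun v => ?_
  have e1 : D.q u * s * D.q v * (D.q u * s)⁻¹ = D.zz (om u (appP g v)) * D.q (appP g v) := by
    rw [show D.q u * s * D.q v * (D.q u * s)⁻¹ = D.q u * (s * D.q v * s⁻¹) * (D.q u)⁻¹ by group, hs.2, q_conj]
  have e2 : D.q u' * s' * D.q v * (D.q u' * s')⁻¹ = D.zz (om u' (appP g' v)) * D.q (appP g' v) := by
    rw [show D.q u' * s' * D.q v * (D.q u' * s')⁻¹ = D.q u' * (s' * D.q v * s'⁻¹) * (D.q u')⁻¹ by group, hs'.2, q_conj]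
  rw [e] at e1
  exact (D.el_inj (e1.symm.trans e2)).2

theorem MA.mem_Q {h : G} (H : D.MA h 1) : h ∈ D.Q := by
  obtain ⟨u, s, rfl, hs⟩ := H
  obtain ⟨k, rfl⟩ := hs.trivial
  exact mul_mem (D.q_mem u) (D.zz_mem k)

theorem MS.mul_MS {h h' : G} {g g' : Pr} (H : D.MS h g) (H' : D.MS h' g') : D.MA (h * h') (g * (g'.2, g'.1)) := by
  obtain ⟨u, s, rfl, hs⟩ := H
  obtain ⟨u', s', rfl, hs'⟩ := H'
  refine ⟨u + appP g (swapW u'), D.zz (-om u (appP g (swapW u'))) * (s * s'), ?_, ?_⟩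
  · rw [show D.q u * s * (D.q u' * s') = D.q u * (s * D.q u') * s' by group, hs.move D,
      show D.q u * (D.q (appP g (swapW u')) * s) * s' = (D.q u * D.q (appP g (swapW u'))) * (s * s') by group,
      zz_q_mul, mul_assoc]
  · have := (acts_zz (D := D) (-om u (appP g (swapW u')))).mul (hs.mul_swaps hs')
    rwa [one_mul] at this

theorem MA.not_MS {h : G} {g g' : Pr} (H : D.MA h g) (H' : D.MS h g') : False := by
  obtain ⟨u, s, rfl, hs⟩ := H
  obtain ⟨u', s', e, hs'⟩ := H'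
  have h1 : ∀ v, (appP g v) = (appP g' (swapW v)) := fun v => by
    have e1 : D.q u * s * D.q v * (D.q u * s)⁻¹ = D.zz (om u (appP g v)) * D.q (appP g v) := by
      rw [show D.q u * s * D.q v * (D.q u * s)⁻¹ = D.q u * (s * D.q v * s⁻¹) * (D.q u)⁻¹ by group, hs.2, q_conj]
    have e2 : D.q u' * s' * D.q v * (D.q u' * s')⁻¹ = D.zz (om u' (appP g' (swapW v))) * D.q (appP g' (swapW v)) := by
      rw [show D.q u' * s' * D.q v * (D.q u' * s')⁻¹ = D.q u' * (s' * D.q v * s'⁻¹) * (D.q u')⁻¹ by group, hs'.2, q_conj]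
    rw [e] at e1
    exact (D.el_inj (e1.symm.trans e2)).2
  exact ((by decide +kernel : ∀ a b : SL23, app2 a (0, 0) ≠ app2 b (1, 0)) _ _) (congrArg Prod.snd (h1 ea1))

variable (D)

/-- Elements of order dividing three preserve the blocks. -/
theorem ma_three {x : G} (hx : Commute x D.z) (h3 : x ^ 3 = 1) : ∃ g, D.MA x g ∧ g * g * g = 1 := by
  obtain ⟨u, s, g, e, hg | hg⟩ := D.cases_H hx
  · refine ⟨g, ⟨u, s, e, hg⟩, ?_⟩
    have h : D.MA x g := ⟨u, s, e, hg⟩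
    have h' := (h.mul h).mul h
    rw [← pow_three', h3] at h'
    exact h'.unique ma_one
  · exfalso
    have h : D.MS x g := ⟨u, s, e, hg⟩
    have hi : x * x = x⁻¹ := (inv_eq_of_mul_eq_one_left (by rw [← pow_three', h3])).symm
    have h2 := (h.mul_MS h).inv
    rw [hi, inv_inv] at h2
    exact h2.not_MS h

/-- Commutation of a general element with the core. -/
theorem comm_q_iff {k : ZMod 3} {u : W4} {s : G} {g : Pr} (hs : D.Acts s g) (v : W4) :
    Commute (D.zz k * (D.q u * s)) (D.q v) ↔ appP g v = v ∧ om u v = 0 := by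
  have e : D.zz k * (D.q u * s) * D.q v * (D.zz k * (D.q u * s))⁻¹ = D.zz (om u (appP g v)) * D.q (appP g v) := by
    rw [show D.zz k * (D.q u * s) * D.q v * (D.zz k * (D.q u * s))⁻¹ =
      D.zz k * (D.q u * (s * D.q v * s⁻¹) * (D.q u)⁻¹) * (D.zz k)⁻¹ by group, hs.2, q_conj]
    exact mul_inv_eq_iff_eq_mul.mpr ((((Commute.refl D.z).pow_pow _ _).mul_right (D.zz_q _ _)).eq)
  constructor
  · intro h
    rw [h.eq, mul_inv_cancel_right] at e
    obtain ⟨e1, e2⟩ := D.el_inj (k := 0) (v := v) (l := om u (appP g v)) (w := appP g v) (by rw [zz_zero, one_mul]; exact e)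
    exact ⟨e2.symm, (congrArg (om u) e2).trans e1.symm⟩
  · rintro ⟨e1, e2⟩
    rw [e1, e2, zz_zero, one_mul, mul_inv_eq_iff_eq_mul] at e
    exact e


/-- Conjugation by the core. -/
theorem q_conj_el {k : ZMod 3} {u : W4} {s : G} {g : Pr} (hs : D.Acts s g) (w : W4) :
    D.q w * (D.zz k * (D.q u * s)) * (D.q w)⁻¹ = D.zz (k + cK g u w) * (D.q (cV g u w) * s) := by
  have h1 : s * (D.q w)⁻¹ = D.q (-appP g w) * s := by
    rw [q_inv, hs.move D]
    congr 2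
    exact (by decide +kernel : ∀ g : SL23, ∀ v : V2, app2 g (-v) = -app2 g v) g.1 w.1 |> fun a =>
      Prod.ext a ((by decide +kernel : ∀ g : SL23, ∀ v : V2, app2 g (-v) = -app2 g v) g.2 w.2)
  have h2 : D.q w * D.q u * D.q (-appP g w) = D.zz (cK g u w) * D.q (cV g u w) := by
    rw [q_mul', mul_assoc, q_mul', ← mul_assoc, ← zz_add]
    congr 2
    · rw [om_neg_right, neg_neg, om_add_left, om_swap u w, neg_neg, cK]
      ring
    · rw [cV]; abel
  calc D.q w * (D.zz k * (D.q u * s)) * (D.q w)⁻¹ = (D.q w * D.zz k) * D.q u * (s * (D.q w)⁻¹) := by group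
    _ = D.zz k * (D.q w * D.q u * D.q (-appP g w)) * s := by rw [h1, ← (D.zz_q k w).eq]; group
    _ = _ := by rw [h2, zz_add]; group

/-- A conjugate of the central element or of its inverse. -/
def IsPt (x : G) : Prop := ∃ g, x = g * D.z * g⁻¹ ∨ x = (g * D.z * g⁻¹)⁻¹

variable {D}

theorem IsPt.inv {x : G} (h : D.IsPt x) : D.IsPt x⁻¹ := by
  obtain ⟨g, h | h⟩ := h
  · exact ⟨g, Or.inr (by rw [h])⟩
  · exact ⟨g, Or.inl (by rw [h, inv_inv])⟩

theorem IsPt.conj {x : G} (h : D.IsPt x) (c : G) : D.IsPt (c * x * c⁻¹) := by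
  obtain ⟨g, h | h⟩ := h
  · exact ⟨c * g, Or.inl (by rw [h]; group)⟩
  · exact ⟨c * g, Or.inr (by rw [h]; group)⟩

theorem IsPt.cube {x : G} (h : D.IsPt x) : x ^ 3 = 1 := by
  obtain ⟨g, h | h⟩ := h <;> rw [h]
  · rw [conj_pow, D.z_cube]; group
  · rw [inv_pow, conj_pow, D.z_cube]; group

theorem IsPt.ne_one {x : G} (h : D.IsPt x) : x ≠ 1 := by
  obtain ⟨g, h | h⟩ := h <;> rw [h]
  · exact fun e => D.z_ne (conj_eq_one_iff.mp e)
  · exact fun e => D.z_ne (conj_eq_one_iff.mp (inv_eq_one.mp e))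

theorem IsPt.swap_iff {x : G} : D.swap.IsPt x ↔ D.IsPt x := Iff.rfl

theorem IsPt.mem_Q {x : G} (h : D.IsPt x) (hQ : x ∈ D.Q) : ∃ k, x = D.zz k := by
  obtain ⟨g, h | h⟩ := h
  · obtain ⟨k, v, e⟩ := hQ
    obtain rfl := D.wc g k v (h.symm.trans e)
    exact ⟨k, by rw [e, D.q_zero, mul_one]⟩
  · obtain ⟨k, v, e⟩ := D.Q.inv_mem hQ
    obtain rfl := D.wc g k v ((by rw [h, inv_inv] : g * D.z * g⁻¹ = x⁻¹).trans e)
    exact ⟨-k, by rw [D.zz_neg, ← inv_inj, e, inv_inv, D.q_zero, mul_one]⟩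

variable (D)

theorem isPt_zz {k : ZMod 3} (hk : k ≠ 0) : D.IsPt (D.zz k) := by
  rcases (by decide : ∀ k : ZMod 3, k ≠ 0 → k = 1 ∨ k = -1) k hk with rfl | rfl
  · exact ⟨1, Or.inl (by rw [zz_one]; group)⟩
  · exact ⟨1, Or.inr (by rw [zz_neg, zz_one]; group)⟩

/-- The centraliser in the core of a conjugate outside the core is abelian. -/
theorem pt_abelian {x : G} (hp : D.IsPt x) (hQ : x ∉ D.Q) {v w : W4}
    (hv : Commute x (D.q v)) (hw : Commute x (D.q w)) : om v w = 0 := by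
  by_contra hne
  obtain ⟨g, hg⟩ := hp
  set f := MulAut.conj g⁻¹ with hf
  have key : ∀ a, Commute x (D.q a) → Commute (f (D.q a)) D.z := by
    intro a ha
    have hc : Commute (g * D.z * g⁻¹) (D.q a) := by
      rcases hg with rfl | rfl
      · exact ha
      · exact Commute.inv_left_iff.mp ha
    have := (hc.map f.toMonoidHom).symm
    simpa [hf, mul_assoc] using this
  have cube : ∀ a, f (D.q a) ^ 3 = 1 := fun a => by rw [← map_pow, D.q_cube, map_one]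
  obtain ⟨A, hA, hA3⟩ := D.ma_three (key v hv) (cube v)
  obtain ⟨B, hB, hB3⟩ := D.ma_three (key w hw) (cube w)
  have hC := ((hA.mul hB).mul hA.inv).mul hB.inv
  rw [← map_inv, ← map_inv, ← map_mul, ← map_mul, ← map_mul, q_conj, mul_inv_cancel_right] at hC
  have h3 := (hC.mul hC).mul hC
  rw [← map_mul, ← map_mul, ← zz_add, ← zz_add, (by decide : ∀ k : ZMod 3, k + k + k = 0) _, zz_zero, map_one] at h3
  have hcube := (h3.unique ma_one)
  have h1 : A.1 * A.1 * A.1 = 1 ∧ A.2 * A.2 * A.2 = 1 := ⟨congrArg Prod.fst hA3, congrArg Prod.snd hA3⟩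
  have h2 : B.1 * B.1 * B.1 = 1 ∧ B.2 * B.2 * B.2 = 1 := ⟨congrArg Prod.fst hB3, congrArg Prod.snd hB3⟩
  have hAB : A * B = B * A := Prod.ext
    (sl_comm_three _ _ h1.1 h2.1 (congrArg Prod.fst hcube)) (sl_comm_three _ _ h1.2 h2.2 (congrArg Prod.snd hcube))
  have hone : A * B * A⁻¹ * B⁻¹ = 1 := by rw [hAB]; group
  rw [hone] at hC
  have hmem : f (D.zz (om v w)) ∈ D.Q := hC.mem_Q
  have hzm : f D.z ∈ D.Q := by
    rcases (by decide : ∀ k : ZMod 3, k ≠ 0 → k = 1 ∨ k = -1) _ hne with e | e <;> rw [e] at hmem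
    · rwa [zz_one] at hmem
    · rw [zz_neg, zz_one, map_inv] at hmem
      exact D.Q.inv_mem_iff.mp hmem
  obtain ⟨k, hk⟩ := (IsPt.mem_Q (D := D) ⟨g⁻¹, Or.inl rfl⟩ hzm)
  refine hQ ?_
  have e : g * D.zz k * g⁻¹ = D.z := by rw [← hk]; simp [hf]; group
  have : g * D.z * g⁻¹ ∈ D.Q := by
    have hk0 : k ≠ 0 := fun h0 => by
      rw [h0, zz_zero, mul_one, mul_inv_cancel] at e
      exact D.z_ne e.symm
    rcases (by decide : ∀ k : ZMod 3, k ≠ 0 → k = 1 ∨ k = -1) k hk0 with h1 | h1 <;> rw [h1] at e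
    · rw [zz_one] at e; rw [e]; exact zz_one D ▸ D.zz_mem 1
    · rw [zz_neg, zz_one] at e
      rw [← D.Q.inv_mem_iff, show (g * D.z * g⁻¹)⁻¹ = g * D.z⁻¹ * g⁻¹ by group, e]
      exact zz_one D ▸ D.zz_mem 1
  rcases hg with rfl | rfl
  · exact this
  · exact D.Q.inv_mem this

/-- Commuting with a conjugate of the involution by the core. -/
def DiagA (x : G) : Prop := ∃ w, Commute (D.q w * x * (D.q w)⁻¹) D.t

theorem t_fix {k : ZMod 3} {u : W4} {s : G} (hs : D.IsLevi s) (h : Commute (D.zz k * (D.q u * s)) D.t) : u = 0 := by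
  have h1 : Commute (D.q u) D.t := by
    have := ((D.isLevi_zz k).ct.inv_left.mul_left h).mul_left hs.ct.inv_left
    simpa [mul_assoc] using this
  have e := D.t_q u
  rw [← h1.eq, mul_assoc, D.t_sq, mul_one] at e
  have := D.q_injective e
  exact (by decide : ∀ v : W4, v = -v → v = 0) u this

theorem diagA_of_zero {k : ZMod 3} {s : G} (hs : D.IsLevi s) : D.DiagA (D.zz k * (D.q 0 * s)) :=
  ⟨0, by rw [q_zero, one_mul, one_mul, inv_one, mul_one]; exact (D.isLevi_zz k).ct.mul_left hs.ct⟩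

end Setting

end CfsgLib.U6Three
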