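import Cfsg.Agent.Lib.U6Three.Flip
import Mathlib.GroupTheory.SpecificGroups.Quaternion

/-!
Coordinates from an extraspecial core and an acting product of two quaternion groups: the vector of an element
of the core modulo the centre.
-/

set_option autoImplicit false
set_option linter.style.haveILetI false

namespace CfsgLib.U6Three

universe u

/-- The product of two quaternion groups. -/
abbrev QQ := QuaternionGroup 2 × QuaternionGroup 2

/-- The central involutions of the first factor, of the second factor and the diagonal one. -/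
def ee : QQ := (QuaternionGroup.a 2, 1)

/-- The central involution of the second factor. -/
def ff : QQ := (1, QuaternionGroup.a 2)

/-- The diagonal central involution. -/
def tt : QQ := (QuaternionGroup.a 2, QuaternionGroup.a 2)

theorem qq_four : ∀ x : QQ, x * x * (x * x) = 1 := by decide +kernel

theorem qq_central : (∀ x : QQ, x * ee = ee * x) ∧ (∀ x : QQ, x * ff = ff * x) ∧ ∀ x : QQ, x * tt = tt * x := by
  decide +kernel

theorem qq_inv : ee * ee = 1 ∧ ff * ff = 1 ∧ tt * tt = 1 ∧ ee ≠ 1 ∧ ff ≠ 1 ∧ tt ≠ 1 ∧ ee * ff = tt := by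
  decide +kernel

/-- An additive map preserving the form and commuting with the block sign is blockwise. -/
theorem block_form (f : W4 → W4) (ha : ∀ v w, f (v + w) = f v + f w) (ho : ∀ v w, om (f v) (f w) = om v w)
    (hn : ∀ v, f (appP (-1, 1) v) = appP (-1, 1) (f v)) : ∃ g : Pr, ∀ v, f v = appP g v := by
  let F : W4 →+ W4 := AddMonoidHom.mk' f ha
  have e1 : ∀ v : W4, v.2 = 0 → (f v).2 = 0 := by
    intro v hv
    have h1 : appP (-1, 1) v = -v := by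
      rw [neg_blocks]
      exact Prod.ext rfl (by show v.2 = -v.2; rw [hv, neg_zero])
    have h2 := congrArg Prod.snd (hn v)
    rw [h1, neg_blocks, show f (-v) = -f v from F.map_neg v] at h2
    exact (by decide +kernel : ∀ a : V2, -a = a → a = 0) _ h2
  have e2 : ∀ v : W4, v.1 = 0 → (f v).1 = 0 := by
    intro v hv
    have h1 : appP (-1, 1) v = v := by
      rw [neg_blocks]
      exact Prod.ext (by show -v.1 = v.1; rw [hv, neg_zero]) rfl
    have h2 := congrArg Prod.fst (hn v)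
    rw [h1, neg_blocks] at h2
    exact (by decide +kernel : ∀ a : V2, a = -a → a = 0) _ h2
  have d1 : det2 (f ea1).1 (f eb1).1 = 1 := by
    have h := ho ea1 eb1
    rw [show om ea1 eb1 = 1 by decide, om, e1 ea1 rfl] at h
    simpa [det2] using h
  have d2 : det2 (f ea2).2 (f eb2).2 = 1 := by
    have h := ho ea2 eb2
    rw [show om ea2 eb2 = 1 by decide, om, e2 ea2 rfl] at h
    simpa [det2] using h
  obtain ⟨g1, a1, b1⟩ := app2_exists _ _ d1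
  obtain ⟨g2, a2, b2⟩ := app2_exists _ _ d2
  refine ⟨(g1, g2), fun v => ?_⟩
  let A : W4 →+ W4 := AddMonoidHom.mk' (appP (g1, g2)) (appP_add _)
  have hz : ∀ g : SL23, app2 g 0 = 0 := fun g => by simp [app2]
  have k1 : F ea1 = A ea1 := Prod.ext a1.symm ((e1 ea1 rfl).trans (hz g2).symm)
  have k2 : F eb1 = A eb1 := Prod.ext b1.symm ((e1 eb1 rfl).trans (hz g2).symm)
  have k3 : F ea2 = A ea2 := Prod.ext ((e2 ea2 rfl).trans (hz g1).symm) a2.symm
  have k4 : F eb2 = A eb2 := Prod.ext ((e2 eb2 rfl).trans (hz g1).symm) b2.symm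
  have hv := (by decide +kernel : ∀ v : W4,
    v = v.1.1.val • ea1 + v.1.2.val • eb1 + v.2.1.val • ea2 + v.2.2.val • eb2) v
  show F v = A v
  rw [hv]
  simp only [map_add, map_nsmul, k1, k2, k3, k4]

/-- The data before coordinates. -/
structure Pre (G : Type u) [Group G] where
  /-- the central element -/
  z : G
  /-- the core -/
  Q : Subgroup G
  /-- the quaternion groups -/
  φ : QQ →* G
  z_cube : z ^ 3 = 1
  z_ne : z ≠ 1
  card_Q : Nat.card Q = 243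
  z_Q : z ∈ Q
  Q_z : ∀ x ∈ Q, Commute x z
  comm : ∀ x ∈ Q, ∀ y ∈ Q, x * y * x⁻¹ * y⁻¹ ∈ Subgroup.zpowers z
  self : ∀ x, (∀ y ∈ Q, Commute x y) → x ∈ Subgroup.zpowers z
  conj_Q : ∀ h, Commute h z → ∀ x ∈ Q, h * x * h⁻¹ ∈ Q
  φ_z : ∀ y, Commute (φ y) z
  φ_Q : ∀ y, φ y ∈ Q → y = 1
  aut : ∀ h, Commute h z → ∃ e : QQ ≃* QQ, ∀ y, h * φ y * h⁻¹ * (φ (e y))⁻¹ ∈ Q
  wc : ∀ g, g * z * g⁻¹ ∈ Q → g * z * g⁻¹ ∈ Subgroup.zpowers z
  nwc : ∃ g, Commute (g * z * g⁻¹) z ∧ g * z * g⁻¹ ∉ Q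

namespace Pre

variable {G : Type u} [Group G] [Finite G] (P : Pre G)

/-- A power of the central element. -/
def zz (k : ZMod 3) : G := P.z ^ k.val

theorem zz_zero : P.zz 0 = 1 := by simp [zz]

theorem zz_one : P.zz 1 = P.z := by rw [zz, show (1 : ZMod 3).val = 1 from rfl, pow_one]

theorem zz_add (a b : ZMod 3) : P.zz (a + b) = P.zz a * P.zz b := by
  rw [zz, zz, zz, ← pow_add, ZMod.val_add, ← pow_eq_pow_mod _ P.z_cube]

theorem zz_neg (a : ZMod 3) : P.zz (-a) = (P.zz a)⁻¹ :=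
  eq_inv_of_mul_eq_one_left (by rw [← zz_add, neg_add_cancel, zz_zero])

theorem zz_inj {a b : ZMod 3} (h : P.zz a = P.zz b) : a = b := by
  haveI : Fact (Nat.Prime 3) := ⟨Nat.prime_three⟩
  have h3 : orderOf P.z = 3 := orderOf_eq_prime P.z_cube P.z_ne
  rw [zz, zz, pow_eq_pow_iff_modEq, h3] at h
  exact ZMod.val_injective 3 (Nat.ModEq.eq_of_lt_of_lt h a.val_lt b.val_lt)

theorem zz_mem_zp (k : ZMod 3) : P.zz k ∈ Subgroup.zpowers P.z := pow_mem (Subgroup.mem_zpowers _) _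

theorem zz_Q (k : ZMod 3) : P.zz k ∈ P.Q := pow_mem P.z_Q _

theorem mem_zp {x : G} (h : x ∈ Subgroup.zpowers P.z) : ∃ k, x = P.zz k := by
  obtain ⟨n, rfl⟩ := Subgroup.mem_zpowers_iff.mp h
  refine ⟨(n : ZMod 3), ?_⟩
  haveI : Fact (Nat.Prime 3) := ⟨Nat.prime_three⟩
  rw [zz, ← zpow_natCast, ZMod.val_intCast, ← zpow_mod_orderOf P.z n, orderOf_eq_prime P.z_cube P.z_ne]

theorem zz_comm {h : G} (hh : Commute h P.z) (k : ZMod 3) : Commute h (P.zz k) := hh.pow_right _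

theorem zz_Qcomm (k : ZMod 3) {x : G} (hx : x ∈ P.Q) : Commute (P.zz k) x := ((P.zz_comm (P.Q_z x hx) k)).symm

/-- The exponent of a commutator. -/
noncomputable def kk (x y : G) : ZMod 3 :=
  open Classical in if h : ∃ k, x * y * x⁻¹ * y⁻¹ = P.zz k then h.choose else 0

theorem kk_spec {x y : G} (hx : x ∈ P.Q) (hy : y ∈ P.Q) : x * y * x⁻¹ * y⁻¹ = P.zz (P.kk x y) := by
  have h := P.mem_zp (P.comm x hx y hy)
  rw [kk, dif_pos h]
  exact h.choose_spec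

theorem kk_eq {x y : G} {k : ZMod 3} (h : x * y * x⁻¹ * y⁻¹ = P.zz k) : P.kk x y = k := by
  have h' : ∃ k, x * y * x⁻¹ * y⁻¹ = P.zz k := ⟨k, h⟩
  rw [kk, dif_pos h']
  exact P.zz_inj (h'.choose_spec.symm.trans h)

theorem swap_mul {x y : G} (hx : x ∈ P.Q) (hy : y ∈ P.Q) : x * y = P.zz (P.kk x y) * (y * x) := by
  rw [← P.kk_spec hx hy]; group

theorem kk_mul_left {x x' y : G} (hx : x ∈ P.Q) (hx' : x' ∈ P.Q) (hy : y ∈ P.Q) :
    P.kk (x * x') y = P.kk x y + P.kk x' y := by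
  refine P.kk_eq ?_
  rw [show x * x' * y * (x * x')⁻¹ * y⁻¹ = x * (x' * y * x'⁻¹ * y⁻¹) * x⁻¹ * (x * y * x⁻¹ * y⁻¹) by group,
    P.kk_spec hx' hy, P.kk_spec hx hy, (P.zz_comm (P.Q_z x hx) _).eq, mul_inv_cancel_right, ← zz_add, add_comm]

theorem kk_swap {x y : G} (hx : x ∈ P.Q) (hy : y ∈ P.Q) : P.kk y x = -P.kk x y :=
  P.kk_eq (by rw [zz_neg, ← P.kk_spec hx hy]; group)

theorem kk_mul_right {x y y' : G} (hx : x ∈ P.Q) (hy : y ∈ P.Q) (hy' : y' ∈ P.Q) :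
    P.kk x (y * y') = P.kk x y + P.kk x y' := by
  rw [P.kk_swap (mul_mem hy hy') hx, P.kk_mul_left hy hy' hx, P.kk_swap hx hy, P.kk_swap hx hy']
  abel

theorem kk_inv_right {x y : G} (hx : x ∈ P.Q) (hy : y ∈ P.Q) : P.kk x y⁻¹ = -P.kk x y := by
  have h := P.kk_mul_right hx hy (inv_mem hy)
  rw [mul_inv_cancel, show P.kk x 1 = 0 from P.kk_eq (by rw [zz_zero]; group)] at h
  exact eq_neg_of_add_eq_zero_right h.symm

theorem kk_self (x : G) : P.kk x x = 0 := P.kk_eq (by rw [zz_zero]; group)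

theorem kk_zz (k : ZMod 3) {y : G} (hy : y ∈ P.Q) : P.kk (P.zz k) y = 0 :=
  P.kk_eq (by rw [(P.zz_Qcomm k hy).eq, P.zz_zero]; group)

theorem kk_conj {h x y : G} (hh : Commute h P.z) (hx : x ∈ P.Q) (hy : y ∈ P.Q) :
    P.kk (h * x * h⁻¹) (h * y * h⁻¹) = P.kk x y := by
  refine P.kk_eq ?_
  rw [show h * x * h⁻¹ * (h * y * h⁻¹) * (h * x * h⁻¹)⁻¹ * (h * y * h⁻¹)⁻¹ = h * (x * y * x⁻¹ * y⁻¹) * h⁻¹ by group,
    P.kk_spec hx hy, (P.zz_comm hh _).eq, mul_inv_cancel_right]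

theorem kk_pow_right {x y : G} (hx : x ∈ P.Q) (hy : y ∈ P.Q) : ∀ n : ℕ, P.kk x (y ^ n) = n * P.kk x y
  | 0 => by rw [pow_zero, Nat.cast_zero, zero_mul]; exact P.kk_eq (by rw [zz_zero]; group)
  | n + 1 => by rw [pow_succ, P.kk_mul_right hx (pow_mem hy n) hy, kk_pow_right hx hy n]; push_cast; ring

theorem kk_null {x : G} (hx : x ∈ P.Q) (h : ∀ y ∈ P.Q, P.kk x y = 0) : x ∈ Subgroup.zpowers P.z :=
  P.self x fun y hy => by
    have := P.swap_mul hx hy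
    rwa [h y hy, P.zz_zero, one_mul] at this

theorem kk_null_sq {x : G} (hx : x ∈ P.Q) (h : ∀ y ∈ P.Q, P.kk x (y * y) = 0) : x ∈ Subgroup.zpowers P.z :=
  P.kk_null hx fun y hy => (by decide : ∀ a : ZMod 3, a + a = 0 → a = 0) _ (by rw [← P.kk_mul_right hx hy hy]; exact h y hy)

/-- A quaternion element trivial on the core modulo the centre is trivial. -/
theorem triv_mod {y : QQ} (h : ∀ x ∈ P.Q, P.φ y * x * (P.φ y)⁻¹ * x⁻¹ ∈ Subgroup.zpowers P.z) : y = 1 := by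
  refine P.φ_Q y ?_
  have hc : ∀ x ∈ P.Q, Commute (P.φ y) x := by
    intro x hx
    obtain ⟨m, hm⟩ := P.mem_zp (h x hx)
    have e : P.φ y * x * (P.φ y)⁻¹ = P.zz m * x := mul_inv_eq_iff_eq_mul.mp hm
    have hn : ∀ n : ℕ, P.φ y ^ n * x * (P.φ y ^ n)⁻¹ = P.zz (n * m) * x := fun n => by
      induction n with
      | zero => simp [zz_zero]
      | succ n ih =>
        rw [pow_succ', show P.φ y * P.φ y ^ n * x * (P.φ y * P.φ y ^ n)⁻¹ =
          P.φ y * (P.φ y ^ n * x * (P.φ y ^ n)⁻¹) * (P.φ y)⁻¹ by group, ih,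
          show P.φ y * (P.zz (n * m) * x) * (P.φ y)⁻¹ = P.φ y * P.zz (n * m) * (P.φ y)⁻¹ * (P.φ y * x * (P.φ y)⁻¹) by group,
          (P.zz_comm (P.φ_z y) _).eq, mul_inv_cancel_right, e, ← mul_assoc, ← zz_add]
        congr 2
        push_cast; ring
    have h4 := hn 4
    rw [← map_pow, show y ^ 4 = 1 by rw [show (4 : ℕ) = 2 + 2 from rfl, pow_add, pow_two]; exact qq_four y, map_one,
      one_mul, inv_one, mul_one] at h4
    have h5 : P.zz ((4 : ℕ) * m) = 1 := mul_right_cancel (b := x) (by rw [← h4, one_mul])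
    have hm0 : m = 0 := (by decide : ∀ m : ZMod 3, ((4 : ℕ) : ZMod 3) * m = 0 → m = 0) m
      (P.zz_inj (h5.trans P.zz_zero.symm))
    rw [hm0, P.zz_zero, one_mul] at e
    exact mul_inv_eq_iff_eq_mul.mp e
  exact Subgroup.zpowers_le.mpr P.z_Q (P.self _ hc)

/-- The fixed elements of an involution. -/
def Fix (y : QQ) (x : G) : Prop := x ∈ P.Q ∧ P.φ y * x * (P.φ y)⁻¹ = x

/-- The inverted elements of an involution. -/
def Neg (y : QQ) (x : G) : Prop := x ∈ P.Q ∧ P.φ y * x * (P.φ y)⁻¹ = x⁻¹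

variable {y : QQ}

theorem inv_twice (hy : y * y = 1) (x : G) : P.φ y * (P.φ y * x * (P.φ y)⁻¹) * (P.φ y)⁻¹ = x := by
  rw [show P.φ y * (P.φ y * x * (P.φ y)⁻¹) * (P.φ y)⁻¹ = (P.φ y * P.φ y) * x * (P.φ y * P.φ y)⁻¹ by group,
    ← map_mul, hy, map_one, one_mul, inv_one, mul_one]

/-- Squares split into a fixed and an inverted element. -/
theorem split (hy : y * y = 1) {x : G} (hx : x ∈ P.Q) :
    P.Fix y (x * (P.φ y * x * (P.φ y)⁻¹)) ∧ P.Neg y ((P.φ y * x * (P.φ y)⁻¹)⁻¹ * x) := by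
  set s := P.φ y with hs
  set x' := s * x * s⁻¹ with hx'
  have hx'Q : x' ∈ P.Q := P.conj_Q s (P.φ_z y) x hx
  have e2 : s * x' * s⁻¹ = x := P.inv_twice hy x
  refine ⟨⟨mul_mem hx hx'Q, ?_⟩, mul_mem (inv_mem hx'Q) hx, ?_⟩
  · have hc : s * (x * x') * s⁻¹ = P.zz (P.kk x' x) * (x * x') := by
      rw [show s * (x * x') * s⁻¹ = s * x * s⁻¹ * (s * x' * s⁻¹) by group, e2, ← hx', ← P.swap_mul hx'Q hx]
    have h2 := P.inv_twice hy (x * x')
    rw [← hs, hc, show s * (P.zz (P.kk x' x) * (x * x')) * s⁻¹ = s * P.zz (P.kk x' x) * s⁻¹ * (s * (x * x') * s⁻¹) by group,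
      (P.zz_comm (P.φ_z y) _).eq, mul_inv_cancel_right, hc, ← mul_assoc, ← zz_add] at h2
    have h3 : P.zz (P.kk x' x + P.kk x' x) = 1 := mul_right_cancel (b := x * x') (by rw [h2, one_mul])
    have h4 := (by decide : ∀ a : ZMod 3, a + a = 0 → a = 0) _ (P.zz_inj (h3.trans P.zz_zero.symm))
    rw [hc, h4, P.zz_zero, one_mul]
  · rw [show s * (x'⁻¹ * x) * s⁻¹ = (s * x' * s⁻¹)⁻¹ * (s * x * s⁻¹) by group, e2, ← hx']
    group

theorem orth {c j : G} (hc : P.Fix y c) (hj : P.Neg y j) : P.kk c j = 0 := by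
  have h := P.kk_conj (P.φ_z y) hc.1 hj.1
  rw [hc.2, hj.2, P.kk_inv_right hc.1 hj.1] at h
  exact (by decide : ∀ a : ZMod 3, -a = a → a = 0) _ h

theorem orth' {c j : G} (hc : P.Fix y c) (hj : P.Neg y j) : P.kk j c = 0 := by
  rw [P.kk_swap hc.1 hj.1, P.orth hc hj, neg_zero]

theorem split_sq (x : G) : x * x = (x * (P.φ y * x * (P.φ y)⁻¹)) * ((P.φ y * x * (P.φ y)⁻¹)⁻¹ * x) := by group

theorem Fix.pow {x : G} (h : P.Fix y x) (n : ℕ) : P.Fix y (x ^ n) := ⟨pow_mem h.1 n, by rw [← conj_pow, h.2]⟩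

theorem Neg.pow {x : G} (h : P.Neg y x) (n : ℕ) : P.Neg y (x ^ n) :=
  ⟨pow_mem h.1 n, by rw [← conj_pow, h.2, inv_pow]⟩

theorem fix_pair (hy : y * y = 1) {a : G} (ha : P.Fix y a) (hn : a ∉ Subgroup.zpowers P.z) :
    ∃ b, P.Fix y b ∧ P.kk a b = 1 := by
  by_contra hb
  push Not at hb
  have h0 : ∀ b, P.Fix y b → P.kk a b = 0 := fun b hb' => by
    by_contra h
    refine hb (b ^ (P.kk a b).val) (Fix.pow P hb' _) ?_
    rw [P.kk_pow_right ha.1 hb'.1, ZMod.natCast_zmod_val]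
    exact (by decide : ∀ x : ZMod 3, x ≠ 0 → x * x = 1) _ h
  refine hn (P.kk_null_sq ha.1 fun x hx => ?_)
  obtain ⟨hc, hj⟩ := P.split hy hx
  rw [P.split_sq (y := y) x, P.kk_mul_right ha.1 hc.1 hj.1, h0 _ hc, P.orth ha hj, add_zero]

theorem neg_pair (hy : y * y = 1) {a : G} (ha : P.Neg y a) (hn : a ∉ Subgroup.zpowers P.z) :
    ∃ b, P.Neg y b ∧ P.kk a b = 1 := by
  by_contra hb
  push Not at hb
  have h0 : ∀ b, P.Neg y b → P.kk a b = 0 := fun b hb' => by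
    by_contra h
    refine hb (b ^ (P.kk a b).val) (Neg.pow P hb' _) ?_
    rw [P.kk_pow_right ha.1 hb'.1, ZMod.natCast_zmod_val]
    exact (by decide : ∀ x : ZMod 3, x ≠ 0 → x * x = 1) _ h
  refine hn (P.kk_null_sq ha.1 fun x hx => ?_)
  obtain ⟨hc, hj⟩ := P.split hy hx
  rw [P.split_sq (y := y) x, P.kk_mul_right ha.1 hc.1 hj.1, h0 _ hj, P.orth' hc ha, zero_add]

theorem exists_neg (hy : y * y = 1) (h1 : y ≠ 1) : ∃ a, P.Neg y a ∧ a ∉ Subgroup.zpowers P.z := by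
  by_contra hn
  push Not at hn
  refine h1 (P.triv_mod fun x hx => ?_)
  obtain ⟨k, hk⟩ := P.mem_zp (hn _ (P.split hy hx).2)
  have e : P.φ y * x * (P.φ y)⁻¹ = x * (P.zz k)⁻¹ := by rw [← hk]; group
  rw [e, ← zz_neg, ← (P.zz_Qcomm _ hx).eq, mul_inv_cancel_right]
  exact P.zz_mem_zp _

theorem exists_fix : ∃ y : QQ, y * y = 1 ∧ y ≠ 1 ∧ (∀ x, x * y = y * x) ∧
    ∃ a, P.Fix y a ∧ a ∉ Subgroup.zpowers P.z := by
  by_contra hn
  push Not at hn
  obtain ⟨e2, f2, -, e1, f1, t1, eft⟩ := qq_inv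
  have he := hn ee e2 e1 qq_central.1
  have hf := hn ff f2 f1 qq_central.2.1
  refine t1 (P.triv_mod fun x hx => ?_)
  obtain ⟨k, hk⟩ := P.mem_zp (hf _ (P.split f2 hx).1)
  obtain ⟨l, hl⟩ := P.mem_zp (he _ (P.split e2 hx).1)
  have e : P.φ ff * x * (P.φ ff)⁻¹ = x⁻¹ * P.zz k := by rw [← hk]; group
  have e' : P.φ ee * x * (P.φ ee)⁻¹ = x⁻¹ * P.zz l := by rw [← hl]; group
  rw [← eft, map_mul, show P.φ ee * P.φ ff * x * (P.φ ee * P.φ ff)⁻¹ =
    P.φ ee * (P.φ ff * x * (P.φ ff)⁻¹) * (P.φ ee)⁻¹ by group, e,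
    show P.φ ee * (x⁻¹ * P.zz k) * (P.φ ee)⁻¹ = (P.φ ee * x * (P.φ ee)⁻¹)⁻¹ * (P.φ ee * P.zz k * (P.φ ee)⁻¹) by group,
    e', (P.zz_comm (P.φ_z ee) _).eq, mul_inv_cancel_right, mul_inv_rev, inv_inv, ← zz_neg, mul_assoc _ x, ← (P.zz_Qcomm k hx).eq,
    ← mul_assoc (P.zz (-l)), ← zz_add, mul_inv_cancel_right]
  exact P.zz_mem_zp _

/-- Four elements in general position. -/
structure Fr where
  /-- the involution -/
  y : QQ
  yy : y * y = 1
  yc : ∀ x, x * y = y * x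
  /-- first inverted -/
  j1 : G
  /-- second inverted -/
  j2 : G
  /-- first fixed -/
  c1 : G
  /-- second fixed -/
  c2 : G
  hj1 : P.Neg y j1
  hj2 : P.Neg y j2
  hc1 : P.Fix y c1
  hc2 : P.Fix y c2
  kj : P.kk j1 j2 = 1
  kc : P.kk c1 c2 = 1

theorem exists_fr : Nonempty P.Fr := by
  obtain ⟨y, hy, h1, hc, a, ha, hn⟩ := P.exists_fix
  obtain ⟨b, hb, hab⟩ := P.fix_pair hy ha hn
  obtain ⟨a', ha', hn'⟩ := P.exists_neg hy h1
  obtain ⟨b', hb', hab'⟩ := P.neg_pair hy ha' hn'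
  exact ⟨⟨y, hy, hc, a', b', a, b, ha', hb', ha, hb, hab', hab⟩⟩

variable {P} (F : P.Fr)

namespace Fr

/-- The vector of an element of the core. -/
noncomputable def chi (x : G) : W4 := ((P.kk x F.j2, -P.kk x F.j1), (P.kk x F.c2, -P.kk x F.c1))

theorem chi_mul {x x' : G} (hx : x ∈ P.Q) (hx' : x' ∈ P.Q) : F.chi (x * x') = F.chi x + F.chi x' := by
  simp only [chi, P.kk_mul_left hx hx' F.hj1.1, P.kk_mul_left hx hx' F.hj2.1, P.kk_mul_left hx hx' F.hc1.1,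
    P.kk_mul_left hx hx' F.hc2.1, Prod.mk_add_mk, neg_add]

theorem chi_zz (k : ZMod 3) : F.chi (P.zz k) = 0 := by
  simp only [chi, P.kk_zz k F.hj1.1, P.kk_zz k F.hj2.1, P.kk_zz k F.hc1.1, P.kk_zz k F.hc2.1, neg_zero]
  rfl

theorem chi_one : F.chi 1 = 0 := by rw [← P.zz_zero]; exact F.chi_zz 0

theorem chi_inv {x : G} (hx : x ∈ P.Q) : F.chi x⁻¹ = -F.chi x :=
  eq_neg_of_add_eq_zero_left (by rw [← F.chi_mul (inv_mem hx) hx, inv_mul_cancel, F.chi_one])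

theorem chi_pow {x : G} (hx : x ∈ P.Q) : ∀ n : ℕ, F.chi (x ^ n) = n • F.chi x
  | 0 => by rw [pow_zero, zero_smul, F.chi_one]
  | n + 1 => by rw [pow_succ, F.chi_mul (pow_mem hx n) hx, chi_pow hx n, succ_nsmul]

theorem chi_basis : F.chi F.j1 = ea1 ∧ F.chi F.j2 = eb1 ∧ F.chi F.c1 = ea2 ∧ F.chi F.c2 = eb2 := by
  have o1 := P.orth' F.hc1 F.hj1
  have o2 := P.orth' F.hc2 F.hj1
  have o3 := P.orth' F.hc1 F.hj2
  have o4 := P.orth' F.hc2 F.hj2
  have p1 := P.orth F.hc1 F.hj1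
  have p2 := P.orth F.hc2 F.hj1
  have p3 := P.orth F.hc1 F.hj2
  have p4 := P.orth F.hc2 F.hj2
  have s1 : P.kk F.j2 F.j1 = -1 := by rw [P.kk_swap F.hj1.1 F.hj2.1, F.kj]
  have s2 : P.kk F.c2 F.c1 = -1 := by rw [P.kk_swap F.hc1.1 F.hc2.1, F.kc]
  refine ⟨?_, ?_, ?_, ?_⟩ <;>
    simp [chi, ea1, eb1, ea2, eb2, P.kk_self, F.kj, F.kc, o1, o2, o3, o4, p1, p2, p3, p4, s1, s2]

/-- A representative of a vector. -/
noncomputable def w (v : W4) : G := F.j1 ^ v.1.1.val * F.j2 ^ v.1.2.val * F.c1 ^ v.2.1.val * F.c2 ^ v.2.2.val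

theorem w_mem (v : W4) : F.w v ∈ P.Q :=
  mul_mem (mul_mem (mul_mem (pow_mem F.hj1.1 _) (pow_mem F.hj2.1 _)) (pow_mem F.hc1.1 _)) (pow_mem F.hc2.1 _)

theorem chi_w (v : W4) : F.chi (F.w v) = v := by
  have m1 := pow_mem F.hj1.1 v.1.1.val
  have m2 := pow_mem F.hj2.1 v.1.2.val
  have m3 := pow_mem F.hc1.1 v.2.1.val
  have m4 := pow_mem F.hc2.1 v.2.2.val
  obtain ⟨b1, b2, b3, b4⟩ := F.chi_basis
  rw [w, F.chi_mul (mul_mem (mul_mem m1 m2) m3) m4, F.chi_mul (mul_mem m1 m2) m3, F.chi_mul m1 m2,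
    F.chi_pow F.hj1.1, F.chi_pow F.hj2.1, F.chi_pow F.hc1.1, F.chi_pow F.hc2.1, b1, b2, b3, b4]
  exact ((by decide +kernel : ∀ v : W4,
    v = v.1.1.val • ea1 + v.1.2.val • eb1 + v.2.1.val • ea2 + v.2.2.val • eb2) v).symm

theorem chi_ker {x : G} (hx : x ∈ P.Q) (h : F.chi x = 0) : ∃ k, x = P.zz k := by
  classical
  let f : P.Q →* Multiplicative W4 :=
    MonoidHom.mk' (fun a => Multiplicative.ofAdd (F.chi a)) fun a b => by
      rw [Subgroup.coe_mul, F.chi_mul a.2 b.2, ofAdd_add]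
  have hs : Function.Surjective f := fun v => ⟨⟨F.w v.toAdd, F.w_mem _⟩, by
    show Multiplicative.ofAdd (F.chi (F.w v.toAdd)) = v
    rw [F.chi_w, ofAdd_toAdd]⟩
  have hk : Nat.card f.ker = 3 := by
    have h1 := Subgroup.card_eq_card_quotient_mul_card_subgroup f.ker
    rw [Nat.card_congr (QuotientGroup.quotientKerEquivOfSurjective f hs).toEquiv, P.card_Q,
      Nat.card_congr Multiplicative.toAdd, Nat.card_prod, Nat.card_prod, Nat.card_zmod] at h1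
    omega
  let i : ZMod 3 → f.ker := fun k => ⟨⟨P.zz k, P.zz_Q k⟩, MonoidHom.mem_ker.mpr (by
    show Multiplicative.ofAdd (F.chi (P.zz k)) = 1
    rw [F.chi_zz, ofAdd_zero])⟩
  have hi : Function.Bijective i := (Nat.bijective_iff_injective_and_card i).mpr
    ⟨fun a b e => P.zz_inj (congrArg (fun t : f.ker => ((t : P.Q) : G)) e), by rw [Nat.card_zmod, hk]⟩
  obtain ⟨k, hk'⟩ := hi.2 ⟨⟨x, hx⟩, MonoidHom.mem_ker.mpr (by
    show Multiplicative.ofAdd (F.chi x) = 1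
    rw [h, ofAdd_zero])⟩
  exact ⟨k, (congrArg (fun t : f.ker => ((t : P.Q) : G)) hk').symm⟩

theorem chi_eq {x x' : G} (hx : x ∈ P.Q) (hx' : x' ∈ P.Q) (h : F.chi x = F.chi x') : ∃ k, x = P.zz k * x' := by
  obtain ⟨k, hk⟩ := F.chi_ker (mul_mem hx (inv_mem hx'))
    (by rw [F.chi_mul hx (inv_mem hx'), F.chi_inv hx', h, add_neg_cancel])
  exact ⟨k, mul_inv_eq_iff_eq_mul.mp hk⟩

theorem kk_chi {x x' : G} (hx : x ∈ P.Q) (hx' : x' ∈ P.Q) : P.kk x x' = om (F.chi x) (F.chi x') := by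
  obtain ⟨k, hk⟩ := F.chi_eq hx' (F.w_mem (F.chi x')) (F.chi_w _).symm
  have m1 := pow_mem F.hj1.1 (F.chi x').1.1.val
  have m2 := pow_mem F.hj2.1 (F.chi x').1.2.val
  have m3 := pow_mem F.hc1.1 (F.chi x').2.1.val
  have m4 := pow_mem F.hc2.1 (F.chi x').2.2.val
  have h0 : P.kk x (P.zz k) = 0 := by rw [P.kk_swap (P.zz_Q k) hx, P.kk_zz k hx, neg_zero]
  conv_lhs => rw [hk]
  rw [P.kk_mul_right hx (P.zz_Q k) (F.w_mem _), h0, zero_add, w, P.kk_mul_right hx (mul_mem (mul_mem m1 m2) m3) m4,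
    P.kk_mul_right hx (mul_mem m1 m2) m3, P.kk_mul_right hx m1 m2, P.kk_pow_right hx F.hj1.1, P.kk_pow_right hx F.hj2.1,
    P.kk_pow_right hx F.hc1.1, P.kk_pow_right hx F.hc2.1]
  simp only [ZMod.natCast_zmod_val, om, det2, chi]
  ring

theorem chi_y {x : G} (hx : x ∈ P.Q) :
    F.chi (P.φ F.y * x * (P.φ F.y)⁻¹) = appP (-1, 1) (F.chi x) := by
  have hx' := P.conj_Q _ (P.φ_z F.y) x hx
  have key : ∀ a b : G, a ∈ P.Q → P.φ F.y * a * (P.φ F.y)⁻¹ = b →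
      P.kk (P.φ F.y * x * (P.φ F.y)⁻¹) a = P.kk x b := by
    intro a b ha e
    rw [← P.kk_conj (P.φ_z F.y) hx' ha, P.inv_twice F.yy, e]
  rw [neg_blocks]
  simp only [chi, key _ _ F.hj1.1 F.hj1.2, key _ _ F.hj2.1 F.hj2.2, key _ _ F.hc1.1 F.hc1.2, key _ _ F.hc2.1 F.hc2.2,
    P.kk_inv_right hx F.hj1.1, P.kk_inv_right hx F.hj2.1, Prod.neg_mk, neg_neg]

/-- The action on vectors. -/
noncomputable def fmap (h : G) (v : W4) : W4 := F.chi (h * F.w v * h⁻¹)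

theorem fmap_chi {h x : G} (hh : Commute h P.z) (hx : x ∈ P.Q) : F.chi (h * x * h⁻¹) = F.fmap h (F.chi x) := by
  obtain ⟨k, hk⟩ := F.chi_eq hx (F.w_mem (F.chi x)) (F.chi_w _).symm
  have e : h * x * h⁻¹ = P.zz k * (h * F.w (F.chi x) * h⁻¹) := by
    conv_lhs => rw [hk]
    rw [show h * (P.zz k * F.w (F.chi x)) * h⁻¹ = h * P.zz k * h⁻¹ * (h * F.w (F.chi x) * h⁻¹) by group,
      (P.zz_comm hh k).eq, mul_inv_cancel_right]
  rw [e, F.chi_mul (P.zz_Q k) (P.conj_Q h hh _ (F.w_mem _)), F.chi_zz, zero_add, fmap]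

theorem fmap_add {h : G} (hh : Commute h P.z) (v v' : W4) : F.fmap h (v + v') = F.fmap h v + F.fmap h v' := by
  have e := F.fmap_chi hh (mul_mem (F.w_mem v) (F.w_mem v'))
  rw [F.chi_mul (F.w_mem v) (F.w_mem v'), F.chi_w, F.chi_w] at e
  rw [← e, show h * (F.w v * F.w v') * h⁻¹ = h * F.w v * h⁻¹ * (h * F.w v' * h⁻¹) by group,
    F.chi_mul (P.conj_Q h hh _ (F.w_mem _)) (P.conj_Q h hh _ (F.w_mem _))]
  rfl

theorem fmap_om {h : G} (hh : Commute h P.z) (v v' : W4) : om (F.fmap h v) (F.fmap h v') = om v v' := by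
  conv_rhs => rw [← F.chi_w v, ← F.chi_w v', ← F.kk_chi (F.w_mem _) (F.w_mem _), ← P.kk_conj hh (F.w_mem v) (F.w_mem v')]
  rw [F.kk_chi (P.conj_Q h hh _ (F.w_mem _)) (P.conj_Q h hh _ (F.w_mem _))]
  rfl

theorem fmap_mul {h h' : G} (hh : Commute h P.z) (hh' : Commute h' P.z) (v : W4) :
    F.fmap (h * h') v = F.fmap h (F.fmap h' v) := by
  show _ = F.fmap h (F.chi (h' * F.w v * h'⁻¹))
  rw [← F.fmap_chi hh (P.conj_Q h' hh' _ (F.w_mem v)), fmap]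
  congr 1
  group

theorem fmap_Q {x : G} (hx : x ∈ P.Q) (v : W4) : F.fmap x v = v := by
  rw [fmap, F.chi_mul (mul_mem hx (F.w_mem v)) (inv_mem hx), F.chi_mul hx (F.w_mem v), F.chi_inv hx, F.chi_w]
  abel

theorem fmap_y (v : W4) : F.fmap (P.φ F.y) v = appP (-1, 1) v := by
  rw [fmap, F.chi_y (F.w_mem v), F.chi_w]

theorem theta_exists (x : QQ) : ∃ g : Pr, ∀ v, F.fmap (P.φ x) v = appP g v :=
  block_form _ (F.fmap_add (P.φ_z x)) (F.fmap_om (P.φ_z x)) fun v => by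
    rw [← F.fmap_y v, ← F.fmap_y, ← F.fmap_mul (P.φ_z x) (P.φ_z F.y), ← F.fmap_mul (P.φ_z F.y) (P.φ_z x), ← map_mul,
      ← map_mul, F.yc]

/-- The action of the quaternion groups. -/
noncomputable def θ : QQ →* Pr :=
  MonoidHom.mk' (fun x => (F.theta_exists x).choose) fun a b => appP_inj fun v => by
    rw [← (F.theta_exists (a * b)).choose_spec, map_mul, F.fmap_mul (P.φ_z a) (P.φ_z b),
      (F.theta_exists b).choose_spec, (F.theta_exists a).choose_spec, appP_mul]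

theorem θ_spec (x : QQ) (v : W4) : F.fmap (P.φ x) v = appP (F.θ x) v := (F.theta_exists x).choose_spec v

theorem θ_inj : Function.Injective F.θ := (injective_iff_map_eq_one _).mpr fun x hx => P.triv_mod fun a ha => by
  obtain ⟨k, hk⟩ := F.chi_eq (P.conj_Q _ (P.φ_z x) a ha) ha
    (by rw [F.fmap_chi (P.φ_z x) ha, F.θ_spec, hx, appP_one])
  rw [hk, mul_inv_cancel_right]
  exact P.zz_mem_zp k

end Fr

end Pre

end CfsgLib.U6Three
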