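import Cfsg.Agent.Lib.PSp43Rec.CentT
import Cfsg.Agent.Lib.PSp43Rec.CentA
import Cfsg.Agent.Lib.PSp43Rec.CentC

/-!
The quaternion groups of two commuting conjugates centralised by the same involution commute.
-/

set_option autoImplicit false
set_option linter.style.haveILetI false

namespace CfsgLib.U6Three

open CfsgPSp43Rec Equiv

theorem rec_sl_conj : ∀ A B : CfsgPSp43Rec.SL23, A * A * A = 1 → A ≠ 1 → B * B * B = 1 → B ≠ 1 →
    ∃ R : CfsgPSp43Rec.SL23, R * A * R⁻¹ = B ∨ R * A * R⁻¹ = B * B := by decide +kernel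

theorem rec_sl_eight : ∀ A : CfsgPSp43Rec.SL23, A * A * (A * A) = 1 → A ^ 8 = 1 := by decide +kernel

theorem rec_fix : ∀ a b c : ZMod 3, (-a, -b, c) = ((a, b, c) : Tri) → a = 0 ∧ b = 0 := by decide

theorem rec_inv : ∀ a b c : ZMod 3, hmul (-a, -b, c) (a, b, c) = (0, 0, 0) → c = 2 * a * b := by decide

theorem rec_move : ∀ a b : ZMod 3, hmul (-a, -b, 0) (-a, -b, -(0 : ZMod 3) + a * b) = ((a, b, 2 * a * b) : Tri) := by
  decide

theorem rec_point : ∀ e m : ZMod 3, e ≠ 0 → m ≠ 0 → ∃ d : ZMod 3, d ≠ 0 ∧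
    (sc e (ev 2) + sc m (ev 3) = sc d aa ∨ sc e (ev 2) + sc m (ev 3) = sc d cc) := by decide

theorem rec_stab : ∀ σ : Perm (Fin 4), σ * CfsgPSp43Rec.swap01 = CfsgPSp43Rec.swap01 * σ →
    (act σ aa = aa ∨ act σ cc = cc) → σ * σ = 1 := by decide +kernel

theorem rec_sc : ∀ d : ZMod 3, d ≠ 0 → ∀ p : Tri, sc d (sc d p) = p := by decide

theorem rec_swap23 : CfsgPSp43Rec.swap23 * CfsgPSp43Rec.swap01 = CfsgPSp43Rec.swap01 * CfsgPSp43Rec.swap23 ∧
    CfsgPSp43Rec.swap23 * CfsgPSp43Rec.swap23 = 1 := by decide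

variable {X : Type*} [Group X] [Finite X] (E : CfsgPSp43Rec.Frame X)

open Classical in
/-- The map on an element of the centraliser. -/
noncomputable def piE (x : X) : CfsgPSp43Rec.SL23 :=
  if h : Commute x (E.z 3) then E.π ⟨x, E.mem_cent.2 h⟩ else 1

theorem piE_def {x : X} (hx : Commute x (E.z 3)) : piE E x = E.π ⟨x, E.mem_cent.2 hx⟩ := dif_pos hx

theorem piE_mul {x y : X} (hx : Commute x (E.z 3)) (hy : Commute y (E.z 3)) :
    piE E (x * y) = piE E x * piE E y := by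
  rw [piE_def E hx, piE_def E hy, piE_def E (hx.mul_left hy), ← map_mul]; rfl

theorem piE_one : piE E (1 : X) = 1 := by rw [piE_def E (Commute.one_left _), ← map_one E.π]; rfl

theorem piE_inv {x : X} (hx : Commute x (E.z 3)) : piE E x⁻¹ = (piE E x)⁻¹ := by
  refine eq_inv_of_mul_eq_one_left ?_
  rw [← piE_mul E hx.inv_left hx, inv_mul_cancel, piE_one]

theorem piE_t : piE E E.t = -1 := by rw [piE_def E E.t_z3]; exact E.pi_t

theorem piE_H (p : Tri) : piE E (E.H p) = 1 := by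
  rw [piE_def E (E.H_comm p)]; exact MonoidHom.mem_ker.1 (E.H_mem p)

theorem ker_H {x : X} (hx : Commute x (E.z 3)) (h : piE E x = 1) : ∃ p, x = E.H p :=
  E.ker_eq (x := ⟨x, E.mem_cent.2 hx⟩) (MonoidHom.mem_ker.2 ((piE_def E hx).symm.trans h))

theorem ker_fix {x : X} (hx : Commute x (E.z 3)) (h : piE E x = 1) (ht : Commute x E.t) :
    ∃ c : ZMod 3, x = E.z 3 ^ c.val := by
  obtain ⟨⟨a, b, c⟩, rfl⟩ := ker_H E hx h
  have h1 := E.t_H a b c
  rw [← ht.eq, mul_assoc, E.t_sq, mul_one] at h1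
  obtain ⟨rfl, rfl⟩ := rec_fix a b c (E.H_injective h1).symm
  exact ⟨c, by simp [CfsgPSp43Rec.Frame.H]⟩

/-- Equal images of two-elements centralising the involution. -/
theorem eq_of_piE {x y : X} (hx : Commute x (E.z 3)) (hy : Commute y (E.z 3)) (hxt : Commute x E.t)
    (hyt : Commute y E.t) (hx4 : x ^ 4 = 1) (hy4 : y ^ 4 = 1) (e : piE E x = piE E y) : x = y := by
  obtain ⟨c, hc⟩ := ker_fix E (hy.inv_left.mul_left hx) (by
    rw [piE_mul E hy.inv_left hx, piE_inv E hy, e, inv_mul_cancel]) (hyt.inv_left.mul_left hxt)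
  have e1 : x = y * E.z 3 ^ c.val := by rw [← hc, mul_inv_cancel_left]
  have h4 := hx4
  rw [e1, (hy.pow_right c.val).mul_pow, hy4, one_mul, ← pow_mul] at h4
  have h3 : c = 0 := by
    rcases (by decide : ∀ c : ZMod 3, c = 0 ∨ c = 1 ∨ c = 2) c with rfl | rfl | rfl
    · rfl
    all_goals
      exfalso
      have hne : E.z 3 ≠ 1 := fun h => by
        obtain ⟨-, h', -⟩ := E.inj 0 1 0 (by
          have h01 : E.z 1 = 1 := by
            have := E.conj (Equiv.swap 1 3) 3
            rw [h, mul_one, mul_inv_cancel, Equiv.swap_apply_right] at this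
            exact this.symm
          simp [h01])
        exact (by decide : (1 : ZMod 3) ≠ 0) h'
      apply hne
      have hcube := E.cube 3
    · rw [show (1 : ZMod 3).val * 4 = 3 + 1 from rfl, pow_add, hcube, one_mul, pow_one] at h4
      exact h4
    · rw [show (2 : ZMod 3).val * 4 = 3 * 2 + 2 from rfl, pow_add, pow_mul, hcube, one_pow, one_mul] at h4
      calc E.z 3 = E.z 3 ^ 3 * (E.z 3 ^ 2)⁻¹ := by group
        _ = 1 := by rw [hcube, h4]; group
  rw [e1, h3, ZMod.val_zero, pow_zero, mul_one]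

/-- An involution centralising the element is conjugate to the frame involution. -/
theorem conj_invol {s : X} (hs : s * s = 1) (hs1 : s ≠ 1) (hz : Commute s (E.z 3)) :
    ∃ p : Tri, E.H p * s * (E.H p)⁻¹ = E.t := by
  have hπ : piE E s = -1 := by
    rcases sl_facts.1 (piE E s) (by rw [← piE_mul E hz hz, hs, piE_one]) with h | h
    · exfalso
      obtain ⟨p, hp⟩ := ker_H E hz h
      have h3 := E.H_cube p
      rw [← hp, pow_succ, pow_two, hs, one_mul] at h3
      exact hs1 h3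
    · exact h
  have hk : piE E (E.t * s) = 1 := by rw [piE_mul E E.t_z3 hz, hπ, piE_t, neg_mul_neg, one_mul]
  obtain ⟨⟨a, b, c⟩, hc⟩ := ker_H E (E.t_z3.mul_left hz) hk
  have hs' : s = E.t * E.H (a, b, c) := by rw [← hc, ← mul_assoc, E.t_sq, one_mul]
  have h0 : E.H (hmul (-a, -b, c) (a, b, c)) = E.H (0, 0, 0) := by
    rw [← E.H_mul, E.H_zero, ← E.t_H, mul_assoc, ← hs', hs]
  obtain rfl := rec_inv a b c (E.H_injective h0)
  have e : E.H (a, b, 0) * E.t * (E.H (a, b, 0))⁻¹ = s := by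
    calc E.H (a, b, 0) * E.t * (E.H (a, b, 0))⁻¹
        = E.t * (E.t * E.H (a, b, 0) * E.t) * (E.H (a, b, 0))⁻¹ := by
          rw [← mul_assoc, ← mul_assoc, E.t_sq, one_mul]
      _ = s := by rw [E.t_H, E.H_inv, mul_assoc, E.H_mul, rec_move, hs']
  refine ⟨(-a, -b, -(0 : ZMod 3) + a * b), ?_⟩
  rw [← E.H_inv, inv_inv, ← e]; group

/-- The second point in standard position. -/
theorem conj_point {b x : X} (hb3 : b ^ 3 = 1) (hbz : Commute b (E.z 3)) (hbt : Commute b E.t)
    (hbout : b ∉ Subgroup.zpowers (E.z 3)) (hxb : Commute x b) (hxt : Commute x E.t) (hx4 : x ^ 4 = 1)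
    (hx2 : x * x ≠ 1) :
    ∃ c : X, Commute c (E.z 3) ∧ Commute c E.t ∧ (c * b * c⁻¹ = E.z 2 ∨ c * b * c⁻¹ = E.z 2 * E.z 2) := by
  have hz2 : piE E (E.z 2) ≠ 1 := fun h =>
    E.z2_not_mem (MonoidHom.mem_ker.2 ((piE_def E (E.comm 2 3)).symm.trans h))
  have hcube : ∀ {y : X}, Commute y (E.z 3) → y ^ 3 = 1 → piE E y * piE E y * piE E y = 1 := fun hy h => by
    rw [← piE_mul E hy hy, ← piE_mul E (hy.mul_left hy) hy, ← pow_three', h, piE_one]
  have hb1 : piE E b ≠ 1 := fun h => by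
    obtain ⟨c, rfl⟩ := ker_fix E hbz h hbt
    exact hbout (pow_mem (Subgroup.mem_zpowers _) _)
  obtain ⟨R, hR⟩ := rec_sl_conj _ _ (hcube hbz hb3) hb1 (hcube (E.comm 2 3) (E.cube 2)) hz2
  obtain ⟨⟨r, hr'⟩, rfl⟩ := E.surj R
  have hr : Commute r (E.z 3) := E.mem_cent.1 hr'
  -- adjust into the centraliser of the involution
  obtain ⟨p, hp⟩ := conj_invol E (s := r * E.t * r⁻¹)
    (by rw [show r * E.t * r⁻¹ * (r * E.t * r⁻¹) = r * (E.t * E.t) * r⁻¹ by group, E.t_sq]; group)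
    (fun h => E.t_ne (conj_eq_one_iff.mp h)) ((hr.mul_left E.t_z3).mul_left hr.inv_left)
  set c := E.H p * r with hc
  have hcz : Commute c (E.z 3) := (E.H_comm p).mul_left hr
  have hct : Commute c E.t := by
    refine mul_inv_eq_iff_eq_mul.mp ?_
    rw [hc, show E.H p * r * E.t * (E.H p * r)⁻¹ = E.H p * (r * E.t * r⁻¹) * (E.H p)⁻¹ by group, hp]
  have hπc : piE E c = piE E r := by
    rw [hc, piE_mul E (E.H_comm p) hr, piE_H, one_mul]
  have hb'z : Commute (c * b * c⁻¹) (E.z 3) := (hcz.mul_left hbz).mul_left hcz.inv_left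
  have hb't : Commute (c * b * c⁻¹) E.t := (hct.mul_left hbt).mul_left hct.inv_left
  have hπb : piE E (c * b * c⁻¹) = piE E r * piE E b * (piE E r)⁻¹ := by
    rw [piE_mul E (hcz.mul_left hbz) hcz.inv_left, piE_mul E hcz hbz, piE_inv E hcz, hπc]
  rw [← piE_def E hr] at hR
  have hz2t : Commute (E.z 2) E.t := E.mem_Ct.1 (by
    rw [E.z_eq]; exact E.Zt_mem_Ct fixed_gens.1)
  obtain ⟨e, he, he'⟩ : ∃ e : ZMod 3, e ≠ 0 ∧ piE E (c * b * c⁻¹) = piE E (E.z 2 ^ e.val) := by
    rcases hR with h | h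
    · refine ⟨1, by decide, ?_⟩
      rw [hπb, h, ZMod.val_one, pow_one]
    · refine ⟨2, by decide, ?_⟩
      rw [hπb, h, show (2 : ZMod 3).val = 2 from rfl, pow_two, piE_mul E (E.comm 2 3) (E.comm 2 3)]
  obtain ⟨m, hm⟩ := ker_fix E (((E.comm 2 3).pow_left e.val).inv_left.mul_left hb'z)
    (by rw [piE_mul E ((E.comm 2 3).pow_left e.val).inv_left hb'z, piE_inv E ((E.comm 2 3).pow_left e.val), he',
      inv_mul_cancel]) ((hz2t.pow_left _).inv_left.mul_left hb't)
  have hbe : c * b * c⁻¹ = E.z 2 ^ e.val * E.z 3 ^ m.val := by rw [← hm, mul_inv_cancel_left]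
  by_cases hm0 : m = 0
  · refine ⟨c, hcz, hct, ?_⟩
    rw [hbe, hm0, ZMod.val_zero, pow_zero, mul_one]
    rcases (by decide : ∀ e : ZMod 3, e ≠ 0 → e = 1 ∨ e = 2) e he with rfl | rfl
    · exact Or.inl (by rw [ZMod.val_one, pow_one])
    · exact Or.inr (by rw [show (2 : ZMod 3).val = 2 from rfl, pow_two])
  · exfalso
    obtain ⟨d, hd, hpt⟩ := rec_point e m he hm0
    have hbZ : c * b * c⁻¹ = E.Zt (sc e (ev 2) + sc m (ev 3)) := by
      rw [hbe, ← E.Zt_mul, E.Zt_sc, E.Zt_sc, ← E.z_eq, ← E.z_eq]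
    set y := c * x * c⁻¹ with hy
    have hyb : Commute y (E.Zt (sc e (ev 2) + sc m (ev 3))) := hbZ ▸ conj_comm_rec c hxb
    have hyt : Commute y E.t := (hct.mul_left hxt).mul_left hct.inv_left
    have hy2 : y * y = 1 := by
      obtain ⟨q, hq, hyq⟩ : ∃ q : Tri, (q = aa ∨ q = cc) ∧ Commute y (E.Zt q) := by
        rcases hpt with h | h <;> rw [h] at hyb
        · refine ⟨aa, Or.inl rfl, ?_⟩
          have := hyb.pow_right d.val
          rwa [← E.Zt_sc, rec_sc d hd] at this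
        · refine ⟨cc, Or.inr rfl, ?_⟩
          have := hyb.pow_right d.val
          rwa [← E.Zt_sc, rec_sc d hd] at this
      have hyN : y ∈ E.N := by
        rcases hq with rfl | rfl
        exacts [E.cent_aa hyq, E.cent_cc hyq]
      obtain ⟨r', σ, hyc⟩ := E.exists_coord hyN
      obtain ⟨hr', hσ⟩ := E.commute_t_coord (hyc ▸ hyt)
      have hfix := E.commute_coord.1 (hyc ▸ hyq)
      have hσ2 : σ * σ = 1 := rec_stab σ hσ (by rcases hq with rfl | rfl; exacts [Or.inl hfix, Or.inr hfix])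
      have hyy : y * y ∈ E.Q1 := by
        rw [hyc, show E.Zt r' * E.φ σ * (E.Zt r' * E.φ σ) = E.Zt r' * (E.φ σ * E.Zt r' * (E.φ σ)⁻¹) *
          (E.φ σ * E.φ σ) by group, E.conj_Zt, ← map_mul, hσ2, map_one, mul_one]
        exact mul_mem (E.Zt_mem _) (E.Zt_mem _)
      obtain ⟨w, hw⟩ := E.mem_Q1.1 hyy
      have h3 : (y * y) ^ 3 = 1 := hw ▸ E.Zt_cube w
      have h4 : y ^ 4 = 1 := by rw [hy, conj_pow, hx4]; group
      rw [← pow_two, ← pow_mul, show 2 * 3 = 4 + 2 from rfl, pow_add, h4, one_mul, pow_two] at h3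
      exact h3
    apply hx2
    rw [hy, show c * x * c⁻¹ * (c * x * c⁻¹) = c * (x * x) * c⁻¹ by group] at hy2
    exact conj_eq_one_iff.mp hy2
where
  conj_comm_rec (c : X) {u v : X} (h : Commute u v) : Commute (c * u * c⁻¹) (c * v * c⁻¹) :=
    h.map (MulAut.conj c).toMonoidHom

end CfsgLib.U6Three

namespace CfsgLib.U6Three

open CfsgPSp43Rec Equiv

variable {X : Type*} [Group X] [Finite X] (E : CfsgPSp43Rec.Frame X)

/-- The conjugates of the quaternion element. -/
def qj (i : X) (j : Fin 3) : X := E.z 2 ^ j.val * i * (E.z 2 ^ j.val)⁻¹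

/-- The two-elements of the centraliser of the element and the involution. -/
theorem quat_elts {i x : X} (hi : i * i = E.t) (hI : E.Acts i actI) (hx : Commute x (E.z 3))
    (hxt : Commute x E.t) (hx4 : x ^ 4 = 1) :
    x = 1 ∨ x = E.t ∨ ∃ j : Fin 3, x = qj E i j ∨ x = E.t * qj E i j := by
  have hit : Commute i E.t := hi ▸ (Commute.refl i).mul_right (Commute.refl i)
  have hz2t : Commute (E.z 2) E.t := E.mem_Ct.1 (by
    rw [E.z_eq]; exact E.Zt_mem_Ct fixed_gens.1)
  have hi4 : i ^ 4 = 1 := by rw [show 4 = 2 * 2 from rfl, pow_mul, pow_two i, hi, pow_two, E.t_sq]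
  have hB : piE E (E.z 2) ≠ 1 := fun h =>
    E.z2_not_mem (MonoidHom.mem_ker.2 ((piE_def E (E.comm 2 3)).symm.trans h))
  have hB3 : piE E (E.z 2) * piE E (E.z 2) * piE E (E.z 2) = 1 := by
    rw [← piE_mul E (E.comm 2 3) (E.comm 2 3), ← piE_mul E ((E.comm 2 3).mul_left (E.comm 2 3)) (E.comm 2 3),
      ← pow_three', E.cube, piE_one]
  have hII : piE E i * piE E i = -1 := by rw [← piE_mul E hI.comm hI.comm, hi, piE_t]
  have hjz : ∀ j : Fin 3, Commute (qj E i j) (E.z 3) := fun j =>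
    (((E.comm 2 3).pow_left _).mul_left hI.comm).mul_left ((E.comm 2 3).pow_left _).inv_left
  have hjt : ∀ j : Fin 3, Commute (qj E i j) E.t := fun j =>
    ((hz2t.pow_left _).mul_left hit).mul_left (hz2t.pow_left _).inv_left
  have hj4 : ∀ j : Fin 3, qj E i j ^ 4 = 1 := fun j => by rw [qj, conj_pow, hi4, mul_one, mul_inv_cancel]
  have htj4 : ∀ j : Fin 3, (E.t * qj E i j) ^ 4 = 1 := fun j => by
    rw [(hjt j).symm.mul_pow, hj4, show 4 = 2 * 2 from rfl, pow_mul, pow_two E.t, E.t_sq, one_pow, one_mul]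
  have hp1 : piE E (qj E i 1) = piE E (E.z 2) * piE E i * (piE E (E.z 2) * piE E (E.z 2)) := by
    rw [qj, show ((1 : Fin 3) : ℕ) = 1 from rfl, pow_one, piE_mul E ((E.comm 2 3).mul_left hI.comm) (E.comm 2 3).inv_left,
      piE_mul E (E.comm 2 3) hI.comm, piE_inv E (E.comm 2 3), inv_eq_of_mul_eq_one_right (b := piE E (E.z 2) * piE E (E.z 2))
      (by rw [← mul_assoc, hB3])]
  have hp2 : piE E (qj E i 2) = piE E (E.z 2) * piE E (E.z 2) * piE E i * piE E (E.z 2) := by
    rw [qj, show ((2 : Fin 3) : ℕ) = 2 from rfl, pow_two, piE_mul E (((E.comm 2 3).mul_left (E.comm 2 3)).mul_left hI.comm)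
      ((E.comm 2 3).mul_left (E.comm 2 3)).inv_left, piE_mul E ((E.comm 2 3).mul_left (E.comm 2 3)) hI.comm,
      piE_inv E ((E.comm 2 3).mul_left (E.comm 2 3)), piE_mul E (E.comm 2 3) (E.comm 2 3),
      inv_eq_of_mul_eq_one_right (b := piE E (E.z 2)) hB3]
  have hp0 : piE E (qj E i 0) = piE E i := by simp [qj]
  have hneg : ∀ j : Fin 3, piE E (E.t * qj E i j) = -piE E (qj E i j) := fun j => by
    rw [piE_mul E E.t_z3 (hjz j), piE_t, neg_one_mul]
  have h8 := rec_sl_eight (piE E x) (by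
    rw [← piE_mul E hx hx, ← piE_mul E (hx.mul_left hx) (hx.mul_left hx), ← pow_two x, ← pow_two (x ^ 2), ← pow_mul,
      hx4, piE_one])
  rcases sl_two_part _ hB hB3 _ hII _ h8 with h | h | h | h | h | h | h | h
  · exact Or.inl (eq_of_piE E hx (Commute.one_left _) hxt (Commute.one_left _) hx4 (one_pow _) (by rw [h, piE_one]))
  · exact Or.inr (Or.inl (eq_of_piE E hx E.t_z3 hxt (Commute.refl _) hx4
      (by rw [show 4 = 2 * 2 from rfl, pow_mul, pow_two E.t, E.t_sq, one_pow]) (by rw [h, piE_t])))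
  · exact Or.inr (Or.inr ⟨0, Or.inl (eq_of_piE E hx (hjz 0) hxt (hjt 0) hx4 (hj4 0) (h.trans hp0.symm))⟩)
  · exact Or.inr (Or.inr ⟨0, Or.inr (eq_of_piE E hx (E.t_z3.mul_left (hjz 0)) hxt ((Commute.refl _).mul_left (hjt 0))
      hx4 (htj4 0) (h.trans (by rw [hneg, hp0])))⟩)
  · exact Or.inr (Or.inr ⟨1, Or.inl (eq_of_piE E hx (hjz 1) hxt (hjt 1) hx4 (hj4 1) (h.trans hp1.symm))⟩)
  · exact Or.inr (Or.inr ⟨1, Or.inr (eq_of_piE E hx (E.t_z3.mul_left (hjz 1)) hxt ((Commute.refl _).mul_left (hjt 1))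
      hx4 (htj4 1) (h.trans (by rw [hneg, hp1])))⟩)
  · exact Or.inr (Or.inr ⟨2, Or.inl (eq_of_piE E hx (hjz 2) hxt (hjt 2) hx4 (hj4 2) (h.trans hp2.symm))⟩)
  · exact Or.inr (Or.inr ⟨2, Or.inr (eq_of_piE E hx (E.t_z3.mul_left (hjz 2)) hxt ((Commute.refl _).mul_left (hjt 2))
      hx4 (htj4 2) (h.trans (by rw [hneg, hp2])))⟩)

/-- The two families commute. -/
theorem quat_commute_base {p q : X} (hp : Commute p (E.z 3)) (hpt : Commute p E.t) (hp4 : p ^ 4 = 1)
    (hq : Commute q (E.z 2)) (hqt : Commute q E.t) (hq4 : q ^ 4 = 1) : Commute p q := by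
  obtain ⟨i, hi, hI⟩ := E.exists_quat
  obtain ⟨hwt, hwz, hwi⟩ := E.w_facts
  set w := E.φ CfsgPSp43Rec.swap23 with hw
  have hit : Commute i E.t := hi ▸ (Commute.refl i).mul_right (Commute.refl i)
  have hww : w * w = 1 := by nth_rewrite 2 [← hwi]; exact mul_inv_cancel w
  set W := MulAut.conj w with hW
  have hWz : W (E.z 2) = E.z 3 := by simp [hW, hwz]
  have hWt : W E.t = E.t := by rw [hW, MulAut.conj_apply, hwt.eq, mul_inv_cancel_right]
  have hWW : ∀ a : X, W (W a) = a := fun a => by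
    rw [hW, MulAut.conj_apply, MulAut.conj_apply, show w * (w * a * w⁻¹) * w⁻¹ = (w * w) * a * (w * w)⁻¹ by group, hww]
    group
  have base : Commute i (W i) := by
    have := E.rel_comm hi hI
    rw [← hw] at this
    rwa [hW, MulAut.conj_apply, hwi]
  have hz2W : Commute (E.z 2) (W i) := by
    have h := (hI.comm.symm.map W.toMonoidHom)
    have e : W (E.z 3) = E.z 2 := by rw [← hWz, hWW]
    simpa [e] using h
  have key : ∀ j k : Fin 3, Commute (qj E i j) (W (qj E i k)) := by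
    intro j k
    have h1 : Commute (qj E i j) (W i) := by
      have hc : E.z 2 ^ j.val * W i * (E.z 2 ^ j.val)⁻¹ = W i := by
        rw [(hz2W.pow_left _).eq, mul_inv_cancel_right]
      have := base.map (MulAut.conj (E.z 2 ^ j.val)).toMonoidHom
      simp only [MulEquiv.coe_toMonoidHom, MulAut.conj_apply] at this
      rwa [hc] at this
    have hz3j : Commute (qj E i j) (E.z 3 ^ k.val) :=
      ((((E.comm 2 3).pow_left _).mul_left hI.comm).mul_left ((E.comm 2 3).pow_left _).inv_left).pow_right _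
    have e : W (qj E i k) = E.z 3 ^ k.val * W i * (E.z 3 ^ k.val)⁻¹ := by
      rw [qj, map_mul, map_mul, map_inv, map_pow, hWz]
    rw [e]
    exact (hz3j.mul_right h1).mul_right hz3j.inv_right
  have hjt : ∀ j : Fin 3, Commute E.t (qj E i j) := fun j => by
    have hz2t : Commute (E.z 2) E.t := E.mem_Ct.1 (by
      rw [E.z_eq]; exact E.Zt_mem_Ct fixed_gens.1)
    exact (((hz2t.pow_left _).mul_left hit).mul_left (hz2t.pow_left _).inv_left).symm
  have hq' := quat_elts E hi hI (x := W q) (by have := hq.map W.toMonoidHom; simpa [hWz] using this)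
    (by have := hqt.map W.toMonoidHom; simpa [hWt] using this) (by rw [← map_pow, hq4, map_one])
  have hp' := quat_elts E hi hI hp hpt hp4
  have htW : ∀ k : Fin 3, Commute E.t (W (qj E i k)) := fun k => by
    have := (hjt k).map W.toMonoidHom; simpa [hWt] using this
  rw [← hWW q]
  rcases hq' with h | h | ⟨k, h | h⟩ <;> rw [h] <;> clear h
  · rw [map_one]; exact Commute.one_right _
  · rw [hWt]; exact hpt
  · rcases hp' with rfl | rfl | ⟨j, rfl | rfl⟩
    exacts [Commute.one_left _, htW k, key j k, (htW k).mul_left (key j k)]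
  · rw [map_mul, hWt]
    refine hpt.mul_right ?_
    rcases hp' with rfl | rfl | ⟨j, rfl | rfl⟩
    exacts [Commute.one_left _, htW k, key j k, (htW k).mul_left (key j k)]

/-- Two-elements centralising two conjugates and the same involution commute. -/
theorem quat_commute {s b x p q : X} (hs : s * s = 1) (hs1 : s ≠ 1) (hsz : Commute s (E.z 3))
    (hb3 : b ^ 3 = 1) (hbz : Commute b (E.z 3)) (hbs : Commute b s) (hbout : b ∉ Subgroup.zpowers (E.z 3))
    (hxb : Commute x b) (hxs : Commute x s) (hx4 : x ^ 4 = 1) (hx2 : x * x ≠ 1)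
    (hp : Commute p (E.z 3)) (hps : Commute p s) (hp4 : p ^ 4 = 1)
    (hq : Commute q b) (hqs : Commute q s) (hq4 : q ^ 4 = 1) : Commute p q := by
  obtain ⟨h, hh⟩ := conj_invol E hs hs1 hsz
  set f := MulAut.conj (E.H h) with hf
  have hfs : f s = E.t := hh
  have hfz : f (E.z 3) = E.z 3 := by rw [hf, MulAut.conj_apply, (E.H_comm h).eq, mul_inv_cancel_right]
  have m : ∀ {u v : X}, Commute u v → Commute (f u) (f v) := fun h => h.map f.toMonoidHom
  obtain ⟨c, hcz, hct, hc⟩ := conj_point E (b := f b) (x := f x) (by rw [← map_pow, hb3, map_one])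
    (hfz ▸ m hbz) (hfs ▸ m hbs) (fun hmem => hbout (by
      obtain ⟨n, hn⟩ := Subgroup.mem_zpowers_iff.1 hmem
      exact Subgroup.mem_zpowers_iff.2 ⟨n, f.injective (by rw [map_zpow, hfz, hn])⟩))
    (m hxb) (hfs ▸ m hxs) (by rw [← map_pow, hx4, map_one])
    (fun e => hx2 (f.injective (by rw [map_mul, map_one]; exact e)))
  set g := MulAut.conj c with hg
  have hgz : g (E.z 3) = E.z 3 := by rw [hg, MulAut.conj_apply, hcz.eq, mul_inv_cancel_right]
  have hgt : g E.t = E.t := by rw [hg, MulAut.conj_apply, hct.eq, mul_inv_cancel_right]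
  have n : ∀ {u v : X}, Commute u v → Commute (g (f u)) (g (f v)) := fun h => (m h).map g.toMonoidHom
  have hq2 : Commute (g (f q)) (E.z 2) := by
    have h1 := n hq
    rcases hc with hc | hc <;> rw [show g (f b) = _ from hc] at h1
    · exact h1
    · have h2 := h1.mul_right h1
      rwa [← pow_two (E.z 2), ← pow_add, pow_succ, E.cube, one_mul] at h2
  have hfin := quat_commute_base E (p := g (f p)) (q := g (f q))
    (by have := n hp; rwa [hfz, hgz] at this) (by have := n hps; rwa [hfs, hgt] at this)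
    (by rw [← map_pow, ← map_pow, hp4, map_one, map_one]) hq2
    (by have := n hqs; rwa [hfs, hgt] at this) (by rw [← map_pow, ← map_pow, hq4, map_one, map_one])
  refine f.injective (g.injective ?_)
  simp only [map_mul]
  exact hfin.eq

end CfsgLib.U6Three
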