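import Cfsg.Agent.Lib.U6Three.LeviIso
import Cfsg.Agent.Lib.U6Three.RecComm

/-!
Coordinates of the second recognition on the derived subgroup of the quotient, and the commuting quaternion groups of
a block and of its image under the flip.
-/

set_option autoImplicit false
set_option linter.style.haveILetI false

namespace CfsgLib.U6Three

universe u

theorem sl_i_four : ∃ R : SL23, R * R * (R * R) = 1 ∧ R * R ≠ 1 := by decide +kernel

namespace Setting

variable {G : Type u} [Group G] {D : Setting G}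

/-- A quaternion element of the second block with trivial fourth power. -/
def QR (D : Setting G) (r : G) : Prop := D.Quat r ∧ r ^ 4 = 1

theorem quat_adjust {r : G} {R : SL23} (hR : R * R * (R * R) = 1) (hr : D.Acts r (1, R)) :
    ∃ m : ZMod 3, (r * D.zz m) ^ 4 = 1 ∧ D.Acts (r * D.zz m) (1, R) := by
  have h4 := (hr.mul hr).mul (hr.mul hr)
  rw [show ((1, R) : Pr) * (1, R) * ((1, R) * (1, R)) = 1 from Prod.ext (by simp) (by simpa using hR)] at h4
  obtain ⟨k, hk⟩ := h4.trivial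
  refine ⟨-k, ?_, ?_⟩
  · rw [(D.zz_comm hr.1.cz (-k)).mul_pow, show r ^ 4 = r * r * (r * r) by rw [← pow_two r, ← pow_add], hk, zz, zz,
      ← pow_mul, ← pow_add, pow_eq_pow_mod _ D.z_cube,
      show (k.val + (-k).val * 4) % 3 = 0 from (by decide : ∀ k : ZMod 3, (k.val + (-k).val * 4) % 3 = 0) k, pow_zero]
  · have := hr.mul (acts_zz (D := D) (-k))
    rwa [mul_one] at this

namespace Base

variable (F : D.Base) [Finite G]

/-- The other block involution. -/
noncomputable def i2 (D : Setting G) : G := D.t * D.i1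

theorem i2_quat : D.Quat (i2 D) := ⟨-1, neg_one_four.1, by
  have := D.t_acts.mul D.i1_block.acts
  rwa [show ((-1, -1) : Pr) * (-1, 1) = (1, -1) from Prod.ext (by simp) (by simp)] at this⟩

theorem i2_sq : i2 D * i2 D = 1 := by
  have h : Commute D.i1 D.t := D.i1_block.acts.1.ct
  rw [i2, show D.t * D.i1 * (D.t * D.i1) = D.t * (D.i1 * D.t) * D.i1 by group, h.eq,
    show D.t * (D.t * D.i1) * D.i1 = (D.t * D.t) * (D.i1 * D.i1) by group, D.t_sq, D.i1_block.sq, one_mul]

theorem Quat.comm_i2 {r : G} (hr : D.Quat r) : Commute r (i2 D) := by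
  exact (Commute.mul_right hr.choose_spec.2.1.ct hr.comm_i1)

theorem τ_i2 : Commute F.τ (i2 D) := F.τ_flip.ct.mul_right F.τ_flip.ci

theorem exists_recFrame_L : ∃ E : CfsgPSp43Rec.Frame (commutator F.Fq),
    (E.z 3 : F.Fq) = F.zb := by
  classical
  obtain ⟨hc, hsimple⟩ := F.derived_Fq
  haveI := hsimple
  have hC : F.setupFq.C ≤ commutator F.Fq := fun X hX =>
    F.range_prL_le (F.cent_le_range (F.setupFq.mem_C.mp hX))
  obtain ⟨Fr, hFr⟩ := (F.setupFq.restrict (commutator F.Fq) hC).exists_frame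
  have hFa : (Fr.D.a : F.Fq) = F.zb := by rw [hFr]; rfl
  have hk : Fr.k = 0 ∨ Fr.k = 1 ∨ Fr.k = 2 ∨ Fr.k = 3 := by
    generalize Fr.k = k
    decide +revert
  have ha1 : Fr.D.a ≠ 1 := Fr.D.ne
  rcases hk with h | h | h | h
  · exfalso
    obtain ⟨N, hN, hi⟩ := Fr.exists_index_three h
    rcases IsSimpleGroup.eq_bot_or_eq_top_of_normal N hN with rfl | rfl
    · rw [Subgroup.index_bot, hc] at hi; omega
    · rw [Subgroup.index_top] at hi; omega
  · exfalso
    have hn := Fr.case_one h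
    have hN : (Subgroup.zpowers Fr.D.a).Normal := Subgroup.normalizer_eq_top_iff.mp hn
    rcases IsSimpleGroup.eq_bot_or_eq_top_of_normal _ hN with h' | h'
    · exact ha1 (Subgroup.zpowers_eq_bot.mp h')
    · have h3 := Fr.D.card_Z
      rw [CfsgPSp43Real.Setup.Z, h', Subgroup.card_top, hc] at h3
      omega
  · obtain ⟨E, hE⟩ := Fr.exists_recFrame h
    exact ⟨E, by rw [hE, hFa]⟩
  · exfalso
    let F3 : CfsgPSp43Real.Frame3 (commutator F.Fq) := { toFrame := Fr, k3 := h }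
    rcases F3.dichotomy with hg | ⟨⟨E⟩⟩
    · obtain ⟨e⟩ := F3.case_good hg
      have h1 := Nat.card_congr e.toEquiv
      haveI : Fact (Nat.Prime 3) := ⟨Nat.prime_three⟩
      rw [hc, Cfsg.Agent.S0814.result 3 1 le_rfl (ZMod.card 3) 2 le_rfl (fun _ => by norm_num),
        U42Act.card_psp (F := CfsgLib.Heis43.K3) (ZMod.card 3)] at h1
      norm_num at h1
    · obtain ⟨e⟩ := F3.case_six E
      obtain ⟨Fr', hFr'⟩ := F.setupFq.exists_frame
      exact F.not_sp_six Fr' hFr' ((commutator F.Fq).subtype.comp e.symm.toMonoidHom)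
        ((commutator F.Fq).subtype_injective.comp e.symm.injective)

theorem L_quat_comm {x x' : G} (hx : x ∈ F.L) (hx' : x' ∈ F.L) (hz : Commute x D.z) (hy : Commute x' F.y)
    (hi : Commute x (i2 D)) (hi' : Commute x' (i2 D)) (h4 : x ^ 4 = 1) (h4' : x' ^ 4 = 1) : Commute x x' := by
  obtain ⟨E, hE⟩ := F.exists_recFrame_L
  have hzE : E.z 3 = F.LEquiv ⟨D.z, F.z_mem_L⟩ := Subtype.ext hE
  have hiL : i2 D ∈ F.L := F.gen_mem_L (Or.inr i2_quat)
  -- the witness
  obtain ⟨R, hR, hR2⟩ := sl_i_four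
  obtain ⟨r0, hr0⟩ := D.acts_lift (1, R) (by simp) hR
  obtain ⟨m, hr4, hr⟩ := quat_adjust hR hr0
  set r := r0 * D.zz m
  have hrB : r ∈ BGen D := Or.inr ⟨R, hR, hr⟩
  set w := F.τ * r * F.τ⁻¹ with hw
  have hwL : w ∈ F.L := F.τ_gen_mem_L hrB
  have hwy : Commute w F.y := by
    have := conj_comm F.τ hr.1.cz
    rw [F.τ_conj_z, ← hw] at this
    exact Commute.inv_right_iff.mp this
  have hwi : Commute w (i2 D) := (F.τ_i2.mul_left (Quat.comm_i2 ⟨R, hR, hr⟩)).mul_left F.τ_i2.inv_left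
  have m1 : ∀ {a b : G} (ha : a ∈ F.L) (hb : b ∈ F.L), Commute a b →
      Commute (F.LEquiv ⟨a, ha⟩) (F.LEquiv ⟨b, hb⟩) := fun ha hb h =>
    (show Commute (⟨_, ha⟩ : F.L) ⟨_, hb⟩ from Subtype.ext h.eq).map F.LEquiv
  have p1 : ∀ {a : G} (ha : a ∈ F.L) (n : ℕ), F.LEquiv ⟨a, ha⟩ ^ n = 1 ↔ a ^ n = 1 := fun ha n => by
    rw [← map_pow, MulEquiv.map_eq_one_iff, Subtype.ext_iff]; rfl
  have hfin := quat_commute E (s := F.LEquiv ⟨i2 D, hiL⟩) (b := F.LEquiv ⟨F.y, F.y_mem_L⟩)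
    (x := F.LEquiv ⟨w, hwL⟩) (p := F.LEquiv ⟨x, hx⟩) (q := F.LEquiv ⟨x', hx'⟩)
    (by rw [← pow_two, p1, pow_two, i2_sq])
    (fun h => by
      rw [← pow_one (F.LEquiv _), p1, pow_one] at h
      have h3 := D.t_acts.mul D.i1_block.acts
      rw [show D.t * D.i1 = i2 D from rfl, h] at h3
      exact (by decide +kernel : (((-1, -1) : Pr) * (-1, 1)).2 ≠ (1 : Pr).2) (congrArg Prod.snd (h3.unique acts_one)))
    (hzE ▸ m1 hiL F.z_mem_L (i2_quat.choose_spec.2.1.cz))
    ((p1 F.y_mem_L 3).mpr F.y_cube) (hzE ▸ m1 F.y_mem_L F.z_mem_L F.y_z)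
    (m1 F.y_mem_L hiL (F.y_t.mul_right F.block_y.symm))
    (fun h => by
      obtain ⟨n, hn⟩ := Subgroup.mem_zpowers_iff.1 h
      rw [hzE, ← map_zpow] at hn
      have e : D.z ^ n = F.y := by
        have := congrArg Subtype.val (F.LEquiv.injective hn)
        simpa using this
      exact F.y_not_Q (e ▸ Subgroup.zpow_mem _ (by have := D.zz_mem 1; rwa [D.zz_one] at this) n))
    (m1 hwL F.y_mem_L hwy) (m1 hwL hiL hwi)
    ((p1 hwL 4).mpr (by rw [hw, conj_pow, hr4]; group))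
    (fun h => hR2 (by
      rw [← pow_two, p1, pow_two, hw, show F.τ * r * F.τ⁻¹ * (F.τ * r * F.τ⁻¹) = F.τ * (r * r) * F.τ⁻¹ by group,
        conj_eq_one_iff] at h
      have := (hr.mul hr).unique (h ▸ acts_one)
      simpa using congrArg Prod.snd this))
    (hzE ▸ m1 hx F.z_mem_L hz) (m1 hx hiL hi) ((p1 hx 4).mpr h4) (m1 hx' F.y_mem_L hy) (m1 hx' hiL hi')
    ((p1 hx' 4).mpr h4')
  have := hfin.map F.LEquiv.symm
  simp only [MulEquiv.symm_apply_apply] at this
  exact this.map F.L.subtype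

/-- The quaternion groups of the second block and of its flip commute. -/
theorem quat_flip_comm {r r' : G} (hr : D.QR r) (hr' : D.QR r') : Commute r (F.τ * r' * F.τ⁻¹) := by
  refine F.L_quat_comm (F.gen_mem_L (Or.inr hr.1)) (F.τ_gen_mem_L (Or.inr hr'.1)) hr.1.choose_spec.2.1.cz ?_
    (Quat.comm_i2 hr.1) ((F.τ_i2.mul_left (Quat.comm_i2 hr'.1)).mul_left F.τ_i2.inv_left) hr.2
    (by rw [conj_pow, hr'.2]; group)
  have := conj_comm F.τ hr'.1.choose_spec.2.1.cz
  rw [F.τ_conj_z] at this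
  exact Commute.inv_right_iff.mp this

end Base

end Setting

end CfsgLib.U6Three
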