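import Cfsg.Agent.Lib.U6Three.Axis
import Cfsg.Agent.Lib.PSp43Real.Setup
import Mathlib.GroupTheory.Transfer

/-!
The centraliser of the axis modulo the axis, in the setting of a three-centraliser of the symplectic group of
degree four over three elements.
-/

set_option autoImplicit false
set_option linter.style.haveILetI false

namespace CfsgLib.U6Three

universe u

theorem v2_nondeg : ∀ v : V2, (∀ w : V2, om ((0, 0), v) ((0, 0), w) = 0) → v = 0 := by decide +kernel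

theorem snd_zero : ∀ (u : W4) (i : ZMod 3), u.1.2 = 0 → u = av u.1.1 0 + ((0, 0), u.2) ∧
    ((av i 0 : W4).2 = 0) := by decide +kernel

namespace Setting.Base

variable {G : Type u} [Group G] {D : Setting G} (F : D.Base) [Finite G]

/-- The centraliser of the axis. -/
noncomputable def CP : Subgroup G := Subgroup.centralizer (F.P : Set G)

theorem mem_CP {x : G} : x ∈ F.CP ↔ ∀ π ∈ F.P, Commute x π :=
  Subgroup.mem_centralizer_iff.trans ⟨fun h π hπ => (h π hπ).symm, fun h π hπ => (h π hπ).symm⟩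

theorem inC_mem_CP {x : G} (hx : D.InC x) : x ∈ F.CP := F.mem_CP.mpr fun _ hπ => F.inC_comm_P hx hπ

theorem U_le_CP : F.U ≤ F.CP := fun _ hx => F.mem_CP.mpr fun _ hπ => F.U_comm hx (F.mem_P.mp hπ).1

theorem P_le_CP : F.P ≤ F.CP := fun _ hx => F.U_le_CP (F.mem_P.mp hx).1

theorem z_mem_U : D.z ∈ F.U := F.jel_z ▸ F.jel_mem_U _

theorem z_mem_CP : D.z ∈ F.CP := F.U_le_CP F.z_mem_U

/-- The axis inside its centraliser. -/
noncomputable def PC : Subgroup F.CP := F.P.subgroupOf F.CP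

instance : F.PC.Normal := ⟨fun x hx g => by
  have h : Commute (g : G) x := F.mem_CP.mp g.2 _ hx
  have h2 : g * x * g⁻¹ = x := mul_inv_eq_iff_eq_mul.mpr (Subtype.ext h.eq)
  rwa [h2]⟩

/-- The quotient of the centraliser of the axis by the axis. -/
abbrev Fq : Type u := F.CP ⧸ F.PC

/-- The projection. -/
noncomputable def pr : F.CP →* F.Fq := QuotientGroup.mk' F.PC

theorem pr_surj : Function.Surjective F.pr := QuotientGroup.mk'_surjective _

theorem pr_one {x : F.CP} : F.pr x = 1 ↔ (x : G) ∈ F.P := (QuotientGroup.eq_one_iff x).trans Iff.rfl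

theorem pr_eq {x x' : F.CP} : F.pr x = F.pr x' ↔ (x : G)⁻¹ * (x' : G) ∈ F.P :=
  (QuotientGroup.eq (s := F.PC)).trans Iff.rfl

/-- The image of the central element. -/
noncomputable def zC : F.CP := ⟨D.z, F.z_mem_CP⟩

/-- The image of the central element. -/
noncomputable def zb : F.Fq := F.pr F.zC

theorem P_ma {x : G} (hx : x ∈ F.P) : ∃ p, D.MA x p ∧ p.2 = 1 ∧ (x ∈ D.Q → ∃ i, x = D.q (av i 0)) := by
  obtain ⟨i, m, e⟩ := F.P_cases hx
  obtain ⟨p, hp, -, h2⟩ := F.s0_nine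
  have hm := (ma_of_Q (D := D) (D.q_mem (av i 0))).mul (hp.ma.pow m.val)
  rw [← e, one_mul] at hm
  refine ⟨_, hm, by simp [h2], fun hQ => ⟨i, ?_⟩⟩
  have h1 := (ma_of_Q (D := D) hQ).unique hm
  by_cases hB : D.caseB
  · obtain rfl := hp.ma.unique (F.s0_acts hB).ma
    have h1' := congrArg Prod.fst h1
    simp only [Prod.fst_one, Prod.pow_fst] at h1'
    rw [(pow_pred m).1 h1'.symm] at e
    simpa using e
  · simpa [F.s0_one hB] using e

theorem jel_mem_P {v : V4} (h : F.jel v ∈ F.P) : v.1 = 0 ∧ v.2.2.1 = 0 ∧ v.2.2.2 = 0 := by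
  obtain ⟨k, i, l, j⟩ := v
  obtain ⟨p, hp, h2, hQ⟩ := F.P_ma h
  have hm : D.MA (F.jel (k, i, l, j)) (((mU, mU) : Pr) ^ j.val) := by
    have := (ma_of_Q (D := D) (mul_mem (D.zz_mem k) (D.q_mem (av i l)))).mul (F.y_ma j)
    rwa [one_mul] at this
  have hj : j = 0 := (pow_pred j).1 (by simpa [h2] using congrArg Prod.snd (hm.unique hp))
  subst hj
  obtain ⟨i', e⟩ := hQ (by
    show D.zz k * D.q (av i l) * F.y ^ (0 : ZMod 3).val ∈ D.Q
    rw [ZMod.val_zero, pow_zero, mul_one]; exact mul_mem (D.zz_mem k) (D.q_mem _))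
  rw [← F.jel_q] at e
  have := F.jel_inj e
  simp only [Prod.mk.injEq] at this
  exact ⟨this.1, this.2.2.1, rfl⟩

theorem z_rigid {π : G} (hπ : π ∈ F.P) (hp : D.IsPt (D.z * π)) : π = 1 := by
  obtain ⟨v, hq, -, e⟩ := (F.pt_iff (mul_mem F.z_mem_U (F.mem_P.mp hπ).1)).mp hp
  have e2 : π = F.jel ((-1, 0, 0, 0) + v) := by
    rw [F.jel_add, ← e, F.jel_zpow, D.zz_neg, D.zz_one, inv_mul_cancel_left]
  obtain ⟨h1, h2, h3⟩ := F.jel_mem_P (e2 ▸ hπ)
  obtain ⟨k, i, l, j⟩ := v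
  simp only [Prod.fst_add, Prod.snd_add, zero_add] at h1 h2 h3
  subst h2 h3
  obtain rfl : i = 0 := by
    simp only [qJ, mul_zero, zero_add, add_zero] at hq
    exact mul_self_eq_zero.mp hq
  rw [e2, show ((-1, 0, 0, 0) : V4) + (k, 0, 0, 0) = 0 from Prod.ext h1 rfl, F.jel_zero]

theorem exists_rep {X : F.Fq} (hX : Commute X F.zb) : ∃ x : F.CP, F.pr x = X ∧ Commute (x : G) D.z := by
  obtain ⟨x, rfl⟩ := F.pr_surj X
  refine ⟨x, rfl, ?_⟩
  have h1 : F.pr (x * F.zC * x⁻¹) = F.pr F.zC := by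
    simp only [map_mul, map_inv]; exact mul_inv_eq_iff_eq_mul.mpr hX.eq
  have h2 : D.z⁻¹ * ((x : G) * D.z * (x : G)⁻¹) ∈ F.P := by simpa [zC] using F.pr_eq.mp h1.symm
  have h3 := F.z_rigid h2 (by rw [mul_inv_cancel_left]; exact ⟨x, Or.inl rfl⟩)
  rw [inv_mul_eq_one, eq_comm, mul_inv_eq_iff_eq_mul] at h3
  exact h3

theorem a_one_mem : D.q (av 1 0) ∈ F.P := F.a_mem_P 1

theorem rep_inC {x : F.CP} (hx : Commute (x : G) D.z) : D.InC x := inC_of hx (F.mem_CP.mp x.2 _ F.a_one_mem)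

theorem rep_ma {x : F.CP} (hx : Commute (x : G) D.z) : ∃ p, D.MA x p := by
  obtain ⟨u, s, p, e, hs, -⟩ := F.rep_inC hx
  exact ⟨p, u, s, e, hs⟩

theorem rep_unique {x x' : F.CP} (e : F.pr x = F.pr x') {p p' : Pr} (hp : D.MA x p) (hp' : D.MA x' p') :
    p.2 = p'.2 := by
  obtain ⟨r, hr, h2, -⟩ := F.P_ma (F.pr_eq.mp e)
  have := (hp.inv.mul hp').unique hr
  have := congrArg Prod.snd this
  simp only [Prod.snd_mul, Prod.snd_inv, h2, inv_mul_eq_one] at this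
  exact this

theorem zb_comm (x : F.CP) (hx : Commute (x : G) D.z) : Commute (F.pr x) F.zb :=
  (show Commute x F.zC from Subtype.ext hx.eq).map F.pr

/-- The pieces of a rule on the centraliser of the image of the central element. -/
noncomputable def piVal (X : Subgroup.centralizer ({F.zb} : Set F.Fq)) : SL23 :=
  (F.rep_ma (F.exists_rep (Subgroup.mem_centralizer_singleton_iff.mp X.2)).choose_spec.2).choose.2

theorem piVal_eq {X : Subgroup.centralizer ({F.zb} : Set F.Fq)} {x : F.CP} (e : F.pr x = X) {p : Pr}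
    (hp : D.MA x p) : F.piVal X = p.2 :=
  F.rep_unique ((F.exists_rep (Subgroup.mem_centralizer_singleton_iff.mp X.2)).choose_spec.1.trans e.symm)
    (F.rep_ma (F.exists_rep (Subgroup.mem_centralizer_singleton_iff.mp X.2)).choose_spec.2).choose_spec hp

/-- The map onto the special linear group. -/
noncomputable def piHom : Subgroup.centralizer ({F.zb} : Set F.Fq) →* SL23 where
  toFun := F.piVal
  map_one' := F.piVal_eq (x := 1) (map_one _) ma_one
  map_mul' X Y := by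
    obtain ⟨x, ex, hx⟩ := F.exists_rep (Subgroup.mem_centralizer_singleton_iff.mp X.2)
    obtain ⟨y, ey, hy⟩ := F.exists_rep (Subgroup.mem_centralizer_singleton_iff.mp Y.2)
    obtain ⟨p, hp⟩ := F.rep_ma hx
    obtain ⟨r, hr⟩ := F.rep_ma hy
    rw [F.piVal_eq ex hp, F.piVal_eq ey hr, F.piVal_eq (x := x * y) (p := p * r) (by rw [map_mul, ex, ey]; rfl)
      (by rw [Subgroup.coe_mul]; exact hp.mul hr)]
    rfl

theorem piHom_eq {X : Subgroup.centralizer ({F.zb} : Set F.Fq)} {x : F.CP} (e : F.pr x = X) {p : Pr}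
    (hp : D.MA x p) : F.piHom X = p.2 := F.piVal_eq e hp

/-- An element of the centraliser of the central element, in the domain of the rule. -/
noncomputable def inCent (x : G) (hx : D.InC x) (hz : Commute x D.z) :
    Subgroup.centralizer ({F.zb} : Set F.Fq) :=
  ⟨F.pr ⟨x, F.inC_mem_CP hx⟩, Subgroup.mem_centralizer_singleton_iff.mpr (F.zb_comm ⟨x, _⟩ hz).eq⟩

theorem piHom_surj : Function.Surjective F.piHom := by
  intro A
  obtain ⟨R, hR, b, hb⟩ := sl_Q8U A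
  obtain ⟨r, hr⟩ := D.acts_lift (1, R) (by simp) hR
  obtain ⟨q, hq, -⟩ := Acts.of_three (D := D) ⟨F.y_z.pow_left b.val, F.y_t.pow_left b.val⟩
    (by rw [← pow_mul, mul_comm, pow_mul, F.y_cube, one_pow])
  obtain rfl := hq.ma.unique (F.y_ma b)
  have h := hr.mul hq
  have hC : D.InC (r * F.y ^ b.val) := ⟨0, _, _, by rw [D.q_zero, one_mul], h, by
    simp only [Prod.fst_mul, Prod.pow_fst, one_mul]
    exact (by decide +kernel : ∀ b : ZMod 3, mU ^ b.val = 1 ∨ mU ^ b.val = mU ∨ mU ^ b.val = mU * mU) b, rfl⟩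
  refine ⟨F.inCent _ hC h.1.cz, (F.piHom_eq rfl h.ma).trans ?_⟩
  simp [hb]

/-- The elements of the kernel. -/
def kEl (k : ZMod 3) (v : V2) : G := D.zz k * D.q ((0, 0), v)

theorem kEl_inC (k : ZMod 3) (v : V2) : D.InC (D.zz k * D.q ((0, 0), v)) :=
  ⟨((0, 0), v), D.zz k, 1, (D.zz_q k _).eq, acts_zz k, Or.inl rfl, rfl⟩

/-- The elements of the kernel in the quotient. -/
noncomputable def kq (kv : ZMod 3 × V2) : F.Fq := F.pr ⟨_, F.inC_mem_CP (kEl_inC (D := D) kv.1 kv.2)⟩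

theorem ker_el {X : Subgroup.centralizer ({F.zb} : Set F.Fq)} (hX : F.piHom X = 1) : ∃ kv, (X : F.Fq) = F.kq kv := by
  obtain ⟨x, ex, hx⟩ := F.exists_rep (Subgroup.mem_centralizer_singleton_iff.mp X.2)
  obtain ⟨u, s, p, e, hs, hp1, hu⟩ := F.rep_inC hx
  have h2 : p.2 = 1 := (F.piHom_eq ex ⟨u, s, e, hs⟩).symm.trans hX
  obtain ⟨a, ha⟩ := nine_pow _ hp1
  rw [show p = (mU ^ a.val, 1) from Prod.ext ha h2] at hs
  obtain ⟨k, m, hk⟩ := F.s0_pow hs
  obtain ⟨e1, -⟩ := snd_zero u 0 hu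
  set v := u.2
  set c := u.1.1
  have e2 : (x : G) = D.zz k * D.q ((0, 0), v) * (D.q (av c 0) * F.s0 ^ m.val) := by
    have hq : D.q u = D.q ((0, 0), v) * D.q (av c 0) := by
      rw [D.q_mul', show om ((0, 0), v) (av c 0) = 0 from
        (by decide +kernel : ∀ (v : V2) (c : ZMod 3), om ((0, 0), v) (av c 0) = 0) v c, neg_zero, D.zz_zero,
        one_mul, add_comm, ← e1]
    rw [e, hk, hq, mul_assoc, ← mul_assoc (D.q (av c 0)), ← (D.zz_q k _).eq, ← mul_assoc, ← mul_assoc,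
      ← (D.zz_q k _).eq]
    group
  refine ⟨(k, v), ex.symm.trans (F.pr_eq.mpr ?_)⟩
  rw [e2, show (D.zz k * D.q ((0, 0), v) * (D.q (av c 0) * F.s0 ^ m.val))⁻¹ * (D.zz k * D.q ((0, 0), v)) =
    (D.q (av c 0) * F.s0 ^ m.val)⁻¹ by group]
  exact inv_mem (mul_mem (F.a_mem_P c) (pow_mem F.s0_mem_P _))

theorem kq_inj : Function.Injective F.kq := by
  rintro ⟨k, v⟩ ⟨l, w⟩ h
  have h' := F.pr_eq.mp h
  dsimp only at h'
  obtain ⟨-, -, -, hQ⟩ := F.P_ma h'
  obtain ⟨i, e⟩ := hQ (mul_mem (inv_mem (mul_mem (D.zz_mem k) (D.q_mem _))) (mul_mem (D.zz_mem l) (D.q_mem _)))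
  have e' : D.zz l * D.q ((0, 0), w) = D.zz (k + -om ((0, 0), v) (av i 0)) * D.q (((0, 0), v) + av i 0) := by
    rw [inv_mul_eq_iff_eq_mul.mp e, mul_assoc, D.q_mul', ← mul_assoc, ← D.zz_add]
  obtain ⟨h1, h2⟩ := D.el_inj e'
  rw [(by decide +kernel : ∀ (v : V2) (c : ZMod 3), om ((0, 0), v) (av c 0) = 0) v i, neg_zero, add_zero] at h1
  exact Prod.ext h1.symm ((congrArg Prod.snd h2).trans (add_zero v)).symm

theorem kq_ker (kv : ZMod 3 × V2) : ∃ X : Subgroup.centralizer ({F.zb} : Set F.Fq),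
    (X : F.Fq) = F.kq kv ∧ F.piHom X = 1 :=
  ⟨F.inCent _ (kEl_inC kv.1 kv.2) (D.Q_z (mul_mem (D.zz_mem _) (D.q_mem _))), rfl,
    F.piHom_eq rfl (ma_of_Q (D := D) (mul_mem (D.zz_mem _) (D.q_mem _)))⟩

theorem card_ker : Nat.card F.piHom.ker = 27 := by
  choose f hf1 hf2 using F.kq_ker
  have hb : Function.Bijective (fun kv => (⟨f kv, hf2 kv⟩ : F.piHom.ker)) := by
    refine ⟨fun a b h => F.kq_inj ?_, fun ⟨X, hX⟩ => ?_⟩
    · rw [← hf1 a, ← hf1 b]; exact congrArg (fun Z : F.piHom.ker => ((Z.1 : Subgroup.centralizer ({F.zb} : Set F.Fq)) : F.Fq)) h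
    · obtain ⟨kv, e⟩ := F.ker_el hX
      exact ⟨kv, Subtype.ext (Subtype.ext ((hf1 kv).trans e.symm))⟩
  rw [← Nat.card_eq_of_bijective _ hb]
  simp

theorem kq_zero (k : ZMod 3) : F.kq (k, 0) = F.zb ^ k.val := by
  rw [zb, ← map_pow]
  refine congrArg F.pr (Subtype.ext ?_)
  show D.zz k * D.q ((0, 0), 0) = (((F.zC) ^ k.val : F.CP) : G)
  rw [show (((0, 0), 0) : W4) = 0 from rfl, D.q_zero, mul_one, SubmonoidClass.coe_pow]
  rfl

theorem kq_comm (a b : ZMod 3 × V2) :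
    F.kq a * F.kq b * (F.kq a)⁻¹ * (F.kq b)⁻¹ = F.kq (om ((0, 0), a.2) ((0, 0), b.2), 0) := by
  rw [kq, kq, kq, ← map_inv, ← map_inv, ← map_mul, ← map_mul, ← map_mul]
  refine congrArg F.pr (Subtype.ext ?_)
  show D.zz a.1 * D.q ((0, 0), a.2) * (D.zz b.1 * D.q ((0, 0), b.2)) * (D.zz a.1 * D.q ((0, 0), a.2))⁻¹ *
    (D.zz b.1 * D.q ((0, 0), b.2))⁻¹ = D.zz _ * D.q ((0, 0), 0)
  rw [show (((0, 0), 0) : W4) = 0 from rfl, D.q_zero, mul_one, mul_inv_eq_iff_eq_mul]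
  calc _ = D.zz a.1 * (D.q ((0, 0), a.2) * D.zz b.1 * (D.q ((0, 0), a.2))⁻¹ *
        (D.q ((0, 0), a.2) * D.q ((0, 0), b.2) * (D.q ((0, 0), a.2))⁻¹)) * (D.zz a.1)⁻¹ := by group
    _ = D.zz a.1 * (D.zz b.1 * (D.zz (om ((0, 0), a.2) ((0, 0), b.2)) * D.q ((0, 0), b.2))) * (D.zz a.1)⁻¹ := by
      rw [D.conj_zz (D.q_z _), D.q_conj]
    _ = D.zz b.1 * (D.zz (om ((0, 0), a.2) ((0, 0), b.2)) * D.q ((0, 0), b.2)) := by
      have hc : Commute (D.zz a.1) (D.zz b.1 * (D.zz (om ((0, 0), a.2) ((0, 0), b.2)) * D.q ((0, 0), b.2))) :=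
        ((Commute.refl D.z).pow_pow _ _).mul_right (((Commute.refl D.z).pow_pow _ _).mul_right (D.zz_q _ _))
      rw [hc.eq, mul_inv_cancel_right]
    _ = _ := by rw [← mul_assoc, ← mul_assoc, ← D.zz_add, ← D.zz_add, add_comm]

/-- The image of the group commuting with the elementary group. -/
noncomputable def Jq : Subgroup F.Fq := (F.U.subgroupOf F.CP).map F.pr

theorem mem_Jq {X : F.Fq} : X ∈ F.Jq ↔ ∃ x : F.CP, (x : G) ∈ F.U ∧ F.pr x = X := Iff.rfl

/-- Representatives of the image. -/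
theorem U_reps {x : G} (hx : x ∈ F.U) : ∃ k l j : ZMod 3, (F.jel (k, 0, l, j))⁻¹ * x ∈ F.P := by
  obtain ⟨c, s, p, hc, hs, hp, e⟩ := F.mem_U_iff.mp hx
  obtain ⟨i, l, rfl⟩ := inA_av c hc
  obtain ⟨a, ha⟩ := nine_pow _ hp.1
  obtain ⟨b, hb⟩ := nine_pow _ hp.2
  obtain ⟨q, hq, -⟩ := Acts.of_three (D := D) ⟨F.y_z.pow_left b.val, F.y_t.pow_left b.val⟩
    (by rw [← pow_mul, mul_comm, pow_mul, F.y_cube, one_pow])
  obtain rfl := hq.ma.unique (F.y_ma b)
  have h := hq.inv.mul hs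
  rw [show (((mU, mU) : Pr) ^ b.val)⁻¹ * p = (mU ^ (a - b).val, 1) by
    refine Prod.ext ?_ ?_
    · simp only [Prod.fst_mul, Prod.fst_inv, Prod.pow_fst, ha]
      exact (by decide +kernel : ∀ a b : ZMod 3, (mU ^ b.val)⁻¹ * mU ^ a.val = mU ^ (a - b).val) a b
    · simp [hb]] at h
  obtain ⟨k, m, hk⟩ := F.s0_pow h
  refine ⟨k, l, b, ?_⟩
  have hsm : Commute (F.y ^ b.val) (D.zz k) := D.zz_comm (F.y_z.pow_left _) k
  have e2 : x = F.jel (k, 0, l, b) * (D.q (av i 0) * F.s0 ^ m.val) := by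
    rw [e, inv_mul_eq_iff_eq_mul.mp hk, show F.jel (k, 0, l, b) = D.zz k * D.q (av 0 l) * F.y ^ b.val from rfl,
      show D.q (av i l) = D.q (av i 0) * D.q (av 0 l) by
        rw [D.q_mul', av_om, neg_zero, D.zz_zero, one_mul, av_add, add_zero, zero_add]]
    have h1 : Commute (D.q (av i 0)) (D.zz k * D.q (av 0 l) * F.y ^ b.val) :=
      (((D.zz_q k _).symm.mul_right (D.q_comm.mpr (av_om _ _ _ _))).mul_right ((F.y_q (av_inA i 0)).symm.pow_right _))
    calc D.q (av i 0) * D.q (av 0 l) * (F.y ^ b.val * (D.zz k * F.s0 ^ m.val))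
        = D.q (av i 0) * ((D.q (av 0 l) * (F.y ^ b.val * D.zz k)) * F.s0 ^ m.val) := by group
      _ = D.q (av i 0) * (D.zz k * D.q (av 0 l) * F.y ^ b.val) * F.s0 ^ m.val := by
        rw [hsm.eq, ← mul_assoc (D.q (av 0 l)), ← (D.zz_q k _).eq]; group
      _ = _ := by rw [h1.eq, mul_assoc]
  rw [e2, inv_mul_cancel_left]
  exact mul_mem (F.a_mem_P i) (pow_mem F.s0_mem_P _)

theorem card_Jq : Nat.card F.Jq = 27 := by
  have hb : Function.Bijective (fun w : ZMod 3 × ZMod 3 × ZMod 3 =>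
      (⟨F.pr ⟨F.jel (w.1, 0, w.2.1, w.2.2), F.U_le_CP (F.jel_mem_U _)⟩, _, F.jel_mem_U _, rfl⟩ : F.Jq)) := by
    refine ⟨?_, ?_⟩
    · rintro ⟨k, l, j⟩ ⟨k', l', j'⟩ h
      have h' := F.pr_eq.mp (congrArg Subtype.val h)
      dsimp only at h'
      rw [← F.jel_neg, ← F.jel_add] at h'
      obtain ⟨h1, h2, h3⟩ := F.jel_mem_P h'
      simp only [Prod.fst_add, Prod.snd_add, Prod.fst_neg, Prod.snd_neg, neg_add_eq_zero] at h1 h2 h3
      rw [h1, h2, h3]
    · rintro ⟨_, x, hx, rfl⟩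
      obtain ⟨k, l, j, h⟩ := F.U_reps (x := (x : G)) hx
      exact ⟨(k, l, j), Subtype.ext (F.pr_eq.mpr h)⟩
  rw [← Nat.card_eq_of_bijective _ hb]
  simp

theorem sig_Fq (K : Subgroup F.Fq) (hK : (Nat.card K).Coprime 3)
    (hn : ∀ j ∈ F.Jq, K.map (MulAut.conj j).toMonoidHom = K) : K = ⊥ := by
  classical
  set n := Nat.card K
  have hn3 : ∀ {x : F.CP}, F.pr x ∈ K → (x : G) ^ n ∈ F.P := fun {x} hx => by
    rw [← SubmonoidClass.coe_pow]
    refine F.pr_one.mp ?_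
    rw [map_pow]
    exact congrArg Subtype.val (pow_card_eq_one' (x := (⟨F.pr x, hx⟩ : K)))
  set K0 := K.comap F.pr with hK0
  set H : Subgroup K0 := F.PC.subgroupOf K0
  have hHi : H.index = n := by
    let f : K0 →* K := (F.pr.comp K0.subtype).codRestrict K fun x => x.2
    have hf : Function.Surjective f := fun ⟨X, hX⟩ => by
      obtain ⟨x, rfl⟩ := F.pr_surj X
      exact ⟨⟨x, hX⟩, rfl⟩
    have hker : f.ker = H := by
      ext x
      exact ⟨fun h => F.pr_one.mp (congrArg Subtype.val (MonoidHom.mem_ker.mp h)),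
        fun h => MonoidHom.mem_ker.mpr (Subtype.ext (F.pr_one.mpr h))⟩
    rw [← hker, Subgroup.index_ker, MonoidHom.range_eq_top.mpr hf, Subgroup.card_top]
  have hcen : ∀ (a : H) (b : K0), (a : K0) * b = b * a := fun a b =>
    Subtype.ext (Subtype.ext ((F.mem_CP.mp b.1.2 _ a.2).symm.eq))
  letI : CommGroup H := { (inferInstance : Group H) with mul_comm := fun a b => Subtype.ext (hcen a b) }
  have hkey : ∀ (g : K0), ((MonoidHom.transfer (MonoidHom.id H) g : H) : K0) = g ^ n := fun g => by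
    rw [MonoidHom.transfer_eq_pow (MonoidHom.id H) g (fun k g0 hk => by
      set a : H := ⟨g0⁻¹ * g ^ k * g0, hk⟩ with ha
      calc g0⁻¹ * g ^ k * g0 = g0 * (a : K0) * g0⁻¹ := by rw [← hcen a g0, mul_inv_cancel_right]
        _ = g ^ k := by rw [ha]; group)]
    show g ^ H.index = g ^ n
    rw [hHi]
  set K' : Subgroup G := ((MonoidHom.transfer (MonoidHom.id H)).ker.map K0.subtype).map F.CP.subtype with hK'
  have hmem : ∀ {x : G}, x ∈ K' ↔ ∃ y : F.CP, (y : G) = x ∧ F.pr y ∈ K ∧ x ^ n = 1 := by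
    intro x
    constructor
    · rintro ⟨y, ⟨w, hw, rfl⟩, rfl⟩
      refine ⟨w, rfl, w.2, ?_⟩
      have := hkey w
      rw [MonoidHom.mem_ker.mp hw, Subgroup.coe_one] at this
      simpa using (congrArg (fun a : K0 => ((a : F.CP) : G)) this).symm
    · rintro ⟨y, rfl, hy, he⟩
      refine ⟨y, ⟨⟨y, hy⟩, MonoidHom.mem_ker.mpr (Subtype.ext ?_), rfl⟩, rfl⟩
      rw [hkey, Subgroup.coe_one]
      exact Subtype.ext (Subtype.ext (by simpa using he))
  have hco : (Nat.card K').Coprime 3 := by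
    by_contra h
    rw [Nat.coprime_comm, Nat.prime_three.coprime_iff_not_dvd, not_not] at h
    haveI : Fact (Nat.Prime 3) := ⟨Nat.prime_three⟩
    obtain ⟨⟨x, hx⟩, hx3⟩ := exists_prime_orderOf_dvd_card' 3 h
    rw [← Subgroup.orderOf_coe] at hx3
    obtain ⟨-, -, -, he⟩ := hmem.mp hx
    have h3 : 3 ∣ n := hx3 ▸ orderOf_dvd_of_pow_eq_one he
    exact absurd (Nat.eq_one_of_dvd_coprimes hK h3 dvd_rfl) (by decide)
  have hU : ∀ x ∈ F.U, x ∈ Subgroup.normalizer (K' : Set G) := by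
    intro x hx
    have key : ∀ a ∈ F.U, ∀ y ∈ K', a * y * a⁻¹ ∈ K' := by
      intro a ha y hy
      obtain ⟨w, rfl, hw, he⟩ := hmem.mp hy
      refine hmem.mpr ⟨⟨a, F.U_le_CP ha⟩ * w * ⟨a, F.U_le_CP ha⟩⁻¹, rfl, ?_, ?_⟩
      · rw [← hn (F.pr ⟨a, F.U_le_CP ha⟩) ⟨⟨a, _⟩, ha, rfl⟩]
        exact ⟨F.pr w, hw, by simp⟩
      · rw [conj_pow, he]; group
    intro y
    refine ⟨key x hx y, fun h => ?_⟩
    have := key x⁻¹ (inv_mem hx) _ h
    simpa [mul_assoc] using this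
  have hbot := F.signal K' hco hU
  refine le_antisymm (fun X hX => ?_) bot_le
  obtain ⟨x, rfl⟩ := F.pr_surj X
  have h3 : (x : G) ^ 3 ∈ K' := hmem.mpr ⟨x ^ 3, by simp, by rw [map_pow]; exact pow_mem hX 3, by
    rw [← pow_mul, mul_comm, pow_mul]
    exact F.U_cube (F.mem_P.mp (hn3 hX)).1⟩
  rw [hbot, Subgroup.mem_bot] at h3
  have e1 : orderOf (F.pr x) ∣ 3 := orderOf_dvd_of_pow_eq_one (by
    rw [← map_pow]; exact F.pr_one.mpr (by rw [SubmonoidClass.coe_pow, h3]; exact one_mem _))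
  exact Subgroup.mem_bot.mpr (orderOf_eq_one_iff.mp
    (Nat.eq_one_of_dvd_coprimes hK (Subgroup.orderOf_dvd_natCard K hX) e1))

/-- The setting of the three-centraliser of the symplectic group. -/
noncomputable def setupFq : CfsgPSp43Real.Setup F.Fq where
  a := F.zb
  cube := by
    rw [zb, ← map_pow]
    exact F.pr_one.mpr (by rw [SubmonoidClass.coe_pow]; show D.z ^ 3 ∈ F.P; rw [D.z_cube]; exact one_mem _)
  ne := fun h => F.P_no_pt (F.pr_one.mp h) ⟨1, Or.inl (by simp [zC])⟩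
  π := F.piHom
  surj := F.piHom_surj
  kerCard := F.card_ker
  kerExp := fun X hX => by
    obtain ⟨⟨k, v⟩, e⟩ := F.ker_el hX
    refine Subtype.ext ?_
    rw [SubmonoidClass.coe_pow, e, kq, ← map_pow, OneMemClass.coe_one]
    refine F.pr_one.mpr ?_
    rw [SubmonoidClass.coe_pow]
    show (D.zz k * D.q ((0, 0), v)) ^ 3 ∈ F.P
    rw [D.Q_cube (mul_mem (D.zz_mem _) (D.q_mem _))]; exact one_mem _
  kerA := by
    refine F.piHom_eq (x := F.zC) rfl (p := 1) ?_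
    have := (acts_zz (D := D) 1).ma
    rwa [D.zz_one] at this
  kerCent := fun X hX h => by
    obtain ⟨⟨k, v⟩, e⟩ := F.ker_el hX
    suffices hv : v = 0 by
      rw [e, hv, F.kq_zero]; exact Subgroup.pow_mem _ (Subgroup.mem_zpowers _) _
    refine v2_nondeg v fun w => ?_
    obtain ⟨Y, eY, hY⟩ := F.kq_ker (0, w)
    have h1 : F.kq (om ((0, 0), v) ((0, 0), w), 0) = F.kq (0, 0) := by
      rw [← F.kq_comm (k, v) (0, w), ← e, ← eY, ← Subgroup.coe_mul, ← Subgroup.coe_inv, ← Subgroup.coe_inv,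
        ← Subgroup.coe_mul, ← Subgroup.coe_mul, h Y hY, mul_inv_cancel_right, mul_inv_cancel, Subgroup.coe_one,
        F.kq_zero, ZMod.val_zero, pow_zero]
    exact congrArg Prod.fst (F.kq_inj h1)
  kerComm := fun X Y hX hY => by
    obtain ⟨a, ea⟩ := F.ker_el hX
    obtain ⟨b, eb⟩ := F.ker_el hY
    rw [Subgroup.coe_mul, Subgroup.coe_mul, Subgroup.coe_mul, Subgroup.coe_inv, Subgroup.coe_inv, ea, eb,
      F.kq_comm, F.kq_zero]
    exact Subgroup.pow_mem _ (Subgroup.mem_zpowers _) _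
  J := F.Jq
  J_comm := by
    rintro _ ⟨x, hx, rfl⟩ _ ⟨y, hy, rfl⟩
    rw [← map_mul, ← map_mul]
    exact congrArg F.pr (Subtype.ext (F.U_comm hx hy).eq)
  J_exp := by
    rintro _ ⟨x, hx, rfl⟩
    rw [← map_pow]
    exact F.pr_one.mpr (by rw [SubmonoidClass.coe_pow, F.U_cube (show (x : G) ∈ F.U from hx)]; exact one_mem _)
  J_card := F.card_Jq
  J_le := by
    rintro _ ⟨x, hx, rfl⟩
    exact Subgroup.mem_centralizer_singleton_iff.mpr (F.zb_comm x (F.U_z hx)).eq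
  sig := F.sig_Fq

end Setting.Base

end CfsgLib.U6Three
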