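import Cfsg.Agent.Lib.U6Three.KModel

/-!
The scalar rotation on the coordinates and the finite facts about unit vectors used to count planes.
-/

set_option autoImplicit false
set_option synthInstance.maxSize 1024

namespace CfsgLib.U6Three

/-- A vector supported on one component. -/
def emb : Option (ZMod 3) → K4 → Vec
  | none, a => (a, 0, 0, 0)
  | some b, a => vmk 0 fun c => if c = b then a else 0

/-- The simultaneous rotation of the four components. -/
def sg (v : Vec) : Vec := vmk (rotn 1 v.1) fun b => rotn 1 (vb v b)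

/-- The rotation induced by the central element. -/
def zA (v : Vec) : Vec := vmk v.1 fun b => rotn (-1) (vb v b)

/-- The rotation induced by the second vector. -/
def aA (v : Vec) : Vec := vmk v.1 fun b => rotn (-b) (vb v b)

theorem emb_add : ∀ (i : Option (ZMod 3)) (a b : K4), emb i (a + b) = emb i a + emb i b := by decide +kernel

theorem emb_inj : ∀ (i j : Option (ZMod 3)) (a b : K4), a ≠ 0 → emb i a = emb j b → i = j ∧ a = b := by decide +kernel

theorem emb_split : ∀ v : Vec,
    v = emb none v.1 + emb (some 0) (vb v 0) + emb (some 1) (vb v 1) + emb (some 2) (vb v 2) := by decide +kernel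

theorem sg_emb : ∀ (i : Option (ZMod 3)) (a : K4), sg (emb i a) = emb i (rotn 1 a) := by decide +kernel

theorem sg_add (v w : Vec) : sg (v + w) = sg v + sg w := by
  refine vb_ext (rotn_facts.2.1 1 v.1 w.1) fun b => ?_
  simp only [sg, vb_add, vb_vmk, rotn_facts.2.1]

theorem sg_cube : ∀ v : Vec, sg (sg (sg v)) = v := by decide +kernel

theorem sg_qv : ∀ v : Vec, qv (sg v) = qv v := by decide +kernel

theorem sg_decomp : ∀ v : Vec, sg v = emb none (rotn 1 v.1) + zA (zA (v + emb none v.1)) := by decide +kernel

theorem sg_zA : ∀ v : Vec, zA (sg v) = sg (zA v) := by decide +kernel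

theorem W_of_zA : ∀ v : Vec, (zA v + v).1 = 0 := by decide +kernel

theorem W_as_zA : ∀ v : Vec, v.1 = 0 → v = zA (zA v) + zA v := by decide +kernel

theorem W_orth : ∀ v : Vec, v.1 = 0 ↔ ∀ a : K4, bv (emb none a) v = 0 := by decide +kernel

theorem zA_W : ∀ v : Vec, v.1 = 0 → zA v = sg (sg v) := by decide +kernel

theorem zA_R : ∀ a : K4, zA (emb none a) = emb none a := by decide +kernel

theorem bv_emb : ∀ (i : Option (ZMod 3)) (a b : K4), bv (emb i a) (emb i b) = cf a b ∧ qv (emb i a) = nz a := by
  decide +kernel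

theorem bv_emb_ne : ∀ (i j : Option (ZMod 3)) (a b : K4), i ≠ j → bv (emb i a) (emb j b) = 0 := by decide +kernel

/-- A unit orthogonal to the first two components lies on one of the others. -/
theorem unit_rest : ∀ u : Vec, qv u = 1 → u.1 = 0 → vb u 0 = 0 → ∃ b : ZMod 3, b ≠ 0 ∧ u = emb (some b) (vb u b) := by
  decide +kernel

theorem orth_zero : ∀ u : Vec, vb u 0 = 0 ↔ bv (emb (some 0) (1, 0)) u = 0 ∧ bv (emb (some 0) (0, 1)) u = 0 := by
  decide +kernel

theorem K4_basis : ∀ a : K4, a = 0 ∨ a = (1, 0) ∨ a = (0, 1) ∨ a = (1, 0) + (0, 1) := by decide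

/-- The linear map of a component with given images of the basis. -/
def lin4 (u v a : K4) : K4 := (if a.1 = 1 then u else 0) + (if a.2 = 1 then v else 0)

theorem lin4_eq {f : K4 → K4} (hf : ∀ a b, f (a + b) = f a + f b) (a : K4) : f a = lin4 (f (1, 0)) (f (0, 1)) a := by
  have h0 : f 0 = 0 := by have := hf 0 0; rwa [add_zero, left_eq_add] at this
  rcases K4_basis a with rfl | rfl | rfl | rfl
  · simp [lin4, h0]
  · simp [lin4]
  · simp [lin4]
  · rw [hf]; simp [lin4]

/-- An additive bijection of a component commutes or anticommutes with the rotation. -/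
theorem lin4_semi : ∀ u v : K4, u ≠ 0 → v ≠ 0 → u ≠ v →
    (∀ a, lin4 u v (rotn 1 a) = rotn 1 (lin4 u v a)) ∨ (∀ a, lin4 u v (rotn 1 a) = rotn 2 (lin4 u v a)) := by
  decide +kernel

/-- The planes fixed by the central element. -/
theorem zA_plane : ∀ u : Vec, qv u = 1 → ∀ i : ZMod 3,
    zA u = (if i = 0 then u else if i = 1 then sg u else sg (sg u)) → u.1 = 0 ∨ u = emb none u.1 := by decide +kernel

/-- The planes fixed by the second vector. -/
theorem aA_plane : ∀ u : Vec, qv u = 1 → ∀ i : ZMod 3,
    aA u = (if i = 0 then u else if i = 1 then sg u else sg (sg u)) → u.1 = 0 ∨ u = emb none u.1 := by decide +kernel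

end CfsgLib.U6Three
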