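import Cfsg.Agent.Lib.U6Three.Model
import Mathlib.GroupTheory.Sylow

/-!
The setting: an element of order three whose centraliser has a large extraspecial core in coordinates, with the
centraliser of the inverting involution acting by blocks.
-/

set_option autoImplicit false

namespace CfsgLib.U6Three

universe u

/-- The data. -/
structure Setting (G : Type u) [Group G] where
  /-- the central element -/
  z : G
  /-- the inverting involution -/
  t : G
  /-- the coordinates of the core -/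
  q : W4 → G
  z_cube : z ^ 3 = 1
  z_ne : z ≠ 1
  t_sq : t * t = 1
  t_z : Commute t z
  q_z : ∀ v, Commute (q v) z
  q_mul : ∀ v w, q v * q w = z ^ (-om v w).val * q (v + w)
  q_inj : ∀ (k : ZMod 3) (v : W4), z ^ k.val * q v = 1 → k = 0 ∧ v = 0
  t_q : ∀ v, t * q v * t = q (-v)
  decomp : ∀ h, Commute h z → ∃ u s, Commute s z ∧ Commute s t ∧ h = q u * s
  blocks : ∀ s, Commute s z → Commute s t → ∃ g : Pr,
    (∀ v, s * q v * s⁻¹ = q (appP g v)) ∨ ∀ v, s * q v * s⁻¹ = q (appP g (swapW v))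
  lift : ∀ g : Pr, g.1 * g.1 * (g.1 * g.1) = 1 → g.2 * g.2 * (g.2 * g.2) = 1 →
    ∃ s, Commute s z ∧ Commute s t ∧ ∀ v, s * q v * s⁻¹ = q (appP g v)
  self : ∀ x, (∀ v, Commute x (q v)) → ∃ k : ZMod 3, x = z ^ k.val
  wc : ∀ g (k : ZMod 3) (v : W4), g * z * g⁻¹ = z ^ k.val * q v → v = 0
  nwc : ∃ g, Commute (g * z * g⁻¹) z ∧ ∀ (k : ZMod 3) (v : W4), g * z * g⁻¹ ≠ z ^ k.val * q v

namespace Setting

variable {G : Type u} [Group G] (D : Setting G)

/-- A power of the central element. -/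
def zz (k : ZMod 3) : G := D.z ^ k.val

theorem zz_zero : D.zz 0 = 1 := by simp [zz]

theorem zz_one : D.zz 1 = D.z := by rw [zz, show (1 : ZMod 3).val = 1 from rfl, pow_one]

theorem zz_add (a b : ZMod 3) : D.zz (a + b) = D.zz a * D.zz b := by
  rw [zz, zz, zz, ← pow_add, ZMod.val_add, ← pow_eq_pow_mod _ D.z_cube]

theorem zz_neg (a : ZMod 3) : D.zz (-a) = (D.zz a)⁻¹ :=
  eq_inv_of_mul_eq_one_left (by rw [← zz_add, neg_add_cancel, zz_zero])

theorem zz_nat (n : ℕ) : D.z ^ n = D.zz n := by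
  rw [zz, ZMod.val_natCast, ← pow_eq_pow_mod _ D.z_cube]

theorem zz_q (k : ZMod 3) (v : W4) : Commute (D.zz k) (D.q v) := ((D.q_z v).symm).pow_left _

theorem zz_comm {h : G} (hh : Commute h D.z) (k : ZMod 3) : Commute h (D.zz k) := hh.pow_right _

theorem q_mul' (v w : W4) : D.q v * D.q w = D.zz (-om v w) * D.q (v + w) := D.q_mul v w

theorem q_zero : D.q 0 = 1 := by
  have h := D.q_mul' 0 0
  rw [show om (0 : W4) 0 = 0 from om_self 0, neg_zero, zz_zero, one_mul, add_zero] at h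
  exact mul_left_cancel (h.trans (mul_one _).symm)

theorem q_inv (v : W4) : (D.q v)⁻¹ = D.q (-v) :=
  inv_eq_of_mul_eq_one_right (by
    rw [q_mul', om_neg_right, om_self, neg_zero, neg_zero, zz_zero, one_mul, add_neg_cancel, q_zero])

theorem el_inj {k l : ZMod 3} {v w : W4} (h : D.zz k * D.q v = D.zz l * D.q w) : k = l ∧ v = w := by
  have e : D.zz (k - l - -om (-w) v + 0) * D.q (-w + v) = 1 := by
    calc D.zz (k - l - -om (-w) v + 0) * D.q (-w + v) = D.zz (k + -l) * (D.zz (om (-w) v) * D.q (-w + v)) := by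
          rw [← mul_assoc, ← zz_add]; congr 2; ring
      _ = D.zz k * D.zz (-l) * (D.zz (- -om (-w) v) * D.q (-w + v)) := by rw [zz_add, neg_neg]
      _ = (D.zz l)⁻¹ * ((D.zz k * D.q v) * (D.q w)⁻¹) := by
          rw [zz_neg D l, neg_neg]
          have e2 : D.zz (om (-w) v) * D.q (-w + v) = D.q v * (D.q w)⁻¹ := by
            rw [q_inv, q_mul', om_neg_right, neg_neg, om_neg_left, om_swap v w, neg_neg, add_comm]
          rw [e2]
          have hc : Commute (D.zz k) (D.zz l)⁻¹ := ((Commute.refl D.z).pow_pow _ _).inv_right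
          rw [hc.eq]
          group
      _ = 1 := by rw [h]; group
  obtain ⟨h1, h2⟩ := D.q_inj _ _ e
  have hv : v = w := by
    have := congrArg (fun x => w + x) h2
    simpa [← add_assoc] using this
  subst hv
  rw [om_neg_left, om_self, neg_zero, neg_zero, sub_zero, add_zero] at h1
  exact ⟨sub_eq_zero.mp h1, rfl⟩

theorem q_injective {v w : W4} (h : D.q v = D.q w) : v = w :=
  (D.el_inj (k := 0) (l := 0) (by rw [h])).2

theorem zz_inj {k l : ZMod 3} (h : D.zz k = D.zz l) : k = l :=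
  (D.el_inj (v := 0) (w := 0) (by rw [h])).1

theorem q_conj (w v : W4) : D.q w * D.q v * (D.q w)⁻¹ = D.zz (om w v) * D.q v := by
  rw [q_mul', q_inv, mul_assoc, q_mul', ← mul_assoc, ← zz_add, add_neg_cancel_comm]
  congr 2
  rw [om_add_left, om_neg_right, om_neg_right, om_self, om_swap v w]
  simp only [neg_neg, neg_add_rev, add_zero, neg_zero, zero_add]
  exact (by decide : ∀ x : ZMod 3, x + x = -x) _

theorem q_comm {v w : W4} : Commute (D.q w) (D.q v) ↔ om w v = 0 := by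
  constructor
  · intro h
    have e := D.q_conj w v
    rw [h.eq, mul_inv_cancel_right] at e
    exact ((D.el_inj (k := 0) (by rw [zz_zero, one_mul]; exact e)).1).symm
  · intro h
    have e := D.q_conj w v
    rw [h, zz_zero, one_mul, mul_inv_eq_iff_eq_mul] at e
    exact e

theorem q_cube (v : W4) : D.q v ^ 3 = 1 := by
  rw [pow_succ, pow_two, q_mul', om_self, neg_zero, zz_zero, one_mul, q_mul', om_add_left, om_self, add_zero,
    neg_zero, zz_zero, one_mul, W4_three, q_zero]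

/-- The core. -/
def Q : Subgroup G where
  carrier := {x | ∃ k v, x = D.zz k * D.q v}
  one_mem' := ⟨0, 0, by rw [zz_zero, q_zero, one_mul]⟩
  mul_mem' := by
    rintro _ _ ⟨k, v, rfl⟩ ⟨l, w, rfl⟩
    refine ⟨k + l + -om v w, v + w, ?_⟩
    calc D.zz k * D.q v * (D.zz l * D.q w) = D.zz k * (D.q v * D.zz l) * D.q w := by group
      _ = D.zz k * D.zz l * (D.q v * D.q w) := by rw [← (D.zz_q l v).eq]; group
      _ = _ := by rw [q_mul', ← zz_add, ← mul_assoc, ← zz_add]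
  inv_mem' := by
    rintro _ ⟨k, v, rfl⟩
    refine ⟨-k, -v, ?_⟩
    rw [mul_inv_rev, q_inv, ← zz_neg, (D.zz_q (-k) (-v)).eq]

theorem mem_Q {x : G} : x ∈ D.Q ↔ ∃ k v, x = D.zz k * D.q v := Iff.rfl

theorem q_mem (v : W4) : D.q v ∈ D.Q := ⟨0, v, by rw [zz_zero, one_mul]⟩

theorem zz_mem (k : ZMod 3) : D.zz k ∈ D.Q := ⟨k, 0, by rw [q_zero, mul_one]⟩

theorem Q_z {x : G} (h : x ∈ D.Q) : Commute x D.z := by
  obtain ⟨k, v, rfl⟩ := h
  exact ((Commute.refl D.z).pow_left _).mul_left (D.q_z v)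

theorem Q_cube {x : G} (h : x ∈ D.Q) : x ^ 3 = 1 := by
  obtain ⟨k, v, rfl⟩ := h
  rw [(D.zz_q k v).mul_pow, D.q_cube, mul_one, zz, ← pow_mul, mul_comm, pow_mul, D.z_cube, one_pow]

/-- The elements commuting with the central element and the involution. -/
structure IsLevi (s : G) : Prop where
  cz : Commute s D.z
  ct : Commute s D.t

theorem IsLevi.mul {s s' : G} (h : D.IsLevi s) (h' : D.IsLevi s') : D.IsLevi (s * s') :=
  ⟨h.cz.mul_left h'.cz, h.ct.mul_left h'.ct⟩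

theorem IsLevi.inv {s : G} (h : D.IsLevi s) : D.IsLevi s⁻¹ := ⟨h.cz.inv_left, h.ct.inv_left⟩

theorem isLevi_one : D.IsLevi 1 := ⟨Commute.one_left _, Commute.one_left _⟩

theorem isLevi_zz (k : ZMod 3) : D.IsLevi (D.zz k) :=
  ⟨(Commute.refl D.z).pow_left _, (D.t_z.symm).pow_left _⟩

/-- Acting blockwise by a pair. -/
def Acts (s : G) (g : Pr) : Prop := D.IsLevi s ∧ ∀ v, s * D.q v * s⁻¹ = D.q (appP g v)

/-- Acting with the blocks exchanged. -/
def Swaps (s : G) (g : Pr) : Prop := D.IsLevi s ∧ ∀ v, s * D.q v * s⁻¹ = D.q (appP g (swapW v))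

theorem levi_cases {s : G} (h : D.IsLevi s) : ∃ g, D.Acts s g ∨ D.Swaps s g := by
  obtain ⟨g, hg | hg⟩ := D.blocks s h.cz h.ct
  exacts [⟨g, Or.inl ⟨h, hg⟩⟩, ⟨g, Or.inr ⟨h, hg⟩⟩]

theorem acts_lift (g : Pr) (h1 : g.1 * g.1 * (g.1 * g.1) = 1) (h2 : g.2 * g.2 * (g.2 * g.2) = 1) :
    ∃ s, D.Acts s g := by
  obtain ⟨s, a, b, c⟩ := D.lift g h1 h2
  exact ⟨s, ⟨a, b⟩, c⟩

variable {D}

theorem Acts.unique {s : G} {g g' : Pr} (h : D.Acts s g) (h' : D.Acts s g') : g = g' :=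
  appP_inj fun v => D.q_injective ((h.2 v).symm.trans (h'.2 v))

theorem Acts.mul {s s' : G} {g g' : Pr} (h : D.Acts s g) (h' : D.Acts s' g') : D.Acts (s * s') (g * g') :=
  ⟨h.1.mul D h'.1, fun v => by
    rw [show s * s' * D.q v * (s * s')⁻¹ = s * (s' * D.q v * s'⁻¹) * s⁻¹ by group, h'.2, h.2, appP_mul]⟩

theorem Acts.inv {s : G} {g : Pr} (h : D.Acts s g) : D.Acts s⁻¹ g⁻¹ :=
  ⟨h.1.inv D, fun v => by
    have e := h.2 (appP g⁻¹ v)
    rw [← appP_mul, mul_inv_cancel, appP_one] at e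
    rw [← e]; group⟩

theorem acts_one : D.Acts 1 1 := ⟨D.isLevi_one, fun v => by simp [appP_one]⟩

theorem acts_zz (k : ZMod 3) : D.Acts (D.zz k) 1 :=
  ⟨D.isLevi_zz k, fun v => by rw [(D.zz_q k v).eq, appP_one, mul_inv_cancel_right]⟩

theorem Acts.conj {s r : G} {g p : Pr} (h : D.Acts s g) (hr : D.Acts r p) :
    D.Acts (r * s * r⁻¹) (p * g * p⁻¹) := (hr.mul h).mul hr.inv

theorem Acts.trivial {s : G} (h : D.Acts s 1) : ∃ k, s = D.zz k :=
  D.self s fun v => by
    have e := h.2 v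
    rwa [appP_one, mul_inv_eq_iff_eq_mul] at e

theorem Acts.not_swaps {s : G} {g g' : Pr} (h : D.Acts s g) (h' : D.Swaps s g') : False := by
  have e1 : ∀ v, appP g v = appP g' (swapW v) := fun v => D.q_injective ((h.2 v).symm.trans (h'.2 v))
  have h1 := congrArg Prod.snd (e1 ea1)
  have h2 : app2 g.2 (0, 0) = app2 g'.2 (1, 0) := h1
  have h0 : ∀ a b : SL23, app2 a (0, 0) ≠ app2 b (1, 0) := by decide +kernel
  exact h0 _ _ h2

theorem Swaps.mul_swaps {s s' : G} {g g' : Pr} (h : D.Swaps s g) (h' : D.Swaps s' g') :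
    D.Acts (s * s') (g * (g'.2, g'.1)) :=
  ⟨h.1.mul D h'.1, fun v => by
    rw [show s * s' * D.q v * (s * s')⁻¹ = s * (s' * D.q v * s'⁻¹) * s⁻¹ by group, h'.2, h.2, appP_mul,
      swapW_appP, swapW_swapW]⟩

theorem Acts.mul_swaps {s s' : G} {g g' : Pr} (h : D.Acts s g) (h' : D.Swaps s' g') :
    D.Swaps (s * s') (g * g') :=
  ⟨h.1.mul D h'.1, fun v => by
    rw [show s * s' * D.q v * (s * s')⁻¹ = s * (s' * D.q v * s'⁻¹) * s⁻¹ by group, h'.2, h.2, appP_mul]⟩

variable (D)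

/-- A general element of the centraliser of the central element. -/
theorem cases_H {h : G} (hh : Commute h D.z) :
    ∃ u s g, h = D.q u * s ∧ (D.Acts s g ∨ D.Swaps s g) := by
  obtain ⟨u, s, hs, hst, e⟩ := D.decomp h hh
  obtain ⟨g, hg⟩ := D.levi_cases ⟨hs, hst⟩
  exact ⟨u, s, g, e, hg⟩

theorem t_acts : D.Acts D.t (-1, -1) :=
  ⟨⟨D.t_z, Commute.refl _⟩, fun v => by
    rw [inv_eq_of_mul_eq_one_right D.t_sq, D.t_q]
    congr 1
    exact (by decide +kernel : ∀ w : W4, -w = appP (-1, -1) w) v⟩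

theorem conj_zz {h : G} (hh : Commute h D.z) (k : ZMod 3) : h * D.zz k * h⁻¹ = D.zz k := by
  rw [(D.zz_comm hh k).eq, mul_inv_cancel_right]

theorem conj_Q {h : G} (hh : Commute h D.z) {x : G} (hx : x ∈ D.Q) : h * x * h⁻¹ ∈ D.Q := by
  obtain ⟨k, v, rfl⟩ := hx
  obtain ⟨u, s, g, rfl, hg⟩ := D.cases_H hh
  have key : ∀ w, s * D.q v * s⁻¹ = D.q w → D.q u * s * (D.zz k * D.q v) * (D.q u * s)⁻¹ ∈ D.Q := by
    intro w e
    rw [show D.q u * s * (D.zz k * D.q v) * (D.q u * s)⁻¹ =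
      (D.q u * s * D.zz k * (D.q u * s)⁻¹) * (D.q u * (s * D.q v * s⁻¹) * (D.q u)⁻¹) by group, D.conj_zz hh, e,
      q_conj]
    exact mul_mem (D.zz_mem _) (mul_mem (D.zz_mem _) (D.q_mem _))
  rcases hg with hg | hg <;> exact key _ (hg.2 v)

/-- The setting with the blocks exchanged. -/
def swap : Setting G :=
  { D with
    q := fun v => D.q (swapW v)
    q_z := fun v => D.q_z _
    q_mul := fun v w => by rw [swapW_add, ← swapW_om v w]; exact D.q_mul _ _
    q_inj := fun k v h => ⟨(D.q_inj k _ h).1, by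
      have := congrArg swapW (D.q_inj k _ h).2
      exact this⟩
    t_q := fun v => D.t_q (swapW v)
    decomp := fun h hh => by
      obtain ⟨u, s, a, b, e⟩ := D.decomp h hh
      exact ⟨swapW u, s, a, b, e⟩
    blocks := fun s a b => by
      obtain ⟨g, hg | hg⟩ := D.blocks s a b
      · exact ⟨(g.2, g.1), Or.inl fun v => (hg (swapW v)).trans (congrArg D.q (swapW_appP (g.2, g.1) v).symm)⟩
      · exact ⟨(g.2, g.1), Or.inr fun v => (hg (swapW v)).trans
          (congrArg D.q (swapW_appP (g.2, g.1) (swapW v)).symm)⟩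
    lift := fun g h1 h2 => by
      obtain ⟨s, a, b, c⟩ := D.lift (g.2, g.1) h2 h1
      exact ⟨s, a, b, fun v => (c (swapW v)).trans (congrArg D.q (swapW_appP g v).symm)⟩
    self := fun x hx => D.self x fun v => hx (swapW v)
    wc := fun g k v h => congrArg swapW (D.wc g k _ h)
    nwc := by
      obtain ⟨g, hg, hn⟩ := D.nwc
      exact ⟨g, hg, fun k v => hn k _⟩ }

theorem swap_Q : D.swap.Q = D.Q := by
  ext x
  exact ⟨fun ⟨k, v, e⟩ => ⟨k, swapW v, e⟩, fun ⟨k, v, e⟩ => ⟨k, swapW v, e⟩⟩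

end Setting

end CfsgLib.U6Three
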