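import Cfsg.Agent.Lib.U6Three.NFusion
import Cfsg.Agent.Lib.U6Three.SModel

/-!
The action of the normaliser on the coordinates and the stabiliser of the scalar rotation.
-/

set_option autoImplicit false
set_option linter.style.haveILetI false

namespace CfsgLib.U6Three

universe u

theorem split_R1 : ∀ v : Vec, ∃ (a : K4) (w : Vec), w.1 = 0 ∧ v = emb none a + w := by
  intro v
  exact ⟨v.1, v + emb none v.1, (by decide +kernel : ∀ v : Vec, (v + emb none v.1).1 = 0) v,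
    (by decide +kernel : ∀ v : Vec, v = emb none v.1 + (v + emb none v.1)) v⟩

theorem zA_add (v w : Vec) : zA (v + w) = zA v + zA w := by
  refine vb_ext rfl fun c => ?_
  simp only [zA, vb_add, vb_vmk, rotn_facts.2.1]

theorem zA_cube : ∀ v : Vec, zA (zA (zA v)) = v := by decide +kernel

theorem sl_mU_inv : ∀ A : SL23, A * mU * A⁻¹ ≠ mU⁻¹ := by decide +kernel

theorem emb_none_vmk : ∀ a : K4, emb none a = vmk a (fun _ => 0) := by decide +kernel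

theorem rot_one : ∀ a : K4, rotn 1 a = rot a := by decide +kernel

theorem conj_odd {G : Type u} [Group G] {x w : G} {m : ℕ} (hx : x ^ 3 ^ m = 1) (h : x * w * x⁻¹ = w⁻¹) : w⁻¹ = w := by
  obtain ⟨r, hr⟩ : Odd (3 ^ m) := (by decide : Odd 3).pow
  have h2 : Commute (x ^ (2 * r)) w := by
    rw [pow_mul]
    refine Commute.pow_left (mul_inv_eq_iff_eq_mul.mp ?_) r
    calc x ^ 2 * w * (x ^ 2)⁻¹ = x * (x * w * x⁻¹) * x⁻¹ := by rw [pow_two]; group
      _ = w := by rw [h, ← conj_inv, h, inv_inv]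
  calc w⁻¹ = x ^ (2 * r) * w⁻¹ * (x ^ (2 * r))⁻¹ := by rw [h2.inv_right.eq, mul_inv_cancel_right]
    _ = x ^ (2 * r + 1) * w * (x ^ (2 * r + 1))⁻¹ := by rw [← h, pow_succ]; group
    _ = w := by rw [← hr, hx]; group

namespace Setting.Base

variable {G : Type u} [Group G] {D : Setting G} (F : D.Base) [Finite G]

/-- A representative with given coordinates. -/
noncomputable def sec (v : Vec) : G := (F.kap_surj v).choose

theorem sec_mem (v : Vec) : F.sec v ∈ F.K := (F.kap_surj v).choose_spec.1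

theorem kap_sec (v : Vec) : F.kap (F.sec v) = v := (F.kap_surj v).choose_spec.2

/-- The action of the normaliser on the coordinates. -/
noncomputable def na (g : G) (v : Vec) : Vec := F.kap (g * F.sec v * g⁻¹)

theorem N_conj_K {g : G} (hg : g ∈ F.N) {x : G} (hx : x ∈ F.K) : g * x * g⁻¹ ∈ F.K := (hg.2 x).mp hx

theorem kap_congr {x y : G} (hx : x ∈ F.K) (hy : y ∈ F.K) : F.kap x = F.kap y ↔ x⁻¹ * y ∈ Ic (D := D) := by
  rw [← F.kap_zero (mul_mem (inv_mem hx) hy), F.kap_mul (inv_mem hx) hy, F.kap_inv hx]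
  refine ⟨fun h => by rw [h, vec_two], fun h => ?_⟩
  calc F.kap x = F.kap x + (F.kap x + F.kap y) := by rw [h, add_zero]
    _ = F.kap y := by rw [← add_assoc, vec_two, zero_add]

theorem na_kap {g : G} (hg : g ∈ F.N) {x : G} (hx : x ∈ F.K) : F.na g (F.kap x) = F.kap (g * x * g⁻¹) := by
  refine (F.kap_congr (F.N_conj_K hg (F.sec_mem _)) (F.N_conj_K hg hx)).mpr ?_
  have h := (F.kap_congr (F.sec_mem _) hx).mp (F.kap_sec (F.kap x))
  rw [show (g * F.sec (F.kap x) * g⁻¹)⁻¹ * (g * x * g⁻¹) = g * ((F.sec (F.kap x))⁻¹ * x) * g⁻¹ by group]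
  rcases mem_Ic.mp h with e | e <;> rw [e]
  · rw [mul_one, mul_inv_cancel]; exact one_mem _
  · rw [(mem_Mi.mp hg.1).eq, mul_inv_cancel_right]; exact Subgroup.mem_zpowers _

theorem na_mul {g h : G} (hg : g ∈ F.N) (hh : h ∈ F.N) (v : Vec) : F.na (g * h) v = F.na g (F.na h v) := by
  obtain ⟨x, hx, rfl⟩ := F.kap_surj v
  rw [F.na_kap (mul_mem hg hh) hx, F.na_kap hh hx, F.na_kap hg (F.N_conj_K hh hx)]
  congr 1
  group

theorem na_one (v : Vec) : F.na 1 v = v := by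
  obtain ⟨x, hx, rfl⟩ := F.kap_surj v
  rw [F.na_kap (one_mem _) hx, one_mul, inv_one, mul_one]

theorem na_inv_cancel {g : G} (hg : g ∈ F.N) (v : Vec) : F.na g⁻¹ (F.na g v) = v := by
  rw [← F.na_mul (inv_mem hg) hg, inv_mul_cancel, F.na_one]

theorem na_cancel_inv {g : G} (hg : g ∈ F.N) (v : Vec) : F.na g (F.na g⁻¹ v) = v := by
  rw [← F.na_mul hg (inv_mem hg), mul_inv_cancel, F.na_one]

theorem na_inj {g : G} (hg : g ∈ F.N) : Function.Injective (F.na g) := fun a b h => by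
  rw [← F.na_inv_cancel hg a, h, F.na_inv_cancel hg]

theorem na_add {g : G} (hg : g ∈ F.N) (v w : Vec) : F.na g (v + w) = F.na g v + F.na g w := by
  obtain ⟨x, hx, rfl⟩ := F.kap_surj v
  obtain ⟨y, hy, rfl⟩ := F.kap_surj w
  rw [← F.kap_mul hx hy, F.na_kap hg (mul_mem hx hy), F.na_kap hg hx, F.na_kap hg hy,
    ← F.kap_mul (F.N_conj_K hg hx) (F.N_conj_K hg hy)]
  congr 1
  group

theorem na_zero {g : G} (hg : g ∈ F.N) : F.na g 0 = 0 := by
  have := F.na_add hg 0 0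
  rwa [add_zero, left_eq_add] at this

theorem na_qv {g : G} (hg : g ∈ F.N) (v : Vec) : qv (F.na g v) = qv v := by
  obtain ⟨x, hx, rfl⟩ := F.kap_surj v
  rw [F.na_kap hg hx]
  refine ip_inj (D := D) ?_
  rw [← F.kap_sq (F.N_conj_K hg hx), show g * x * g⁻¹ * (g * x * g⁻¹) = g * (x * x) * g⁻¹ by group, F.kap_sq hx,
    (ip_comm (mem_Mi.mp hg.1) _).eq, mul_inv_cancel_right]

theorem na_bv {g : G} (hg : g ∈ F.N) (v w : Vec) : bv (F.na g v) (F.na g w) = bv v w := by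
  have h := F.na_qv hg (v + w)
  rw [F.na_add hg, qv_add, qv_add, F.na_qv hg, F.na_qv hg] at h
  exact add_left_cancel h

/-- Elements acting trivially are inner. -/
theorem K_of_na {g : G} (hg : g ∈ F.N) (h : ∀ v, F.na g v = v) : g ∈ F.K := by
  refine F.inner hg.1 fun x hx => ?_
  have h1 := (F.kap_congr (inv_mem hx) (inv_mem (F.N_conj_K hg hx))).mp (by
    rw [F.kap_inv hx, F.kap_inv (F.N_conj_K hg hx), ← F.na_kap hg hx, h])
  rw [inv_inv] at h1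
  rcases mem_Ic.mp h1 with e | e
  · have e2 : g * x * g⁻¹ = x := by rw [mul_inv_eq_one] at e; exact e.symm
    rw [e2, mul_inv_cancel]; exact one_mem _
  · have h2 : x * (g * x * g⁻¹)⁻¹ = D.i1 := e
    rw [show g * x * g⁻¹ * x⁻¹ = (x * (g * x * g⁻¹)⁻¹)⁻¹ by group, h2, D.i1_block.inv]
    exact Subgroup.mem_zpowers _

theorem na_K {k : G} (hk : k ∈ F.K) (v : Vec) : F.na k v = v := by
  obtain ⟨x, hx, rfl⟩ := F.kap_surj v
  rw [F.na_kap (F.K_le_N hk) hx, F.kap_mul (mul_mem hk hx) (inv_mem hk), F.kap_mul hk hx, F.kap_inv hk,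
    add_comm (F.kap k), add_assoc, vec_two, add_zero]

theorem na_jel (k l j : ZMod 3) (v : Vec) : F.na (F.jel (k, 0, l, j)) v =
    vmk (rotn j v.1) fun b => rotn (eb k l j b) (vb v b) := by
  obtain ⟨x, hx, rfl⟩ := F.kap_surj v
  rw [F.na_kap (F.UM_le_N (F.jel_mem_UM k l j)) hx, F.kap_jel hx]

theorem na_z (v : Vec) : F.na D.z v = zA v := by
  rw [← F.jel_z, F.na_jel]
  exact (by decide +kernel : ∀ v : Vec, (vmk (rotn 0 v.1) fun b => rotn (eb 1 0 0 b) (vb v b)) = zA v) v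

theorem na_a2 (v : Vec) : F.na (a2 D) v = aA v := by
  rw [show a2 D = F.jel (0, 0, 1, 0) from (F.jel_q 0 1).symm, F.na_jel]
  exact (by decide +kernel : ∀ v : Vec, (vmk (rotn 0 v.1) fun b => rotn (eb 0 1 0 b) (vb v b)) = aA v) v

theorem na_y_R1 (a : K4) : F.na F.y (emb none a) = emb none (rotn 1 a) := by
  rw [← F.jel_y, F.na_jel]
  exact (by decide +kernel : ∀ a : K4, (vmk (rotn 1 (emb none a).1) fun b => rotn (eb 0 0 1 b) (vb (emb none a) b)) =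
    emb none (rotn 1 a)) a

theorem R1_emb {r : G} (hr : r ∈ D.R1) : F.kap r = emb none (cR (D := D) r) := by
  rw [F.kap_R1 hr, emb_none_vmk]

theorem Rb_emb {b : ZMod 3} {x : G} (hx : x ∈ F.Rb b) : F.kap x = emb (some b) (F.cB b x) := by
  rw [F.kap_Rb hx, emb]

/-- Commuting with the scalar rotation. -/
def Lin (g : G) : Prop := ∀ v, F.na g (sg v) = sg (F.na g v)

/-- Anticommuting with the scalar rotation. -/
def Anti (g : G) : Prop := ∀ v, F.na g (sg v) = sg (sg (F.na g v))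

/-- Commutation on the components suffices. -/
theorem lin_of_emb {g : G} (hg : g ∈ F.N)
    (h : ∀ i, ∃ (i' : Option (ZMod 3)) (e : ZMod 3), ∀ a, F.na g (emb i a) = emb i' (rotn e a)) : F.Lin g := by
  have key : ∀ i a, F.na g (sg (emb i a)) = sg (F.na g (emb i a)) := by
    intro i a
    obtain ⟨i', e, he⟩ := h i
    rw [sg_emb, he, he, sg_emb, rotn_facts.2.2.2.2.1, rotn_facts.2.2.2.2.1, add_comm]
  intro v
  rw [emb_split v]
  simp only [sg_add, F.na_add hg, key]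

/-- Elements normalising the first component fix the moved part. -/
theorem na_W {g : G} (hg : g ∈ F.N) (hR : ∀ a, (F.na g⁻¹ (emb none a)) = emb none (F.na g⁻¹ (emb none a)).1)
    {v : Vec} (hv : v.1 = 0) : (F.na g v).1 = 0 := by
  rw [W_orth]
  intro a
  rw [← F.na_bv (inv_mem hg), F.na_inv_cancel hg, hR a]
  exact (W_orth v).mp hv _

theorem XR_na_R1 {g : G} (hg : g ∈ F.XR) (a : K4) : ∃ a', F.na g (emb none a) = emb none a' := by
  obtain ⟨r, hr, rfl⟩ := cR_surj (D := D) a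
  rw [← F.R1_emb hr, F.na_kap hg.1 (F.R1_le_K hr)]
  exact ⟨_, F.R1_emb ((hg.2 r).mp hr)⟩

theorem XR_na_W {g : G} (hg : g ∈ F.XR) {v : Vec} (hv : v.1 = 0) : (F.na g v).1 = 0 :=
  F.na_W hg.1 (fun a => by
    obtain ⟨a', ha⟩ := F.XR_na_R1 (inv_mem hg) a
    rw [ha]; rfl) hv

/-- The centraliser of the central element commutes with the scalar rotation. -/
theorem lin_cent_z {g : G} (hg : g ∈ Mi (D := D)) (hz : Commute g D.z) : F.Lin g := by
  have hgN := F.cent_z_le_N hg hz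
  have hzN : D.z ∈ F.N := F.UM_le_N F.z_mem_UM
  have hzA : ∀ v, F.na g (zA v) = zA (F.na g v) := fun v => by
    rw [← F.na_z, ← F.na_z, ← F.na_mul hgN hzN, ← F.na_mul hzN hgN, hz.eq]
  obtain ⟨v0, s, p, e, hs⟩ := cent_z_form hz (mem_Mi.mp hg)
  have hR : ∀ a, F.na g (emb none a) = emb none (rotn (th p.1) a) := fun a => by
    obtain ⟨r, hr, rfl⟩ := cR_surj (D := D) a
    rw [← F.R1_emb hr, F.na_kap hgN (F.R1_le_K hr), F.R1_emb (R1_normal hz (mem_Mi.mp hg) hr),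
      cR_conj hz (mem_Mi.mp hg) ⟨_, s, e, hs⟩ r hr]
  intro v
  rw [sg_decomp v, F.na_add hgN, hR, hzA, hzA, F.na_add hgN, hR, rotn_facts.2.2.2.2.1, add_comm (th p.1),
    ← rotn_facts.2.2.2.2.1]
  have h1 : rotn (th p.1) v.1 = (F.na g v).1 := by
    have hXR : g ∈ F.XR := F.C1_le_XR (F.cent_z_C1 hg hz)
    have h2 : (F.na g (v + emb none v.1)).1 = 0 :=
      F.XR_na_W hXR ((by decide +kernel : ∀ v : Vec, (v + emb none v.1).1 = 0) v)
    rw [F.na_add hgN, hR, Prod.fst_add] at h2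
    exact (by decide : ∀ a b : K4, a + b = 0 → b = a) _ _ h2
  rw [h1, ← sg_decomp]

theorem lin_mul {g h : G} (hg : g ∈ F.N) (hh : h ∈ F.N) (a : F.Lin g) (b : F.Lin h) : F.Lin (g * h) := fun v => by
  rw [F.na_mul hg hh, F.na_mul hg hh, b, a]

theorem lin_inv {g : G} (hg : g ∈ F.N) (a : F.Lin g) : F.Lin g⁻¹ := fun v => by
  refine F.na_inj hg ?_
  rw [F.na_cancel_inv hg, a, F.na_cancel_inv hg]

/-- The stabiliser of the scalar rotation up to inversion. -/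
def XS : Subgroup G where
  carrier := {g | g ∈ F.N ∧ (F.Lin g ∨ F.Anti g)}
  one_mem' := ⟨one_mem _, Or.inl fun v => by rw [F.na_one, F.na_one]⟩
  mul_mem' := fun {g h} hg hh => ⟨mul_mem hg.1 hh.1, by
    rcases hg.2 with a | a <;> rcases hh.2 with b | b
    · exact Or.inl (F.lin_mul hg.1 hh.1 a b)
    · exact Or.inr fun v => by rw [F.na_mul hg.1 hh.1, F.na_mul hg.1 hh.1, b, a, a]
    · exact Or.inr fun v => by rw [F.na_mul hg.1 hh.1, F.na_mul hg.1 hh.1, b, a]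
    · exact Or.inl fun v => by rw [F.na_mul hg.1 hh.1, F.na_mul hg.1 hh.1, b, a, a, sg_cube]⟩
  inv_mem' := fun {g} hg => ⟨inv_mem hg.1, by
    rcases hg.2 with a | a
    · exact Or.inl (F.lin_inv hg.1 a)
    · refine Or.inr fun v => F.na_inj hg.1 ?_
      rw [F.na_cancel_inv hg.1, a, a, F.na_cancel_inv hg.1, sg_cube]⟩

theorem mem_XS {g : G} : g ∈ F.XS ↔ g ∈ F.N ∧ (F.Lin g ∨ F.Anti g) := Iff.rfl

theorem XS_le_N : F.XS ≤ F.N := fun _ h => h.1

theorem K_le_XS : F.K ≤ F.XS := fun k hk => ⟨F.K_le_N hk, Or.inl fun v => by rw [F.na_K hk, F.na_K hk]⟩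

theorem cent_z_XS {g : G} (hg : g ∈ Mi (D := D)) (hz : Commute g D.z) : g ∈ F.XS :=
  ⟨F.cent_z_le_N hg hz, Or.inl (F.lin_cent_z hg hz)⟩

theorem τ_R1_emb (a : K4) : F.na F.τ (emb none a) = emb (some 0) a := by
  obtain ⟨r, hr, rfl⟩ := cR_surj (D := D) a
  have hm : F.τ * r * F.τ⁻¹ ∈ F.Rb 0 := F.mem_Rb.mpr ⟨r, hr, by rw [fr, trb_zero, one_mul]⟩
  rw [← F.R1_emb hr, F.na_kap F.τ_le_N (F.R1_le_K hr), F.Rb_emb hm, cB, fr, trb_zero, one_mul]
  congr 2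
  group

theorem cB_move {g : G} (hg : g ∈ Mi (D := D)) {b c : ZMod 3}
    (hz : Commute ((F.fr c)⁻¹ * g * F.fr b) D.z) : ∃ e, ∀ a, ∀ x ∈ F.Rb b, F.cB b x = a → g * x * g⁻¹ ∈ F.Rb c ∧
      F.cB c (g * x * g⁻¹) = rotn e a := by
  have hki : Commute ((F.fr c)⁻¹ * g * F.fr b) D.i1 :=
    mem_Mi.mp (mul_mem (mul_mem (inv_mem (F.fr_Mi c)) hg) (F.fr_Mi b))
  obtain ⟨v, s, p, e, hs⟩ := cent_z_form hz hki
  refine ⟨th p.1, ?_⟩
  rintro a x hx rfl
  have hp := F.pull_Rb hx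
  refine ⟨F.mem_Rb.mpr ⟨_, R1_normal hz hki hp, by group⟩, ?_⟩
  rw [cB, cB, ← cR_conj hz hki ⟨_, s, e, hs⟩ _ hp]
  congr 1
  group

theorem τ_XS : F.τ ∈ F.XS := by
  refine ⟨F.τ_le_N, Or.inl (F.lin_of_emb F.τ_le_N fun i => ?_)⟩
  have hτM : F.τ ∈ Mi (D := D) := F.τ_le_N.1
  rcases i with _ | b
  · exact ⟨some 0, 0, fun a => by rw [F.τ_R1_emb, rotn_facts.2.2.2.1]⟩
  by_cases hb : b = 0
  · subst hb
    have hz : Commute (F.τ * F.τ) D.z := by
      refine mul_inv_eq_iff_eq_mul.mp ?_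
      calc F.τ * F.τ * D.z * (F.τ * F.τ)⁻¹ = F.τ * (F.τ * D.z * F.τ⁻¹) * F.τ⁻¹ := by group
        _ = D.z := by rw [F.τ_conj_z, ← conj_inv, F.τ_conj_y, inv_inv]
    obtain ⟨v, s, p, e, hs⟩ := cent_z_form hz (mem_Mi.mp (mul_mem hτM hτM))
    refine ⟨none, th p.1, fun a => ?_⟩
    obtain ⟨r, hr, rfl⟩ := cR_surj (D := D) a
    rw [← F.τ_R1_emb, ← F.na_mul F.τ_le_N F.τ_le_N, ← F.R1_emb hr, F.na_kap (mul_mem F.τ_le_N F.τ_le_N) (F.R1_le_K hr),
      F.R1_emb (R1_normal hz (mem_Mi.mp (mul_mem hτM hτM)) hr),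
      cR_conj hz (mem_Mi.mp (mul_mem hτM hτM)) ⟨_, s, e, hs⟩ r hr]
  · have hfix : F.τ * F.jel (-(b * b), 0, -b, 1) * F.τ⁻¹ = F.jel (-(b * b), 0, -b, 1) := by
      rw [F.τ_flip.act]
      refine congrArg F.jel (Prod.ext ?_ (Prod.ext rfl (Prod.ext rfl ?_)))
      · exact ((by decide : ∀ b : ZMod 3, b ≠ 0 → (-1 : ZMod 3) = -(b * b)) b hb)
      · exact ((by decide : ∀ b : ZMod 3, b ≠ 0 → -(-(b * b)) = (1 : ZMod 3)) b hb)
    have hz : Commute ((F.fr b)⁻¹ * F.τ * F.fr b) D.z := by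
      have h1 : Commute F.τ ((F.fr b * D.z * (F.fr b)⁻¹)) := by
        rw [F.fr_z]
        exact Commute.inv_right (mul_inv_eq_iff_eq_mul.mp hfix : Commute F.τ _)
      have := conj_comm' (F.fr b) h1
      rwa [show (F.fr b)⁻¹ * (F.fr b * D.z * (F.fr b)⁻¹) * F.fr b = D.z by group] at this
    obtain ⟨e, he⟩ := F.cB_move hτM hz
    refine ⟨some b, e, fun a => ?_⟩
    obtain ⟨x, hx, rfl⟩ := F.cB_surj b a
    obtain ⟨h1, h2⟩ := he _ x hx rfl
    rw [← F.Rb_emb hx, F.na_kap F.τ_le_N (F.Rb_le_K b hx), F.Rb_emb h1, h2]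

/-- An element inverting the central element inverts the rotation. -/
theorem anti_of_inv {g : G} (hg : g ∈ Mi (D := D)) (hz : g * D.z * g⁻¹ = D.z⁻¹)
    (hy : g * F.y * g⁻¹ = F.y⁻¹) : F.Anti g := by
  have hgN : g ∈ F.N := F.NZ_le_N ⟨hg, Or.inr hz⟩
  have hXR : g ∈ F.XR := F.C1_le_XR (Subgroup.mem_sup_left ⟨hg, Or.inr hz⟩)
  have hzN : D.z ∈ F.N := F.UM_le_N F.z_mem_UM
  have hyN : F.y ∈ F.N := F.UM_le_N F.y_mem_UM
  have hinv : ∀ {w : G}, w ∈ F.N → g * w * g⁻¹ = w⁻¹ → ∀ v, F.na g (F.na w v) = F.na w⁻¹ (F.na g v) :=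
    fun {w} hw h v => by
      rw [← F.na_mul hgN hw, ← F.na_mul (inv_mem hw) hgN, ← h]
      congr 1
      group
  have hR : ∀ a, F.na g (emb none (rotn 1 a)) = sg (sg (F.na g (emb none a))) := fun a => by
    obtain ⟨a', ha⟩ := F.XR_na_R1 hXR a
    rw [← F.na_y_R1, hinv hyN hy, ha, sg_emb, sg_emb]
    refine F.na_inj hyN ?_
    rw [F.na_cancel_inv hyN, F.na_y_R1, rotn_facts.2.2.2.2.1, rotn_facts.2.2.2.2.1,
      show (1 : ZMod 3) + 1 + 1 = 0 from rfl, rotn_facts.2.2.2.1]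
  have hW : ∀ w : Vec, w.1 = 0 → F.na g (sg w) = sg (sg (F.na g w)) := fun w hw => by
    have hW' : (F.na g w).1 = 0 := F.XR_na_W hXR hw
    rw [show sg w = zA (zA w) from
        (by decide +kernel : ∀ w : Vec, w.1 = 0 → sg w = zA (zA w)) w hw,
      ← zA_W _ hW']
    simp only [← F.na_z]
    rw [hinv hzN hz, hinv hzN hz, ← F.na_mul (inv_mem hzN) (inv_mem hzN)]
    refine congrArg (fun x => F.na x (F.na g w)) ?_
    calc D.z⁻¹ * D.z⁻¹ = D.z ^ 3 * (D.z⁻¹ * D.z⁻¹) := by rw [D.z_cube, one_mul]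
      _ = D.z := by group
  intro v
  obtain ⟨a, w, hw, rfl⟩ := split_R1 v
  rw [sg_add, F.na_add hgN, sg_emb, hR, hW _ hw, F.na_add hgN, sg_add, sg_add]

theorem NZ_le_XS : NZ (D := D) ≤ F.XS := by
  intro g hgZ
  obtain ⟨hg, h | h⟩ := id hgZ
  · exact F.cent_z_XS hg (mul_inv_eq_iff_eq_mul.mp h)
  -- move the image of the standard point back
  have hpt : D.IsPt (g * F.y * g⁻¹) := F.pt.conj g
  have hyM : F.y ∈ Mi (D := D) := (F.UM_le_N F.y_mem_UM).1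
  have hz' : Commute (g * F.y * g⁻¹) D.z := by
    have := conj_comm g F.y_z
    rw [h] at this
    simpa using this.inv_right
  obtain ⟨c, hc, hcz, hP⟩ := F.pt_cent_z hpt (mul_mem (mul_mem hg hyM) (inv_mem hg)) hz'
  have hcX := F.cent_z_XS hc hcz
  suffices c * g ∈ F.XS by
    have := mul_mem (inv_mem hcX) this
    rwa [inv_mul_cancel_left] at this
  have hg' : c * g ∈ Mi (D := D) := mul_mem hc hg
  have hgz : c * g * D.z * (c * g)⁻¹ = D.z⁻¹ := by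
    rw [show c * g * D.z * (c * g)⁻¹ = c * (g * D.z * g⁻¹) * c⁻¹ by group, h, hcz.inv_right.eq, mul_inv_cancel_right]
  rw [show c * (g * F.y * g⁻¹) * c⁻¹ = c * g * F.y * (c * g)⁻¹ by group] at hP
  rcases hP with hP | hP
  · exfalso
    have h2 : Pm D.z F.y := by
      have h3 := hP.conj (c * g)⁻¹
      rw [show (c * g)⁻¹ * (c * g * F.y * (c * g)⁻¹) * (c * g)⁻¹⁻¹ = F.y by group] at h3
      have h4 : Pm D.z ((c * g)⁻¹ * D.z * (c * g)⁻¹⁻¹) :=
        ((show (c * g)⁻¹ ∈ NZ (D := D) from inv_mem ⟨hg', Or.inr hgz⟩)).2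
      exact h4.trans h3
    rcases h2 with e | e
    · exact absurd (F.jel_inj (F.jel_y.trans (e.trans F.jel_z.symm))) (by simp)
    · exact absurd (F.jel_inj (F.jel_y.trans (e.trans (by rw [← F.jel_z, ← F.jel_neg])))) (by simp)
  rcases hP with hP | hP
  · exfalso
    have hτM : F.τ ∈ Mi (D := D) := F.τ_le_N.1
    set h' := F.τ * (c * g) * F.τ⁻¹ with hh'
    have h1 : Commute h' D.z⁻¹ := by
      have := conj_comm F.τ (mul_inv_eq_iff_eq_mul.mp hP : Commute (c * g) F.y)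
      rwa [F.τ_conj_y] at this
    have h2 : h' * F.y * h'⁻¹ = F.y⁻¹ := by
      have e1 : F.τ⁻¹ * F.y * F.τ = D.z⁻¹ := by
        rw [show F.y = (F.τ * D.z * F.τ⁻¹)⁻¹ by rw [F.τ_conj_z, inv_inv]]; group
      calc h' * F.y * h'⁻¹ = F.τ * ((c * g) * (F.τ⁻¹ * F.y * F.τ) * (c * g)⁻¹) * F.τ⁻¹ := by rw [hh']; group
        _ = F.y⁻¹ := by rw [e1, ← conj_inv, hgz, inv_inv, F.τ_conj_z]
    have hz'' : Commute h' D.z := by simpa using h1.inv_right
    obtain ⟨v, s, p, e, hs⟩ := cent_z_form hz''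
      (mem_Mi.mp (mul_mem (mul_mem hτM hg') (inv_mem hτM)))
    have hm : D.MA h' p := ⟨_, s, e, hs⟩
    have h3 := (hm.mul F.acts.ma).mul hm.inv
    rw [h2] at h3
    exact sl_mU_inv p.2 (congrArg Prod.snd (h3.unique F.acts.ma.inv))
  · exact ⟨F.NZ_le_N ⟨hg', Or.inr hgz⟩, Or.inr (F.anti_of_inv hg' hgz hP)⟩

theorem Mc_le_XS : Mc (D := D) ≤ F.XS := by
  intro g hg
  obtain ⟨x, hx, n, hn, rfl⟩ := F.mem_G0 (F.Mc_eq_G0 hg)
  refine mul_mem (F.K_le_XS (F.N0_le_K hx)) ?_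
  have hnM : n ∈ Mi (D := D) := Mc_le_Mi hn.1
  obtain ⟨k, l, j, e, hq, hne⟩ := F.pt_jel ⟨n, Or.inl rfl⟩ ((hn.2 _).mp F.z_mem_UM)
  have hl : l = 0 := by
    have h1 := F.ncls_spec ⟨n, hn⟩ 1 0 0
    rw [F.jel_z] at h1
    exact congrArg (fun v : V4 => v.2.2.1) (F.jel_inj (e.symm.trans h1))
  subst hl
  by_cases hj : j = 0
  · subst hj
    refine F.NZ_le_XS ⟨hnM, ?_⟩
    rw [e, F.jel_zpow]
    exact pm_zz fun hk => hne (by rw [hk]; rfl)
  · have hk : k = 0 := (by decide : ∀ k j : ZMod 3, qJ (k, 0, 0, j) = 0 → j ≠ 0 → k = 0) k j hq hj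
    subst hk
    have : F.τ * n ∈ F.XS := F.NZ_le_XS ⟨mul_mem F.τ_le_N.1 hnM, by
      rw [show F.τ * n * D.z * (F.τ * n)⁻¹ = F.τ * (n * D.z * n⁻¹) * F.τ⁻¹ by group, e, F.jel_ypow]
      have h1 := (F.pm_ypow hj).conj F.τ
      rw [F.τ_conj_y] at h1
      exact Pm.trans (Or.inr rfl) h1⟩
    have := mul_mem (inv_mem F.τ_XS) this
    rwa [inv_mul_cancel_left] at this

theorem C1_le_XS : F.C1 ≤ F.XS := sup_le F.NZ_le_XS F.K_le_XS

theorem XS_z_fusion {g : G} (hg : g ∈ Mi (D := D)) (hw : g * D.z * g⁻¹ ∈ F.XS) : g ∈ F.XS :=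
  F.z_fusion (F.XS_le_N.trans F.N_le_Mi) F.NZ_le_XS F.τ_XS hg hw

theorem XS_a2_fusion {g : G} (hg : g ∈ Mi (D := D)) (hw : g * a2 D * g⁻¹ ∈ F.XS) : g ∈ F.XS :=
  F.a2_fusion (F.XS_le_N.trans F.N_le_Mi) F.NZ_le_XS F.τ_XS F.Mc_le_XS hg hw

theorem C1_z_comm {g : G} (hg : g ∈ F.N) (h : ∀ v, F.na g (zA v) = zA (F.na g v)) :
    g * D.z * g⁻¹ ∈ F.C1 := by
  have hzN : D.z ∈ F.N := F.UM_le_N F.z_mem_UM
  have hk : g * D.z * g⁻¹ * D.z⁻¹ ∈ F.K := F.K_of_na (mul_mem (mul_mem (mul_mem hg hzN) (inv_mem hg)) (inv_mem hzN))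
    fun v => by
      rw [F.na_mul (mul_mem (mul_mem hg hzN) (inv_mem hg)) (inv_mem hzN), F.na_mul (mul_mem hg hzN) (inv_mem hg),
        F.na_mul hg hzN, F.na_z, h, F.na_cancel_inv hg, ← F.na_z, F.na_cancel_inv hzN]
  have := mul_mem (Subgroup.mem_sup_right hk : g * D.z * g⁻¹ * D.z⁻¹ ∈ F.C1)
    (F.cent_z_C1 hzN.1 (Commute.refl D.z))
  rwa [inv_mul_cancel_right] at this

theorem lin_zA {g : G} (hg : g ∈ F.XR) (h : F.Lin g) (v : Vec) : F.na g (zA v) = zA (F.na g v) := by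
  obtain ⟨a, w, hw, rfl⟩ := split_R1 v
  obtain ⟨a', ha⟩ := F.XR_na_R1 hg a
  rw [zA_add, F.na_add hg.1, F.na_add hg.1, zA_add, zA_R, ha, zA_R, zA_W _ hw, zA_W _ (F.XR_na_W hg hw), h, h]

/-- The stabiliser of the first component in the stabiliser of the rotation. -/
theorem XS_XR_le_C1 {g : G} (hg : g ∈ F.XS) (hR : g ∈ F.XR) : g ∈ F.C1 := by
  refine F.XR_z_fusion hR ?_
  rcases hg.2 with h | h
  · exact F.C1_z_comm hg.1 (F.lin_zA hR h)
  · have hzN : D.z ∈ F.N := F.UM_le_N F.z_mem_UM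
    have hk : g * D.z * g⁻¹ * D.z ∈ F.K := F.K_of_na (mul_mem (mul_mem (mul_mem hg.1 hzN) (inv_mem hg.1)) hzN) fun v => by
      rw [F.na_mul (mul_mem (mul_mem hg.1 hzN) (inv_mem hg.1)) hzN, F.na_mul (mul_mem hg.1 hzN) (inv_mem hg.1),
        F.na_mul hg.1 hzN, F.na_z, F.na_z]
      obtain ⟨v', rfl⟩ : ∃ v', v = F.na g v' := ⟨_, (F.na_cancel_inv hg.1 v).symm⟩
      obtain ⟨a, w, hw, rfl⟩ := split_R1 v'
      obtain ⟨a', ha⟩ := F.XR_na_R1 hR a
      have hzi : F.na g⁻¹ (zA (F.na g (emb none a + w))) = zA (zA (emb none a + w)) := by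
        refine F.na_inj hg.1 ?_
        rw [F.na_cancel_inv hg.1, zA_add (emb none a) w, F.na_add hg.1, zA_add (F.na g _), zA_add, F.na_add hg.1,
          zA_R, zA_R, ha, zA_R, zA_W _ hw, zA_W _ (F.XR_na_W hR hw),
          show zA (sg (sg w)) = sg w from by rw [sg_zA, sg_zA, zA_W _ hw, sg_cube], h]
      rw [hzi, zA_cube]
    have := mul_mem (Subgroup.mem_sup_right hk : g * D.z * g⁻¹ * D.z ∈ F.C1)
      (inv_mem (F.cent_z_C1 hzN.1 (Commute.refl D.z)))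
    rwa [mul_inv_cancel_right] at this

end Setting.Base

end CfsgLib.U6Three
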