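import Cfsg.Agent.Lib.U6Three.Count

/-!
The stabiliser is transitive on the singular involutions of the two-group, and some element outside the product fixes
each of them.
-/

set_option autoImplicit false
set_option linter.style.haveILetI false
set_option synthInstance.maxSize 1024

namespace CfsgLib.U6Three

universe u

theorem unit_meet : ∀ v : Vec, v ≠ 0 → ∃ u : Vec, qv u = 1 ∧ bv v u = 1 := by decide +kernel

theorem card_singular : Nat.card {v : Vec // qv v = 0 ∧ v ≠ 0} = 135 := by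
  rw [Nat.card_eq_fintype_card]; decide +kernel

/-- The standard singular vector. -/
def w0 : Vec := emb none (1, 0) + emb (some 0) (1, 0)

theorem rot_to_w0 : ∀ a b : K4, a ≠ 0 → b ≠ 0 → ∃ k j : ZMod 3,
    (vmk (rotn j (emb none a + emb (some 0) b).1)
      fun c => rotn (eb k 0 j c) (vb (emb none a + emb (some 0) b) c)) = w0 := by decide +kernel

theorem w0_fixed : (vmk (rotn (-1) (sg w0).1) fun c => rotn (eb 1 0 (-1) c) (vb (sg w0) c)) = w0 := by decide +kernel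

namespace Setting.Base

variable {G : Type u} [Group G] {D : Setting G} (F : D.Base) [Finite G]

theorem to_w0 {v : Vec} (hq : qv v = 0) (h0 : v ≠ 0) : ∃ n ∈ F.N, F.na n v = w0 := by
  obtain ⟨g, hg, hv'⟩ : ∃ g ∈ F.N, (F.na g v).1 ≠ 0 := by
    obtain ⟨u, hu, hvu⟩ := unit_meet v h0
    obtain ⟨g, hg, i, hgu⟩ := F.units_transitive hu
    have hgN := F.XS_le_N hg
    refine ⟨g⁻¹, inv_mem hgN, fun h => ?_⟩
    have h1 := (W_orth _).mp h (rotn i (1, 0))
    rw [← sp_emb, bv_comm, ← F.na_bv hgN, F.na_cancel_inv hgN, hgu, hvu] at h1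
    exact absurd h1 (by decide)
  set v1 := F.na g v with hv1
  have hq1 : qv v1 = 0 := by rw [hv1, F.na_qv hg, hq]
  obtain ⟨a, w, hw, e⟩ := split_R1 v1
  have ha : a ≠ 0 := fun h => hv' (by rw [e, h, emb_zero, zero_add, hw])
  have hwq : qv w = 1 := by
    rw [e, qv_add, (W_orth w).mp hw a, add_zero, (bv_emb none a a).2, (nz_one a).mpr ha] at hq1
    exact (by decide : ∀ x : ZMod 2, 1 + x = 0 → x = 1) _ hq1
  obtain ⟨h, hh, b, hb⟩ := F.W_units hw hwq
  have hhN := F.C1_le_N hh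
  obtain ⟨a', ha'⟩ := F.XR_na_R1 (F.C1_le_XR (inv_mem hh)) a
  have ha0 : a' ≠ 0 := fun h0' => by
    rw [h0', emb_zero, ← F.na_zero (inv_mem hhN)] at ha'
    exact ha (emb_inj none none a 0 ha ((F.na_inj (inv_mem hhN) ha').trans (emb_zero none).symm)).2
  have hb0 : b ≠ 0 := fun h0' => by
    rw [h0', emb_zero, F.na_zero hhN] at hb
    rw [← hb, qv_zero] at hwq
    exact absurd hwq (by decide)
  obtain ⟨k, j, hkj⟩ := rot_to_w0 a' b ha0 hb0
  have hjN : F.jel (k, 0, 0, j) ∈ F.N := F.UM_le_N (F.jel_mem_UM k 0 j)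
  refine ⟨F.jel (k, 0, 0, j) * (h⁻¹ * g), mul_mem hjN (mul_mem (inv_mem hhN) hg), ?_⟩
  rw [F.na_mul hjN (mul_mem (inv_mem hhN) hg), F.na_mul (inv_mem hhN) hg, ← hv1, e, F.na_add (inv_mem hhN), ha',
    show F.na h⁻¹ w = emb (some 0) b by rw [← hb, F.na_inv_cancel hhN], F.na_jel]
  exact hkj

/-- The element fixing the standard singular vector. -/
noncomputable def d0 : G := F.jel (1, 0, 0, -1) * F.s0

theorem d0_facts (hB : D.caseB) : F.d0 ∈ F.XL ∧ F.d0 ^ 3 = 1 ∧ F.na F.d0 w0 = w0 ∧ F.d0 * F.s0⁻¹ ∈ F.LK := by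
  have hj : F.jel (1, 0, 0, -1) ∈ F.UM := F.jel_mem_UM 1 0 (-1)
  have hjL : F.jel (1, 0, 0, -1) ∈ F.L := by
    rw [show ((1, 0, 0, -1) : V4) = (1, 0, 0, 0) + (0, 0, 0, -1) by simp, F.jel_add, F.jel_z, F.jel_ypow]
    exact mul_mem F.z_mem_L (pow_mem F.y_mem_L _)
  refine ⟨mul_mem (F.L_le_XL hjL) F.s0_XL, F.U_cube (mul_mem (F.mem_UM.mp hj).1 (F.mem_P.mp F.s0_mem_P).1), ?_, ?_⟩
  · rw [d0, F.na_mul (F.UM_le_N hj) F.s0_N, (F.s0_facts hB).2, F.na_jel]
    exact w0_fixed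
  · rw [d0, mul_inv_cancel_right]; exact F.L_le_LK hjL

/-- Some linear element of order three outside the product commutes with a singular involution. -/
theorem singular_fixer (hB : D.caseB) {x : G} (hx : x ∈ F.K) (hq : qv (F.kap x) = 0) (h0 : F.kap x ≠ 0) :
    ∃ n ∈ F.N, Commute (n⁻¹ * F.d0 * n) x := by
  obtain ⟨n, hn, hw⟩ := F.to_w0 hq h0
  obtain ⟨hd, h3, hfix, -⟩ := F.d0_facts hB
  refine ⟨n, hn, ?_⟩
  set e := n⁻¹ * F.d0 * n with he
  have heN : e ∈ F.N := mul_mem (mul_mem (inv_mem hn) hd.1) hn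
  have hek : F.kap (e * x * e⁻¹) = F.kap x := by
    rw [← F.na_kap heN hx, F.na_conj hn hd.1, hw, hfix, ← hw, F.na_inv_cancel hn]
  have hI := (F.kap_congr hx (F.N_conj_K heN hx)).mp hek.symm
  rcases mem_Ic.mp hI with h | h <;> rw [inv_mul_eq_iff_eq_mul] at h
  · rw [mul_one] at h; exact mul_inv_eq_iff_eq_mul.mp h
  · exfalso
    have hc : Commute e D.i1 := mem_Mi.mp (F.N_le_Mi heN)
    have e3 : e ^ 3 = 1 := by
      have := conj_pow (a := n⁻¹) (b := F.d0) (i := 3)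
      rw [inv_inv] at this
      rw [he, this, h3]; group
    have h1 : e * (e * (e * x * e⁻¹) * e⁻¹) * e⁻¹ = x := by
      rw [show e * (e * (e * x * e⁻¹) * e⁻¹) * e⁻¹ = e ^ 3 * x * (e ^ 3)⁻¹ by simp [pow_succ]; group, e3]; group
    have hstep : ∀ a, e * (x * a) * e⁻¹ = x * (D.i1 * (e * a * e⁻¹)) := fun a => by
      rw [show e * (x * a) * e⁻¹ = e * x * e⁻¹ * (e * a * e⁻¹) by group, h, mul_assoc]
    rw [h, hstep, show e * D.i1 * e⁻¹ = D.i1 by rw [hc.eq, mul_inv_cancel_right], hstep,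
      show e * (D.i1 * D.i1) * e⁻¹ = D.i1 * D.i1 by rw [D.i1_block.sq]; group, D.i1_block.sq, mul_one] at h1
    exact i1_ne (D := D) (mul_eq_left.mp h1)

/-- The singular involutions of the two-group. -/
abbrev SK : Type u := {x : G // x ∈ F.K ∧ qv (F.kap x) = 0 ∧ F.kap x ≠ 0}

theorem card_SK : Nat.card F.SK = 270 := by
  let f : {v : Vec // qv v = 0 ∧ v ≠ 0} × ZMod 2 → F.SK := fun p =>
    ⟨F.sec p.1.1 * ip (D := D) p.2, mul_mem (F.sec_mem _) (F.Ic_le_K (ip_Ic _)),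
      by rw [F.kap_mul (F.sec_mem _) (F.Ic_le_K (ip_Ic _)), F.kap_Ic (ip_Ic _), add_zero, F.kap_sec]; exact p.1.2.1,
      by rw [F.kap_mul (F.sec_mem _) (F.Ic_le_K (ip_Ic _)), F.kap_Ic (ip_Ic _), add_zero, F.kap_sec]; exact p.1.2.2⟩
  rw [← Nat.card_eq_of_bijective f ⟨?_, ?_⟩, Nat.card_prod, card_singular, Nat.card_zmod]
  · rintro ⟨v, e⟩ ⟨v', e'⟩ h
    have h' : F.sec v.1 * ip (D := D) e = F.sec v'.1 * ip (D := D) e' := congrArg Subtype.val h
    have hk := congrArg F.kap h'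
    rw [F.kap_mul (F.sec_mem _) (F.Ic_le_K (ip_Ic _)), F.kap_Ic (ip_Ic _), add_zero, F.kap_sec,
      F.kap_mul (F.sec_mem _) (F.Ic_le_K (ip_Ic _)), F.kap_Ic (ip_Ic _), add_zero, F.kap_sec] at hk
    obtain rfl := Subtype.ext hk
    exact Prod.ext rfl (ip_inj (D := D) (mul_left_cancel h'))
  · rintro ⟨x, hx, hq, h0⟩
    have hI := (F.kap_congr (F.sec_mem _) hx).mp (F.kap_sec (F.kap x))
    obtain ⟨e, he⟩ := exists_ip hI
    exact ⟨(⟨F.kap x, hq, h0⟩, e), Subtype.ext (by show F.sec (F.kap x) * ip (D := D) e = x; rw [← he, mul_inv_cancel_left])⟩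

theorem class_index {w : G} (hw : w ∈ F.K) (hq : qv (F.kap w) = 0) (h0 : F.kap w ≠ 0) :
    ((Mi (D := D) ⊓ Subgroup.centralizer {w}).subgroupOf F.N).index = 270 := by
  classical
  have hmem : ∀ {g : F.N}, g ∈ (Mi (D := D) ⊓ Subgroup.centralizer {w}).subgroupOf F.N ↔ Commute (g : G) w :=
    fun {g} => by
      rw [Subgroup.mem_subgroupOf, Subgroup.mem_inf, Subgroup.mem_centralizer_singleton_iff]
      exact ⟨fun h => h.2, fun h => ⟨F.N_le_Mi g.2, h⟩⟩
  rw [← F.card_SK]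
  let f : F.N ⧸ (Mi (D := D) ⊓ Subgroup.centralizer {w}).subgroupOf F.N → F.SK := fun q =>
    ⟨(q.out : G) * w * (q.out : G)⁻¹, F.N_conj_K q.out.2 hw,
      by rw [← F.na_kap q.out.2 hw, F.na_qv q.out.2]; exact hq,
      fun h => h0 (F.na_inj q.out.2 (by rw [F.na_zero q.out.2, F.na_kap q.out.2 hw]; exact h))⟩
  refine Nat.card_eq_of_bijective f ⟨fun q q' e => ?_, fun x => ?_⟩
  · have e' : (q.out : G) * w * (q.out : G)⁻¹ = (q'.out : G) * w * (q'.out : G)⁻¹ := congrArg Subtype.val e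
    rw [← q.out_eq, ← q'.out_eq]
    refine QuotientGroup.eq.mpr (hmem.mpr (mul_inv_eq_iff_eq_mul.mp ?_))
    calc ((q.out⁻¹ * q'.out : F.N) : G) * w * ((q.out⁻¹ * q'.out : F.N) : G)⁻¹
        = (q.out : G)⁻¹ * ((q'.out : G) * w * (q'.out : G)⁻¹) * q.out := by
          simp only [Subgroup.coe_mul, InvMemClass.coe_inv]; group
      _ = w := by rw [← e']; group
  · obtain ⟨x, hx, hxq, hx0⟩ := x
    obtain ⟨n1, hn1, e1⟩ := F.to_w0 hq h0
    obtain ⟨n2, hn2, e2⟩ := F.to_w0 hxq hx0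
    set n := n2⁻¹ * n1 with hnd
    have hn : n ∈ F.N := mul_mem (inv_mem hn2) hn1
    have hk : F.kap (n * w * n⁻¹) = F.kap x := by
      rw [← F.na_kap hn hw, hnd, F.na_mul (inv_mem hn2) hn1, e1, ← e2, F.na_inv_cancel hn2]
    suffices ∃ m ∈ F.N, m * w * m⁻¹ = x by
      obtain ⟨m, hm, e⟩ := this
      refine ⟨((⟨m, hm⟩ : F.N) : F.N ⧸ _), Subtype.ext ?_⟩
      set o := (((⟨m, hm⟩ : F.N) : F.N ⧸ (Mi (D := D) ⊓ Subgroup.centralizer {w}).subgroupOf F.N)).out with ho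
      have hc : Commute ((o⁻¹ * ⟨m, hm⟩ : F.N) : G) w := hmem.mp (QuotientGroup.eq.mp (QuotientGroup.out_eq' _))
      show (o : G) * w * (o : G)⁻¹ = x
      calc (o : G) * w * (o : G)⁻¹
          = (o : G) * (((o⁻¹ * ⟨m, hm⟩ : F.N) : G) * w * ((o⁻¹ * ⟨m, hm⟩ : F.N) : G)⁻¹) * (o : G)⁻¹ := by
            rw [hc.eq, mul_inv_cancel_right]
        _ = x := by rw [← e]; simp only [Subgroup.coe_mul, InvMemClass.coe_inv]; group
    have hI := (F.kap_congr hx (F.N_conj_K hn hw)).mp hk.symm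
    rcases mem_Ic.mp hI with h | h <;> rw [inv_mul_eq_iff_eq_mul] at h
    · exact ⟨n, hn, by rw [h, mul_one]⟩
    · obtain ⟨u, hu⟩ : ∃ u, bv (F.kap x) u ≠ 0 := by
        by_contra hc
        push Not at hc
        exact hx0 (bv_nondeg _ hc)
      set k := F.sec u with hkd
      have hkK := F.sec_mem u
      have hnc : ¬ Commute k x := fun hc => hu (by
        have := (F.kap_comm hkK hx).mp hc
        rwa [F.kap_sec, bv_comm] at this)
      have hI' : x⁻¹ * (k * x * k⁻¹) ∈ Ic (D := D) := (F.kap_congr hx (mul_mem (mul_mem hkK hx) (inv_mem hkK))).mp (by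
        rw [F.kap_mul (mul_mem hkK hx) (inv_mem hkK), F.kap_mul hkK hx, F.kap_inv hkK, add_comm (F.kap k), add_assoc,
          vec_two, add_zero])
      have hkx : k * x * k⁻¹ = x * D.i1 := by
        rcases mem_Ic.mp hI' with h' | h' <;> rw [inv_mul_eq_iff_eq_mul] at h'
        · rw [mul_one] at h'; exact absurd (mul_inv_eq_iff_eq_mul.mp h') hnc
        · exact h'
      refine ⟨k * n, mul_mem (F.K_le_N hkK) hn, ?_⟩
      rw [show k * n * w * (k * n)⁻¹ = k * (n * w * n⁻¹) * k⁻¹ by group, h,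
        show k * (x * D.i1) * k⁻¹ = k * x * k⁻¹ * (k * D.i1 * k⁻¹) by group, hkx,
        show k * D.i1 * k⁻¹ = D.i1 by rw [(mem_Mi.mp (F.K_le_Mi hkK)).eq, mul_inv_cancel_right], mul_assoc,
        D.i1_block.sq, mul_one]

end Setting.Base

end CfsgLib.U6Three
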