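import Cfsg.Agent.Lib.U6Three.Uni

/-!
Centralisers of planes of the group of order eighty-one containing a point.
-/

set_option autoImplicit false

namespace CfsgLib.U6Three

universe u

theorem comm_mU : ∀ A : SL23, A * mU = mU * A →
    (∀ a : ZMod 3, (app2 A (a, 0)).2 = 0) ∧ (A * A * A = 1 → A = 1 ∨ A = mU ∨ A = mU * mU) := by decide +kernel

theorem swap_mU : ∀ A : SL23, A * mU * A⁻¹ = mU → ∀ a : ZMod 3, (app2 A (a, 0)).2 = 0 := by decide +kernel

theorem third_point : ∀ a : V4, a.2.2.2 ≠ 0 → ∃ γ δ : ZMod 3,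
    qJ (γ • ((1, 0, 0, 0) : V4) + δ • a) = 0 ∧ (γ • ((1, 0, 0, 0) : V4) + δ • a).2.2.2 ≠ 0 := by decide +kernel

theorem lin_comb_A : ∀ i l i' l' : ZMod 3, i * l' - l * i' ≠ 0 → ∀ i0 l0 : ZMod 3,
    ∃ α β : ZMod 3, α * i + β * i' = i0 ∧ α * l + β * l' = l0 := by decide +kernel

theorem det_ne_flat : ∀ i l i' l' : ZMod 3, i * l' - l * i' = 0 →
    ∃ β γ : ZMod 3, (β, γ) ≠ (0, 0) ∧ β * i + γ * i' = 0 ∧ β * l + γ * l' = 0 := by decide +kernel

/-- Linear independence of three coordinate vectors. -/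
def Ind3 (v a b : V4) : Prop := ∀ α β γ : ZMod 3, α • v + β • a + γ • b = 0 → α = 0 ∧ β = 0 ∧ γ = 0

namespace Setting.Base

variable {G : Type u} [Group G] {D : Setting G} (F : D.Base)

theorem q_norm (w : W4) (v : V4) : ∃ v', D.q w * F.jel v * (D.q w)⁻¹ = F.jel v' := ⟨_, F.q_conj_jel w v⟩

theorem conj_mem_J_of_gens {h : G} (hz : h * D.z * h⁻¹ ∈ F.J) (hy : h * F.y * h⁻¹ ∈ F.J)
    (hq : ∀ a, InA a → h * D.q a * h⁻¹ ∈ F.J) {x : G} (hx : x ∈ F.J) : h * x * h⁻¹ ∈ F.J := by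
  obtain ⟨⟨k, i, l, j⟩, rfl⟩ := hx
  show h * (D.zz k * D.q (av i l) * F.y ^ j.val) * h⁻¹ ∈ F.J
  rw [show h * (D.zz k * D.q (av i l) * F.y ^ j.val) * h⁻¹ =
    (h * D.z ^ k.val * h⁻¹) * (h * D.q (av i l) * h⁻¹) * (h * F.y ^ j.val * h⁻¹) by rw [zz]; group,
    conj_pow', conj_pow']
  exact mul_mem (mul_mem (pow_mem hz _) (hq _ (av_inA i l))) (pow_mem hy _)

theorem g_norm_J {x : G} (hx : x ∈ F.J) : F.g * x * F.g⁻¹ ∈ F.J := by
  refine F.conj_mem_J_of_gens ?_ ?_ (fun a ha => ?_) hx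
  · rw [F.tr.hz, ← F.jel_ypow]; exact F.jel_mem _
  · rw [F.tr.hy, ← F.jel_z]; exact pow_mem (F.jel_mem _) _
  · obtain ⟨b, hb, e⟩ := F.tr.hA' a ha
    obtain ⟨i, l, rfl⟩ := inA_av b hb
    rw [e, ← F.jel_q]; exact F.jel_mem _

theorem mem_norm_J [Finite G] {h : G} (hh : ∀ x ∈ F.J, h * x * h⁻¹ ∈ F.J) :
    h ∈ Subgroup.normalizer (F.J : Set G) := by
  classical
  intro x
  refine ⟨hh x, fun hx => ?_⟩
  let f : F.J → F.J := fun a => ⟨h * a * h⁻¹, hh a a.2⟩
  obtain ⟨a, ha⟩ := ((Finite.injective_iff_surjective (f := f)).1 fun a b e => Subtype.ext (by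
    have := congrArg Subtype.val e
    simpa [f] using this)) ⟨_, hx⟩
  have : (a : G) = x := by
    have h2 : h * (a : G) * h⁻¹ = h * x * h⁻¹ := congrArg Subtype.val ha
    simpa using h2
  exact this ▸ a.2

theorem q_mem_NJ [Finite G] (w : W4) : D.q w ∈ Subgroup.normalizer (F.J : Set G) :=
  F.mem_norm_J fun x hx => by obtain ⟨v, rfl⟩ := hx; obtain ⟨v', e⟩ := F.q_norm w v; exact e ▸ F.jel_mem v'

theorem g_mem_NJ [Finite G] : F.g ∈ Subgroup.normalizer (F.J : Set G) := F.mem_norm_J fun _ hx => F.g_norm_J hx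

/-- The linear map induced by an element normalising the group of order eighty-one. -/
theorem exists_lin {h : G} (hh : h ∈ Subgroup.normalizer (F.J : Set G)) :
    ∃ φ : V4 →+ V4, Function.Injective φ ∧ ∀ v, h * F.jel v * h⁻¹ = F.jel (φ v) := by
  have key : ∀ v, ∃ v', h * F.jel v * h⁻¹ = F.jel v' := fun v => (hh _).mp (F.jel_mem v)
  choose φ hφ using key
  refine ⟨AddMonoidHom.mk' φ fun a b => F.jel_inj ?_, fun a b e => F.jel_inj ?_, hφ⟩
  · rw [F.jel_add, ← hφ, ← hφ, ← hφ, F.jel_add]; group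
  · have e' : h * F.jel a * h⁻¹ = h * F.jel b * h⁻¹ := by rw [hφ, hφ]; exact congrArg F.jel e
    simpa using e'

theorem NJ_le_NU [Finite G] : Subgroup.normalizer (F.J : Set G) ≤ Subgroup.normalizer (F.U : Set G) := by
  intro h hh
  have key : ∀ h ∈ Subgroup.normalizer (F.J : Set G), ∀ x ∈ F.U, h * x * h⁻¹ ∈ F.U := by
    intro h hh x hx
    refine Subgroup.mem_centralizer_iff.mpr fun y hy => ?_
    have hy' : h⁻¹ * y * h ∈ F.J := by
      have := ((Subgroup.normalizer (F.J : Set G)).inv_mem hh y).mp hy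
      simpa using this
    have := Subgroup.mem_centralizer_iff.mp hx _ hy'
    calc y * (h * x * h⁻¹) = h * ((h⁻¹ * y * h) * x) * h⁻¹ := by group
      _ = h * (x * (h⁻¹ * y * h)) * h⁻¹ := by rw [this]
      _ = _ := by group
  refine fun x => ⟨key h hh x, fun hx => ?_⟩
  have := key h⁻¹ (inv_mem hh) _ hx
  simpa [mul_assoc] using this

/-- Points are conjugate to the central element by elements normalising the group of order eighty-one. -/
theorem move_point [Finite G] {v : V4} (hp : qJ v = 0) (hne : v ≠ 0) :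
    ∃ h ∈ Subgroup.normalizer (F.J : Set G), ∃ k : ZMod 3, k ≠ 0 ∧ h * F.jel v * h⁻¹ = D.zz k := by
  by_cases hj : v.2.2.2 = 0
  · obtain ⟨a, b, c⟩ := qJ_Q v hj hp hne
    refine ⟨1, one_mem _, v.1, c, ?_⟩
    obtain ⟨k, i, l, j⟩ := v
    obtain ⟨rfl, rfl, rfl⟩ : i = 0 ∧ l = 0 ∧ j = 0 := ⟨a, b, hj⟩
    rw [F.jel_zpow]; group
  · obtain ⟨w, hw⟩ := translate_y v hp hj
    obtain ⟨k, i, l, j⟩ := v
    have e : D.q w * F.jel (0, 0, 0, j) * (D.q w)⁻¹ = F.jel (k, i, l, j) := by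
      rw [F.q_conj_jel]
      conv_rhs => rw [← hw]
      congr 1
      simp [show av 0 0 = (0 : W4) from rfl, show om w (0 : W4) = 0 by simp [om, det2]]
    refine ⟨F.g * (D.q w)⁻¹, mul_mem F.g_mem_NJ (inv_mem (F.q_mem_NJ w)), F.δ * j,
      mul_ne_zero F.tr.δ_ne hj, ?_⟩
    rw [← e, show F.g * (D.q w)⁻¹ * (D.q w * F.jel (0, 0, 0, j) * (D.q w)⁻¹) * (F.g * (D.q w)⁻¹)⁻¹ =
      F.g * F.jel (0, 0, 0, j) * F.g⁻¹ by group, F.jel_ypow, conj_pow', F.tr.hy, ← pow_mul, D.zz_nat]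
    congr 1

theorem pair_zy {x : G} (hz : Commute x D.z) (hy : Commute x F.y) :
    (∀ w ∈ F.J, x * w * x⁻¹ ∈ F.J) ∧ (x ^ 3 = 1 → x ∈ F.U) := by
  obtain ⟨u, s, p, e, hs | hs⟩ := D.cases_H hz
  · have hA : D.MA x p := ⟨u, s, e, hs⟩
    have hc : p * (mU, mU) = (mU, mU) * p := ((hy.eq ▸ hA.mul F.acts.ma).unique (F.acts.ma.mul hA))
    have hu : InA u := by
      have e' : F.y = D.zz 0 * (D.q 0 * F.y) := by rw [D.zz_zero, D.q_zero, one_mul, one_mul]
      have h1 := D.comm_cV F.acts hs (k := 0) (u := 0) (w := u) (by rw [← e, ← e']; exact hy)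
      rw [show p * (mU, mU) * p⁻¹ = ((mU, mU) : Pr) by rw [hc, mul_inv_cancel_right],
        show appP p (0 : W4) = 0 by simp [appP, app2], cV, zero_add, sub_eq_zero] at h1
      exact (DiagP.fix_iff (p := ((mU, mU) : Pr)) (Or.inl rfl) u).mp h1.symm
    refine ⟨fun w hw => F.conj_mem_J_of_gens ?_ ?_ (fun a ha => ?_) hw, fun h3 => ?_⟩
    · rw [hz.eq, mul_inv_cancel_right, ← F.jel_z]; exact F.jel_mem _
    · rw [hy.eq, mul_inv_cancel_right, ← F.jel_y]; exact F.jel_mem _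
    · have ha' : InA (appP p a) := by
        obtain ⟨i, l, rfl⟩ := inA_av a ha
        exact ⟨(comm_mU p.1 (congrArg Prod.fst hc)).1 i, (comm_mU p.2 (congrArg Prod.snd hc)).1 l⟩
      rw [e, show D.q u * s * D.q a * (D.q u * s)⁻¹ = D.q u * (s * D.q a * s⁻¹) * (D.q u)⁻¹ by group, hs.2, D.q_conj]
      obtain ⟨i, l, hil⟩ := inA_av _ ha'
      rw [hil]
      refine mul_mem ?_ ?_
      · rw [← F.jel_zpow]; exact F.jel_mem _
      · rw [← F.jel_q]; exact F.jel_mem _
    · have h9 := hA.pow 3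
      rw [h3] at h9
      have hp3 : p ^ 3 = 1 := h9.unique ma_one
      rw [pow_three'] at hp3
      exact F.mem_U_iff.mpr ⟨u, s, p, hu, hs, ⟨(comm_mU p.1 (congrArg Prod.fst hc)).2 (congrArg Prod.fst hp3),
        (comm_mU p.2 (congrArg Prod.snd hc)).2 (congrArg Prod.snd hp3)⟩, e⟩
  · have hS : D.MS x p := ⟨u, s, e, hs⟩
    have h1 := hS.conj_MA F.acts.ma
    rw [hy.eq, mul_inv_cancel_right] at h1
    have hc := (F.acts.ma.unique h1).symm
    have hu : InA u := by
      obtain ⟨r, hr⟩ : ∃ r, D.Acts (s * F.y * s⁻¹) r := by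
        obtain ⟨r, hr, -⟩ := Acts.of_three (D := D) ((hs.1.mul D F.acts.1).mul D (hs.1.inv D))
          (by rw [conj_pow, F.y_cube]; group)
        exact ⟨r, hr⟩
      have e' : D.q u * (D.zz 0 * (D.q 0 * (s * F.y * s⁻¹))) * (D.q u)⁻¹ = F.y := by
        rw [D.zz_zero, D.q_zero, one_mul, one_mul]
        calc D.q u * (s * F.y * s⁻¹) * (D.q u)⁻¹ = x * F.y * x⁻¹ := by rw [e]; group
          _ = F.y := by rw [hy.eq, mul_inv_cancel_right]
      have hr' : r = (mU, mU) := by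
        have h2 := ((ma_of_Q (D := D) (D.q_mem u)).mul hr.ma).mul (ma_of_Q (D := D) (D.q_mem u)).inv
        rw [D.zz_zero, D.q_zero, one_mul, one_mul] at e'
        rw [e', one_mul, inv_one, mul_one] at h2
        exact h2.unique F.acts.ma
      subst hr'
      rw [D.q_conj_el hr] at e'
      have e'' : D.zz (0 + cK (mU, mU) 0 u) * (D.q (cV (mU, mU) 0 u) * (s * F.y * s⁻¹)) =
          D.zz 0 * (D.q 0 * F.y) := by rw [e', D.zz_zero, D.q_zero, one_mul, one_mul]
      have h3 := D.el_unique hr.1 F.acts.1 e''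
      rw [cV, zero_add, sub_eq_zero] at h3
      exact (DiagP.fix_iff (p := ((mU, mU) : Pr)) (Or.inl rfl) u).mp h3.symm
    refine ⟨fun w hw => F.conj_mem_J_of_gens ?_ ?_ (fun a ha => ?_) hw, fun h3 => ?_⟩
    · rw [hz.eq, mul_inv_cancel_right, ← F.jel_z]; exact F.jel_mem _
    · rw [hy.eq, mul_inv_cancel_right, ← F.jel_y]; exact F.jel_mem _
    · have ha' : InA (appP p (swapW a)) := by
        obtain ⟨i, l, rfl⟩ := inA_av a ha
        exact ⟨swap_mU p.1 (by simpa using congrArg Prod.fst hc) l, swap_mU p.2 (by simpa using congrArg Prod.snd hc) i⟩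
      rw [e, show D.q u * s * D.q a * (D.q u * s)⁻¹ = D.q u * (s * D.q a * s⁻¹) * (D.q u)⁻¹ by group, hs.2, D.q_conj]
      obtain ⟨i, l, hil⟩ := inA_av _ ha'
      rw [hil]
      refine mul_mem ?_ ?_
      · rw [← F.jel_zpow]; exact F.jel_mem _
      · rw [← F.jel_q]; exact F.jel_mem _
    · obtain ⟨g', hg', -⟩ := D.ma_three hz h3
      exact (hg'.not_MS hS).elim

theorem cent_ZA {x : G} (hz : Commute x D.z) (ha : ∀ a, InA a → Commute x (D.q a)) : x ∈ F.U := by
  obtain ⟨u, s, p, e, hs | hs⟩ := D.cases_H hz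
  · have e' : x = D.zz 0 * (D.q u * s) := by rw [D.zz_zero, one_mul, e]
    have h1 := (D.comm_q_iff hs ea1).mp (e' ▸ ha ea1 (by decide))
    have h2 := (D.comm_q_iff hs ea2).mp (e' ▸ ha ea2 (by decide))
    exact F.mem_U_iff.mpr ⟨u, s, p, om_ea u h1.2 h2.2, hs,
      ⟨sl_fix_vec p.1 (congrArg Prod.fst h1.1), sl_fix_vec p.2 (congrArg Prod.snd h2.1)⟩, e⟩
  · exfalso
    have h1 : D.zz 0 * D.q ea1 = D.zz (om u (appP p (swapW ea1))) * D.q (appP p (swapW ea1)) := by
      rw [D.zz_zero, one_mul, ← D.q_conj, ← hs.2]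
      calc D.q ea1 = x * D.q ea1 * x⁻¹ := by rw [(ha ea1 (by decide)).eq]; group
        _ = _ := by rw [e]; group
    exact (by decide +kernel : ∀ A : SL23, app2 A (0, 0) ≠ (1, 0)) p.1 (congrArg Prod.fst (D.el_inj h1).2).symm

theorem commute_smul {x : G} {v : V4} (h : Commute x (F.jel v)) (c : ZMod 3) : Commute x (F.jel (c • v)) := by
  rcases (by decide : ∀ c : ZMod 3, c = 0 ∨ c = 1 ∨ c = -1) c with rfl | rfl | rfl
  · rw [zero_smul, F.jel_zero]; exact Commute.one_right x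
  · rwa [one_smul]
  · rw [neg_smul, one_smul, F.jel_neg]; exact h.inv_right

theorem commute_zk {x : G} {k : ZMod 3} (hk : k ≠ 0) (h : Commute x (D.zz k)) : Commute x D.z := by
  rcases (by decide : ∀ k : ZMod 3, k ≠ 0 → k = 1 ∨ k = -1) k hk with rfl | rfl
  · rwa [D.zz_one] at h
  · rw [D.zz_neg, D.zz_one] at h; exact Commute.inv_right_iff.mp h

/-- Centralisers of the planes through a point. -/
theorem point_plane [Finite G] {x : G} {v a b : V4} (hp : qJ v = 0) (hne : v ≠ 0) (hind : Ind3 v a b)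
    (hv : Commute x (F.jel v)) (ha : Commute x (F.jel a)) (hb : Commute x (F.jel b)) :
    x ∈ Subgroup.normalizer (F.J : Set G) ∧ (x ^ 3 = 1 → x ∈ F.U) := by
  obtain ⟨h, hh, k, hk, e⟩ := F.move_point hp hne
  obtain ⟨φ, hφi, hφ⟩ := F.exists_lin hh
  set x' := h * x * h⁻¹ with hx'
  have hsm : ∀ (c : ZMod 3) (v : V4), φ (c • v) = c • φ v := fun c v => ZMod.map_smul φ c v
  have hv' : φ v = (k, 0, 0, 0) := F.jel_inj (by rw [← hφ, e, F.jel_zpow])
  have hz : Commute x' D.z := commute_zk hk (e ▸ conj_comm h hv)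
  have ha' : Commute x' (F.jel (φ a)) := hφ a ▸ conj_comm h ha
  have hb' : Commute x' (F.jel (φ b)) := hφ b ▸ conj_comm h hb
  have suff : (∀ w ∈ F.J, x' * w * x'⁻¹ ∈ F.J) ∧ (x' ^ 3 = 1 → x' ∈ F.U) := by
    have two : ∀ c : V4, Commute x' (F.jel c) → c.2.2.2 ≠ 0 →
        (∀ w ∈ F.J, x' * w * x'⁻¹ ∈ F.J) ∧ (x' ^ 3 = 1 → x' ∈ F.U) := by
      intro c hc hj
      obtain ⟨γ, δ', hq, hj'⟩ := third_point c hj
      set c' := γ • ((1, 0, 0, 0) : V4) + δ' • c with hc'
      have hcc : Commute x' (F.jel c') := by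
        rw [hc', F.jel_add]
        exact (F.commute_smul (F.jel_z ▸ hz) γ).mul_right (F.commute_smul hc δ')
      obtain ⟨w, hw⟩ := translate_y c' hq hj'
      have ew : D.q w * F.jel (0, 0, 0, c'.2.2.2) * (D.q w)⁻¹ = F.jel c' := by
        rw [F.q_conj_jel]
        conv_rhs => rw [← hw]
        congr 1
        simp [show av 0 0 = (0 : W4) from rfl, show om w (0 : W4) = 0 by simp [om, det2]]
      set x'' := (D.q w)⁻¹ * x' * D.q w with hx''
      have hz'' : Commute x'' D.z := ((D.q_z w).inv_left.mul_left hz).mul_left (D.q_z w)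
      have hy'' : Commute x'' (F.y ^ c'.2.2.2.val) := by
        have := conj_comm' (D.q w) hcc
        rw [← ew, F.jel_ypow] at this
        simpa [hx'', mul_assoc] using this
      have hy : Commute x'' F.y := by
        rcases (by decide : ∀ k : ZMod 3, k ≠ 0 → k = 1 ∨ k = -1) c'.2.2.2 hj' with r | r <;> rw [r] at hy''
        · rwa [show (1 : ZMod 3).val = 1 from rfl, pow_one] at hy''
        · rw [F.y_pow_neg, show (1 : ZMod 3).val = 1 from rfl, pow_one] at hy''
          exact Commute.inv_right_iff.mp hy''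
      obtain ⟨p1, p2⟩ := F.pair_zy hz'' hy
      have hwN := F.q_mem_NJ w
      refine ⟨fun u hu => ?_, fun h3 => ?_⟩
      · have h1 : (D.q w)⁻¹ * u * D.q w ∈ F.J := by
          have := ((Subgroup.normalizer (F.J : Set G)).inv_mem hwN u).mp hu
          simpa using this
        have h2 := (hwN _).mp (p1 _ h1)
        rw [SetLike.mem_coe, hx''] at h2
        convert h2 using 1
        group
      · have h4 : x'' ^ 3 = 1 := by
          have h5 := conj_pow (a := (D.q w)⁻¹) (b := x') (i := 3)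
          rw [inv_inv] at h5
          rw [hx'', h5, h3]; group
        have h2 := (F.NJ_le_NU hwN _).mp (p2 h4)
        rw [SetLike.mem_coe, hx''] at h2
        convert h2 using 1
        group
    by_cases hja : (φ a).2.2.2 = 0
    · by_cases hjb : (φ b).2.2.2 = 0
      · have hdet : (φ a).2.1 * (φ b).2.2.1 - (φ a).2.2.1 * (φ b).2.1 ≠ 0 := fun hd => by
          obtain ⟨β, γ, hne', h1, h2⟩ := det_ne_flat _ _ _ _ hd
          obtain ⟨α, hα⟩ : ∃ α, α = -(k * (β * (φ a).1 + γ * (φ b).1)) := ⟨_, rfl⟩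
          have h0 : φ (α • v + β • a + γ • b) = 0 := by
            rw [map_add, map_add, hsm, hsm, hsm, hv']
            generalize φ a = pa at h1 h2 hja hα ⊢
            generalize φ b = pb at h1 h2 hjb hα ⊢
            obtain ⟨p0, p1, p2, p3⟩ := pa
            obtain ⟨q0, q1, q2, q3⟩ := pb
            obtain rfl : p3 = 0 := hja
            obtain rfl : q3 = 0 := hjb
            simp only [Prod.smul_mk, Prod.mk_add_mk, smul_eq_mul, mul_zero, add_zero, zero_add, hα] at h1 h2 ⊢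
            rw [show -(k * (β * p0 + γ * q0)) * k = -((k * k) * (β * p0 + γ * q0)) by ring,
              (by decide : ∀ k : ZMod 3, k ≠ 0 → k * k = 1) k hk, one_mul]
            rw [show -(β * p0 + γ * q0) + β * p0 + γ * q0 = 0 by ring, h1, h2]
            rfl
          obtain ⟨-, b0, c0⟩ := hind α β γ (hφi (h0.trans φ.map_zero.symm))
          exact hne' (by rw [b0, c0])
        have hU : x' ∈ F.U := F.cent_ZA hz fun c hc => by
          obtain ⟨i0, l0, rfl⟩ := inA_av c hc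
          obtain ⟨α, β, e1, e2⟩ := lin_comb_A _ _ _ _ hdet i0 l0
          have hc2 : Commute x' (F.jel (α • φ a + β • φ b)) := by
            rw [F.jel_add]; exact (F.commute_smul ha' α).mul_right (F.commute_smul hb' β)
          have hc3 : F.jel (α • φ a + β • φ b) = D.zz (α * (φ a).1 + β * (φ b).1) * D.q (av i0 l0) := by
            generalize φ a = pa at hja e1 e2 ⊢
            generalize φ b = pb at hjb e1 e2 ⊢
            obtain ⟨p0, p1, p2, p3⟩ := pa
            obtain ⟨q0, q1, q2, q3⟩ := pb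
            obtain rfl : p3 = 0 := hja
            obtain rfl : q3 = 0 := hjb
            rw [← e1, ← e2]
            show D.zz _ * D.q _ * F.y ^ _ = _
            simp [av]
          rw [hc3] at hc2
          have h5 := (D.zz_comm hz (α * (φ a).1 + β * (φ b).1)).inv_right.mul_right hc2
          simpa [mul_assoc] using h5
        exact ⟨fun w hw => by
          obtain ⟨u, rfl⟩ := hw
          rw [(F.commute_jel hU u).eq, mul_inv_cancel_right]; exact F.jel_mem u, fun _ => hU⟩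
      · exact two _ hb' hjb
    · exact two _ ha' hja
  have hN : x' ∈ Subgroup.normalizer (F.J : Set G) := F.mem_norm_J suff.1
  refine ⟨?_, fun h3 => ?_⟩
  · have := mul_mem (mul_mem (inv_mem hh) hN) hh
    rwa [hx', show h⁻¹ * (h * x * h⁻¹) * h = x by group] at this
  · have h4 := suff.2 (by rw [hx', conj_pow, h3]; group)
    exact (F.NJ_le_NU hh x).mpr h4

theorem NU_le_NJ [Finite G] {h : G} (hh : h ∈ Subgroup.normalizer (F.U : Set G)) :
    h ∈ Subgroup.normalizer (F.J : Set G) := by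
  have pt : ∀ v, qJ v = 0 → v ≠ 0 → h * F.jel v * h⁻¹ ∈ F.J := fun v hv hne =>
    F.pt_mem_J ((hh _).mp (F.jel_mem_U v)) (((F.isPt_jel v).mpr ⟨hv, hne⟩).conj h)
  refine F.mem_norm_J fun x hx => F.conj_mem_J_of_gens ?_ ?_ (fun a ha => ?_) hx
  · rw [← F.jel_z]; exact pt _ (by decide) (by decide)
  · rw [← F.jel_y]; exact pt _ (by decide) (by decide)
  · obtain ⟨i, l, rfl⟩ := inA_av a ha
    rw [← F.jel_q]
    obtain ⟨p, q', r, hp, hq', hr, e⟩ := (by decide +kernel : ∀ i l : ZMod 3, ∃ p q' r : V4,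
      qJ p = 0 ∧ qJ q' = 0 ∧ qJ r = 0 ∧ p + q' + r = (0, i, l, 0)) i l
    have pt' : ∀ v, qJ v = 0 → h * F.jel v * h⁻¹ ∈ F.J := fun v hv => by
      by_cases h0 : v = 0
      · rw [h0, F.jel_zero]; simp
      · exact pt v hv h0
    rw [← e, F.jel_add, F.jel_add, show h * (F.jel p * F.jel q' * F.jel r) * h⁻¹ =
      (h * F.jel p * h⁻¹) * (h * F.jel q' * h⁻¹) * (h * F.jel r * h⁻¹) by group]
    exact mul_mem (mul_mem (pt' _ hp) (pt' _ hq')) (pt' _ hr)

end Setting.Base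

end CfsgLib.U6Three
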