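import Cfsg.Agent.Lib.U6Three.IndexTwo

/-!
Passing to a normal subgroup containing the involution, the flip and the lifts.
-/

set_option autoImplicit false
set_option linter.style.haveILetI false
set_option synthInstance.maxSize 1024

namespace CfsgLib.U6Three

universe u

namespace Setting

variable {G : Type u} [Group G] (D : Setting G)

theorem q_mem_normal {H : Subgroup G} [hH : H.Normal] (ht : D.t ∈ H) (v : W4) : D.q v ∈ H := by
  have h : D.t * (D.q v * D.t⁻¹ * (D.q v)⁻¹) ∈ H := mul_mem ht (hH.conj_mem _ (inv_mem ht) _)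
  have e : D.t * (D.q v * D.t⁻¹ * (D.q v)⁻¹) = D.q (-v) * D.q (-v) := by
    rw [inv_eq_of_mul_eq_one_right D.t_sq, ← mul_assoc, ← mul_assoc, D.t_q, q_inv]
  rw [e, q_mul', om_self, neg_zero, zz_zero, one_mul] at h
  rwa [(by decide +kernel : ∀ w : W4, -w + -w = w) v] at h

theorem z_mem_normal {H : Subgroup G} [H.Normal] (ht : D.t ∈ H) : D.z ∈ H := by
  set a : W4 := ((1, 0), (0, 0)) with ha
  set b : W4 := ((0, 1), (0, 0)) with hb
  have h : D.zz (om a b) ∈ H := by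
    have hh := mul_mem (mul_mem (mul_mem (D.q_mem_normal ht a) (D.q_mem_normal ht b))
      (inv_mem (D.q_mem_normal ht a))) (inv_mem (D.q_mem_normal ht b))
    rwa [D.q_conj, mul_inv_cancel_right] at hh
  have h2 : D.zz (om a b + om a b) ∈ H := by rw [zz_add]; exact mul_mem h h
  have h3 : om a b = 1 ∨ om a b + om a b = 1 := by rw [ha, hb]; decide
  rcases h3 with e | e
  · rwa [e, zz_one] at h
  · rwa [e, zz_one] at h2

/-- The setting inside a normal subgroup. -/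
noncomputable def sub [Finite G] (F : D.Base) (H : Subgroup G) [H.Normal] (ht : D.t ∈ H) (hτ : F.τ3 ∈ H)
    (hl : ∀ g : Pr, g.1 * g.1 * (g.1 * g.1) = 1 → g.2 * g.2 * (g.2 * g.2) = 1 → ∃ s ∈ H, D.Acts s g) :
    Setting H where
  z := ⟨D.z, D.z_mem_normal ht⟩
  t := ⟨D.t, ht⟩
  q v := ⟨D.q v, D.q_mem_normal ht v⟩
  z_cube := Subtype.ext D.z_cube
  z_ne h := D.z_ne (congrArg Subtype.val h)
  t_sq := Subtype.ext D.t_sq
  t_z := Subtype.ext D.t_z.eq
  q_z v := Subtype.ext (D.q_z v).eq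
  q_mul v w := Subtype.ext (D.q_mul v w)
  q_inj k v h := D.q_inj k v (congrArg Subtype.val h)
  t_q v := Subtype.ext (D.t_q v)
  decomp h hh := by
    obtain ⟨u, s, a, b, e⟩ := D.decomp h (congrArg Subtype.val hh.eq)
    have hs : s ∈ H := by
      have : (D.q u)⁻¹ * (h : G) = s := by rw [e, inv_mul_cancel_left]
      exact this ▸ mul_mem (inv_mem (D.q_mem_normal ht u)) h.2
    exact ⟨u, ⟨s, hs⟩, Subtype.ext a.eq, Subtype.ext b.eq, Subtype.ext e⟩
  blocks s a b := by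
    obtain ⟨g, hg | hg⟩ := D.blocks (s : G) (congrArg Subtype.val a.eq) (congrArg Subtype.val b.eq)
    · exact ⟨g, Or.inl fun v => Subtype.ext (hg v)⟩
    · exact ⟨g, Or.inr fun v => Subtype.ext (hg v)⟩
  lift g h1 h2 := by
    obtain ⟨s, hs, ⟨a, b⟩, c⟩ := hl g h1 h2
    exact ⟨⟨s, hs⟩, Subtype.ext a.eq, Subtype.ext b.eq, fun v => Subtype.ext (c v)⟩
  self x hx := by
    obtain ⟨k, e⟩ := D.self (x : G) fun v => congrArg Subtype.val (hx v).eq
    exact ⟨k, Subtype.ext e⟩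
  wc g k v h := D.wc g k v (congrArg Subtype.val h)
  nwc := by
    have e : F.τ3 * D.z * F.τ3⁻¹ = F.y ^ (-1 : ZMod 3).val := by
      rw [← F.jel_z, F.τ3_facts.2.2.2.1]
      simp only [neg_zero]
      exact F.jel_ypow _
    have e2 : F.y ^ (-1 : ZMod 3).val = F.y⁻¹ := by
      rw [F.y_pow_neg, show (1 : ZMod 3).val = 1 from rfl, pow_one]
    refine ⟨⟨F.τ3, hτ⟩, Subtype.ext ?_, fun k v h => ?_⟩
    · show F.τ3 * D.z * F.τ3⁻¹ * D.z = D.z * (F.τ3 * D.z * F.τ3⁻¹)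
      rw [e, e2]
      exact F.y_z.inv_left.eq
    · refine F.y_not_Q ?_
      have h1 : F.τ3 * D.z * F.τ3⁻¹ = D.zz k * D.q v := congrArg Subtype.val h
      have h2 : F.y⁻¹ ∈ D.Q := by rw [← e2, ← e, h1]; exact D.mem_Q.mpr ⟨k, v, rfl⟩
      exact inv_inv F.y ▸ inv_mem h2

variable [Finite G] {D} (F : D.Base) (H : Subgroup G) [H.Normal] (ht : D.t ∈ H) (hτ : F.τ3 ∈ H)
  (hl : ∀ g : Pr, g.1 * g.1 * (g.1 * g.1) = 1 → g.2 * g.2 * (g.2 * g.2) = 1 → ∃ s ∈ H, D.Acts s g)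

theorem sub_acts {s : H} {g : Pr} (h : (D.sub F H ht hτ hl).Acts s g) : D.Acts (s : G) g :=
  ⟨⟨congrArg Subtype.val h.1.cz.eq, congrArg Subtype.val h.1.ct.eq⟩, fun v => congrArg Subtype.val (h.2 v)⟩

theorem sub_i1 : (((D.sub F H ht hτ hl).i1 : H) : G) = D.i1 := by
  refine IsBlock.unique ⟨sub_acts F H ht hτ hl (D.sub F H ht hτ hl).i1_block.acts, ?_⟩ D.i1_block
  exact congrArg Subtype.val (D.sub F H ht hτ hl).i1_block.sq

theorem sub_inv (h : (D.sub F H ht hτ hl).Inv) :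
    ∃ g ∈ H, g ∈ Base.Mi (D := D) ∧ g * D.z * g⁻¹ = D.z⁻¹ := by
  obtain ⟨g, hg, e⟩ := h
  refine ⟨g, g.2, Base.mem_Mi.mpr ?_, congrArg Subtype.val e⟩
  have h1 := congrArg Subtype.val (Base.mem_Mi.mp hg).eq
  simp only [Subgroup.coe_mul, sub_i1] at h1
  exact h1

theorem sub_not_inv (hI : ¬ D.Inv) : ¬ (D.sub F H ht hτ hl).Inv := fun h => by
  obtain ⟨g, -, hg, e⟩ := sub_inv F H ht hτ hl h
  exact hI ⟨g, hg, e⟩

theorem sub_not_caseB (hs : F.s0 ∉ H) : ¬ (D.sub F H ht hτ hl).caseB := by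
  rintro ⟨s, h⟩
  have hs' := sub_acts F H ht hτ hl h
  have h1 : D.Acts (s : G) (mU ^ (1 : ZMod 3).val, 1) := by
    rwa [show (1 : ZMod 3).val = 1 from rfl, pow_one]
  obtain ⟨k, m, e⟩ := F.s0_pow h1
  have hm : F.s0 ^ m.val ∈ H := by
    have : (D.zz k)⁻¹ * (s : G) = F.s0 ^ m.val := by rw [e, inv_mul_cancel_left]
    exact this ▸ mul_mem (inv_mem (pow_mem (D.z_mem_normal ht) _)) s.2
  rcases (by decide : ∀ m : ZMod 3, m = 0 ∨ m = 1 ∨ m = 2) m with rfl | rfl | rfl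
  · rw [show (0 : ZMod 3).val = 0 from rfl, pow_zero, mul_one] at e
    exact mU_cube.2.1 (congrArg Prod.fst ((e ▸ hs' : D.Acts (D.zz k) (mU, 1)).unique (acts_zz k)))
  · rw [show (1 : ZMod 3).val = 1 from rfl, pow_one] at hm
    exact hs hm
  · have := mul_mem hm hm
    rw [show (2 : ZMod 3).val = 2 from rfl, ← pow_add, show (2 + 2 : ℕ) = 3 + 1 from rfl, pow_succ,
      F.s0_cube, one_mul] at this
    exact hs this

end Setting

end CfsgLib.U6Three
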