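import Cfsg.Agent.Lib.U6Three.LeviStable

/-!
The base with the blocks exchanged, the quaternion group of the first block with its image under the flip, and
elements normalising the group they generate.
-/

set_option autoImplicit false
set_option linter.style.haveILetI false

namespace CfsgLib.U6Three

universe u

theorem q8_facts : ∀ R S : SL23, R * R * (R * R) = 1 → S * S * (S * S) = 1 →
    R * S * (R * S) * (R * S * (R * S)) = 1 ∧ R⁻¹ * R⁻¹ * (R⁻¹ * R⁻¹) = 1 ∧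
      (S * R * S⁻¹ = R ∨ S * R * S⁻¹ = R⁻¹) := by decide +kernel

theorem four_cases : ∀ p : SL23, (p = 1 ∨ p = mU ∨ p = mU * mU) → p * p * (p * p) = 1 → p = 1 := by decide +kernel

theorem snd_neg_zero : ∀ u : W4, appP ((1, -1) : Pr) u = u → u.2 = 0 := by decide +kernel

theorem pair_shift : ∀ k l j : ZMod 3, qJ (k, 0, l, j) = 0 → qJ (k, 0, l + 1, j) ≠ 0 →
    qJ (k, 0, l - 1, j) ≠ 0 → l = 0 := by decide +kernel

namespace Setting

variable {G : Type u} [Group G] {D : Setting G}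

theorem swap_acts {s : G} {p : Pr} : D.swap.Acts s p ↔ D.Acts s (p.2, p.1) := by
  constructor
  · rintro ⟨⟨hz, ht⟩, h⟩
    refine ⟨⟨hz, ht⟩, fun v => ?_⟩
    exact (h (swapW v)).trans (congrArg D.q (swapW_appP p (swapW v)))
  · rintro ⟨⟨hz, ht⟩, h⟩
    refine ⟨⟨hz, ht⟩, fun v => ?_⟩
    exact (h (swapW v)).trans (congrArg D.q (swapW_appP p v).symm)

variable [Finite G] in
theorem swap_i1 : D.swap.i1 = Base.i2 D := by
  refine (IsBlock.unique (D := D.swap) ?_ D.swap.i1_block).symm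
  refine ⟨swap_acts.mpr ?_, Base.i2_sq⟩
  have := D.t_acts.mul D.i1_block.acts
  rwa [show ((-1, -1) : Pr) * (-1, 1) = (1, -1) from Prod.ext (by simp) (by simp)] at this

variable [Finite G] in
theorem swap_i2 : Base.i2 D.swap = D.i1 := by
  rw [Base.i2, swap_i1]
  show D.t * (D.t * D.i1) = D.i1
  rw [← mul_assoc, D.t_sq, one_mul]

/-- The second coordinate vector of the axis. -/
def a2 (D : Setting G) : G := D.q (av 0 1)

variable (D) in
/-- The quaternion group of the first block. -/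
def R1 : Subgroup G where
  carrier := {x | x ^ 4 = 1 ∧ ∃ R : SL23, R * R * (R * R) = 1 ∧ D.Acts x (R, 1)}
  one_mem' := ⟨one_pow _, 1, by simp, acts_one⟩
  mul_mem' := by
    rintro x y ⟨hx4, R, hR, hx⟩ ⟨hy4, S, hS, hy⟩
    have h := (q8_facts R S hR hS).1
    refine ⟨?_, R * S, h, by simpa using hx.mul hy⟩
    obtain ⟨ε, hε⟩ : ∃ ε : Bool, y * x * y⁻¹ = if ε then x else x⁻¹ := by
      rcases (q8_facts R S hR hS).2.2 with e | e
      · have h1 := (hx.conj hy).mul hx.inv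
        rw [show ((S, 1) : Pr) * (R, 1) * ((S, 1) : Pr)⁻¹ = (R, 1) from Prod.ext (by simpa using e) (by simp),
          mul_inv_cancel] at h1
        obtain ⟨m, hm⟩ := h1.trivial
        have e1 : y * x * y⁻¹ = D.zz m * x := mul_inv_eq_iff_eq_mul.mp hm
        have e4 := congrArg (fun w => w ^ 4) e1
        simp only [conj_pow, hx4, mul_one, mul_inv_cancel] at e4
        rw [(D.zz_comm hx.1.cz m).symm.mul_pow, hx4, mul_one, zz, ← pow_mul, zz_nat] at e4
        have hm0 : m = 0 := (by decide : ∀ m : ZMod 3, (((m.val * 4 : ℕ) : ZMod 3) = 0 → m = 0)) m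
          (D.zz_inj (e4.symm.trans D.zz_zero.symm))
        exact ⟨true, by rw [e1, hm0, D.zz_zero, one_mul]; rfl⟩
      · have h1 := (hx.conj hy).mul hx
        rw [show ((S, 1) : Pr) * (R, 1) * ((S, 1) : Pr)⁻¹ = (R⁻¹, 1) from Prod.ext (by simpa using e) (by simp),
          show ((R⁻¹, 1) : Pr) * (R, 1) = 1 from Prod.ext (by simp) (by simp)] at h1
        obtain ⟨m, hm⟩ := h1.trivial
        have e1 : y * x * y⁻¹ = D.zz m * x⁻¹ := eq_mul_inv_iff_mul_eq.mpr hm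
        have e4 := congrArg (fun w => w ^ 4) e1
        simp only [conj_pow, hx4, mul_one, mul_inv_cancel] at e4
        rw [(D.zz_comm hx.1.cz m).inv_left.symm.mul_pow, inv_pow, hx4, inv_one, mul_one, zz, ← pow_mul, zz_nat] at e4
        have hm0 : m = 0 := (by decide : ∀ m : ZMod 3, (((m.val * 4 : ℕ) : ZMod 3) = 0 → m = 0)) m
          (D.zz_inj (e4.symm.trans D.zz_zero.symm))
        exact ⟨false, by rw [e1, hm0, D.zz_zero, one_mul]; rfl⟩
    rcases ε with _ | _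
    · have e2 : x * y * (x * y) = y * y := by
        rw [show x * y * (x * y) = x * (y * x * y⁻¹) * (y * y) by group, hε, if_neg (by simp), mul_inv_cancel, one_mul]
      rw [show 4 = 2 * 2 from rfl, pow_mul, pow_two (x * y), e2, ← pow_two y, ← pow_mul]
      exact hy4
    · have hc : Commute x y := by
        rw [if_pos rfl, mul_inv_eq_iff_eq_mul] at hε
        exact hε.symm
      rw [hc.mul_pow, hx4, hy4, one_mul]
  inv_mem' := by
    rintro x ⟨hx4, R, hR, hx⟩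
    exact ⟨by rw [inv_pow, hx4, inv_one], R⁻¹, (q8_facts R R hR hR).2.1, by simpa using hx.inv⟩

theorem mem_R1_def {x : G} : x ∈ D.R1 ↔ x ^ 4 = 1 ∧ ∃ R : SL23, R * R * (R * R) = 1 ∧ D.Acts x (R, 1) := Iff.rfl

theorem R1_QR {x : G} (hx : x ∈ D.R1) : D.swap.QR x := by
  obtain ⟨h4, R, hR, h⟩ := hx
  exact ⟨⟨R, hR, swap_acts.mpr h⟩, h4⟩

variable [Finite G] in
theorem mem_R1 {x : G} : x ∈ D.R1 ↔ x ^ 4 = 1 ∧ Commute x D.z ∧ Commute x (a2 D) ∧ Commute x D.i1 := by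
  constructor
  · intro hx
    obtain ⟨h4, R, hR, h⟩ := id hx
    refine ⟨h4, h.1.cz, h.comm_q ?_, swap_i2 (D := D) ▸ Base.Quat.comm_i2 (R1_QR hx).1⟩
    exact Prod.ext ((by decide +kernel : ∀ A : SL23, app2 A (0, 0) = (0, 0)) R) (app2_one _)
  · rintro ⟨h4, hz, ha, hi⟩
    obtain ⟨u, s, p, e, hs, hp, hu⟩ := inC_of (D := D.swap) (x := x) hz ha
    have hi1 : D.swap.Acts D.i1 (1, -1) := swap_acts.mpr D.i1_block.acts
    have hu2 : u.2 = 0 := by
      have h1 := hs.conj hi1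
      rw [show ((1, -1) : Pr) * p * ((1, -1) : Pr)⁻¹ = p from Prod.ext (by simp) (pm_central p.2).1] at h1
      have h2 := h1.mul hs.inv
      rw [mul_inv_cancel] at h2
      obtain ⟨m, hm⟩ := h2.trivial
      have e1 : D.i1 * s * D.i1⁻¹ = D.swap.zz m * s := mul_inv_eq_iff_eq_mul.mp hm
      have e2 : D.swap.zz m * D.swap.q (appP (1, -1) u) * s = D.swap.zz 0 * D.swap.q u * s := by
        calc D.swap.zz m * D.swap.q (appP (1, -1) u) * s = D.swap.q (appP (1, -1) u) * (D.swap.zz m * s) := by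
              rw [(D.swap.zz_q m _).eq, mul_assoc]
          _ = D.i1 * D.swap.q u * D.i1⁻¹ * (D.i1 * s * D.i1⁻¹) := by rw [hi1.2, e1]
          _ = D.i1 * x * D.i1⁻¹ := by rw [e]; group
          _ = D.swap.zz 0 * D.swap.q u * s := by
              rw [hi.symm.eq, mul_inv_cancel_right, D.swap.zz_zero, one_mul, e]
      exact snd_neg_zero u (D.swap.el_inj (mul_right_cancel e2)).2
    have hua : u = av u.1.1 0 := Prod.ext (Prod.ext rfl hu) (hu2.trans rfl)
    have hc : Commute (D.swap.q u) s := by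
      refine (hs.comm_q ?_).symm
      rw [hua]
      refine Prod.ext ?_ ((by decide +kernel : ∀ A : SL23, app2 A (0, 0) = (0, 0)) p.2)
      exact (by decide +kernel : ∀ A : SL23, (A = 1 ∨ A = mU ∨ A = mU * mU) → ∀ i : ZMod 3,
        app2 A (i, 0) = (i, 0)) _ hp _
    have hp4 : p * p * (p * p) = 1 := by
      have hm : D.swap.MA x p := ⟨u, s, e, hs⟩
      have := (hm.mul hm).mul (hm.mul hm)
      rw [← pow_two x, ← pow_two (x ^ 2), ← pow_mul, h4] at this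
      exact this.unique ma_one
    have hp1 := four_cases _ hp (congrArg Prod.fst hp4)
    have hs4 := (hs.mul hs).mul (hs.mul hs)
    rw [hp4] at hs4
    obtain ⟨k, hk⟩ := hs4.trivial
    have hu0 : u = 0 := by
      have h5 : D.swap.zz k * D.swap.q u = D.swap.zz 0 * D.swap.q 0 := by
        rw [D.swap.zz_zero, D.swap.q_zero, one_mul, (D.swap.zz_q k u).eq, ← hk, ← pow_two s, ← pow_two (s ^ 2),
          ← pow_mul]
        calc D.swap.q u * s ^ (2 * 2) = D.swap.q u ^ 4 * s ^ 4 := by rw [pow_succ (D.swap.q u) 3, D.swap.q_cube, one_mul]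
          _ = x ^ 4 := by rw [← hc.mul_pow, e]
          _ = 1 := h4
      exact (D.swap.el_inj h5).2
    rw [hu0, D.swap.q_zero, one_mul] at e
    subst e
    have := swap_acts.mp hs
    rw [hp1] at this
    exact ⟨h4, p.2, congrArg Prod.snd hp4, this⟩

namespace Base

variable (F : D.Base)

/-- The base with the blocks exchanged. -/
def swapB : D.swap.Base where
  y := F.y
  acts := swap_acts.mpr F.acts
  pt := F.pt

theorem swapB_jel (k i l j : ZMod 3) : F.swapB.jel (k, i, l, j) = F.jel (k, l, i, j) := rfl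

variable [Finite G]

theorem τ_a2 : Commute F.τ (a2 D) := by
  have := F.τ_flip.act (0, 0, 1, 0)
  simp only [neg_zero] at this
  rw [F.jel_q] at this
  exact mul_inv_eq_iff_eq_mul.mp this

theorem swap_τ_diff : F.τ⁻¹ * F.swapB.τ ∈ F.U ∧ Commute (F.τ⁻¹ * F.swapB.τ) D.i1 := by
  have h := F.τ_flip
  have h' := F.swapB.τ_flip
  refine ⟨F.fix_J_mem_U fun w => mul_inv_eq_iff_eq_mul.mp ?_, ?_⟩
  · obtain ⟨k, i, l, j⟩ := w
    have e := h'.act (k, l, i, j)
    rw [swapB_jel, swapB_jel] at e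
    calc F.τ⁻¹ * F.swapB.τ * F.jel (k, i, l, j) * (F.τ⁻¹ * F.swapB.τ)⁻¹
        = F.τ⁻¹ * (F.swapB.τ * F.jel (k, i, l, j) * F.swapB.τ⁻¹) * F.τ := by group
      _ = F.τ⁻¹ * (F.τ * F.jel (k, i, l, j) * F.τ⁻¹) * F.τ := by rw [e, h.act]
      _ = _ := by group
  · refine h.ci.inv_left.mul_left ?_
    have h1 : Commute F.swapB.τ (i2 D.swap) := F.swapB.τ_i2
    rwa [swap_i2 (D := D)] at h1

theorem R1_conj_U {u x : G} (hu : u ∈ F.U) (hi : Commute u D.i1) (hx : x ∈ D.R1) : u * x * u⁻¹ ∈ D.R1 := by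
  obtain ⟨h4, hz, ha, hxi⟩ := mem_R1.mp hx
  refine mem_R1.mpr ⟨by rw [conj_pow, h4]; group, ((F.U_z hu).mul_left hz).mul_left (F.U_z hu).inv_left, ?_,
    (hi.mul_left hxi).mul_left hi.inv_left⟩
  have := F.U_q hu (av_inA 0 1)
  exact (this.mul_left ha).mul_left this.inv_left

/-- The quaternion group of the first block at the point. -/
noncomputable def Ry : Subgroup G := D.R1.map (MulAut.conj F.τ).toMonoidHom

theorem mem_Ry {x : G} : x ∈ F.Ry ↔ x ^ 4 = 1 ∧ Commute x F.y ∧ Commute x (a2 D) ∧ Commute x D.i1 := by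
  constructor
  · rintro ⟨r, hr, rfl⟩
    obtain ⟨h4, hz, ha, hi⟩ := mem_R1.mp hr
    have hy := conj_comm F.τ hz
    rw [F.τ_conj_z] at hy
    exact ⟨by show (F.τ * r * F.τ⁻¹) ^ 4 = 1; rw [conj_pow, h4]; group, Commute.inv_right_iff.mp hy,
      (F.τ_a2.mul_left ha).mul_left F.τ_a2.inv_left, (F.τ_flip.ci.mul_left hi).mul_left F.τ_flip.ci.inv_left⟩
  · rintro ⟨h4, hy, ha, hi⟩
    refine ⟨F.τ⁻¹ * x * F.τ, mem_R1.mpr ⟨?_, ?_, ?_, ?_⟩, by simp [mul_assoc]⟩
    · rw [show F.τ⁻¹ * x * F.τ = F.τ⁻¹ * x * F.τ⁻¹⁻¹ by group, conj_pow, h4]; group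
    · have h1 := conj_comm' F.τ hy
      rw [show F.τ⁻¹ * F.y * F.τ = D.z⁻¹ by
        have h6 := F.τ_conj_z
        calc F.τ⁻¹ * F.y * F.τ = F.τ⁻¹ * (F.τ * D.z * F.τ⁻¹)⁻¹ * F.τ := by rw [h6, inv_inv]
          _ = D.z⁻¹ := by group] at h1
      exact Commute.inv_right_iff.mp h1
    · exact (F.τ_a2.inv_left.mul_left ha).mul_left F.τ_a2
    · exact (F.τ_flip.ci.inv_left.mul_left hi).mul_left F.τ_flip.ci

/-- The two quaternion groups of the first block commute. -/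
theorem R1_Ry_comm {r s : G} (hr : r ∈ D.R1) (hs : s ∈ F.Ry) : Commute r s := by
  obtain ⟨r', hr', rfl⟩ := hs
  obtain ⟨huU, hui⟩ := F.swap_τ_diff
  obtain ⟨u, hu⟩ : ∃ u, u = F.τ⁻¹ * F.swapB.τ := ⟨_, rfl⟩
  rw [← hu] at huU hui
  have h1 := F.swapB.quat_flip_comm (R1_QR hr) (R1_QR (F.R1_conj_U (inv_mem huU) hui.inv_left hr'))
  rw [show F.swapB.τ * (u⁻¹ * r' * u⁻¹⁻¹) * F.swapB.τ⁻¹ = F.τ * r' * F.τ⁻¹ by rw [hu]; group] at h1
  exact h1

/-- The product of the two quaternion groups. -/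
noncomputable def N0 : Subgroup G := D.R1 ⊔ F.Ry

theorem R1_le_N0 : D.R1 ≤ F.N0 := le_sup_left

theorem Ry_le_N0 : F.Ry ≤ F.N0 := le_sup_right

theorem N0_comm {x : G} (hx : x ∈ F.N0) : Commute x (a2 D) ∧ Commute x D.i1 := by
  have h : F.N0 ≤ Subgroup.centralizer ({a2 D, D.i1} : Set G) := by
    refine sup_le ?_ ?_ <;> intro w hw <;> rw [Subgroup.mem_centralizer_iff]
    · obtain ⟨-, -, ha, hi⟩ := mem_R1.mp hw
      rintro _ (rfl | rfl)
      exacts [ha.eq.symm, hi.eq.symm]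
    · obtain ⟨-, -, ha, hi⟩ := F.mem_Ry.mp hw
      rintro _ (rfl | rfl)
      exacts [ha.eq.symm, hi.eq.symm]
  have h1 := Subgroup.mem_centralizer_iff.mp (h hx)
  exact ⟨(h1 _ (by simp)).symm, (h1 _ (by simp)).symm⟩

theorem exists_prod {x : G} (hx : x ∈ F.N0) : ∃ r ∈ D.R1, ∃ s ∈ F.Ry, x = r * s := by
  have hn : D.R1 ≤ Subgroup.normalizer (F.Ry : Set G) := fun r hr => by
    refine Subgroup.centralizer_le_normalizer _ (Subgroup.mem_centralizer_iff.mpr fun s hs => ?_)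
    exact (F.R1_Ry_comm hr hs).eq.symm
  have h := Subgroup.coe_mul_of_left_le_normalizer_right D.R1 F.Ry hn
  rw [N0, ← SetLike.mem_coe, h] at hx
  obtain ⟨r, hr, s, hs, e⟩ := hx
  exact ⟨r, hr, s, hs, e.symm⟩

theorem a2_mem_swap : a2 D ∈ F.swapB.P := F.swapB.a_mem_P 1

theorem W2_swap : F.swapB.W2 = F.N0 := by
  refine le_antisymm ?_ (sup_le ?_ ?_)
  · refine (Subgroup.closure_le _).2 fun x ⟨hL, h4, hi, hzy⟩ => ?_
    have ha : Commute x (a2 D) := F.swapB.mem_CP.mp (F.swapB.L_le_CP hL) _ F.a2_mem_swap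
    rw [swap_i2 (D := D)] at hi
    rcases hzy with h | h
    · exact F.R1_le_N0 (mem_R1.mpr ⟨h4, h, ha, hi⟩)
    · exact F.Ry_le_N0 (F.mem_Ry.mpr ⟨h4, h, ha, hi⟩)
  · intro r hr
    obtain ⟨h4, hz, -, hi⟩ := mem_R1.mp hr
    exact Subgroup.subset_closure ⟨F.swapB.gen_mem_L (Or.inr (R1_QR hr).1), h4, (swap_i2 (D := D)).symm ▸ hi, Or.inl hz⟩
  · rintro _ ⟨r, hr, rfl⟩
    obtain ⟨h4, hy, -, hi⟩ := F.mem_Ry.mp ⟨r, hr, rfl⟩
    refine Subgroup.subset_closure ⟨?_, h4, (swap_i2 (D := D)).symm ▸ hi, Or.inr hy⟩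
    obtain ⟨huU, hui⟩ := F.swap_τ_diff
    have hq := R1_QR (F.R1_conj_U (inv_mem huU) hui.inv_left hr)
    have := F.swapB.τ_gen_mem_L (Or.inr hq.1)
    show F.τ * r * F.τ⁻¹ ∈ F.swapB.L
    convert this using 1
    group

/-- Centralising the second axis and the involution, one normalises the product. -/
theorem N0_conj_axis {g : G} (hg : g ∈ F.swapB.CP) (hi : Commute g D.i1) {x : G} (hx : x ∈ F.N0) :
    g * x * g⁻¹ ∈ F.N0 := by
  rw [← F.W2_swap] at hx ⊢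
  exact F.swapB.levi_norm_W hg ((swap_i2 (D := D)).symm ▸ hi) hx

theorem pt_pair_jel {g p : G} (ha : Commute g (a2 D)) (hgp : g * p * g⁻¹ ∈ F.U) (hpi : Commute (g * p * g⁻¹) D.i1)
    (hp : D.IsPt p) (hp1 : ¬ D.IsPt (p * a2 D)) (hp2 : ¬ D.IsPt (p * (a2 D)⁻¹)) :
    ∃ k j : ZMod 3, g * p * g⁻¹ = F.jel (k, 0, 0, j) ∧ ((k = 0 ∧ j ≠ 0) ∨ (k ≠ 0 ∧ j = 0)) := by
  obtain ⟨⟨k, i, l, j⟩, hq, hne, e⟩ := (F.pt_iff hgp).mp (IsPt.conj (D := D) hp g)
  obtain rfl : i = 0 := by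
    have h1 := F.conj_jel_i1 (k, i, l, j)
    rw [← e, hpi.symm.eq, mul_inv_cancel_right, e] at h1
    exact (by decide : ∀ i : ZMod 3, i = -i → i = 0) i (congrArg (fun v : V4 => v.2.1) (F.jel_inj h1))
  have hshift : ∀ c : ZMod 3, g * (p * (a2 D) ^ c.val) * g⁻¹ = F.jel (k, 0, l + c, j) := by
    intro c
    have h1 : g * (a2 D) ^ c.val * g⁻¹ = F.jel (0, 0, c, 0) := by
      rw [(ha.pow_right _).eq, mul_inv_cancel_right,
        show F.jel (0, 0, c, 0) = F.jel (c • ((0, 0, 1, 0) : V4)) by simp, F.jel_smul, F.jel_q]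
      rfl
    rw [show g * (p * (a2 D) ^ c.val) * g⁻¹ = (g * p * g⁻¹) * (g * (a2 D) ^ c.val * g⁻¹) by group, h1, e,
      ← F.jel_add]
    simp
  have hl : l = 0 := by
    refine pair_shift k l j hq (fun h0 => hp1 ?_) (fun h0 => hp2 ?_)
    · have h2 := (F.isPt_jel (k, 0, l + 1, j)).mpr ⟨h0, fun h3 => ?_⟩
      · rw [← hshift 1] at h2
        have := IsPt.conj (D := D) h2 g⁻¹
        rwa [inv_inv, show (1 : ZMod 3).val = 1 from rfl, pow_one,
          show g⁻¹ * (g * (p * a2 D) * g⁻¹) * g = p * a2 D by group] at this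
      · simp only [Prod.mk_eq_zero] at h3
        exact hne (by
          obtain ⟨rfl, -, h4, rfl⟩ := h3
          obtain rfl : l = -1 := eq_neg_of_add_eq_zero_left h4
          simp [qJ] at hq)
    · have h2 := (F.isPt_jel (k, 0, l - 1, j)).mpr ⟨h0, fun h3 => ?_⟩
      · rw [sub_eq_add_neg, ← hshift (-1)] at h2
        have := IsPt.conj (D := D) h2 g⁻¹
        have h3 : (a2 D) ^ (-1 : ZMod 3).val = (a2 D)⁻¹ := eq_inv_of_mul_eq_one_left (by
          rw [show (-1 : ZMod 3).val = 2 from rfl, ← pow_succ]; exact D.q_cube _)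
        rwa [inv_inv, h3, show g⁻¹ * (g * (p * (a2 D)⁻¹) * g⁻¹) * g = p * (a2 D)⁻¹ by group] at this
      · simp only [Prod.mk_eq_zero] at h3
        exact hne (by
          obtain ⟨rfl, -, h4, rfl⟩ := h3
          obtain rfl : l = 1 := sub_eq_zero.mp h4
          simp [qJ] at hq)
  subst hl
  refine ⟨k, j, e, ?_⟩
  simp only [qJ, mul_zero, add_zero] at hq
  rcases mul_eq_zero.mp hq with rfl | rfl
  · exact Or.inl ⟨rfl, fun h => hne (by rw [h]; rfl)⟩
  · exact Or.inr ⟨fun h => hne (by rw [h]; rfl), rfl⟩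

theorem pt_pair_image {g p : G} (ha : Commute g (a2 D)) (hgp : g * p * g⁻¹ ∈ F.U) (hpi : Commute (g * p * g⁻¹) D.i1)
    (hp : D.IsPt p) (hp1 : ¬ D.IsPt (p * a2 D)) (hp2 : ¬ D.IsPt (p * (a2 D)⁻¹)) :
    ∀ u : G, Commute u p → Commute (g * u * g⁻¹) D.z ∨ Commute (g * u * g⁻¹) F.y := by
  obtain ⟨k, j, e, hkj⟩ := F.pt_pair_jel ha hgp hpi hp hp1 hp2
  intro u hu
  have h1 := conj_comm g hu
  rw [e] at h1
  rcases hkj with ⟨rfl, hj⟩ | ⟨hk, rfl⟩
  · rw [F.jel_ypow] at h1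
    refine Or.inr ?_
    rcases (by decide : ∀ l : ZMod 3, l ≠ 0 → l = 1 ∨ l = 2) j hj with rfl | rfl
    · rwa [show (1 : ZMod 3).val = 1 from rfl, pow_one] at h1
    · rw [show (2 : ZMod 3).val = 2 from rfl] at h1
      have h3 := h1.mul_right h1
      rwa [← pow_add, pow_succ, F.y_cube, one_mul] at h3
  · rw [F.jel_zpow] at h1
    exact Or.inl (commute_zk hk h1)

/-- Centralising the vector and the involution and keeping the two points in the group of coordinates, one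
normalises the product. -/
theorem N0_conj_pts {g : G} (ha : Commute g (a2 D)) (hi : Commute g D.i1) (hgz : g * D.z * g⁻¹ ∈ F.U)
    (hgy : g * F.y * g⁻¹ ∈ F.U) {x : G} (hx : x ∈ F.N0) : g * x * g⁻¹ ∈ F.N0 := by
  have hz0 : ∀ c : ZMod 3, c ≠ 0 → ¬ D.IsPt (D.z * D.q (av 0 c)) := fun c hc h => by
    rw [← F.jel_q, ← F.jel_z, ← F.jel_add] at h
    exact (by decide +kernel : ∀ c : ZMod 3, c ≠ 0 → qJ ((1, 0, 0, 0) + (0, 0, c, 0)) ≠ 0) c hc
      ((F.isPt_jel _).mp h).1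
  have hy0 : ∀ c : ZMod 3, c ≠ 0 → ¬ D.IsPt (F.y * D.q (av 0 c)) := fun c hc h => by
    rw [← F.jel_q, ← F.jel_y, ← F.jel_add] at h
    exact (by decide +kernel : ∀ c : ZMod 3, c ≠ 0 → qJ ((0, 0, 0, 1) + (0, 0, c, 0)) ≠ 0) c hc
      ((F.isPt_jel _).mp h).1
  have hm : (a2 D)⁻¹ = D.q (av 0 (-1)) := by rw [a2, D.q_inv, av_neg, neg_zero]
  have hzi : Commute (g * D.z * g⁻¹) D.i1 :=
    (hi.mul_left D.i1_block.acts.1.cz.symm).mul_left hi.inv_left
  have hyi : Commute (g * F.y * g⁻¹) D.i1 := (hi.mul_left F.block_y.symm).mul_left hi.inv_left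
  have kz := F.pt_pair_image ha hgz hzi ⟨1, Or.inl (by group)⟩ (hz0 1 (by decide)) (hm ▸ hz0 (-1) (by decide))
  have ky := F.pt_pair_image ha hgy hyi F.pt (hy0 1 (by decide)) (hm ▸ hy0 (-1) (by decide))
  suffices F.N0 ≤ F.N0.comap (MulAut.conj g).toMonoidHom from this hx
  refine sup_le (fun r hr => ?_) (fun r hr => ?_)
  all_goals
    show g * r * g⁻¹ ∈ F.N0
  · obtain ⟨h4, hz, hra, hri⟩ := mem_R1.mp hr
    rcases kz r hz with h | h
    · exact F.R1_le_N0 (mem_R1.mpr ⟨by rw [conj_pow, h4]; group, h, (ha.mul_left hra).mul_left ha.inv_left,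
        (hi.mul_left hri).mul_left hi.inv_left⟩)
    · exact F.Ry_le_N0 (F.mem_Ry.mpr ⟨by rw [conj_pow, h4]; group, h, (ha.mul_left hra).mul_left ha.inv_left,
        (hi.mul_left hri).mul_left hi.inv_left⟩)
  · obtain ⟨h4, hy, hra, hri⟩ := F.mem_Ry.mp hr
    rcases ky r hy with h | h
    · exact F.R1_le_N0 (mem_R1.mpr ⟨by rw [conj_pow, h4]; group, h, (ha.mul_left hra).mul_left ha.inv_left,
        (hi.mul_left hri).mul_left hi.inv_left⟩)
    · exact F.Ry_le_N0 (F.mem_Ry.mpr ⟨by rw [conj_pow, h4]; group, h, (ha.mul_left hra).mul_left ha.inv_left,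
        (hi.mul_left hri).mul_left hi.inv_left⟩)

end Base

end Setting

end CfsgLib.U6Three
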