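import Cfsg.Agent.Lib.U6Three.InvFix

/-!
Involutions permuting the frame of components, and the units moved to an orthogonal plane.
-/

set_option autoImplicit false
set_option linter.style.haveILetI false
set_option synthInstance.maxSize 1024

namespace CfsgLib.U6Three

universe u

/-- The exponents of the second vector. -/
def exA : Option (ZMod 3) → ZMod 3
  | none => 0
  | some b => -b

/-- The exponents of the product of the inverse of the central element with the standard point. -/
def exE : Option (ZMod 3) → ZMod 3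
  | none => 1
  | some b => 1 + b * b

theorem exA_facts : ∀ i a, aA (emb i a) = emb i (rotn (exA i) a) := by decide +kernel

theorem exE_facts : ∀ (i : Option (ZMod 3)) (a : K4),
    (vmk (rotn 1 (emb i a).1) fun b => rotn (eb (-1) 0 1 b) (vb (emb i a) b)) = emb i (rotn (exE i) a) := by
  decide +kernel

/-- The two permutations of the frame. -/
def fp (sw : Bool) : Option (ZMod 3) → Option (ZMod 3)
  | none => if sw then some 0 else none
  | some b => if b = 0 then (if sw then none else some 0) else some (-b)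

theorem exA_fp : ∀ (sw : Bool) i, exA (fp sw i) = 2 * exA i := by decide +kernel

theorem exE_fp : ∀ i, exE (fp true i) = exE i := by decide +kernel

theorem orth_unit_exists : ∀ c1 c2 : K4 × K4 × K4, ∃ x : Vec, x.1 = 0 ∧ qv x = 1 ∧
    bv ((0 : K4), c1) x = 0 ∧ bv ((0 : K4), c2) x = 0 := by decide +kernel

theorem bv_W : ∀ (c x : Vec), x.1 = 0 → bv c x = bv ((0 : K4), c.2) x := by decide +kernel

theorem sg_bv (v w : Vec) : bv (sg v) (sg w) = bv v w := by
  have h := sg_qv (v + w)
  rw [sg_add, qv_add, qv_add, sg_qv, sg_qv] at h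
  exact add_left_cancel h

theorem third_index : ∀ j l : Option (ZMod 3), j ≠ l → ∃ i, i ≠ j ∧ i ≠ l := by decide +kernel

theorem unit_pair : ∀ a b : K4, a ≠ 0 → b ≠ 0 → a = b ∨ (a + b ≠ 0 ∧ cf a b = 1) := by decide

namespace Setting.Base

variable {G : Type u} [Group G] {D : Setting G} (F : D.Base) [Finite G]

theorem semi_eps {k : G} (hk : k ∈ F.N) :
    (F.Lin k ∧ ∀ c v, F.na k (sp c v) = sp (1 * c) (F.na k v)) ∨
    (F.Anti k ∧ ∀ c v, F.na k (sp c v) = sp (2 * c) (F.na k v)) := by
  rcases (F.N_le_XS hk).2 with h | h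
  · exact Or.inl ⟨h, fun c v => by rw [one_mul]; exact h.sp F c v⟩
  · exact Or.inr ⟨h, F.anti_sp h⟩

/-- An anticommuting involution has no cohomology. -/
theorem anti_H1 {k : G} (h : F.Anti k) (v : Vec) (hv : F.na k v = v) : ∃ w, F.na k w + w = v := by
  refine ⟨sg v, ?_⟩
  rw [h, hv]
  have := sg_triple v
  rw [add_assoc, add_comm (sg v)] at this
  calc sg (sg v) + sg v = v + (v + (sg (sg v) + sg v)) := by rw [← add_assoc, vec_two, zero_add]
    _ = v := by rw [this, add_zero]

/-- An involution permuting the frame conjugate to a unit representative is inner. -/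
theorem frame_inner {r : G} (hr : r ∈ D.R1) (h0 : cR (D := D) r ≠ 0) {g : G} (hg : g ∈ Mi (D := D))
    (hk : g * r * g⁻¹ ∈ F.N) (h2 : g * r * g⁻¹ * (g * r * g⁻¹) ∈ Ic (D := D)) {sw : Bool}
    (hπ : ∀ i a, ∃ b, F.na (g * r * g⁻¹) (emb i a) = emb (fp sw i) b)
    (hsw : sw = true ∨ F.Anti (g * r * g⁻¹)) : g * r * g⁻¹ ∈ F.K := by
  set k := g * r * g⁻¹ with hkd
  have H1 : ∀ v, F.na k v = v → ∃ w, F.na k w + w = v := by
    intro v hv
    rcases hsw with rfl | h
    · refine ⟨emb none v.1 + emb (some 1) (vb v 1), ?_⟩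
      obtain ⟨a', ha⟩ := hπ none v.1
      obtain ⟨c', hc⟩ := hπ (some 1) (vb v 1)
      obtain ⟨b', hb⟩ := hπ (some 0) (vb v 0)
      obtain ⟨d', hd⟩ := hπ (some 2) (vb v 2)
      rw [emb_split v] at hv
      simp only [F.na_add hk, ha, hb, hc, hd] at hv
      have hfact : ∀ a b c d : K4, emb (fp true none) a + emb (fp true (some 0)) b + emb (fp true (some 1)) c +
          emb (fp true (some 2)) d = ((b, a, d, c) : Vec) := by decide +kernel
      rw [hfact, ← emb_split v] at hv
      have h1 : vb v 0 = a' := by rw [← hv]; rfl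
      have h2' : vb v 2 = c' := by rw [← hv]; rfl
      rw [F.na_add hk, ha, hc, ← h1, ← h2']
      exact (by decide +kernel : ∀ v : Vec, emb (fp true none) (vb v 0) + emb (fp true (some 1)) (vb v 2) +
        (emb none v.1 + emb (some 1) (vb v 1)) = v) v
    · exact F.anti_H1 h v hv
  obtain ⟨x, hx, hcomm⟩ := F.comm_conj hk h2 H1
  suffices x * g * r * (x * g)⁻¹ ∈ F.K by
    have h3 := mul_mem (mul_mem (inv_mem hx) this) hx
    rwa [show x⁻¹ * (x * g * r * (x * g)⁻¹) * x = k by rw [hkd]; group] at h3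
  have hxg : x * g ∈ Mi (D := D) := mul_mem (F.K_le_Mi hx) hg
  have ec : x * k * x⁻¹ = x * g * r * (x * g)⁻¹ := by rw [hkd]; group
  rw [ec] at hcomm
  have hex : ∀ i a, F.na (a2 D) (emb i a) = emb i (rotn (exA i) a) := fun i a => by rw [F.na_a2]; exact exA_facts i a
  rcases F.semi_eps hk with ⟨hl, hε⟩ | ⟨-, hε⟩
  · rcases hsw with rfl | hA
    swap
    · exfalso
      have h1 := hA (emb none (1, 0))
      rw [hl] at h1
      have h3 := F.na_qv hk (emb none (1, 0))
      revert h1 h3
      generalize F.na k (emb none (1, 0)) = u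
      exact (by decide +kernel : ∀ u : Vec, sg u = sg (sg u) → qv u = qv (emb none (1, 0)) → False) u
    set e := F.jel (-1, 0, 0, 1)
    have heN : e ∈ F.N := F.UM_le_N (F.jel_mem_UM _ _ _)
    have he3 : e ^ 3 = 1 := F.U_cube (F.jel_mem_U _)
    have heC : e ∈ F.Cna k := F.comm_of_exp hk heN hπ hε (ex := exE)
      (fun i a => by rw [F.na_jel]; exact exE_facts i a) (fun i => by rw [one_mul]; exact exE_fp i)
    have hc := hcomm e (F.jel_mem_U _) heC
    have hne : e ≠ 1 := fun h => absurd (F.jel_inj (h.trans F.jel_zero.symm)) (by decide)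
    by_cases hB : D.caseB
    · obtain ⟨hsN, hs⟩ := F.s0_facts hB
      have hsU : F.s0 ∈ F.U := (F.mem_P.mp F.s0_mem_P).1
      have hsC : F.s0 ∈ F.Cna k := F.comm_of_exp hk hsN hπ hε (ex := fun _ => 1)
        (fun i a => by rw [hs, sg_emb]) (fun i => (one_mul _).symm)
      refine F.unit_K_of_pair hr h0 hxg heN hsN he3 F.s0_cube (F.U_comm (F.jel_mem_U _) hsU) (fun i j h => ?_)
        hc (hcomm _ hsU hsC)
      have hj : j = 0 := F.s0_pow_mem_J hB (by
        rw [eq_inv_of_mul_eq_one_right h]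
        exact inv_mem (pow_mem (F.jel_mem _) _))
      subst hj
      rw [ZMod.val_zero, pow_zero, mul_one, ← F.jel_smul, ← F.jel_zero] at h
      have := congrArg (fun v : V4 => v.2.2.2) (F.jel_inj h)
      simp only [Prod.smul_snd, smul_eq_mul, mul_one, Prod.snd_zero] at this
      rw [this]
    · exact F.unit_K_of_three hB hr h0 hxg heN he3 hne hc
  · have haU : a2 D ∈ F.U := (F.mem_UM.mp F.a2_mem_UM).1
    refine F.unit_K_of_gd hr h0 hxg (F.UM_le_N F.a2_mem_UM) (F.NT_cube F.a2_mem_UM) F.gd_a2 (hcomm _ haU ?_)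
    exact F.comm_of_exp hk (F.UM_le_N F.a2_mem_UM) hπ hε hex (exA_fp sw)

/-- The first part of the orthogonality is additive. -/
theorem orth_one_add {k : G} (hk : k ∈ F.N) (h2 : k * k ∈ Ic (D := D)) (x y : Vec) :
    bv (x + y) (F.na k (x + y)) = bv x (F.na k x) + bv y (F.na k y) := by
  have h : bv y (F.na k x) = bv x (F.na k y) := by
    rw [← F.na_bv hk, F.sq_involutive hk h2, bv_comm]
  rw [F.na_add hk, bv_add_left, bv_comm x, bv_comm y (_ + _), bv_add_left, bv_add_left, bv_comm (F.na k x) x,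
    bv_comm (F.na k y) x, bv_comm (F.na k x) y, bv_comm (F.na k y) y, h]
  generalize bv x (F.na k x) = a, bv x (F.na k y) = b, bv y (F.na k y) = c
  exact (by decide : ∀ a b c : ZMod 2, a + b + (b + c) = a + c) a b c

/-- The second part of the orthogonality. -/
theorem orth_two_add {k : G} (hk : k ∈ F.N) (x y : Vec) :
    bv (sg (x + y)) (F.na k (x + y)) =
      bv (sg x) (F.na k x) + bv (sg y) (F.na k y) + (bv (sg x) (F.na k y) + bv (sg y) (F.na k x)) := by
  rw [F.na_add hk, sg_add, bv_add_left, bv_comm (sg x) (_ + _), bv_comm (sg y) (_ + _), bv_add_left, bv_add_left,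
    bv_comm _ (sg x), bv_comm _ (sg y), bv_comm (F.na k y) (sg x), bv_comm (F.na k y) (sg y)]
  ring

theorem orth_cross_anti {k : G} (hk : k ∈ F.N) (h2 : k * k ∈ Ic (D := D)) (h : F.Anti k) (x y : Vec) :
    bv (sg x) (F.na k y) + bv (sg y) (F.na k x) = 0 := by
  have e : bv (sg y) (F.na k x) = bv (sg x) (F.na k y) := by
    rw [← F.na_bv hk, h, F.sq_involutive hk h2, bv_comm, ← sg_bv x, sg_cube]
  rw [e]
  exact (by decide : ∀ a : ZMod 2, a + a = 0) _

theorem orth_cross_lin {k : G} (hk : k ∈ F.N) (h2 : k * k ∈ Ic (D := D)) (h : F.Lin k) (x y : Vec) :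
    bv (sg x) (F.na k y) + bv (sg y) (F.na k x) = bv x (F.na k y) := by
  have e : bv (sg y) (F.na k x) = bv (sg (sg x)) (F.na k y) := by
    rw [← F.na_bv hk, h, F.sq_involutive hk h2, bv_comm, ← sg_bv x, ← sg_bv (sg x), sg_cube]
  rw [e, ← bv_add_left]
  congr 1
  calc sg x + sg (sg x) = x + (x + sg x + sg (sg x)) := by rw [add_assoc x, ← add_assoc, vec_two, zero_add]
    _ = x := by rw [sg_triple, add_zero]

/-- With a fixed unit on the first component an anticommuting involution moves a unit of the complement to an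
orthogonal plane. -/
theorem anti_swapped_unit {k : G} (hk : k ∈ F.N) (h2 : k * k ∈ Ic (D := D)) (h : F.Anti k) :
    ∃ x : Vec, x.1 = 0 ∧ qv x = 1 ∧ bv x (F.na k x) = 0 ∧ bv (sg x) (F.na k x) = 0 := by
  obtain ⟨c1, hc1⟩ := bv_dual (fun x => bv x (F.na k x)) (F.orth_one_add hk h2)
  obtain ⟨c2, hc2⟩ := bv_dual (fun x => bv (sg x) (F.na k x)) (fun x y => by
    rw [F.orth_two_add hk, F.orth_cross_anti hk h2 h, add_zero])
  obtain ⟨x, hx, hq, e1, e2⟩ := orth_unit_exists c1.2 c2.2
  refine ⟨x, hx, hq, ?_, ?_⟩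
  · rw [← hc1 x, bv_W c1 x hx, e1]
  · rw [← hc2 x, bv_W c2 x hx, e2]

/-- Without fixed units an involution moves some unit to an orthogonal plane. -/
theorem swapped_unit {k : G} (hk : k ∈ F.N) (h2 : k * k ∈ Ic (D := D))
    (hfix : ∀ u, qv u = 1 → F.na k u ≠ u) :
    ∃ x : Vec, qv x = 1 ∧ bv x (F.na k x) = 0 ∧ bv (sg x) (F.na k x) = 0 := by
  have h1 : ∀ x, bv x (F.na k x) = 0 := fun x => by
    have hf : F.na k (x + F.na k x) = x + F.na k x := by rw [F.na_add hk, F.sq_involutive hk h2, add_comm]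
    have hq : qv (x + F.na k x) ≠ 1 := fun h => hfix _ h hf
    rw [qv_add, F.na_qv hk] at hq
    exact (by decide : ∀ a b : ZMod 2, a + a + b ≠ 1 → b = 0) _ _ hq
  by_contra hcon
  simp only [not_exists, not_and] at hcon
  have hu : ∀ x, qv x = 1 → bv (sg x) (F.na k x) = 1 := fun x hx =>
    (by decide : ∀ a : ZMod 2, a ≠ 0 → a = 1) _ (hcon x hx (h1 x))
  set P : Vec → Vec → ZMod 2 := fun x y => bv (sg x) (F.na k y) + bv (sg y) (F.na k x) with hP
  have hPadd : ∀ x x' y, P (x + x') y = P x y + P x' y := fun x x' y => by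
    simp only [hP, sg_add, F.na_add hk, bv_add_left]
    rw [bv_comm (sg y) (_ + _), bv_add_left, bv_comm (F.na k x), bv_comm (F.na k x')]
    ring
  have hPs : ∀ x y, P x y = P y x := fun x y => add_comm _ _
  have hP0 : ∀ y, P 0 y = 0 := fun y => by
    have := hPadd 0 0 y
    rwa [add_zero, left_eq_add] at this
  have hsum : ∀ {i j l : Option (ZMod 3)} {a b c : K4}, i ≠ j → i ≠ l → j ≠ l → a ≠ 0 → b ≠ 0 → c ≠ 0 →
      P (emb i a) (emb j b) + P (emb i a) (emb l c) + P (emb j b) (emb l c) = 0 := by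
    intro i j l a b c hij hil hjl ha hb hc
    have hq : ∀ (i : Option (ZMod 3)) (a : K4), a ≠ 0 → qv (emb i a) = 1 := fun i a ha => by
      rw [(bv_emb i a a).2, nz_one]; exact ha
    have h3 : qv (emb i a + emb j b + emb l c) = 1 := by
      rw [qv_add, qv_add, bv_add_left, hq i a ha, hq j b hb, hq l c hc, bv_emb_ne i j a b hij,
        bv_emb_ne i l a c hil, bv_emb_ne j l b c hjl]
      decide
    have h4 := hu _ h3
    rw [F.orth_two_add hk, F.orth_two_add hk, hu _ (hq i a ha), hu _ (hq j b hb), hu _ (hq l c hc)] at h4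
    have h5 : P (emb i a + emb j b) (emb l c) = P (emb i a) (emb l c) + P (emb j b) (emb l c) := hPadd _ _ _
    simp only [hP] at h5 ⊢
    rw [h5] at h4
    revert h4
    generalize bv (sg (emb i a)) (F.na k (emb j b)) + bv (sg (emb j b)) (F.na k (emb i a)) = p1,
      bv (sg (emb i a)) (F.na k (emb l c)) + bv (sg (emb l c)) (F.na k (emb i a)) = p2,
      bv (sg (emb j b)) (F.na k (emb l c)) + bv (sg (emb l c)) (F.na k (emb j b)) = p3
    exact (by decide : ∀ p1 p2 p3 : ZMod 2, 1 + 1 + p1 + 1 + (p2 + p3) = 1 → p1 + p2 + p3 = 0) p1 p2 p3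
  have hPb : ∀ i j a b, P (emb i a) (emb j b) = bv (emb i a) (emb j b) := by
    intro i j a b
    obtain rfl | ha := eq_or_ne a 0
    · rw [emb_zero, hP0]
      exact ((by decide +kernel : ∀ v : Vec, bv 0 v = 0) _).symm
    obtain rfl | hb := eq_or_ne b 0
    · rw [emb_zero, hPs, hP0, bv_comm]
      exact ((by decide +kernel : ∀ v : Vec, bv 0 v = 0) _).symm
    obtain rfl | hij := eq_or_ne i j
    · rcases unit_pair a b ha hb with rfl | ⟨hab, hcf⟩
      · rw [(bv_emb i a a).1, (by decide : ∀ a : K4, cf a a = 0) a]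
        exact (by decide : ∀ a : ZMod 2, a + a = 0) _
      · rw [(bv_emb i a b).1, hcf]
        have hq : ∀ a : K4, a ≠ 0 → qv (emb i a) = 1 := fun a ha => by rw [(bv_emb i a a).2, nz_one]; exact ha
        have h4 := hu _ (hq _ hab)
        rw [emb_add, F.orth_two_add hk, hu _ (hq a ha), hu _ (hq b hb)] at h4
        exact (by decide : ∀ p : ZMod 2, 1 + 1 + p = 1 → p = 1) _ h4
    · rw [bv_emb_ne i j a b hij]
      obtain ⟨l, hli, hlj⟩ := third_index i j hij
      have r1 := hsum hli hlj hij (show ((1, 0) : K4) ≠ 0 by decide) ha hb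
      have r2 := hsum hli hlj hij (show ((0, 1) : K4) ≠ 0 by decide) ha hb
      have r3 := hsum hli hlj hij (show ((1, 1) : K4) ≠ 0 by decide) ha hb
      rw [show ((1, 1) : K4) = (1, 0) + (0, 1) by decide, emb_add, hPadd, hPadd] at r3
      revert r1 r2 r3
      generalize P (emb i a) (emb j b) = p, P (emb l (1, 0)) (emb i a) = q1, P (emb l (1, 0)) (emb j b) = q1',
        P (emb l (0, 1)) (emb i a) = q2, P (emb l (0, 1)) (emb j b) = q2'
      exact (by decide : ∀ p q1 q1' q2 q2' : ZMod 2, q1 + q1' + p = 0 → q2 + q2' + p = 0 →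
        q1 + q2 + (q1' + q2') + p = 0 → p = 0) p q1 q1' q2 q2'
  rcases (F.N_le_XS hk).2 with h | h
  · have hid : ∀ j b, F.na k (emb j b) = emb j b := fun j b => by
      have h0 : ∀ v, bv v (F.na k (emb j b) + emb j b) = 0 := fun v => by
        rw [emb_split v]
        simp only [bv_add_left]
        rw [bv_comm _ (F.na k _ + _), bv_comm _ (F.na k _ + _), bv_comm _ (F.na k _ + _), bv_comm _ (F.na k _ + _)]
        simp only [bv_add_left]
        have e : ∀ i a, bv (F.na k (emb j b)) (emb i a) + bv (emb j b) (emb i a) = 0 := fun i a => by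
          rw [bv_comm, ← F.orth_cross_lin hk h2 h, bv_comm (emb j b)]
          show P (emb i a) (emb j b) + _ = 0
          rw [hPb]
          exact (by decide : ∀ a : ZMod 2, a + a = 0) _
        rw [e, e, e, e]
        decide
      have := bv_nondeg (F.na k (emb j b) + emb j b) fun w => by rw [bv_comm]; exact h0 w
      calc F.na k (emb j b) = F.na k (emb j b) + (emb j b + emb j b) := by rw [vec_two, add_zero]
        _ = emb j b := by rw [← add_assoc, this, zero_add]
    exact hfix (emb none (1, 0)) (by decide +kernel) (hid _ _)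
  · have := hPb none none (1, 0) (0, 1)
    rw [(bv_emb none _ _).1] at this
    simp only [hP] at this
    rw [F.orth_cross_anti hk h2 h] at this
    exact absurd this (by decide)

end Setting.Base

end CfsgLib.U6Three
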