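import Cfsg.Agent.Lib.U6Three.Frame

/-!
An element exchanging the two cyclic groups of points, and the points among the coordinates.
-/

set_option autoImplicit false

namespace CfsgLib.U6Three

universe u

theorem shift_key : ∀ ε β i : ZMod 3, ε ≠ 0 → ε * (i - 1) + β ≠ 0 → ε * (i - 2) + β ≠ 0 → ε * i + β = 0 := by
  decide +kernel

theorem translate_y : ∀ v : V4, qJ v = 0 → v.2.2.2 ≠ 0 → ∃ w : W4,
    (-(v.2.2.2 * (w.1.2 * w.1.2 + w.2.2 * w.2.2)), -(v.2.2.2 * w.1.2), -(v.2.2.2 * w.2.2), v.2.2.2) = v := by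
  decide +kernel

theorem untranslate : ∀ v : V4, v.2.2.2 ≠ 0 → ∃ w : W4,
    (v.1 + om w (av v.2.1 v.2.2.1) - v.2.2.2 * (w.1.2 * w.1.2 + w.2.2 * w.2.2) = v.1 + (v.2.1 * v.2.1 + v.2.2.1 * v.2.2.1) * v.2.2.2) ∧
      v.2.1 - v.2.2.2 * w.1.2 = 0 ∧ v.2.2.1 - v.2.2.2 * w.2.2 = 0 := by decide +kernel

theorem qJ_zero : ∀ v : V4, v.2.2.2 ≠ 0 → v.1 + (v.2.1 * v.2.1 + v.2.2.1 * v.2.2.1) * v.2.2.2 = 0 → qJ v = 0 := by
  decide +kernel

theorem qJ_Q : ∀ v : V4, v.2.2.2 = 0 → qJ v = 0 → v ≠ 0 → v.2.1 = 0 ∧ v.2.2.1 = 0 ∧ v.1 ≠ 0 := by decide +kernel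

theorem par_pow : ∀ p : Pr, Par p → ∃ d : ZMod 3, d ≠ 0 ∧ p = ((mU, mU) : Pr) ^ d.val := by
  rintro p (rfl | rfl)
  · exact ⟨1, by decide, by decide +kernel⟩
  · exact ⟨2, by decide, by decide +kernel⟩

namespace Setting.Base

variable {G : Type u} [Group G] {D : Setting G} (F : D.Base)

theorem conj_pow' (g x : G) (n : ℕ) : g * x ^ n * g⁻¹ = (g * x * g⁻¹) ^ n := (conj_pow (a := g) (b := x) (i := n)).symm

/-- A transporter with its action on the coordinates. -/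
structure Tr (g : G) (ε δ : ZMod 3) : Prop where
  ε_ne : ε ≠ 0
  δ_ne : δ ≠ 0
  ct : Commute g D.t
  hz : g * D.z * g⁻¹ = F.y ^ ε.val
  hy : g * F.y * g⁻¹ = D.z ^ δ.val
  hA : ∀ a, InA a → ∃ b, InA b ∧ g⁻¹ * D.q a * g = D.q b
  hA' : ∀ a, InA a → ∃ b, InA b ∧ g * D.q a * g⁻¹ = D.q b
  shift : ∀ i : ZMod 3, D.IsPt (F.y * D.zz i) → i = 0

theorem exists_tr : ∃ g ε δ, F.Tr g ε δ := by
  obtain ⟨g, hg, ht, ⟨p', hx, hp'⟩, hA⟩ := transport F.acts (Or.inl rfl) F.pt
  obtain ⟨ε, hε, ez⟩ : ∃ ε : ZMod 3, ε ≠ 0 ∧ g * D.z * g⁻¹ = F.y ^ ε.val := by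
    rcases hg with h | h
    · exact ⟨1, by decide, by rw [show (1 : ZMod 3).val = 1 from rfl, pow_one, h]⟩
    · refine ⟨-1, by decide, ?_⟩
      rw [F.y_pow_neg, show (1 : ZMod 3).val = 1 from rfl, pow_one, h, inv_inv]
  obtain ⟨d, hd, rfl⟩ := par_pow p' hp'
  obtain ⟨k, hk⟩ : ∃ k, g⁻¹ * D.z * g = F.jel (k, 0, 0, d) := by
    have h1 : D.MA (F.y ^ d.val) (((mU, mU) : Pr) ^ d.val) := F.acts.ma.pow _
    have hl : D.IsLevi (F.y ^ d.val) := ⟨F.y_z.pow_left _, F.y_t.pow_left _⟩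
    obtain ⟨q', hq'⟩ : ∃ q', D.Acts (F.y ^ d.val) q' := by
      obtain ⟨q', hq', -⟩ := Acts.of_three hl (by rw [← pow_mul, mul_comm, pow_mul, F.y_cube, one_pow])
      exact ⟨q', hq'⟩
    obtain rfl := hq'.ma.unique h1
    have h2 := hx.mul hq'.inv
    rw [mul_inv_cancel] at h2
    obtain ⟨k, hk⟩ := h2.trivial
    refine ⟨k, ?_⟩
    show _ = D.zz k * D.q (av 0 0) * F.y ^ d.val
    rw [show av 0 0 = (0 : W4) from rfl, D.q_zero, mul_one, ← hk]
    group
  obtain ⟨β, hy⟩ : ∃ β, g * F.y * g⁻¹ = F.jel (d, 0, 0, β) := by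
    refine ⟨-(ε * k * d), ?_⟩
    have e1 : D.z = g * D.zz k * g⁻¹ * (g * F.y * g⁻¹) ^ d.val := by
      have hk' : g⁻¹ * D.z * g = D.zz k * F.y ^ d.val := by
        rw [hk]; show D.zz k * D.q (av 0 0) * F.y ^ d.val = _
        rw [show av 0 0 = (0 : W4) from rfl, D.q_zero, mul_one]
      rw [conj_pow]
      calc D.z = g * (g⁻¹ * D.z * g) * g⁻¹ := by group
        _ = _ := by rw [hk']; group
    rw [zz, conj_pow' g D.z, ez, ← pow_mul] at e1
    have h3 : (g * F.y * g⁻¹) ^ d.val = F.jel (1, 0, 0, -(ε * k)) := by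
      have e3 : F.y ^ (ε.val * k.val) = F.y ^ (ε * k).val := by
        rw [ZMod.val_mul, ← pow_eq_pow_mod _ F.y_cube]
      rw [e3, ← F.jel_ypow, ← F.jel_z] at e1
      calc (g * F.y * g⁻¹) ^ d.val = (F.jel (0, 0, 0, ε * k))⁻¹ * F.jel (1, 0, 0, 0) := by rw [e1]; group
        _ = _ := by rw [← F.jel_neg, ← F.jel_add]; congr 1; simp
    have h4 : (g * F.y * g⁻¹) ^ (d.val * d.val) = g * F.y * g⁻¹ := by
      rw [pow_eq_pow_mod (d.val * d.val) (show (g * F.y * g⁻¹) ^ 3 = 1 by rw [conj_pow, F.y_cube]; group),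
        ← ZMod.val_mul, (by decide : ∀ d : ZMod 3, d ≠ 0 → d * d = 1) d hd, show (1 : ZMod 3).val = 1 from rfl, pow_one]
    rw [pow_mul, h3] at h4
    rw [← h4]
    rcases (by decide : ∀ d : ZMod 3, d ≠ 0 → d = 1 ∨ d = 2) d hd with rfl | rfl
    · rw [show (1 : ZMod 3).val = 1 from rfl, pow_one, mul_one]
    · rw [show (2 : ZMod 3).val = 2 from rfl, pow_two, ← F.jel_add]
      congr 1
      simp only [Prod.mk_add_mk, Prod.mk.injEq]
      refine ⟨rfl, rfl, rfl, ?_⟩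
      ring
  have hA' : ∀ a, InA a → ∃ b, InA b ∧ g * D.q a * g⁻¹ = D.q b := by
    classical
    let f : {a : W4 // InA a} → {a : W4 // InA a} := fun a => ⟨(hA a a.2).choose, (hA a a.2).choose_spec.1⟩
    have hf : Function.Injective f := fun a b h => Subtype.ext (D.q_injective (by
      have h1 := (hA a a.2).choose_spec.2
      have h2 := (hA b b.2).choose_spec.2
      rw [show (hA a a.2).choose = (hA b b.2).choose from congrArg Subtype.val h, ← h2] at h1
      simpa using h1))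
    intro a ha
    obtain ⟨b, hb⟩ := (Finite.injective_iff_surjective.1 hf) ⟨a, ha⟩
    refine ⟨b, b.2, ?_⟩
    have := (hA b b.2).choose_spec.2
    rw [show (hA b b.2).choose = a from congrArg Subtype.val hb] at this
    rw [← this]; group
  have key : ∀ i : ZMod 3, D.IsPt (F.y * D.zz i) → ε * i + β = 0 := by
    intro i hi
    have nz : ∀ w : W4, (w.1.2, w.2.2) ≠ (0, 0) → ε * (i - (w.1.2 * w.1.2 + w.2.2 * w.2.2)) + β ≠ 0 := by
      intro w hw h0
      have e : F.y * D.zz i = F.jel (i, 0, 0, 1) := by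
        show _ = D.zz i * D.q (av 0 0) * F.y ^ (1 : ZMod 3).val
        rw [show av 0 0 = (0 : W4) from rfl, D.q_zero, mul_one, show (1 : ZMod 3).val = 1 from rfl, pow_one,
          (D.zz_comm F.y_z i).eq]
      have h1 := (hi.conj (D.q w)).conj g
      rw [e, F.q_conj_jel] at h1
      simp only [show av 0 0 = (0 : W4) from rfl, show om w (0 : W4) = 0 by simp [om, det2], add_zero, one_mul,
        zero_sub] at h1
      obtain ⟨b, hb, hbq⟩ := hA' (av (-w.1.2) (-w.2.2)) (av_inA _ _)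
      obtain ⟨i', l', rfl⟩ := inA_av b hb
      set m := i - (w.1.2 * w.1.2 + w.2.2 * w.2.2)
      have e2 : g * F.jel (m, -w.1.2, -w.2.2, 1) * g⁻¹ = F.jel (d, i', l', ε * m + β) := by
        show g * (D.zz m * D.q (av (-w.1.2) (-w.2.2)) * F.y ^ (1 : ZMod 3).val) * g⁻¹ = _
        rw [show (1 : ZMod 3).val = 1 from rfl, pow_one,
          show g * (D.zz m * D.q (av (-w.1.2) (-w.2.2)) * F.y) * g⁻¹ =
            g * D.z ^ m.val * g⁻¹ * (g * D.q (av (-w.1.2) (-w.2.2)) * g⁻¹) * (g * F.y * g⁻¹) by rw [zz]; group,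
          conj_pow' g D.z, ez, ← pow_mul, hbq, hy, pow_eq_pow_mod _ F.y_cube, ← ZMod.val_mul, ← F.jel_ypow, ← F.jel_q,
          ← F.jel_add, ← F.jel_add]
        congr 1
        simp
      rw [e2, h0] at h1
      have hQ : F.jel (d, i', l', 0) = D.zz d * D.q (av i' l') := by
        show D.zz d * D.q (av i' l') * F.y ^ (0 : ZMod 3).val = _
        rw [ZMod.val_zero, pow_zero, mul_one]
      rw [hQ] at h1
      obtain ⟨k', hk'⟩ := h1.mem_Q (mul_mem (D.zz_mem d) (D.q_mem _))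
      have hb0 := (D.el_inj (v := av i' l') (l := k') (w := 0) (by rw [hk', D.q_zero, mul_one])).2
      rw [hb0, D.q_zero] at hbq
      have h5 : D.q (av (-w.1.2) (-w.2.2)) = D.q 0 := by rw [D.q_zero]; exact conj_eq_one_iff.mp hbq
      obtain ⟨a1, a2⟩ := av_inj _ _ 0 0 ((D.q_injective h5).trans rfl)
      exact hw (by rw [Prod.mk.injEq]; exact ⟨neg_eq_zero.mp a1, neg_eq_zero.mp a2⟩)
    refine shift_key ε β i hε ?_ ?_
    · simpa using nz ((0, 1), (0, 0)) (by decide)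
    · simpa [show (1 : ZMod 3) + 1 = 2 from rfl] using nz ((0, 1), (0, 1)) (by decide)
  have hβ : β = 0 := by
    simpa using key 0 (by rw [D.zz_zero, mul_one]; exact F.pt)
  subst hβ
  refine ⟨g, ε, d, hε, hd, ht, ez, ?_, hA, hA', fun i hi => ?_⟩
  · rw [hy, F.jel_zpow]; rfl
  · have := key i hi
    rw [add_zero] at this
    exact (mul_eq_zero.mp this).resolve_left hε

/-- A fixed transporter. -/
noncomputable def g : G := F.exists_tr.choose

/-- Its exponent on the central element. -/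
noncomputable def ε : ZMod 3 := F.exists_tr.choose_spec.choose

/-- Its exponent on the point. -/
noncomputable def δ : ZMod 3 := F.exists_tr.choose_spec.choose_spec.choose

theorem tr : F.Tr F.g F.ε F.δ := F.exists_tr.choose_spec.choose_spec.choose_spec

theorem y_pow_pt {j : ZMod 3} (hj : j ≠ 0) : D.IsPt (F.y ^ j.val) := by
  rcases (by decide : ∀ j : ZMod 3, j ≠ 0 → j = 1 ∨ j = -1) j hj with rfl | rfl
  · rw [show (1 : ZMod 3).val = 1 from rfl, pow_one]; exact F.pt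
  · rw [F.y_pow_neg, show (1 : ZMod 3).val = 1 from rfl, pow_one]; exact F.pt.inv

/-- The points among the coordinates. -/
theorem isPt_jel (v : V4) : D.IsPt (F.jel v) ↔ qJ v = 0 ∧ v ≠ 0 := by
  constructor
  · intro hp
    have hne : v ≠ 0 := fun h => hp.ne_one (by rw [h, F.jel_zero])
    refine ⟨?_, hne⟩
    obtain ⟨k, i, l, j⟩ := v
    by_cases hj : j = 0
    · subst hj
      have hQ : F.jel (k, i, l, 0) = D.zz k * D.q (av i l) := by
        show D.zz k * D.q (av i l) * F.y ^ (0 : ZMod 3).val = _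
        rw [ZMod.val_zero, pow_zero, mul_one]
      rw [hQ] at hp
      obtain ⟨k', hk'⟩ := hp.mem_Q (mul_mem (D.zz_mem k) (D.q_mem _))
      obtain ⟨rfl, rfl⟩ := av_inj i l 0 0 ((D.el_inj (v := av i l) (l := k') (w := 0)
        (by rw [hk', D.q_zero, mul_one])).2.trans rfl)
      simp [qJ]
    · obtain ⟨w, h1, h2, h3⟩ := untranslate (k, i, l, j) hj
      have hc := hp.conj (D.q w)
      rw [F.q_conj_jel, h1, h2, h3] at hc
      refine qJ_zero _ hj ?_
      set c := k + (i * i + l * l) * j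
      have hc2 : D.IsPt (F.jel (c, 0, 0, j)) := hc
      have h4 : D.IsPt (F.jel (j * c, 0, 0, 1)) := by
        rcases (by decide : ∀ j : ZMod 3, j ≠ 0 → j = 1 ∨ j = -1) j hj with r | r <;> rw [r] at hc2 ⊢
        · rwa [one_mul]
        · have h5 := hc2.inv
          rw [← F.jel_neg] at h5
          convert h5 using 2
          simp
      have h6 : F.jel (j * c, 0, 0, 1) = F.y * D.zz (j * c) := by
        show D.zz (j * c) * D.q (av 0 0) * F.y ^ (1 : ZMod 3).val = _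
        rw [show av 0 0 = (0 : W4) from rfl, D.q_zero, mul_one, show (1 : ZMod 3).val = 1 from rfl, pow_one,
          (D.zz_comm F.y_z _).eq]
      exact (mul_eq_zero.mp (F.tr.shift _ (h6 ▸ h4))).resolve_left hj
  · rintro ⟨hq, hne⟩
    by_cases hj : v.2.2.2 = 0
    · obtain ⟨a, b, c⟩ := qJ_Q v hj hq hne
      obtain ⟨k, i, l, j⟩ := v
      obtain ⟨rfl, rfl, rfl⟩ : i = 0 ∧ l = 0 ∧ j = 0 := ⟨a, b, hj⟩
      rw [F.jel_zpow]
      exact D.isPt_zz c
    · obtain ⟨w, hw⟩ := translate_y v hq hj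
      have := (F.y_pow_pt hj).conj (D.q w)
      rw [← F.jel_ypow, F.q_conj_jel] at this
      rw [← hw]
      convert this using 2
      simp [show av 0 0 = (0 : W4) from rfl, show om w (0 : W4) = 0 by simp [om, det2]]

end Setting.Base

end CfsgLib.U6Three
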