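import Cfsg.Agent.Lib.U6Three.Transport

/-!
The centraliser of the group of order eighty-one: an elementary abelian group containing all points it meets there.
-/

set_option autoImplicit false

namespace CfsgLib.U6Three

universe u

/-- Three-elements fixing the first coordinate vectors. -/
def Nine (p : Pr) : Prop := (p.1 = 1 ∨ p.1 = mU ∨ p.1 = mU * mU) ∧ (p.2 = 1 ∨ p.2 = mU ∨ p.2 = mU * mU)

theorem pow_nine_sl : ∀ A : SL23, A * A * A * (A * A * A) * (A * A * A) = 1 → A * A * A = 1 := by decide +kernel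

theorem nine_pow : ∀ A : SL23, (A = 1 ∨ A = mU ∨ A = mU * mU) → ∃ a : ZMod 3, A = mU ^ a.val := by decide +kernel

theorem nine_conj : ∀ A : SL23, (A = 1 ∨ A = mU ∨ A = mU * mU) → A * mU * A⁻¹ = mU ∧ A * A * A = 1 := by
  decide +kernel

theorem Nine.fix {p : Pr} (hp : Nine p) {v : W4} (hv : InA v) : appP p v = v := by
  have key : ∀ A : SL23, (A = 1 ∨ A = mU ∨ A = mU * mU) → ∀ a : ZMod 3, app2 A (a, 0) = (a, 0) := by decide +kernel
  obtain ⟨⟨v1, v2⟩, ⟨v3, v4⟩⟩ := v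
  obtain ⟨rfl, rfl⟩ : v2 = 0 ∧ v4 = 0 := hv
  exact Prod.ext (key _ hp.1 v1) (key _ hp.2 v3)

theorem Nine.conj_diag {p : Pr} (hp : Nine p) : p * (mU, mU) * p⁻¹ = (mU, mU) :=
  Prod.ext (by rw [Prod.fst_mul, Prod.fst_mul, Prod.fst_inv]; exact (nine_conj _ hp.1).1)
    (by rw [Prod.snd_mul, Prod.snd_mul, Prod.snd_inv]; exact (nine_conj _ hp.2).1)

theorem Nine.cube {p : Pr} (hp : Nine p) : p * p * p = 1 := Prod.ext (nine_conj _ hp.1).2 (nine_conj _ hp.2).2

namespace Setting.Base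

variable {G : Type u} [Group G] {D : Setting G} (F : D.Base)

/-- The centraliser of the group of order eighty-one. -/
def U : Subgroup G := Subgroup.centralizer (F.J : Set G)

theorem commute_jel {x : G} (hx : x ∈ F.U) (v : V4) : Commute x (F.jel v) :=
  (Subgroup.mem_centralizer_iff.mp hx _ (F.jel_mem v)).symm

theorem U_z {x : G} (hx : x ∈ F.U) : Commute x D.z := F.jel_z ▸ F.commute_jel hx _

theorem U_y {x : G} (hx : x ∈ F.U) : Commute x F.y := F.jel_y ▸ F.commute_jel hx _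

theorem U_q {x : G} (hx : x ∈ F.U) {a : W4} (ha : InA a) : Commute x (D.q a) := by
  obtain ⟨i, l, rfl⟩ := inA_av a ha
  exact F.jel_q i l ▸ F.commute_jel hx _

theorem nine_comm_y {s : G} {p : Pr} (hs : D.Acts s p) (hp : Nine p) : Commute s F.y := by
  have h1 := F.acts.conj hs
  rw [hp.conj_diag] at h1
  have h2 := F.acts.inv.mul h1
  rw [inv_mul_cancel] at h2
  obtain ⟨m, hm⟩ := h2.trivial
  have e : s * F.y * s⁻¹ = F.y * D.zz m := by rw [← hm]; group
  have hpt : D.IsPt (F.y * D.zz m) := e ▸ F.pt.conj s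
  rw [F.tr.shift m hpt, D.zz_zero, mul_one, mul_inv_eq_iff_eq_mul] at e
  exact e

theorem mem_U_iff {x : G} : x ∈ F.U ↔ ∃ c s p, InA c ∧ D.Acts s p ∧ Nine p ∧ x = D.q c * s := by
  constructor
  · intro hx
    obtain ⟨u, s, p, e, hg | hg⟩ := D.cases_H (F.U_z hx)
    · have e' : x = D.zz 0 * (D.q u * s) := by rw [D.zz_zero, one_mul, e]
      have h1 := (D.comm_q_iff hg ea1).mp (e' ▸ F.U_q hx (by decide))
      have h2 := (D.comm_q_iff hg ea2).mp (e' ▸ F.U_q hx (by decide))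
      exact ⟨u, s, p, om_ea u h1.2 h2.2, hg, ⟨sl_fix_vec p.1 (congrArg Prod.fst h1.1),
        sl_fix_vec p.2 (congrArg Prod.snd h2.1)⟩, e⟩
    · exfalso
      have h1 : D.zz 0 * D.q ea1 = D.zz (om u (appP p (swapW ea1))) * D.q (appP p (swapW ea1)) := by
        rw [D.zz_zero, one_mul, ← D.q_conj, ← hg.2]
        calc D.q ea1 = x * D.q ea1 * x⁻¹ := by rw [(F.U_q hx (by decide)).eq]; group
          _ = _ := by rw [e]; group
      exact (by decide +kernel : ∀ A : SL23, app2 A (0, 0) ≠ (1, 0)) p.1 (congrArg Prod.fst (D.el_inj h1).2).symm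
  · rintro ⟨c, s, p, hc, hs, hp, rfl⟩
    refine Subgroup.mem_centralizer_iff.mpr ?_
    rintro _ ⟨⟨k, i, l, j⟩, rfl⟩
    refine Commute.eq ?_
    have hz : Commute (D.q c * s) (D.zz k) := D.zz_comm ((D.q_z c).mul_left hs.1.cz) k
    have hq : Commute (D.q c * s) (D.q (av i l)) :=
      (D.q_comm.mpr ((by decide +kernel : ∀ c d : W4, InA c → InA d → om c d = 0) c _ hc (av_inA i l))).mul_left
        (hs.comm_q (hp.fix (av_inA i l)))
    have hy : Commute (D.q c * s) (F.y ^ j.val) :=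
      ((F.y_q hc).symm.mul_left (F.nine_comm_y hs hp)).pow_right _
    exact ((hz.mul_right hq).mul_right hy).symm

theorem jel_mem_U (v : V4) : F.jel v ∈ F.U :=
  Subgroup.mem_centralizer_iff.mpr (by rintro _ ⟨w, rfl⟩; exact (F.jel_comm w v).eq)

theorem J_le_U : F.J ≤ F.U := by rintro _ ⟨v, rfl⟩; exact F.jel_mem_U v

include F in
theorem nine_cube {s : G} {p : Pr} (hs : D.Acts s p) (hp : Nine p) : s ^ 3 = 1 := by
  have h3 := (hs.mul hs).mul hs
  rw [hp.cube] at h3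
  obtain ⟨k, hk⟩ := h3.trivial
  have hk' : s ^ 3 = D.zz k := by rw [pow_three', hk]
  set h' := F.g⁻¹ * s * F.g with hh'
  have hgz : F.g⁻¹ * D.z * F.g = F.y ^ F.δ.val := by
    have h1 : F.g * F.y ^ F.δ.val * F.g⁻¹ = D.z := by
      rw [conj_pow', F.tr.hy, ← pow_mul, pow_eq_pow_mod _ D.z_cube, ← ZMod.val_mul,
        (by decide : ∀ d : ZMod 3, d ≠ 0 → d * d = 1) _ F.tr.δ_ne, show (1 : ZMod 3).val = 1 from rfl, pow_one]
    rw [← h1]; group
  have hz : Commute h' D.z := by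
    have := conj_comm' F.g ((F.nine_comm_y hs hp).pow_right F.ε.val)
    rwa [← F.tr.hz, show F.g⁻¹ * (F.g * D.z * F.g⁻¹) * F.g = D.z by group] at this
  have e3 : h' ^ 3 = F.y ^ (F.δ * k).val := by
    have h1 := conj_pow (a := F.g⁻¹) (b := s) (i := 3)
    rw [inv_inv] at h1
    rw [hh', h1, hk', zz, ZMod.val_mul, ← pow_eq_pow_mod _ F.y_cube, pow_mul, ← hgz]
    have := conj_pow (a := F.g⁻¹) (b := D.z) (i := k.val)
    rw [inv_inv] at this
    exact this.symm
  have e9 : h' ^ 9 = 1 := by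
    rw [show 9 = 3 * 3 from rfl, pow_mul, e3, ← pow_mul, mul_comm, pow_mul, F.y_cube, one_pow]
  obtain ⟨u, s', q', e, hq | hq⟩ := D.cases_H hz
  · have hA : D.MA h' q' := ⟨u, s', e, hq⟩
    have h9 := hA.pow 9
    rw [e9] at h9
    have hq9 : q' ^ 9 = 1 := h9.unique ma_one
    have hq3 : q' ^ 3 = 1 := by
      have key : ∀ A : SL23, A ^ 9 = 1 → A ^ 3 = 1 := by
        intro A hA
        rw [pow_three']
        refine pow_nine_sl A ?_
        rw [← pow_three', ← pow_three', ← pow_mul]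
        exact hA
      exact Prod.ext (key _ (congrArg Prod.fst hq9)) (key _ (congrArg Prod.snd hq9))
    have h3' := hA.pow 3
    rw [e3, hq3] at h3'
    have := diag_pow_one mU (Or.inl rfl) (F.δ * k) (by simpa using (congrArg Prod.fst ((F.y_ma _).unique h3')))
    rw [(mul_eq_zero.mp this).resolve_left F.tr.δ_ne, D.zz_zero] at hk'
    exact hk'
  · exfalso
    have hS : D.MS h' q' := ⟨u, s', e, hq⟩
    have h2 := ((hS.mul_MS hS).pow 4).inv
    have e' : (h' * h') ^ 4 = h'⁻¹ := by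
      refine eq_inv_of_mul_eq_one_left ?_
      rw [← pow_two, ← pow_mul, ← pow_succ]
      exact e9
    rw [e', inv_inv] at h2
    exact h2.not_MS hS

include F in
theorem nine_comm {s s' : G} {p p' : Pr} (hs : D.Acts s p) (hp : Nine p) (hs' : D.Acts s' p') (hp' : Nine p') :
    Commute s s' := by
  obtain ⟨a, ea⟩ := nine_pow _ hp.1
  obtain ⟨b, eb⟩ := nine_pow _ hp.2
  obtain ⟨a', ea'⟩ := nine_pow _ hp'.1
  obtain ⟨b', eb'⟩ := nine_pow _ hp'.2
  have hyb : ∀ b : ZMod 3, D.Acts (F.y ^ b.val) (((mU, mU) : Pr) ^ b.val) := fun b => by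
    obtain ⟨q, hq, -⟩ := Acts.of_three (D := D) ⟨F.y_z.pow_left b.val, F.y_t.pow_left b.val⟩
      (by rw [← pow_mul, mul_comm, pow_mul, F.y_cube, one_pow])
    obtain rfl := hq.ma.unique (F.y_ma b)
    exact hq
  set r := (F.y ^ b.val)⁻¹ * s
  set r' := (F.y ^ b'.val)⁻¹ * s'
  have hr := (hyb b).inv.mul hs
  have hr' := (hyb b').inv.mul hs'
  have hcy : Commute r F.y := ((Commute.refl F.y).pow_left _).inv_left.mul_left (F.nine_comm_y hs hp)
  have hcy' : Commute r' F.y := ((Commute.refl F.y).pow_left _).inv_left.mul_left (F.nine_comm_y hs' hp')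
  have key : Commute r r' := by
    have e1 : (((mU, mU) : Pr) ^ b.val)⁻¹ * p = (mU ^ (a - b).val, 1) := by
      refine Prod.ext ?_ ?_
      · simp only [Prod.fst_mul, Prod.fst_inv, Prod.pow_fst, ea]
        exact (by decide +kernel : ∀ a b : ZMod 3, (mU ^ b.val)⁻¹ * mU ^ a.val = mU ^ (a - b).val) a b
      · simp [eb]
    have e2 : (((mU, mU) : Pr) ^ b'.val)⁻¹ * p' = (mU ^ (a' - b').val, 1) := by
      refine Prod.ext ?_ ?_
      · simp only [Prod.fst_mul, Prod.fst_inv, Prod.pow_fst, ea']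
        exact (by decide +kernel : ∀ a b : ZMod 3, (mU ^ b.val)⁻¹ * mU ^ a.val = mU ^ (a - b).val) a' b'
      · simp [eb']
    rw [e1] at hr
    rw [e2] at hr'
    by_cases h0 : a - b = 0
    · rw [h0, ZMod.val_zero, pow_zero] at hr
      obtain ⟨m, hm⟩ := Acts.trivial (D := D) (s := r) hr
      rw [hm]
      exact (D.zz_comm hr'.1.cz m).symm
    · set c := (a' - b') * (a - b)
      have hc : D.MA (r' * (r ^ c.val)⁻¹) 1 := by
        have := hr'.ma.mul (hr.ma.pow c.val).inv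
        convert this using 1
        refine Prod.ext ?_ (by simp)
        simp only [Prod.fst_mul, Prod.fst_inv, Prod.pow_fst, Prod.fst_one, c]
        exact (by decide +kernel : ∀ x y : ZMod 3, x ≠ 0 →
          (1 : SL23) = mU ^ y.val * ((mU ^ x.val) ^ (y * x).val)⁻¹) (a - b) (a' - b') h0
      obtain ⟨k, v, ev⟩ := hc.mem_Q
      have hl : D.IsLevi (r' * (r ^ c.val)⁻¹) :=
        hr'.1.mul D ⟨(hr.1.cz.pow_left _).inv_left, (hr.1.ct.pow_left _).inv_left⟩
      obtain rfl : v = 0 := D.t_fix D.isLevi_one (by rw [mul_one, ← ev]; exact hl.ct)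
      rw [D.q_zero, mul_one, mul_inv_eq_iff_eq_mul] at ev
      rw [ev]
      exact (D.zz_comm hr.1.cz k).mul_right ((Commute.refl r).pow_right _)
  have e : s = F.y ^ b.val * r := by simp only [r]; group
  have e' : s' = F.y ^ b'.val * r' := by simp only [r']; group
  rw [e, e']
  exact (((Commute.refl F.y).pow_pow _ _).mul_right ((hcy'.pow_right _).symm)).mul_left
    ((hcy.pow_right _).mul_right key)

theorem U_comm {x x' : G} (hx : x ∈ F.U) (hx' : x' ∈ F.U) : Commute x x' := by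
  obtain ⟨c, s, p, hc, hs, hp, rfl⟩ := F.mem_U_iff.mp hx
  obtain ⟨c', s', p', hc', hs', hp', rfl⟩ := F.mem_U_iff.mp hx'
  have h1 : Commute (D.q c) (D.q c') :=
    D.q_comm.mpr ((by decide +kernel : ∀ c d : W4, InA c → InA d → om c d = 0) c c' hc hc')
  exact (h1.mul_right (hs'.comm_q (hp'.fix hc)).symm).mul_left
    ((hs.comm_q (hp.fix hc')).mul_right (F.nine_comm hs hp hs' hp'))

theorem U_cube {x : G} (hx : x ∈ F.U) : x ^ 3 = 1 := by
  obtain ⟨c, s, p, hc, hs, hp, rfl⟩ := F.mem_U_iff.mp hx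
  rw [(hs.comm_q (hp.fix hc)).symm.mul_pow, D.q_cube, F.nine_cube hs hp, one_mul]

theorem centralizer_U : Subgroup.centralizer (F.U : Set G) ≤ F.U := Subgroup.centralizer_le F.J_le_U

/-- The points in the centraliser lie in the group of order eighty-one. -/
theorem pt_mem_J {x : G} (hx : x ∈ F.U) (hp : D.IsPt x) : x ∈ F.J := by
  obtain ⟨c, s, p, hc, hs, hn, e⟩ := F.mem_U_iff.mp hx
  have e' : x = D.zz 0 * (D.q c * s) := by rw [D.zz_zero, one_mul, e]
  have hA : D.MA x p := ⟨c, s, e, hs⟩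
  by_cases hQ : x ∈ D.Q
  · obtain ⟨k, rfl⟩ := hp.mem_Q hQ
    exact F.jel_zpow k ▸ F.jel_mem _
  obtain ⟨w, hw⟩ := all_diagA hp (F.U_z hx) hQ
  have hc2 := hp.conj (D.q w)
  have hQ2 : D.q w * x * (D.q w)⁻¹ ∉ D.Q := fun h => hQ (by
    have := D.conj_Q (D.q_z w).inv_left h
    simpa [mul_assoc] using this)
  rw [e', D.q_conj_el hs] at hw
  have hv := D.t_fix hs.1 hw
  rw [e', D.q_conj_el hs, hv, D.q_zero, one_mul] at hc2 hQ2
  have hl : D.IsLevi (D.zz (0 + cK p c w) * s) := (D.isLevi_zz _).mul D hs.1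
  obtain ⟨g', hg', -, n1, n2⟩ := D.pt_levi hc2 hQ2 hl
  have hga := (acts_zz (D := D) (0 + cK p c w)).mul hs
  rw [one_mul] at hga
  obtain rfl := hg'.unique hga
  have hdp : DiagP g' := by
    obtain ⟨h1, h2⟩ := hn
    rcases h1 with h1 | h1 | h1 <;> rcases h2 with h2 | h2 | h2 <;>
      first | exact absurd h1 n1 | exact absurd h2 n2 | (rw [show g' = (g'.1, g'.2) from rfl, h1, h2]; simp [DiagP])
  have hpe := orient' hA hdp hp (F.U_q hx (by decide)) (F.U_q hx (by decide))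
  obtain ⟨a, ea⟩ := nine_pow _ hn.1
  obtain ⟨q, hq, -⟩ := Acts.of_three (D := D) ⟨F.y_z.pow_left a.val, F.y_t.pow_left a.val⟩
    (by rw [← pow_mul, mul_comm, pow_mul, F.y_cube, one_pow])
  obtain rfl := hq.ma.unique (F.y_ma a)
  have h1 : D.Acts (s * (F.y ^ a.val)⁻¹) 1 := by
    have := hs.mul hq.inv
    convert this using 1
    exact (mul_inv_eq_one.mpr (Prod.ext (by simpa using ea) (by simpa using hpe ▸ ea))).symm
  obtain ⟨m, hm⟩ := h1.trivial
  obtain ⟨i, l, rfl⟩ := inA_av c hc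
  refine ⟨(m, i, l, a), ?_⟩
  rw [e, mul_inv_eq_iff_eq_mul.mp hm]
  show D.q (av i l) * (D.zz m * F.y ^ a.val) = D.zz m * D.q (av i l) * F.y ^ a.val
  rw [← mul_assoc, (D.zz_q m _).eq]

theorem pt_iff {x : G} (hx : x ∈ F.U) : D.IsPt x ↔ ∃ v, qJ v = 0 ∧ v ≠ 0 ∧ x = F.jel v := by
  constructor
  · intro hp
    obtain ⟨v, rfl⟩ := F.pt_mem_J hx hp
    exact ⟨v, ((F.isPt_jel v).mp hp).1, ((F.isPt_jel v).mp hp).2, rfl⟩
  · rintro ⟨v, h1, h2, rfl⟩
    exact (F.isPt_jel v).mpr ⟨h1, h2⟩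

end Setting.Base

end CfsgLib.U6Three
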