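import Cfsg.Agent.Lib.U6Three.SwapFinish

/-!
The conjugates of a unit representative in the normaliser lie in the product.
-/

set_option autoImplicit false
set_option linter.style.haveILetI false
set_option synthInstance.maxSize 1024

namespace CfsgLib.U6Three

universe u

theorem th_zero_four : ∀ A : SL23, th A = 0 → A⁻¹ * A⁻¹ * (A⁻¹ * A⁻¹) = 1 := by decide +kernel

theorem card_wunits : Nat.card {v : Vec // qv v = 1 ∧ v.1 = 0} = 36 := by
  rw [Nat.card_eq_fintype_card]; decide +kernel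

theorem sp0_inj : ∀ i j : ZMod 3, sp i (emb (some 0) (1, 0)) = sp j (emb (some 0) (1, 0)) → i = j := by decide +kernel

theorem W_plane_zero : ∀ u : Vec, u.1 = 0 → vb u 0 = 0 → vb u 1 = 0 → u = emb (some 2) (vb u 2) := by decide +kernel

theorem fixed_in_plane : ∀ f : K4 → K4, (∀ a b, f (a + b) = f a + f b) → (∀ a, f (f a) = a) → ∃ a, a ≠ 0 ∧ f a = a := by
  decide +kernel

namespace Setting.Base

variable {G : Type u} [Group G] {D : Setting G} (F : D.Base) [Finite G]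

/-- Conjugates of a given element by elements of the centraliser of the involution. -/
def Cl (r k : G) : Prop := ∃ g ∈ Mi (D := D), k = g * r * g⁻¹

theorem Cl.conj {r k : G} (h : Cl (D := D) r k) {n : G} (hn : n ∈ Mi (D := D)) : Cl (D := D) r (n * k * n⁻¹) := by
  obtain ⟨g, hg, rfl⟩ := h
  exact ⟨n * g, mul_mem hn hg, by group⟩

theorem Cl.sq {r k : G} (hr : r ∈ D.R1) (h : Cl (D := D) r k) : k * k ∈ Ic (D := D) := by
  obtain ⟨g, hg, rfl⟩ := h
  rw [show g * r * g⁻¹ * (g * r * g⁻¹) = g * (r * r) * g⁻¹ by group, cR_sq hr, (ip_comm (mem_Mi.mp hg) _).eq,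
    mul_inv_cancel_right]
  exact ip_Ic _

theorem Cl.sq_one {r k : G} (hr : r ∈ D.R1) (h0 : cR (D := D) r ≠ 0) (h : Cl (D := D) r k) : k * k = D.i1 := by
  obtain ⟨g, hg, rfl⟩ := h
  rw [show g * r * g⁻¹ * (g * r * g⁻¹) = g * (r * r) * g⁻¹ by group, cR_sq hr, (ip_comm (mem_Mi.mp hg) _).eq,
    mul_inv_cancel_right, (nz_one _).mpr h0]
  rfl

theorem K_of_conj {k n : G} (hn : n ∈ F.N) (h : n * k * n⁻¹ ∈ F.K) : k ∈ F.K := by
  have := F.N_conj_K (inv_mem hn) h
  rwa [show n⁻¹ * (n * k * n⁻¹) * n⁻¹⁻¹ = k by group] at this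

/-- The units of the complement of the first component. -/
theorem W_units {u : Vec} (hu : u.1 = 0) (hq : qv u = 1) :
    ∃ h ∈ F.C1, ∃ a : K4, F.na h (emb (some 0) a) = u := by
  classical
  let f : (Fin 4 × ZMod 3) × ZMod 3 → {v : Vec // qv v = 1 ∧ v.1 = 0} := fun p =>
    ⟨F.na (wm (D := D) p.1) (sp p.2 (emb (some 0) (1, 0))), by
      refine ⟨?_, F.XR_na_W (F.C1_le_XR (F.cent_z_C1 (wm_Mi _) (wm_z _))) ?_⟩
      · rw [F.na_qv (F.cent_z_le_N (wm_Mi _) (wm_z _))]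
        exact (by decide +kernel : ∀ i, qv (sp i (emb (some 0) (1, 0))) = 1) _
      · exact (by decide +kernel : ∀ i, (sp i (emb (some 0) (1, 0))).1 = 0) _⟩
  have hf : Function.Injective f := by
    rintro ⟨p, i⟩ ⟨p', i'⟩ h
    have h' := congrArg Subtype.val h
    simp only [f] at h'
    have hp := F.cent_z_le_N (wm_Mi (D := D) p) (wm_z p)
    have hp' := F.cent_z_le_N (wm_Mi (D := D) p') (wm_z p')
    set e := ((wm (D := D) p) * F.τ)⁻¹ * (wm (D := D) p' * F.τ) with hed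
    have heN : e ∈ F.N := mul_mem (inv_mem (mul_mem hp F.τ_le_N)) (mul_mem hp' F.τ_le_N)
    have hτs : ∀ i, F.na F.τ (sp i (emb none (1, 0))) = sp i (emb (some 0) (1, 0)) := fun i => by
      rw [sp_emb, F.τ_R1_emb, ← sp_emb]
    have he : F.na e (sp i' (emb none (1, 0))) = sp i (emb none (1, 0)) := by
      rw [hed, F.na_mul (inv_mem (mul_mem hp F.τ_le_N)) (mul_mem hp' F.τ_le_N), F.na_mul hp' F.τ_le_N, hτs, ← h',
        ← hτs, ← F.na_mul hp F.τ_le_N, F.na_inv_cancel (mul_mem hp F.τ_le_N)]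
    have hpp := F.wm_inj (F.unit_stab (F.N_le_XS heN) he)
    subst hpp
    rw [sp0_inj _ _ (F.na_inj hp h')]
  have hb : Function.Bijective f := (Nat.bijective_iff_injective_and_card f).mpr ⟨hf, by
    rw [card_wunits, Nat.card_prod, Nat.card_prod, Nat.card_fin, Nat.card_zmod]⟩
  obtain ⟨⟨p, i⟩, e⟩ := hb.2 ⟨u, hq, hu⟩
  refine ⟨_, F.cent_z_C1 (wm_Mi p) (wm_z p), rotn i (1, 0), ?_⟩
  rw [← sp_emb]
  exact congrArg Subtype.val e

/-- The action of a conjugate. -/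
theorem na_conj {n k : G} (hn : n ∈ F.N) (hk : k ∈ F.N) (v : Vec) :
    F.na (n⁻¹ * k * n) v = F.na n⁻¹ (F.na k (F.na n v)) := by
  rw [F.na_mul (mul_mem (inv_mem hn) hk) hn, F.na_mul (inv_mem hn) hk]

/-- Conjugates of anticommuting elements anticommute. -/
theorem anti_conj {n k : G} (hn : n ∈ F.N) (hk : k ∈ F.N) (h : F.Anti k) : F.Anti (n⁻¹ * k * n) := fun v => by
  rw [F.na_conj hn hk, F.na_conj hn hk]
  rcases (F.N_le_XS hn).2 with hl | ha
  · rw [hl, h, F.lin_inv hn hl, F.lin_inv hn hl]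
  · rcases (F.N_le_XS (inv_mem hn)).2 with hi | hi
    · rw [ha, h, h, sg_cube, hi]
      exfalso
      have h1 := hi (F.na n (emb none (1, 0)))
      have h2 := F.na_qv hn (emb none (1, 0))
      have h3 : F.na n⁻¹ (sg (sg (F.na n (emb none (1, 0))))) = sg (emb none (1, 0)) := by
        rw [← ha, F.na_inv_cancel hn]
      rw [hi, h1, F.na_inv_cancel hn] at h3
      exact absurd h3 (by decide +kernel)
    · rw [ha, h, h, sg_cube, hi]

/-- The image of a component orthogonal to two components of the complement. -/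
theorem W_image {k : G} (hk : k ∈ F.XR) (h2 : k * k ∈ Ic (D := D))
    (h0 : ∀ a, ∃ b, F.na k (emb (some 0) a) = emb (some 0) b) (c : ZMod 3) (hc : c ≠ 0) (a : K4) :
    ∃ b : ZMod 3, b ≠ 0 ∧ ∀ a, ∃ d, F.na k (emb (some c) a) = emb (some b) d := by
  have hq : qv (emb (some c) (1, 0)) = 1 := (by decide +kernel : ∀ c : ZMod 3, qv (emb (some c) (1, 0)) = 1) c
  obtain ⟨b, hb, e⟩ := unit_rest (F.na k (emb (some c) (1, 0))) (by rw [F.na_qv hk.1, hq]) (F.XR_na_W hk rfl)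
    ((orth_zero _).mpr (by
      constructor
      · obtain ⟨d, hd⟩ := F.plane_back hk.1 h2 h0 (1, 0)
        rw [← F.na_bv hk.1, F.sq_involutive hk.1 h2, hd, bv_emb_ne _ _ _ _ (by simpa using Ne.symm hc)]
      · obtain ⟨d, hd⟩ := F.plane_back hk.1 h2 h0 (0, 1)
        rw [← F.na_bv hk.1, F.sq_involutive hk.1 h2, hd, bv_emb_ne _ _ _ _ (by simpa using Ne.symm hc)]))
  exact ⟨b, hb, F.plane_map hk.1 (by decide) ⟨_, e⟩⟩

/-- Anticommuting involutions fixing a unit of the first component. -/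
theorem anti_fixed {r k : G} (hr : r ∈ D.R1) (hr0 : cR (D := D) r ≠ 0) (hcl : Cl (D := D) r k) (hk : k ∈ F.XR)
    (hA : F.Anti k) : k ∈ F.K := by
  have h2 := hcl.sq hr
  obtain ⟨x, hx, hxq, e1, e2⟩ := F.anti_swapped_unit hk.1 h2 hA
  obtain ⟨h, hh, a, ha⟩ := F.W_units hx hxq
  have hhN := F.C1_le_N hh
  set k1 := h⁻¹ * k * h with hk1
  have hk1R : k1 ∈ F.XR := mul_mem (mul_mem (inv_mem (F.C1_le_XR hh)) hk) (F.C1_le_XR hh)
  have hcl1 : Cl (D := D) r k1 := by
    have := hcl.conj (inv_mem (F.N_le_Mi hhN))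
    rwa [inv_inv] at this
  have h21 := hcl1.sq hr
  suffices k1 ∈ F.K by
    refine F.K_of_conj (inv_mem hhN) ?_
    rwa [inv_inv]
  have ha0 : a ≠ 0 := by
    rintro rfl
    rw [emb_zero, F.na_zero hhN] at ha
    rw [← ha] at hxq
    exact absurd hxq (by decide +kernel)
  set v := F.na k1 (emb (some 0) a) with hvd
  have hv : v = F.na h⁻¹ (F.na k x) := by rw [hvd, hk1, F.na_conj hhN hk.1, ha]
  have hvo : vb v 0 = 0 := by
    have hO : ∀ c, bv (sp c (emb (some 0) a)) v = 0 := by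
      intro c
      obtain ⟨c', hc⟩ := F.XS_sp (F.N_le_XS hhN) c (emb (some 0) a)
      rw [hv, ← F.na_bv hhN, F.na_cancel_inv hhN, hc, ha]
      rcases (by decide : ∀ i : ZMod 3, i = 0 ∨ i = 1 ∨ i = 2) c' with rfl | rfl | rfl
      · exact e1
      · exact e2
      · show bv (sg (sg x)) (F.na k x) = 0
        rw [show sg (sg x) = x + sg x from
          (by decide +kernel : ∀ x : Vec, sg (sg x) = x + sg x) x, bv_add_left, e1, e2, add_zero]
    refine (orth_zero v).mpr ⟨?_, ?_⟩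
    · obtain ⟨c, hc⟩ := rotn_reach (1, 0) a (by decide) ha0
      rw [hc, ← sp_emb]; exact hO c
    · obtain ⟨c, hc⟩ := rotn_reach (0, 1) a (by decide) ha0
      rw [hc, ← sp_emb]; exact hO c
  obtain ⟨b, hb, hbv⟩ := unit_rest v (by rw [hvd, F.na_qv hk1R.1, (bv_emb _ a a).2, nz_one]; exact ha0)
    (F.XR_na_W hk1R rfl) hvo
  have h0b := F.plane_map hk1R.1 ha0 ⟨_, hbv⟩
  -- translate so that the fixed component is the zero component
  set t := trb (D := D) (-b) with htd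
  have htN : t ∈ F.N := F.trb_le_N _
  have htC : t ∈ F.C1 := F.cent_z_C1 (trb_Mi _) (trb_z _)
  set k2 := t⁻¹ * k1 * t with hk2
  have hk2R : k2 ∈ F.XR := mul_mem (mul_mem (inv_mem (F.C1_le_XR htC)) hk1R) (F.C1_le_XR htC)
  have hcl2 : Cl (D := D) r k2 := by
    have := hcl1.conj (inv_mem (F.N_le_Mi htN))
    rwa [inv_inv] at this
  have h22 := hcl2.sq hr
  suffices k2 ∈ F.K by
    refine F.K_of_conj (inv_mem htN) ?_
    rwa [inv_inv]
  have htinv : t⁻¹ = trb (D := D) b := by rw [htd, trb_inv, neg_neg]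
  have hmove : ∀ (c d : ZMod 3), (∀ a, ∃ a', F.na k1 (emb (some c) a) = emb (some d) a') →
      ∀ a, ∃ a', F.na k2 (emb (some (c + b)) a) = emb (some (d + b)) a' := fun c d h a => by
    obtain ⟨a', ha'⟩ := h a
    refine ⟨a', ?_⟩
    rw [hk2, F.na_conj htN hk1R.1, htd, F.na_trb_emb, add_neg_cancel_right, ha', ← htd, htinv, F.na_trb_emb]
  have hbb := hmove 0 b h0b
  rw [zero_add] at hbb
  have hbb' : ∀ a, ∃ a', F.na k2 (emb (some (b + b)) a) = emb (some b) a' := F.plane_back hk2R.1 h22 hbb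
  have h00 : ∀ a, ∃ a', F.na k2 (emb (some 0) a) = emb (some 0) a' := by
    refine F.plane_map hk2R.1 (a0 := (1, 0)) (by decide) ?_
    have hq : qv (F.na k2 (emb (some 0) (1, 0))) = 1 := by rw [F.na_qv hk2R.1]; decide +kernel
    have ho : ∀ c : ZMod 3, c ≠ 0 → vb (F.na k2 (emb (some 0) (1, 0))) c = 0 := by
      intro c hc
      have hz : ∀ a, bv (emb (some c) a) (F.na k2 (emb (some 0) (1, 0))) = 0 := fun a => by
        obtain rfl | rfl := (by decide : ∀ b c : ZMod 3, b ≠ 0 → c ≠ 0 → c = b ∨ c = b + b) b c hb hc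
        · obtain ⟨d, hd⟩ := hbb a
          rw [← F.na_bv hk2R.1, F.sq_involutive hk2R.1 h22, hd,
            bv_emb_ne _ _ _ _ (by simpa using (by decide : ∀ b : ZMod 3, b ≠ 0 → b + b ≠ 0) _ hb)]
        · obtain ⟨d, hd⟩ := hbb' a
          rw [← F.na_bv hk2R.1, F.sq_involutive hk2R.1 h22, hd, bv_emb_ne _ _ _ _ (by simpa using hb)]
      exact (by decide +kernel : ∀ (c : ZMod 3) (u : Vec),
        bv (emb (some c) (1, 0)) u = 0 → bv (emb (some c) (0, 1)) u = 0 → vb u c = 0) c _ (hz _) (hz _)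
    exact ⟨_, (by decide +kernel : ∀ u : Vec, u.1 = 0 → vb u 1 = 0 → vb u 2 = 0 → u = emb (some 0) (vb u 0)) _
      (F.XR_na_W hk2R rfl) (ho 1 (by decide)) (ho 2 (by decide))⟩
  have h12 : (∀ a, ∃ a', F.na k2 (emb (some 1) a) = emb (some 2) a') ∧
      ∀ a, ∃ a', F.na k2 (emb (some 2) a) = emb (some 1) a' := by
    rcases (by decide : ∀ b : ZMod 3, b ≠ 0 → b = 1 ∨ b = 2) b hb with rfl | rfl
    · exact ⟨hbb, hbb'⟩
    · exact ⟨hbb', hbb⟩
  obtain ⟨g, hg, hgk⟩ := hcl2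
  have hπ : ∀ i a, ∃ a', F.na k2 (emb i a) = emb (fp false i) a' := by
    intro i a
    rcases i with _ | c
    · exact F.XR_na_R1 hk2R a
    rcases (by decide : ∀ c : ZMod 3, c = 0 ∨ c = 1 ∨ c = 2) c with rfl | rfl | rfl
    exacts [h00 a, h12.1 a, h12.2 a]
  have hA2 : F.Anti k2 := F.anti_conj htN hk1R.1 (F.anti_conj hhN hk.1 hA)
  have hN := hk2R.1
  rw [hgk] at hπ hA2 h22 hN ⊢
  exact F.frame_inner hr hr0 hg hN h22 hπ (Or.inr hA2)

end Setting.Base

end CfsgLib.U6Three
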