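import Cfsg.Agent.Lib.U6Three.UnitFusion

/-!
Commuting involutions, involutions without fixed units, and the fusion of units.
-/

set_option autoImplicit false
set_option linter.style.haveILetI false
set_option synthInstance.maxSize 1024

namespace CfsgLib.U6Three

universe u

theorem zA_not_involutive : zA (zA (emb (some 0) (1, 0))) ≠ emb (some 0) (1, 0) := by decide +kernel

theorem i2_fix_form : ∀ v : Vec, (emb none v.1 + emb (some 0) (vb v 0) + emb (some 2) (vb v 1) + emb (some 1) (vb v 2) = v) →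
    emb (some 2) (vb v 1) + v + emb (some 1) (vb v 1) = emb none v.1 + emb (some 0) (vb v 0) := by decide +kernel

theorem qv_two : ∀ a b : K4, qv (emb none a + emb (some 0) b) = 1 → a = 0 ∨ b = 0 := by decide +kernel

namespace Setting.Base

variable {G : Type u} [Group G] {D : Setting G} (F : D.Base) [Finite G]

theorem i2_acts : D.Acts (i2 D) (1, -1) := by
  have h := D.t_acts.mul D.i1_block.acts
  rwa [show ((-1, -1) : Pr) * (-1, 1) = (1, -1) from Prod.ext (by simp) (by simp)] at h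

theorem i2_Mi : i2 D ∈ Mi (D := D) := mem_Mi.mpr (Quat.comm_i1 i2_quat)

theorem i2_inv : (i2 D)⁻¹ = i2 D := inv_eq_of_mul_eq_one_right i2_sq

/-- The second involution centralises the first component. -/
theorem i2_R1 {x : G} (hx : x ∈ D.R1) : Commute x (i2 D) := by
  obtain ⟨R, hR, hA⟩ := (mem_R1_def.mp hx).2
  exact Commute.mul_right hA.1.ct (mem_R1.mp hx).2.2.2

/-- The second involution reflects the components of the complement. -/
theorem na_i2 (i : Option (ZMod 3)) (a : K4) :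
    F.na (i2 D) (emb i a) = emb (i.map fun b => -b) a := by
  have hiN : i2 D ∈ F.N := F.cent_z_le_N i2_Mi i2_acts.1.cz
  rcases i with _ | b
  · obtain ⟨r, hr, rfl⟩ := cR_surj (D := D) a
    rw [Option.map_none, ← F.R1_emb hr, F.na_kap hiN (F.R1_le_K hr), ← (i2_R1 hr).eq, mul_inv_cancel_right]
  · obtain ⟨x, hx, rfl⟩ := F.cB_surj b a
    have ht : i2 D * trb (D := D) b * (i2 D)⁻¹ = trb (D := D) (-b) := by
      rw [trb, trb, i2_acts.2]
      congr 1
      exact (by decide +kernel : ∀ b : ZMod 3, appP ((1, -1) : Pr) ((0, 0), (0, b)) = ((0, 0), (0, -b))) b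
    have hf : i2 D * F.fr b * (i2 D)⁻¹ = F.fr (-b) := by
      rw [fr, fr, show i2 D * (trb (D := D) b * F.τ) * (i2 D)⁻¹ = (i2 D * trb (D := D) b * (i2 D)⁻¹) * (i2 D * F.τ * (i2 D)⁻¹) by group,
        ht, ← F.τ_i2.eq, mul_inv_cancel_right]
    have hp := F.pull_Rb hx
    have e : i2 D * x * (i2 D)⁻¹ = F.fr (-b) * ((F.fr b)⁻¹ * x * F.fr b) * (F.fr (-b))⁻¹ := by
      rw [← hf]
      set p := (F.fr b)⁻¹ * x * F.fr b with hpd
      have hx' : x = F.fr b * p * (F.fr b)⁻¹ := by rw [hpd]; group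
      have hc : i2 D * p * (i2 D)⁻¹ = p := by rw [← (i2_R1 hp).eq, mul_inv_cancel_right]
      nth_rw 1 [← hc]
      rw [hx']
      group
    have hm : i2 D * x * (i2 D)⁻¹ ∈ F.Rb (-b) := F.mem_Rb.mpr ⟨_, hp, e⟩
    rw [Option.map_some, ← F.Rb_emb hx, F.na_kap hiN (F.Rb_le_K b hx), F.Rb_emb hm, cB, cB, e]
    congr 2
    group

/-- The reduced form of a commuting involution fixing a unit of the first component. -/
theorem lin_form {r k : G} (hr : r ∈ D.R1) (hcl : Cl (D := D) r k) (hk : k ∈ F.C1) (hl : F.Lin k) {i : ZMod 3}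
    (hfix : F.na k (sp i (emb none (1, 0))) = sp i (emb none (1, 0))) :
    k ∈ F.K ∨ ∃ c ∈ F.N, ∃ x ∈ F.K, c * k * c⁻¹ = i2 D * x := by
  have h2 := hcl.sq hr
  have hkN := F.C1_le_N hk
  have hn : NZ (D := D) ≤ Subgroup.normalizer (F.K : Set G) := fun _ h => (F.NZ_le_N h).2
  obtain ⟨n, hn', x, hx, hnx⟩ : ∃ n ∈ NZ (D := D), ∃ x ∈ F.K, n * x = k := by
    rw [C1, ← SetLike.mem_coe, Subgroup.coe_mul_of_left_le_normalizer_right _ _ hn] at hk
    exact hk
  have hnN := F.NZ_le_N hn'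
  have hna : ∀ v, F.na n v = F.na k v := fun v => by rw [← hnx, F.na_mul hnN (F.K_le_N hx), F.na_K hx]
  have hzN : D.z ∈ F.N := F.UM_le_N F.z_mem_UM
  have hnl : F.Lin n := fun v => by rw [hna, hna, hl]
  have hnR : n ∈ F.XR := F.C1_le_XR (Subgroup.mem_sup_left hn')
  have hnz : Commute n D.z := by
    rcases hn'.2 with e | e
    · exact mul_inv_eq_iff_eq_mul.mp e
    exfalso
    refine zA_not_involutive ?_
    have h1 : n * D.z = D.z⁻¹ * n := mul_inv_eq_iff_eq_mul.mp e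
    have hv := F.lin_zA hnR hnl (F.na n⁻¹ (emb (some 0) (1, 0)))
    rw [F.na_cancel_inv hnN, ← F.na_z, ← F.na_mul hnN hzN, h1, F.na_mul (inv_mem hzN) hnN,
      F.na_cancel_inv hnN] at hv
    have := congrArg (F.na D.z) hv
    rw [F.na_cancel_inv hzN, ← F.na_z] at this
    rw [← F.na_z, ← F.na_z]
    exact this.symm
  have hnM : n ∈ Mi (D := D) := hn'.1
  obtain ⟨v0, s, p, e, hs⟩ := cent_z_form hnz (mem_Mi.mp hnM)
  have hm : D.MA n p := ⟨_, s, e, hs⟩
  have hth : th p.1 = 0 := by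
    rw [sp_emb] at hfix
    obtain ⟨r', hr', hr''⟩ := cR_surj (D := D) (rotn i (1, 0))
    have h3 : F.na n (emb none (rotn i (1, 0))) = emb none (rotn (th p.1) (rotn i (1, 0))) := by
      rw [← hr'', ← F.R1_emb hr', F.na_kap hnN (F.R1_le_K hr'), F.R1_emb (R1_normal hnz (mem_Mi.mp hnM) hr'),
        cR_conj hnz (mem_Mi.mp hnM) hm r' hr']
    rw [hna, hfix] at h3
    exact (by decide +kernel : ∀ (e i : ZMod 3), emb none (rotn i (1, 0)) = emb none (rotn e (rotn i (1, 0))) → e = 0)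
      _ _ h3
  obtain ⟨r1, hr1, hr1A⟩ := R1_lift (D := D) (th_zero_four _ hth)
  set n' := n * r1 with hn'd
  have hn'N : n' ∈ F.N := mul_mem hnN (F.K_le_N (F.R1_le_K hr1))
  have hn'm : D.MA n' (1, p.2) := by
    have := hm.mul hr1A.ma
    rwa [show p * (p.1⁻¹, 1) = ((1, p.2) : Pr) from Prod.ext (mul_inv_cancel _) (mul_one _)] at this
  have hn'z : Commute n' D.z := hnz.mul_left (mem_R1.mp hr1).2.1
  have hx' : r1⁻¹ * x ∈ F.K := mul_mem (inv_mem (F.R1_le_K hr1)) hx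
  have hk' : n' * (r1⁻¹ * x) = k := by rw [hn'd, ← hnx]; group
  have hnn : n' * n' ∈ D.R1 := by
    refine F.K_cent_z (F.K_of_na (mul_mem hn'N hn'N) fun v => ?_) (hn'z.mul_left hn'z)
    have hna' : ∀ v, F.na n' v = F.na k v := fun v => by rw [← hk', F.na_mul hn'N (F.K_le_N hx'), F.na_K hx']
    rw [F.na_mul hn'N hn'N, hna', hna', F.sq_involutive hkN h2]
  obtain ⟨R', -, hR'⟩ := (mem_R1_def.mp hnn).2
  have h11 := hR'.ma.unique (hn'm.mul hn'm)
  have hp2 : p.2 * p.2 = 1 := by simpa using (congrArg Prod.snd h11).symm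
  have hR1 : R' = 1 := by simpa using congrArg Prod.fst h11
  subst hR1
  have hn2 : n' * n' = 1 := R1_inj hnn (one_mem _) hR' acts_one
  rcases sl_inv_sq _ hp2 with e2 | e2 <;> rw [e2] at hn'm
  · left
    have h3 := D.Q_cube (MA.mem_Q (D := D) hn'm)
    rw [pow_three', hn2, one_mul] at h3
    rw [← hk', h3, one_mul]
    exact hx'
  right
  obtain ⟨v, s', q, e', hs'⟩ := cent_z_form hn'z (mem_Mi.mp (F.N_le_Mi hn'N))
  obtain rfl := MA.unique (D := D) ⟨_, s', e', hs'⟩ hn'm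
  obtain ⟨m, hm'⟩ : ∃ m, s' * (i2 D)⁻¹ = D.zz m := by
    have := hs'.mul i2_acts.inv
    rw [show ((1, -1) : Pr) * (1, -1)⁻¹ = 1 from mul_inv_cancel _] at this
    exact this.trivial
  rw [mul_inv_eq_iff_eq_mul] at hm'
  set c := D.q ((0, 0), v) with hc
  have hcN : c ∈ F.N := F.second_le_N v
  have hic : i2 D * c * (i2 D)⁻¹ = c⁻¹ := by
    rw [hc, i2_acts.2, D.q_inv]
    congr 1
    exact (by decide +kernel : ∀ v : V2, appP ((1, -1) : Pr) ((0, 0), v) = -(((0, 0), v) : W4)) v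
  have h3 : c * n' * c⁻¹ = D.zz m * i2 D := by
    have hcm : Commute c (D.zz m) := D.zz_comm (D.q_z _) m
    have hc3 : c ^ 3 = 1 := D.q_cube _
    calc c * n' * c⁻¹ = c * c * (s' * c⁻¹) := by rw [e']; group
      _ = c * c * (D.zz m * (i2 D * c * (i2 D)⁻¹)⁻¹ * i2 D) := by rw [hm']; group
      _ = c * c * (D.zz m * c * i2 D) := by rw [hic, inv_inv]
      _ = c ^ 3 * (D.zz m * i2 D) := by rw [← hcm.eq, pow_three']; group
      _ = _ := by rw [hc3, one_mul]
  have hm0 : m = 0 := by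
    have hiz : Commute (i2 D) (D.zz m) := D.zz_comm i2_acts.1.cz m
    have h4 : (c * n' * c⁻¹) * (c * n' * c⁻¹) = 1 := by
      rw [show c * n' * c⁻¹ * (c * n' * c⁻¹) = c * (n' * n') * c⁻¹ by group, hn2, mul_one, mul_inv_cancel]
    rw [h3, hiz.mul_mul_mul_comm, ← D.zz_add, i2_sq, mul_one] at h4
    exact (by decide : ∀ m : ZMod 3, m + m = 0 → m = 0) m (D.zz_inj (h4.trans D.zz_zero.symm))
  subst hm0
  rw [D.zz_zero, one_mul] at h3
  refine ⟨c, hcN, c * (r1⁻¹ * x) * c⁻¹, F.N_conj_K hcN hx', ?_⟩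
  rw [← h3, ← hk']
  group

/-- Commuting involutions fixing a unit of the first component. -/
theorem lin_fixed {r k : G} (hr : r ∈ D.R1) (hr0 : cR (D := D) r ≠ 0) (hcl : Cl (D := D) r k) (hk : k ∈ F.C1)
    (hl : F.Lin k) {i : ZMod 3} (hfix : F.na k (sp i (emb none (1, 0))) = sp i (emb none (1, 0))) : k ∈ F.K := by
  rcases F.lin_form hr hcl hk hl hfix with h | ⟨c, hc, x, hx, hkx⟩
  · exact h
  have hcl1 : Cl (D := D) r (i2 D * x) := hkx ▸ hcl.conj (F.N_le_Mi hc)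
  refine F.K_of_conj hc ?_
  rw [hkx]
  have hiN : i2 D ∈ F.N := F.cent_z_le_N i2_Mi i2_acts.1.cz
  have hi2 : i2 D * i2 D ∈ Ic (D := D) := by rw [i2_sq]; exact one_mem _
  have hv : F.na (i2 D) (F.kap x) = F.kap x := (F.sq_translate hiN hi2 hx).mp (hcl1.sq hr)
  set v := F.kap x with hvd
  have himg : ∀ u, F.na (i2 D) u = emb none u.1 + emb (some 0) (vb u 0) + emb (some 2) (vb u 1) + emb (some 1) (vb u 2) :=
    fun u => by
      conv_lhs => rw [emb_split u]
      simp only [F.na_add hiN, F.na_i2, Option.map_none, Option.map_some, neg_zero, show -(1 : ZMod 3) = 2 by decide,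
        show -(2 : ZMod 3) = 1 by decide]
  rw [himg] at hv
  set w := emb (some 1) (vb v 1) with hw
  set y := F.sec w
  have hy : y ∈ F.K := F.sec_mem w
  set x2 := i2 D * y * (i2 D)⁻¹ * x * y⁻¹ with hx2d
  have hx2 : x2 ∈ F.K := mul_mem (mul_mem (F.N_conj_K hiN hy) hx) (inv_mem hy)
  have hk2 : y * (i2 D * x) * y⁻¹ = i2 D * x2 := by
    rw [hx2d, i2_inv]
    calc y * (i2 D * x) * y⁻¹ = i2 D * i2 D * y * i2 D * x * y⁻¹ := by rw [i2_sq, one_mul]; group
      _ = _ := by group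
  refine F.K_of_conj (F.K_le_N hy) ?_
  rw [hk2]
  have hcl2 : Cl (D := D) r (i2 D * x2) := hk2 ▸ hcl1.conj (F.K_le_Mi hy)
  have hv2 : F.kap x2 = emb none v.1 + emb (some 0) (vb v 0) := by
    rw [hx2d, F.kap_mul (mul_mem (F.N_conj_K hiN hy) hx) (inv_mem hy), F.kap_mul (F.N_conj_K hiN hy) hx,
      F.kap_inv hy, ← F.na_kap hiN hy, F.kap_sec, ← hvd, hw, F.na_i2, Option.map_some,
      show -(1 : ZMod 3) = 2 by decide]
    exact i2_fix_form v hv
  obtain ⟨g, hg, hgk⟩ := hcl2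
  have hkN : i2 D * x2 ∈ F.N := mul_mem hiN (F.K_le_N hx2)
  obtain ⟨ra, hra, hra'⟩ := cR_surj (D := D) v.1
  obtain ⟨rb, hrb, hrb'⟩ := F.cB_surj 0 (vb v 0)
  have hI : (ra * rb)⁻¹ * x2 ∈ Ic (D := D) := by
    rw [← F.kap_congr (mul_mem (F.R1_le_K hra) (F.Rb_le_K 0 hrb)) hx2, F.kap_mul (F.R1_le_K hra) (F.Rb_le_K 0 hrb),
      F.R1_emb hra, hra', F.Rb_emb hrb, hrb', hv2]
  have hrbi : Commute rb (i2 D) := by
    obtain ⟨r', hr', rfl⟩ := F.mem_Rb.mp hrb
    rw [fr, trb_zero, one_mul]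
    exact (F.τ_i2.mul_left (i2_R1 hr')).mul_left F.τ_i2.inv_left
  have hxi : Commute x2 (i2 D) := by
    rw [show x2 = ra * rb * ((ra * rb)⁻¹ * x2) by group]
    exact ((i2_R1 hra).mul_left hrbi).mul_left (Ic_comm_Mi hI i2_Mi).symm
  have hsq : F.kap x2 = emb none v.1 + emb (some 0) (vb v 0) ∧ qv (F.kap x2) = 1 := by
    refine ⟨hv2, ip_inj (D := D) ?_⟩
    have h1 := Cl.sq_one (D := D) hr hr0 ⟨g, hg, hgk⟩
    rw [hxi.mul_mul_mul_comm, i2_sq, one_mul, F.kap_sq hx2] at h1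
    exact h1
  rw [hgk]
  rw [hgk] at hkN
  rcases qv_two _ _ (hv2 ▸ hsq.2) with h | h
  · refine F.unit_K_of_gd hr hr0 hg (F.UM_le_N F.y_mem_UM) F.y_cube F.gd_y ?_
    rw [← hgk]
    refine Commute.mul_right ?_ ?_
    · -- the standard point commutes with the second involution
      have h1 := F.acts.conj i2_acts
      rw [show ((1, -1) : Pr) * (mU, mU) * (1, -1)⁻¹ = (mU, mU) from Prod.ext (by simp) (pm_central mU).1] at h1
      obtain ⟨m, hm⟩ := (show D.Acts (F.y⁻¹ * (i2 D * F.y * (i2 D)⁻¹)) 1 by have := F.acts.inv.mul h1; rwa [inv_mul_cancel] at this).trivial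
      have e : i2 D * F.y * (i2 D)⁻¹ = F.y * D.zz m := by rw [← hm]; group
      have hm0 : m = 0 := by
        have e2 : F.y = F.y * D.zz (m + m) := by
          calc F.y = i2 D * i2 D * F.y * (i2 D * i2 D)⁻¹ := by rw [i2_sq]; group
            _ = i2 D * (i2 D * F.y * (i2 D)⁻¹) * (i2 D)⁻¹ := by group
            _ = i2 D * (F.y * D.zz m) * (i2 D)⁻¹ := by rw [e]
            _ = i2 D * F.y * (i2 D)⁻¹ * (i2 D * D.zz m * (i2 D)⁻¹) := by group
            _ = _ := by rw [e, D.conj_zz i2_acts.1.cz, mul_assoc, ← D.zz_add]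
        exact (by decide : ∀ m : ZMod 3, m + m = 0 → m = 0) m (D.zz_inj (by
          rw [D.zz_zero]; exact mul_eq_left.mp e2.symm))
      rw [hm0, D.zz_zero, mul_one, mul_inv_eq_iff_eq_mul] at e
      exact e.symm
    · have hyN : F.y ∈ F.N := F.UM_le_N F.y_mem_UM
      have hI : F.y * x2 * F.y⁻¹ * x2⁻¹ ∈ Ic (D := D) := by
        have hc := F.N_conj_K hyN hx2
        rw [← F.kap_zero (mul_mem hc (inv_mem hx2)), F.kap_mul hc (inv_mem hx2), F.kap_inv hx2, ← F.na_kap hyN hx2,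
          hv2, h, emb_zero, zero_add, ← F.jel_y, F.na_jel]
        exact (by decide +kernel : ∀ b : K4,
          (vmk (rotn 1 (emb (some 0) b).1) fun c => rotn (eb 0 0 1 c) (vb (emb (some 0) b) c)) + emb (some 0) b = 0) _
      refine mul_inv_eq_iff_eq_mul.mp (mul_inv_eq_one.mp ?_)
      refine four_three_one (F.K_four (F.Ic_le_K hI)) ?_
      have hyw : Commute F.y (F.y * x2 * F.y⁻¹ * x2⁻¹) := Ic_comm_Mi hI (F.N_le_Mi hyN)
      set u := F.y * x2 * F.y⁻¹ * x2⁻¹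
      have e : F.y * x2 * F.y⁻¹ = u * x2 := (inv_mul_cancel_right _ x2).symm
      calc u ^ 3 = u * u * u * x2 * x2⁻¹ := by rw [pow_three']; group
        _ = u * u * (u * x2) * x2⁻¹ := by group
        _ = (F.y * F.y * F.y) * x2 * (F.y * F.y * F.y)⁻¹ * x2⁻¹ := by
            have e1 : F.y * (u * x2) * F.y⁻¹ = u * (u * x2) := by
              calc F.y * (u * x2) * F.y⁻¹ = F.y * u * F.y⁻¹ * (F.y * x2 * F.y⁻¹) := by group
                _ = _ := by rw [hyw.eq, mul_inv_cancel_right, e]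
            have e2 : F.y * (u * (u * x2)) * F.y⁻¹ = u * (u * (u * x2)) := by
              calc F.y * (u * (u * x2)) * F.y⁻¹ = F.y * u * F.y⁻¹ * (F.y * (u * x2) * F.y⁻¹) := by group
                _ = _ := by rw [hyw.eq, mul_inv_cancel_right, e1]
            rw [show F.y * F.y * F.y * x2 * (F.y * F.y * F.y)⁻¹ = F.y * (F.y * (F.y * x2 * F.y⁻¹) * F.y⁻¹) * F.y⁻¹ by group,
              e, e1, e2]
            group
        _ = 1 := by rw [← pow_three', F.y_cube]; group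
  · refine F.unit_K_of_gd hr hr0 hg (F.UM_le_N F.z_mem_UM) D.z_cube F.gd_z ?_
    rw [← hgk]
    refine Commute.mul_right i2_acts.1.cz.symm ?_
    refine (mem_R1.mp (F.mem_R1_kap hx2 fun b => ?_)).2.1.symm
    rw [hv2, h, emb_zero, add_zero]
    exact (by decide +kernel : ∀ (a : K4) (b : ZMod 3), vb (emb none a) b = 0) _ _

/-- Involutions without fixed units. -/
theorem no_fixed {r k : G} (hr : r ∈ D.R1) (hr0 : cR (D := D) r ≠ 0) (hcl : Cl (D := D) r k) (hk : k ∈ F.N)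
    (hfix : ∀ u, qv u = 1 → F.na k u ≠ u) : k ∈ F.K := by
  have h2 := hcl.sq hr
  obtain ⟨x, hxq, e1, e2⟩ := F.swapped_unit hk h2 hfix
  obtain ⟨n, hn, i, hni⟩ := F.units_transitive hxq
  have hnN := F.XS_le_N hn
  set k1 := n⁻¹ * k * n with hk1
  have hk1N : k1 ∈ F.N := mul_mem (mul_mem (inv_mem hnN) hk) hnN
  have hcl1 : Cl (D := D) r k1 := by
    have := hcl.conj (inv_mem (F.N_le_Mi hnN))
    rwa [inv_inv] at this
  suffices k1 ∈ F.K by
    refine F.K_of_conj (inv_mem hnN) ?_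
    rwa [inv_inv]
  rw [sp_emb] at hni
  set a := rotn i ((1, 0) : K4)
  have ha0 : a ≠ 0 := (by decide +kernel : ∀ i, rotn i ((1, 0) : K4) ≠ 0) i
  set v := F.na k1 (emb none a) with hvd
  have hv : v = F.na n⁻¹ (F.na k x) := by rw [hvd, hk1, F.na_conj hnN hk, hni]
  have hO : ∀ c, bv (sp c (emb none a)) v = 0 := by
    intro c
    obtain ⟨c', hc⟩ := F.XS_sp hn c (emb none a)
    rw [hv, ← F.na_bv hnN, F.na_cancel_inv hnN, hc, hni]
    rcases (by decide : ∀ i : ZMod 3, i = 0 ∨ i = 1 ∨ i = 2) c' with rfl | rfl | rfl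
    · exact e1
    · exact e2
    · show bv (sg (sg x)) (F.na k x) = 0
      rw [show sg (sg x) = x + sg x from
        (by decide +kernel : ∀ x : Vec, sg (sg x) = x + sg x) x, bv_add_left, e1, e2, add_zero]
  have hv1 : v.1 = 0 := (W_orth v).mpr fun b => by
    obtain rfl | hb := eq_or_ne b 0
    · exact (by decide +kernel : ∀ v : Vec, bv (emb none 0) v = 0) v
    · obtain ⟨c, rfl⟩ := rotn_reach b a hb ha0
      rw [← sp_emb]; exact hO c
  obtain ⟨h, hh, b, hbv⟩ := F.W_units hv1 (by rw [hvd, F.na_qv hk1N, (bv_emb _ a a).2, nz_one]; exact ha0)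
  have hhN := F.C1_le_N hh
  set k2 := h⁻¹ * k1 * h with hk2
  have hk2N : k2 ∈ F.N := mul_mem (mul_mem (inv_mem hhN) hk1N) hhN
  have hcl2 : Cl (D := D) r k2 := by
    have := hcl1.conj (inv_mem (F.N_le_Mi hhN))
    rwa [inv_inv] at this
  suffices k2 ∈ F.K by
    refine F.K_of_conj (inv_mem hhN) ?_
    rwa [inv_inv]
  have h22 := hcl2.sq hr
  have hfix2 : ∀ u, qv u = 1 → F.na k2 u ≠ u := fun u hu e => by
    have hN2 := mul_mem hnN hhN
    have e' : k2 = (n * h)⁻¹ * k * (n * h) := by rw [hk2, hk1]; group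
    rw [e', F.na_conj hN2 hk] at e
    refine hfix (F.na (n * h) u) (by rw [F.na_qv hN2, hu]) ?_
    conv_rhs => rw [← e]
    rw [F.na_cancel_inv hN2]
  obtain ⟨a2', ha2'⟩ := F.XR_na_R1 (inv_mem (F.C1_le_XR hh)) a
  have hn0 : ∀ a, ∃ a', F.na k2 (emb none a) = emb (some 0) a' := by
    obtain ⟨a1, ha1⟩ : ∃ a1, F.na h (emb none a1) = emb none a := ⟨a2', by rw [← ha2', F.na_cancel_inv hhN]⟩
    refine F.plane_map hk2N (a0 := a1) ?_ ⟨b, ?_⟩
    · rintro rfl
      rw [emb_zero, F.na_zero hhN] at ha1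
      exact ha0 (emb_inj none none a 0 ha0 (ha1.symm.trans (emb_zero none).symm)).2
    · rw [hk2, F.na_conj hhN hk1N, ha1, ← hvd, ← hbv, F.na_inv_cancel hhN]
  have h0n := F.plane_back hk2N h22 hn0
  have hW : ∀ c : ZMod 3, c ≠ 0 → ∀ a, (F.na k2 (emb (some c) a)).1 = 0 ∧ vb (F.na k2 (emb (some c) a)) 0 = 0 := by
    intro c hc a
    refine ⟨(W_orth _).mpr fun b => ?_, (orth_zero _).mpr ⟨?_, ?_⟩⟩
    · obtain ⟨d, hd⟩ := hn0 b
      rw [← F.na_bv hk2N, F.sq_involutive hk2N h22, hd, bv_emb_ne _ _ _ _ (by simpa using Ne.symm hc)]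
    all_goals
      obtain ⟨d, hd⟩ := h0n (_ : K4)
      rw [← F.na_bv hk2N, F.sq_involutive hk2N h22, hd, bv_emb_ne _ _ _ _ (by simp)]
  have hq1 : qv (F.na k2 (emb (some 1) (1, 0))) = 1 := by rw [F.na_qv hk2N]; decide +kernel
  obtain ⟨c, hc, hcv⟩ := unit_rest _ hq1 (hW 1 (by decide) _).1 (hW 1 (by decide) _).2
  have h1c := F.plane_map hk2N (show ((1, 0) : K4) ≠ 0 by decide) ⟨_, hcv⟩
  have hc2 : c = 2 := by
    rcases (by decide : ∀ c : ZMod 3, c ≠ 0 → c = 1 ∨ c = 2) c hc with rfl | rfl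
    swap
    · rfl
    exfalso
    choose f hf using h1c
    have hinj : ∀ {a b}, emb (some (1 : ZMod 3)) a = emb (some 1) b → a = b :=
      fun {a b} h => (by decide +kernel : ∀ a b : K4, emb (some (1 : ZMod 3)) a = emb (some 1) b → a = b) a b h
    obtain ⟨a, ha, hfa⟩ := fixed_in_plane f
      (fun a b => hinj (by rw [← hf, emb_add, F.na_add hk2N, hf, hf, ← emb_add]))
      (fun a => hinj (by rw [← hf, ← hf, F.sq_involutive hk2N h22]))
    exact hfix2 (emb (some 1) a) (by rw [(bv_emb _ a a).2, nz_one]; exact ha) (by rw [hf, hfa])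
  subst hc2
  have h21 := F.plane_back hk2N h22 h1c
  have hπ : ∀ i a, ∃ a', F.na k2 (emb i a) = emb (fp true i) a' := by
    intro i a
    rcases i with _ | c
    · exact hn0 a
    rcases (by decide : ∀ c : ZMod 3, c = 0 ∨ c = 1 ∨ c = 2) c with rfl | rfl | rfl
    exacts [h0n a, h1c a, h21 a]
  obtain ⟨g, hg, hgk⟩ := hcl2
  rw [hgk] at hk2N h22 hπ ⊢
  exact F.frame_inner hr hr0 hg hk2N h22 hπ (Or.inl rfl)

/-- The conjugates of a unit representative in the normaliser lie in the product. -/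
theorem unit_fusion {x : G} (hx : x ∈ F.K) (hq : qv (F.kap x) = 1) {g : G} (hg : g ∈ Mi (D := D))
    (h : g * x * g⁻¹ ∈ F.N) : g * x * g⁻¹ ∈ F.K := by
  obtain ⟨n, hn, i, hni⟩ := F.units_transitive hq
  have hnN := F.XS_le_N hn
  rw [sp_emb] at hni
  obtain ⟨r, hr, hra⟩ := cR_surj (D := D) (rotn i ((1, 0) : K4))
  have hr0 : cR (D := D) r ≠ 0 := hra ▸ (by decide +kernel : ∀ i, rotn i ((1, 0) : K4) ≠ 0) i
  have hI : (n * r * n⁻¹)⁻¹ * x ∈ Ic (D := D) := by
    rw [← F.kap_congr (F.N_conj_K hnN (F.R1_le_K hr)) hx, ← F.na_kap hnN (F.R1_le_K hr), F.R1_emb hr, hra, hni]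
  set ι := (n * r * n⁻¹)⁻¹ * x with hιd
  have hgι : Commute g ι := Ic_comm_Mi hI hg
  have e : g * x * g⁻¹ = g * n * r * (g * n)⁻¹ * ι := by
    calc g * x * g⁻¹ = g * (n * r * n⁻¹) * (ι * g⁻¹) := by rw [hιd]; group
      _ = g * (n * r * n⁻¹) * (g⁻¹ * ι) := by rw [hgι.inv_left.eq]
      _ = _ := by group
  have hgn : g * n ∈ Mi (D := D) := mul_mem hg (F.N_le_Mi hnN)
  rw [e]
  refine mul_mem ?_ (F.Ic_le_K hI)
  set k := g * n * r * (g * n)⁻¹ with hkd
  have hkN : k ∈ F.N := by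
    have := mul_mem h (F.K_le_N (F.Ic_le_K (inv_mem hI)))
    rwa [e, mul_inv_cancel_right] at this
  have hcl : Cl (D := D) r k := ⟨_, hgn, rfl⟩
  by_cases hfix : ∀ u, qv u = 1 → F.na k u ≠ u
  · exact F.no_fixed hr hr0 hcl hkN hfix
  simp only [not_forall, not_not] at hfix
  obtain ⟨u, hu, hku⟩ := hfix
  obtain ⟨m, hm, j, hmj⟩ := F.units_transitive hu
  have hmN := F.XS_le_N hm
  set k1 := m⁻¹ * k * m with hk1
  have hcl1 : Cl (D := D) r k1 := by
    have := hcl.conj (inv_mem (F.N_le_Mi hmN))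
    rwa [inv_inv] at this
  refine F.K_of_conj (inv_mem hmN) ?_
  rw [inv_inv, ← hk1]
  have hk1N : k1 ∈ F.N := mul_mem (mul_mem (inv_mem hmN) hkN) hmN
  have hfx : F.na k1 (sp j (emb none (1, 0))) = sp j (emb none (1, 0)) := by
    rw [hk1, F.na_conj hmN hkN, hmj, hku, ← hmj, F.na_inv_cancel hmN]
  have hC : k1 ∈ F.C1 := F.unit_stab (F.N_le_XS hk1N) hfx
  rcases (F.N_le_XS hk1N).2 with hl | hA
  · exact F.lin_fixed hr hr0 hcl1 hC hl hfx
  · exact F.anti_fixed hr hr0 hcl1 (F.C1_le_XR hC) hA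

end Setting.Base

end CfsgLib.U6Three
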